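import Cfsg.Agent.Lib.Fusion.Marks

/-!
# Sums of transitive `H`-sets

For a multiplicity function `a : Subgroup H → ℕ`, `BX a` is the disjoint union of `a D` copies of `H ⧸ D`.
Its marks are computed from the table of marks `cc D E`, and we can correct the marks at a given level of subgroups.
-/

set_option autoImplicit false

namespace Cfsg.Agent.Lib.Fusion.BisetSum

open Cfsg.Agent.Lib.Fusion.Marks MulAction

universe u

variable {H : Type u} [Group H]

/-- The conjugate of a subgroup. -/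
abbrev cj (g : H) (D : Subgroup H) : Subgroup H := D.map (MulAut.conj g).toMonoidHom

theorem mem_cj {g x : H} {D : Subgroup H} : x ∈ cj g D ↔ g⁻¹ * x * g ∈ D := by
  constructor
  · rintro ⟨d, hd, rfl⟩
    have : g⁻¹ * (MulAut.conj g).toMonoidHom d * g = d := by
      show g⁻¹ * (g * d * g⁻¹) * g = d
      group
    rw [this]
    exact hd
  · intro h
    refine ⟨_, h, ?_⟩
    show g * (g⁻¹ * x * g) * g⁻¹ = x
    group

theorem card_cj (g : H) (D : Subgroup H) : Nat.card (cj g D) = Nat.card D :=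
  Nat.card_congr (D.equivMapOfInjective _ (MulAut.conj g).injective).symm.toEquiv

theorem cj_one (D : Subgroup H) : cj 1 D = D := by
  ext x
  rw [mem_cj]
  simp

theorem cj_mul (g g' : H) (D : Subgroup H) : cj (g * g') D = cj g (cj g' D) := by
  ext x
  rw [mem_cj, mem_cj, mem_cj]
  have : (g * g')⁻¹ * x * (g * g') = g'⁻¹ * (g⁻¹ * x * g) * g' := by group
  rw [this]

/-- The table of marks. -/
noncomputable def cc (D E : Subgroup H) : ℕ := mark (H ⧸ D) E

theorem exists_le_cj_of_cc_ne_zero {D E : Subgroup H} (h : cc D E ≠ 0) : ∃ g, E ≤ cj g D := by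
  have h1 : Nonempty (fixS (H ⧸ D) E) := by
    by_contra h2
    rw [not_nonempty_iff] at h2
    exact h (Nat.card_of_isEmpty)
  obtain ⟨⟨q, hq⟩⟩ := h1
  obtain ⟨g, rfl⟩ := QuotientGroup.mk_surjective q
  refine ⟨g, fun e he => mem_cj.2 ?_⟩
  have h3 : (e • (g : H ⧸ D)) = g := hq e he
  have h4 : ((e * g : H) : H ⧸ D) = g := h3
  have h5 := QuotientGroup.eq.1 h4
  have h6 : g⁻¹ * e * g = ((e * g)⁻¹ * g)⁻¹ := by group
  rw [h6]
  exact D.inv_mem h5

theorem card_le_of_cc_ne_zero [Finite H] {D E : Subgroup H} (h : cc D E ≠ 0) : Nat.card E ≤ Nat.card D := by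
  obtain ⟨g, hg⟩ := exists_le_cj_of_cc_ne_zero h
  rw [← card_cj g D]
  exact Subgroup.card_le_of_le hg

theorem eq_cj_of_cc_ne_zero [Finite H] {D E : Subgroup H} (h : cc D E ≠ 0) (hc : Nat.card D ≤ Nat.card E) :
    ∃ g, E = cj g D := by
  obtain ⟨g, hg⟩ := exists_le_cj_of_cc_ne_zero h
  exact ⟨g, Subgroup.eq_of_le_of_card_ge hg (by rw [card_cj]; exact hc)⟩

/-- The map `H/D → H/gDg⁻¹`. -/
noncomputable def quotCj (g : H) (D : Subgroup H) : H ⧸ D ≃ H ⧸ cj g D where
  toFun := Quotient.map' (fun x => x * g⁻¹) (by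
    intro a b hab
    rw [QuotientGroup.leftRel_apply] at hab ⊢
    rw [mem_cj]
    have : g⁻¹ * ((a * g⁻¹)⁻¹ * (b * g⁻¹)) * g = a⁻¹ * b := by group
    rw [this]
    exact hab)
  invFun := Quotient.map' (fun x => x * g) (by
    intro a b hab
    rw [QuotientGroup.leftRel_apply] at hab ⊢
    have hab' := mem_cj.1 hab
    have : (a * g)⁻¹ * (b * g) = g⁻¹ * (a⁻¹ * b) * g := by group
    rw [this]
    exact hab')
  left_inv := by
    rintro ⟨x⟩
    show (((x * g⁻¹ * g : H)) : H ⧸ D) = x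
    rw [inv_mul_cancel_right]
  right_inv := by
    rintro ⟨x⟩
    show (((x * g * g⁻¹ : H)) : H ⧸ cj g D) = x
    rw [mul_inv_cancel_right]

theorem quotCj_mk (g : H) (D : Subgroup H) (x : H) : quotCj g D (x : H ⧸ D) = ((x * g⁻¹ : H) : H ⧸ cj g D) := rfl

theorem quotCj_smul (g : H) (D : Subgroup H) (h : H) (q : H ⧸ D) : quotCj g D (h • q) = h • quotCj g D q := by
  obtain ⟨x, rfl⟩ := QuotientGroup.mk_surjective q
  show ((h * x * g⁻¹ : H) : H ⧸ cj g D) = ((h * (x * g⁻¹) : H) : H ⧸ cj g D)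
  rw [mul_assoc]

theorem cc_cj_left (g : H) (D E : Subgroup H) : cc (cj g D) E = cc D E :=
  (mark_congr (quotCj g D) (quotCj_smul g D) E).symm

theorem cc_cj_right (g : H) (D E : Subgroup H) : cc D (cj g E) = cc D E := mark_conj g E

/-- **`c(E, E) = |N(E) : E|`**. -/
theorem cc_self [Finite H] (E : Subgroup H) : cc E E = E.relIndex (Subgroup.normalizer (E : Set H)) := by
  classical
  let N := Subgroup.normalizer (E : Set H)
  have hfix : ∀ n : N, ((n : H) : H ⧸ E) ∈ fixS (H ⧸ E) E := by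
    intro n d hd
    show ((d * (n : H) : H) : H ⧸ E) = (n : H)
    refine QuotientGroup.eq.2 ?_
    have h1 := (Subgroup.mem_normalizer_iff.1 (N.inv_mem n.2) d).1 hd
    have h2 : (d * (n : H))⁻¹ * (n : H) = ((n : H)⁻¹ * d * (n : H)⁻¹⁻¹)⁻¹ := by group
    rw [h2]
    exact E.inv_mem h1
  let θ : N ⧸ E.subgroupOf N → fixS (H ⧸ E) E :=
    Quotient.lift (fun n : N => (⟨((n : H) : H ⧸ E), hfix n⟩ : fixS (H ⧸ E) E)) (by
      intro a b hab
      apply Subtype.ext
      refine QuotientGroup.eq.2 ?_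
      have h1 := QuotientGroup.leftRel_apply.1 hab
      exact Subgroup.mem_subgroupOf.1 h1)
  have hinj : Function.Injective θ := by
    rintro ⟨a⟩ ⟨b⟩ hab
    have h1 : ((a : H) : H ⧸ E) = (b : H) := congrArg Subtype.val hab
    have h2 := QuotientGroup.eq.1 h1
    exact QuotientGroup.eq.2 (Subgroup.mem_subgroupOf.2 h2)
  have hsurj : Function.Surjective θ := by
    rintro ⟨q, hq⟩
    obtain ⟨g, rfl⟩ := QuotientGroup.mk_surjective q
    have h1 : ∀ d ∈ E, g⁻¹ * d * g ∈ E := by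
      intro d hd
      have h3 : ((d * g : H) : H ⧸ E) = g := hq d hd
      have h5 := QuotientGroup.eq.1 h3
      have h6 : g⁻¹ * d * g = ((d * g)⁻¹ * g)⁻¹ := by group
      rw [h6]
      exact E.inv_mem h5
    have h2 : E ≤ cj g E := fun d hd => mem_cj.2 (h1 d hd)
    have h3 : E = cj g E := Subgroup.eq_of_le_of_card_ge h2 (by rw [card_cj])
    have hg : g ∈ N := by
      rw [Subgroup.mem_normalizer_iff]
      intro n
      constructor
      · intro hn
        rw [h3]
        refine mem_cj.2 ?_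
        have : g⁻¹ * (g * n * g⁻¹) * g = n := by group
        rw [this]
        exact hn
      · intro hn
        have := h1 _ hn
        simpa [mul_assoc] using this
    exact ⟨(⟨g, hg⟩ : N), Subtype.ext rfl⟩
  exact (Nat.card_congr (Equiv.ofBijective θ ⟨hinj, hsurj⟩)).symm

/-! ### Sums of transitive sets -/

/-- The disjoint union of `a D` copies of `H ⧸ D`. -/
def BX (a : Subgroup H → ℕ) : Type u := Σ D : Subgroup H, Fin (a D) × (H ⧸ D)

instance BX_action (a : Subgroup H → ℕ) : MulAction H (BX a) where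
  smul g x := ⟨x.1, x.2.1, g • x.2.2⟩
  one_smul x := by
    obtain ⟨D, i, q⟩ := x
    show (⟨D, i, (1 : H) • q⟩ : BX a) = _
    rw [one_smul]
  mul_smul g g' x := by
    obtain ⟨D, i, q⟩ := x
    show (⟨D, i, (g * g') • q⟩ : BX a) = ⟨D, i, g • g' • q⟩
    rw [mul_smul]

instance BX_finite [Finite H] (a : Subgroup H → ℕ) : Finite (BX a) := by
  unfold BX
  infer_instance

/-- A point of `BX a`. -/
def BX.mk {a : Subgroup H → ℕ} (D : Subgroup H) (i : Fin (a D)) (q : H ⧸ D) : BX a := ⟨D, i, q⟩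

theorem smul_BX {a : Subgroup H → ℕ} (g : H) (D : Subgroup H) (i : Fin (a D)) (q : H ⧸ D) :
    g • BX.mk D i q = BX.mk (a := a) D i (g • q) := rfl

theorem mark_BX [Finite H] [Fintype (Subgroup H)] (a : Subgroup H → ℕ) (E : Subgroup H) :
    mark (BX a) E = ∑ D : Subgroup H, a D * cc D E := by
  classical
  have e : fixS (BX a) E ≃ Σ D : Subgroup H, Fin (a D) × fixS (H ⧸ D) E :=
    { toFun := fun x => ⟨x.1.1, x.1.2.1, x.1.2.2, fun d hd => by
        have h := x.2 d hd
        obtain ⟨⟨D, i, q⟩, hx⟩ := x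
        have h2 : (⟨D, i, d • q⟩ : BX a) = ⟨D, i, q⟩ := h
        have h3 := sigma_mk_injective h2
        exact (Prod.mk.inj h3).2⟩
      invFun := fun y => ⟨⟨y.1, y.2.1, y.2.2.1⟩, fun d hd => by
        obtain ⟨D, i, q, hq⟩ := y
        show (⟨D, i, d • q⟩ : BX a) = ⟨D, i, q⟩
        rw [hq d hd]⟩
      left_inv := fun x => rfl
      right_inv := fun y => rfl }
  unfold mark
  rw [Nat.card_congr e, Nat.card_sigma]
  refine Finset.sum_congr rfl (fun D _ => ?_)
  rw [Nat.card_prod, Nat.card_eq_fintype_card (α := Fin (a D)), Fintype.card_fin]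
  rfl

/-- Every point of a transitive summand has a conjugate stabilizer. -/
theorem mark_BX_ne_zero [Finite H] [Fintype (Subgroup H)] {a : Subgroup H → ℕ} {E : Subgroup H}
    (h : mark (BX a) E ≠ 0) : ∃ D, a D ≠ 0 ∧ ∃ g, E ≤ cj g D := by
  rw [mark_BX] at h
  obtain ⟨D, -, hD⟩ := Finset.exists_ne_zero_of_sum_ne_zero h
  exact ⟨D, left_ne_zero_of_mul hD, exists_le_cj_of_cc_ne_zero (right_ne_zero_of_mul hD)⟩

section conjRel

variable (H)

/-- Conjugacy of subgroups. -/
def cjSetoid : Setoid (Subgroup H) where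
  r D E := ∃ g, E = cj g D
  iseqv := by
    refine ⟨fun D => ⟨1, (cj_one D).symm⟩, ?_, ?_⟩
    · rintro D _ ⟨g, rfl⟩
      refine ⟨g⁻¹, ?_⟩
      rw [← cj_mul, inv_mul_cancel, cj_one]
    · rintro D _ _ ⟨g, rfl⟩ ⟨g', rfl⟩
      exact ⟨g' * g, (cj_mul g' g D).symm⟩

/-- A chosen representative of each conjugacy class of subgroups. -/
noncomputable def rep (D : Subgroup H) : Subgroup H := (Quotient.mk (cjSetoid H) D).out

variable {H}

theorem rep_rel (D : Subgroup H) : ∃ g, rep H D = cj g D := by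
  have h : (cjSetoid H).r (rep H D) D := Quotient.mk_out (s := cjSetoid H) D
  exact (cjSetoid H).symm h

theorem rep_eq_of_cj (g : H) (D : Subgroup H) : rep H (cj g D) = rep H D := by
  unfold rep
  congr 1
  exact Quotient.sound ((cjSetoid H).symm ⟨g, rfl⟩)

end conjRel

/-- **Correcting the marks at one level.** -/
theorem exists_level_step [Finite H] [Fintype (Subgroup H)] (a : Subgroup H → ℕ) (G₀ : Set (Subgroup H))
    (hG : ∀ D ∈ G₀, ∀ g, cj g D ∈ G₀) (k : ℕ) (M : Subgroup H → ℕ) (hM : ∀ D g, M (cj g D) = M D)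
    (hle : ∀ E ∈ G₀, Nat.card E = k → mark (BX a) E ≤ M E)
    (hdvd : ∀ E ∈ G₀, Nat.card E = k → cc E E ∣ M E - mark (BX a) E) :
    ∃ b : Subgroup H → ℕ, (∀ D, b D ≠ a D → D ∈ G₀ ∧ Nat.card D = k) ∧
      (∀ E ∈ G₀, Nat.card E = k → mark (BX b) E = M E) ∧
      (∀ E : Subgroup H, k < Nat.card E → mark (BX b) E = mark (BX a) E) ∧
      (∀ E : Subgroup H, Nat.card E = k → E ∉ G₀ → mark (BX b) E = mark (BX a) E) := by
  classical
  let δ : Subgroup H → ℕ := fun D =>
    if D ∈ G₀ ∧ Nat.card D = k ∧ rep H D = D then (M D - mark (BX a) D) / cc D D else 0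
  have hδ0 : ∀ D, δ D ≠ 0 → D ∈ G₀ ∧ Nat.card D = k ∧ rep H D = D := by
    intro D hD
    by_contra h
    exact hD (if_neg h)
  have hmark : ∀ E, mark (BX (a + δ)) E = mark (BX a) E + ∑ D : Subgroup H, δ D * cc D E := by
    intro E
    rw [mark_BX, mark_BX, ← Finset.sum_add_distrib]
    refine Finset.sum_congr rfl (fun D _ => ?_)
    rw [Pi.add_apply, add_mul]
  have hzero : ∀ E, (∀ D, δ D ≠ 0 → cc D E = 0) → mark (BX (a + δ)) E = mark (BX a) E := by
    intro E h
    rw [hmark, Finset.sum_eq_zero, add_zero]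
    intro D _
    by_cases hD : δ D = 0
    · rw [hD, zero_mul]
    · rw [h D hD, mul_zero]
  refine ⟨a + δ, fun D hD => ?_, fun E hE hc => ?_, fun E hE => ?_, fun E hE hE' => ?_⟩
  · have h1 : δ D ≠ 0 := by
      intro h
      apply hD
      rw [Pi.add_apply, h, add_zero]
    obtain ⟨h2, h3, -⟩ := hδ0 D h1
    exact ⟨h2, h3⟩
  · -- the corrected marks
    obtain ⟨g, hg⟩ := rep_rel E
    have hD₀ : rep H E ∈ G₀ := hg ▸ hG E hE g
    have hD₀c : Nat.card (rep H E) = k := by rw [hg, card_cj, hc]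
    have hD₀r : rep H (rep H E) = rep H E := by
      conv_lhs => rw [hg, rep_eq_of_cj]
    rw [hmark, Finset.sum_eq_single (rep H E)]
    · have hδ : δ (rep H E) = (M (rep H E) - mark (BX a) (rep H E)) / cc (rep H E) (rep H E) :=
        if_pos ⟨hD₀, hD₀c, hD₀r⟩
      have h1 : cc (rep H E) (rep H E) = cc E E := by
        rw [hg, cc_cj_left, cc_cj_right]
      have h2 : cc (rep H E) E = cc E E := by
        rw [hg, cc_cj_left]
      have h3 : M (rep H E) = M E := by rw [hg, hM]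
      have h4 : mark (BX a) (rep H E) = mark (BX a) E := by rw [hg, mark_conj]
      rw [hδ, h1, h2, h3, h4, Nat.div_mul_cancel (hdvd E hE hc)]
      exact Nat.add_sub_cancel' (hle E hE hc)
    · intro D _ hD
      by_cases hδD : δ D = 0
      · rw [hδD, zero_mul]
      · by_cases hcc : cc D E = 0
        · rw [hcc, mul_zero]
        · exfalso
          obtain ⟨-, h2, h3⟩ := hδ0 D hδD
          obtain ⟨g', hg'⟩ := eq_cj_of_cc_ne_zero hcc (by rw [h2, hc])
          apply hD
          rw [← h3, hg', rep_eq_of_cj]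
    · intro h
      exact absurd (Finset.mem_univ _) h
  · refine hzero E (fun D hD => ?_)
    obtain ⟨-, h2, -⟩ := hδ0 D hD
    by_contra hcc
    have := card_le_of_cc_ne_zero hcc
    omega
  · refine hzero E (fun D hD => ?_)
    obtain ⟨h1, h2, -⟩ := hδ0 D hD
    by_contra hcc
    obtain ⟨g', hg'⟩ := eq_cj_of_cc_ne_zero hcc (by rw [h2, hE])
    exact hE' (hg' ▸ hG D h1 g')

/-- Multiplying all multiplicities. -/
theorem mark_BX_smul [Finite H] [Fintype (Subgroup H)] (N : ℕ) (a : Subgroup H → ℕ) (E : Subgroup H) :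
    mark (BX (fun D => N * a D)) E = N * mark (BX a) E := by
  rw [mark_BX, mark_BX, Finset.mul_sum]
  refine Finset.sum_congr rfl (fun D _ => ?_)
  rw [mul_assoc]

end Cfsg.Agent.Lib.Fusion.BisetSum
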