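import Cfsg.Agent.Lib.Fusion.CharBiset3

/-!
# Transfer along a biset

For a finite `(S, S)`-biset `X` with free right action and a homomorphism `ρ : S → A` to an abelian group, the product of
the values of `ρ` on the cocycle attached to a section of `X → X / S` is a homomorphism `Vv`, independent of the section.
When `X` is a characteristic biset, `Vv` is stable under the system, and it is the power `ρ ^ |X / S|` at elements `t` with
suitable stabilizers.
-/

set_option autoImplicit false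

namespace Cfsg.Agent.Lib.Fusion.BisetTransfer

open Cfsg Cfsg.FusionSystem Cfsg.Agent.Lib.Fusion.Basic Cfsg.Agent.Lib.Fusion.Saturation
  Cfsg.Agent.Lib.Fusion.Biset Cfsg.Agent.Lib.Fusion.Marks
  Cfsg.Agent.Lib.Fusion.CharBiset Cfsg.Agent.Lib.Fusion.CharBiset2 Cfsg.Agent.Lib.Fusion.CharBiset3
  Cfsg.Agent.Lib.Fusion.ModelGroup

universe u v

variable {Ω : Type u} [Group Ω] {S : Subgroup Ω} {X : Type u} [MulAction (Bi S) X]

attribute [local instance] xiAct

section cocycle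

/-- Points of the same right orbit. -/
theorem exists_right_of_mk_eq {x y : X} (h : Quotient.mk (rSetoid (S := S) (X := X)) x = Quotient.mk (rSetoid (S := S) (X := X)) y) :
    ∃ u : S, ((1, u) : Bi S) • x = y := by
  obtain ⟨u, hu⟩ := Quotient.exact h
  exact ⟨u, hu.symm⟩

theorem pair_eq (s u : S) : ((s, u) : Bi S) = ((s, 1) : Bi S) * ((1, u) : Bi S) := by
  ext <;> simp

theorem exists_family {τ : Xi S X → X} (hτ : ∀ ξ, Quotient.mk (rSetoid (S := S) (X := X)) (τ ξ) = ξ) (s : S)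
    (ξ : Xi S X) : ∃ u : S, ((s, u) : Bi S) • τ ξ = τ (s • ξ) := by
  have h : Quotient.mk (rSetoid (S := S) (X := X)) (lS s (τ ξ)) = Quotient.mk (rSetoid (S := S) (X := X)) (τ (s • ξ)) := by
    rw [hτ, ← xi_smul_mk, hτ]
  obtain ⟨u, hu⟩ := exists_right_of_mk_eq h
  refine ⟨u, ?_⟩
  rw [← hu, smul_eq, lS_rS]
  rfl

theorem unique_right (hfree : ∀ (x : X) (u : S), ((1, u) : Bi S) • x = x → u = 1) {s u v : S} {x y : X}
    (hu : ((s, u) : Bi S) • x = y) (hv : ((s, v) : Bi S) • x = y) : u = v := by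
  have e : ((1, v⁻¹ * u) : Bi S) = ((s, v) : Bi S)⁻¹ * (s, u) := by
    ext <;> simp
  have h : ((1, v⁻¹ * u) : Bi S) • x = x := by
    rw [e, mul_smul, hu, ← hv, inv_smul_smul]
  have h1 := hfree _ _ h
  rw [inv_mul_eq_one] at h1
  exact h1.symm

/-- The cocycle of the standard section. -/
noncomputable def hh (s : S) (ξ : Xi S X) : S := (exists_family (τ := Quotient.out) Quotient.out_eq s ξ).choose

theorem hh_spec (s : S) (ξ : Xi S X) : ((s, hh s ξ) : Bi S) • ξ.out = (s • ξ).out :=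
  (exists_family (τ := Quotient.out) Quotient.out_eq s ξ).choose_spec

variable (hfree : ∀ (x : X) (u : S), ((1, u) : Bi S) • x = x → u = 1)

include hfree in
theorem hh_one (ξ : Xi S X) : hh (1 : S) ξ = 1 := by
  apply unique_right hfree (hh_spec 1 ξ)
  rw [one_smul]
  exact one_smul _ _

include hfree in
theorem hh_mul (s s' : S) (ξ : Xi S X) : hh (s * s') ξ = hh s (s' • ξ) * hh s' ξ := by
  apply unique_right hfree (hh_spec (s * s') ξ)
  have e : ((s * s', hh s (s' • ξ) * hh s' ξ) : Bi S) = (s, hh s (s' • ξ)) * (s', hh s' ξ) := rfl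
  rw [e, mul_smul, hh_spec, hh_spec, mul_smul]

variable [Finite X] {A : Type v} [CommGroup A]

/-- **The transfer along a biset.** -/
noncomputable def Vv (ρ : S →* A) : S →* A where
  toFun s := ∏ ξ : Xi S X, ρ (hh s ξ)
  map_one' := by
    refine Finset.prod_eq_one (fun ξ _ => ?_)
    rw [hh_one hfree, map_one]
  map_mul' s s' := by
    simp only [hh_mul hfree, map_mul]
    rw [Finset.prod_mul_distrib]
    congr 1
    exact Equiv.prod_comp (MulAction.toPerm s') (fun ξ => ρ (hh s ξ))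

theorem Vv_apply (ρ : S →* A) (s : S) : Vv hfree ρ s = ∏ ξ : Xi S X, ρ (hh s ξ) := rfl

/-- The transfer can be computed with any section. -/
theorem Vv_eq_of_family (ρ : S →* A) {τ : Xi S X → X} (hτ : ∀ ξ, Quotient.mk (rSetoid (S := S) (X := X)) (τ ξ) = ξ)
    (s : S) (u : Xi S X → S) (hu : ∀ ξ, ((s, u ξ) : Bi S) • τ ξ = τ (s • ξ)) :
    Vv hfree ρ s = ∏ ξ : Xi S X, ρ (u ξ) := by
  have hc : ∀ ξ : Xi S X, ∃ c : S, ((1, c) : Bi S) • ξ.out = τ ξ := by
    intro ξ
    apply exists_right_of_mk_eq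
    rw [hτ, Quotient.out_eq]
  choose c hc using hc
  have key : ∀ ξ, u ξ * c ξ = c (s • ξ) * hh s ξ := by
    intro ξ
    refine unique_right hfree (x := ξ.out) (s := s) (y := τ (s • ξ)) ?_ ?_
    · have e : ((s, u ξ * c ξ) : Bi S) = (s, u ξ) * (1, c ξ) := by
        ext <;> simp
      rw [e, mul_smul, hc, hu]
    · have e : ((s, c (s • ξ) * hh s ξ) : Bi S) = (1, c (s • ξ)) * (s, hh s ξ) := by
        ext <;> simp
      rw [e, mul_smul, hh_spec, hc]
  have h1 : (∏ ξ, ρ (u ξ)) * ∏ ξ, ρ (c ξ) = (∏ ξ, ρ (c ξ)) * Vv hfree ρ s := by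
    rw [← Finset.prod_mul_distrib, Vv_apply, ← Equiv.prod_comp (MulAction.toPerm s) (fun ξ => ρ (c ξ)),
      ← Finset.prod_mul_distrib]
    refine Finset.prod_congr rfl (fun ξ _ => ?_)
    rw [← map_mul, key, map_mul]
    rfl
  rw [mul_comm] at h1
  exact (mul_left_cancel h1).symm

/-- Invariance under a permutation of the biset. -/
theorem Vv_of_equiv (ρ : S →* A) (σ : X ≃ X) (s₁ s₂ : S) (hR : ∀ (u : S) (x : X), σ (((1, u) : Bi S) • x) = ((1, u) : Bi S) • σ x)
    (hL : ∀ x : X, σ (((s₁, 1) : Bi S) • x) = ((s₂, 1) : Bi S) • σ x) : Vv hfree ρ s₂ = Vv hfree ρ s₁ := by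
  let σb : Xi S X ≃ Xi S X := Quotient.congr σ (by
    intro x y
    constructor
    · rintro ⟨u, rfl⟩
      exact ⟨u, hR u x⟩
    · rintro ⟨u, hu⟩
      refine ⟨u, σ.injective ?_⟩
      rw [hu]
      exact (hR u x).symm)
  have hσb : ∀ x : X, σb (Quotient.mk (rSetoid (S := S) (X := X)) x) = Quotient.mk (rSetoid (S := S) (X := X)) (σ x) :=
    fun _ => rfl
  have hσs : ∀ ζ : Xi S X, σb (s₁ • ζ) = s₂ • σb ζ := by
    intro ζ
    induction ζ using Quotient.inductionOn with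
    | _ x =>
    rw [xi_smul_mk, hσb, hσb, xi_smul_mk]
    exact congrArg _ (hL x)
  let τ : Xi S X → X := fun ξ => σ (σb.symm ξ).out
  have hτ : ∀ ξ, Quotient.mk (rSetoid (S := S) (X := X)) (τ ξ) = ξ := by
    intro ξ
    show Quotient.mk (rSetoid (S := S) (X := X)) (σ (σb.symm ξ).out) = ξ
    rw [← hσb, Quotient.out_eq, Equiv.apply_symm_apply]
  rw [Vv_eq_of_family hfree ρ hτ s₂ (fun ξ => hh s₁ (σb.symm ξ)) (fun ξ => ?_), Vv_apply]
  · exact Equiv.prod_comp σb.symm (fun ζ => ρ (hh s₁ ζ))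
  · show ((s₂, hh s₁ (σb.symm ξ)) : Bi S) • σ (σb.symm ξ).out = σ (σb.symm (s₂ • ξ)).out
    have h1 : σb.symm (s₂ • ξ) = s₁ • σb.symm ξ := by
      apply σb.injective
      rw [hσs, Equiv.apply_symm_apply, Equiv.apply_symm_apply]
    have e₁ : σ (((s₁, hh s₁ (σb.symm ξ)) : Bi S) • (σb.symm ξ).out) =
        ((s₂, hh s₁ (σb.symm ξ)) : Bi S) • σ (σb.symm ξ).out := by
      rw [pair_eq s₁, mul_smul, hL, hR, ← mul_smul, ← pair_eq]
    rw [h1, ← hh_spec, e₁]

/-- The transfer is a power at elements with suitable stabilizers. -/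
theorem Vv_eq_pow (ρ : S →* A) (t : S) (h : ∀ z ∈ Subgroup.zpowers t, ∀ (u : S) (ω : X), ((z, u) : Bi S) • ω = ω → ρ z = ρ u) :
    Vv hfree ρ t = ρ t ^ Nat.card (Xi S X) := by
  classical
  let f : ↥(Subgroup.zpowers t) × S →* Bi S := MonoidHom.prodMap (Subgroup.zpowers t).subtype (MonoidHom.id S)
  letI i₁ : MulAction (↥(Subgroup.zpowers t) × S) X := MulAction.compHom X f
  letI i₂ : MulAction (↥(Subgroup.zpowers t) × S) A :=
    { smul := fun g a => ρ g.1 * a * (ρ g.2)⁻¹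
      one_smul := fun a => by
        show ρ ((1 : ↥(Subgroup.zpowers t)) : S) * a * (ρ 1)⁻¹ = a
        simp
      mul_smul := fun g g' a => by
        show ρ ((g.1 * g'.1 : ↥(Subgroup.zpowers t)) : S) * a * (ρ (g.2 * g'.2))⁻¹ =
          ρ g.1 * (ρ g'.1 * a * (ρ g'.2)⁻¹) * (ρ g.2)⁻¹
        simp only [Subgroup.coe_mul, map_mul, mul_inv_rev]
        ac_rfl }
  obtain ⟨w, hw, -⟩ := exists_equivariant (G₀ := ↥(Subgroup.zpowers t) × S) (X := X) (Y := A) (fun _ _ => True)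
    (fun _ _ _ _ => trivial) (fun x => ⟨1, trivial, fun g hg => by
      have h1 : ρ g.1 = ρ g.2 := h g.1 g.1.2 g.2 x hg
      show ρ g.1 * 1 * (ρ g.2)⁻¹ = 1
      rw [h1]
      simp⟩)
  have hw' : ∀ (z : ↥(Subgroup.zpowers t)) (u : S) (x : X),
      w (((z : S), u) • x : X) = ρ (z : S) * w x * (ρ u)⁻¹ := fun z u x => hw (z, u) x
  have key : ∀ ξ : Xi S X, ρ (hh t ξ) * w (t • ξ).out = ρ t * w ξ.out := by
    intro ξ
    have h1 := hw' ⟨t, Subgroup.mem_zpowers t⟩ (hh t ξ) ξ.out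
    rw [show (((⟨t, Subgroup.mem_zpowers t⟩ : ↥(Subgroup.zpowers t)) : S), hh t ξ) = ((t, hh t ξ) : Bi S) from rfl,
      hh_spec] at h1
    rw [h1]
    show ρ (hh t ξ) * (ρ t * w ξ.out * (ρ (hh t ξ))⁻¹) = ρ t * w ξ.out
    rw [mul_comm]
    simp
  have h2 : Vv hfree ρ t * ∏ ξ : Xi S X, w ξ.out = ρ t ^ Nat.card (Xi S X) * ∏ ξ : Xi S X, w ξ.out := by
    have h3 : ∏ ξ : Xi S X, w ξ.out = ∏ ξ : Xi S X, w (t • ξ).out :=
      (Equiv.prod_comp (MulAction.toPerm t) (fun ξ : Xi S X => w ξ.out)).symm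
    conv_lhs => rw [h3]
    rw [Vv_apply, ← Finset.prod_mul_distrib, Finset.prod_congr rfl (fun ξ _ => key ξ), Finset.prod_mul_distrib,
      Finset.prod_const, Finset.card_univ, Nat.card_eq_fintype_card]
  exact mul_right_cancel h2

end cocycle

section char

variable {F : FusionSystem S} {p : ℕ} [Finite X] {A : Type v} [CommGroup A]

/-- The transfer along a characteristic biset is stable under the system. -/
theorem Vv_map (hX : IsChar F p X) (ρ : S →* A) {P : Subgroup Ω} {α : P →* Ω} (hα : α ∈ F.Hom P) (x : P) :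
    Vv hX.free_right ρ ⟨α x, val_mem F hα x⟩ = Vv hX.free_right ρ ⟨x, le_of_mem F hα x.2⟩ := by
  have hβ := subtype_mem F (le_refl S)
  obtain ⟨σ, hσ⟩ := hX.stable hα hβ
  refine Vv_of_equiv hX.free_right ρ σ _ _ (fun u y => ?_) (fun y => ?_)
  · have h1 := hσ (1, u) y
    have e1 : inc F hα hβ (1, u) = (1, u) := rfl
    have e2 : bm F hα hβ (1, u) = (1, u) := by
      apply Prod.ext
      · exact Subtype.ext (map_one α)
      · rfl
    rwa [e1, e2] at h1
  · exact hσ (x, 1) y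

/-- The focal subgroup lies in the kernel of the transfer along a characteristic biset. -/
theorem focal_le_ker (hX : IsChar F p X) (ρ : S →* A) :
    F.focalSubgroup ≤ (Vv hX.free_right ρ).ker.map S.subtype := by
  apply (Subgroup.closure_le _).2
  rintro _ ⟨P, φ, x, hφ, rfl⟩
  refine ⟨(⟨x, le_of_mem F hφ x.2⟩ : S)⁻¹ * ⟨φ x, val_mem F hφ x⟩, MonoidHom.mem_ker.2 ?_, rfl⟩
  rw [map_mul, map_inv, Vv_map hX ρ hφ x, inv_mul_cancel]

/-- The map of the system attached to a stabilizing pair. -/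
theorem exists_hom_of_smul_eq (hX : IsChar F p X) {z u : S} {ω : X} (h : ((z, u) : Bi S) • ω = ω) :
    ∃ (D : Subgroup Ω) (φ : D →* Ω) (_ : φ ∈ F.Hom D) (hz : (z : Ω) ∈ D), φ ⟨z, hz⟩ = u := by
  obtain ⟨D, hD, φ, hφ, h1, h2⟩ := exists_stab_hom hX.free_right ω S le_rfl
  obtain ⟨hd, hu⟩ := h2 z z.2 u h
  exact ⟨D, φ, hX.gen ω D hD φ hφ (fun d => h1 d), hd, hu⟩

/-- For a homomorphism stable under the system the transfer is the power map. -/
theorem Vv_eq_pow_of_stable (hX : IsChar F p X) (ρ : S →* A)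
    (hρ : ∀ (P : Subgroup Ω) (φ : P →* Ω) (hφ : φ ∈ F.Hom P) (x : P),
      ρ ⟨φ x, val_mem F hφ x⟩ = ρ ⟨x, le_of_mem F hφ x.2⟩) (t : S) :
    Vv hX.free_right ρ t = ρ t ^ Nat.card (Xi S X) := by
  refine Vv_eq_pow hX.free_right ρ t (fun z _ u ω h => ?_)
  obtain ⟨D, φ, hφ, hz, hu⟩ := exists_hom_of_smul_eq hX h
  have h1 := hρ D φ hφ ⟨z, hz⟩
  have h2 : (⟨φ ⟨z, hz⟩, val_mem F hφ _⟩ : S) = u := Subtype.ext hu
  rw [h2] at h1
  exact h1.symm

end char

end Cfsg.Agent.Lib.Fusion.BisetTransfer
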