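import Cfsg.Agent.Lib.Fusion.BisetSum
import Cfsg.Agent.Lib.Fusion.ModelGroup

/-!
# Graphs of maps of a fusion system, and the congruences between their marks
-/

set_option autoImplicit false

namespace Cfsg.Agent.Lib.Fusion.CharBiset

open Cfsg Cfsg.FusionSystem Cfsg.Agent.Lib.Fusion.Basic Cfsg.Agent.Lib.Fusion.Saturation
  Cfsg.Agent.Lib.Fusion.Biset Cfsg.Agent.Lib.Fusion.Marks Cfsg.Agent.Lib.Fusion.BisetSum

universe u

variable {Ω : Type u} [Group Ω] {S : Subgroup Ω} (F : FusionSystem S)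

section graph

variable {P P' : Subgroup Ω} {α : P →* Ω} {β : P' →* Ω}

/-- The pair of inclusions. -/
def inc (hα : α ∈ F.Hom P) (hβ : β ∈ F.Hom P') : ↥P × ↥P' →* Bi S :=
  MonoidHom.prodMap (Subgroup.inclusion (le_of_mem F hα)) (Subgroup.inclusion (le_of_mem F hβ))

/-- The pair of maps. -/
def bm (hα : α ∈ F.Hom P) (hβ : β ∈ F.Hom P') : ↥P × ↥P' →* Bi S :=
  MonoidHom.prodMap (α.codRestrict S (val_mem F hα)) (β.codRestrict S (val_mem F hβ))

theorem inc_apply (hα : α ∈ F.Hom P) (hβ : β ∈ F.Hom P') (x : P) (y : P') :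
    inc F hα hβ (x, y) = (⟨x, le_of_mem F hα x.2⟩, ⟨y, le_of_mem F hβ y.2⟩) := rfl

theorem bm_apply (hα : α ∈ F.Hom P) (hβ : β ∈ F.Hom P') (x : P) (y : P') :
    bm F hα hβ (x, y) = (⟨α x, val_mem F hα x⟩, ⟨β y, val_mem F hβ y⟩) := rfl

theorem inc_injective (hα : α ∈ F.Hom P) (hβ : β ∈ F.Hom P') : Function.Injective (inc F hα hβ) := by
  rintro ⟨x, y⟩ ⟨x', y'⟩ h
  have h1 := congrArg (fun z : Bi S => ((z.1 : S) : Ω)) h
  have h2 := congrArg (fun z : Bi S => ((z.2 : S) : Ω)) h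
  exact Prod.ext (Subtype.ext h1) (Subtype.ext h2)

theorem bm_injective (hα : α ∈ F.Hom P) (hβ : β ∈ F.Hom P') : Function.Injective (bm F hα hβ) := by
  rintro ⟨x, y⟩ ⟨x', y'⟩ h
  have h1 : α x = α x' := congrArg (fun z : Bi S => ((z.1 : S) : Ω)) h
  have h2 : β y = β y' := congrArg (fun z : Bi S => ((z.2 : S) : Ω)) h
  exact Prod.ext (F.injective_of_mem hα h1) (F.injective_of_mem hβ h2)

/-- The graph homomorphism. -/
def toBi (hα : α ∈ F.Hom P) : P →* Bi S :=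
  MonoidHom.prod (Subgroup.inclusion (le_of_mem F hα)) (α.codRestrict S (val_mem F hα))

/-- The graph of a map. -/
def gr (hα : α ∈ F.Hom P) : Subgroup (Bi S) := (toBi F hα).range

theorem mem_gr (hα : α ∈ F.Hom P) {s u : S} : ((s, u) : Bi S) ∈ gr F hα ↔ ∃ h : (s : Ω) ∈ P, α ⟨s, h⟩ = u := by
  constructor
  · rintro ⟨x, hx⟩
    have h1 : (⟨x, le_of_mem F hα x.2⟩ : S) = s := congrArg Prod.fst hx
    have h2 : (⟨α x, val_mem F hα x⟩ : S) = u := congrArg Prod.snd hx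
    subst h1
    exact ⟨x.2, congrArg Subtype.val h2⟩
  · rintro ⟨h, hu⟩
    exact ⟨⟨s, h⟩, Prod.ext rfl (Subtype.ext hu)⟩

theorem toBi_injective (hα : α ∈ F.Hom P) : Function.Injective (toBi F hα) := by
  intro x y h
  exact Subtype.ext (congrArg (fun z : Bi S => ((z.1 : S) : Ω)) h)

theorem card_gr (hα : α ∈ F.Hom P) : Nat.card (gr F hα) = Nat.card P :=
  (Nat.card_congr (MonoidHom.ofInjective (toBi_injective F hα)).toEquiv).symm

/-- `F`-graphs. -/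
def Gs : Set (Subgroup (Bi S)) := {D | ∃ (P : Subgroup Ω) (α : P →* Ω) (hα : α ∈ F.Hom P), D = gr F hα}

/-- The first projection of a subgroup. -/
def fstS (D : Subgroup (Bi S)) : Subgroup Ω := (D.map (MonoidHom.fst S S)).map S.subtype

theorem fstS_le (D : Subgroup (Bi S)) : fstS D ≤ S := by
  rintro _ ⟨_, -, rfl⟩
  exact Subtype.coe_prop _

theorem fstS_gr (hα : α ∈ F.Hom P) : fstS (gr F hα) = P := by
  ext x
  constructor
  · rintro ⟨_, ⟨⟨s, u⟩, h, rfl⟩, rfl⟩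
    exact ((mem_gr F hα).1 h).1
  · intro hx
    refine ⟨⟨x, le_of_mem F hα hx⟩, ⟨(⟨x, le_of_mem F hα hx⟩, ⟨α ⟨x, hx⟩, val_mem F hα _⟩),
      (mem_gr F hα).2 ⟨hx, rfl⟩, rfl⟩, rfl⟩

/-- A subgroup of an `F`-graph is an `F`-graph. -/
theorem Gs_of_le {D E : Subgroup (Bi S)} (hD : D ∈ Gs F) (hE : E ≤ D) : E ∈ Gs F := by
  obtain ⟨P, α, hα, rfl⟩ := hD
  have hRP : fstS E ≤ P := by
    rw [← fstS_gr F hα]
    exact Subgroup.map_mono (Subgroup.map_mono hE)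
  have hχ := restrict_mem F hRP hα
  refine ⟨fstS E, _, hχ, ?_⟩
  ext ⟨s, u⟩
  rw [mem_gr]
  constructor
  · intro h
    have h1 := (mem_gr F hα).1 (hE h)
    obtain ⟨hs, hu⟩ := h1
    exact ⟨⟨s, ⟨(s, u), h, rfl⟩, rfl⟩, hu⟩
  · rintro ⟨⟨s', ⟨⟨s₁, u₁⟩, h₁, hs₁⟩, hs'⟩, hu⟩
    have e1 : s₁ = s := by
      apply Subtype.ext
      have : ((s₁ : S) : Ω) = (s' : Ω) := congrArg Subtype.val hs₁
      rw [this]
      exact hs'
    subst e1
    obtain ⟨hs, hu₁⟩ := (mem_gr F hα).1 (hE h₁)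
    have e2 : u₁ = u := Subtype.ext (hu₁.symm.trans hu)
    rw [← e2]
    exact h₁

/-- Transport of graphs along a pair of maps of the system. -/
theorem Gs_bm (hα : α ∈ F.Hom P) (hβ : β ∈ F.Hom P') (D : Subgroup (↥P × ↥P')) (h : D.map (inc F hα hβ) ∈ Gs F) :
    D.map (bm F hα hβ) ∈ Gs F ∧ F.IsConj (fstS (D.map (inc F hα hβ))) (fstS (D.map (bm F hα hβ))) := by
  obtain ⟨R, χ, hχ, hE⟩ := h
  have hR : R ≤ P := by
    rw [← fstS_gr F hχ, ← hE]
    rintro _ ⟨_, ⟨z, ⟨⟨x, y⟩, -, rfl⟩, rfl⟩, rfl⟩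
    exact x.2
  -- elements of `D`
  have h1 : ∀ z : ↥P × ↥P', z ∈ D → ∃ hz : (z.1 : Ω) ∈ R, χ ⟨z.1, hz⟩ = z.2 := by
    rintro ⟨x, y⟩ hz
    have h2 : inc F hα hβ (x, y) ∈ gr F hχ := by
      rw [← hE]
      exact ⟨_, hz, rfl⟩
    exact (mem_gr F hχ).1 h2
  have h2 : ∀ r : R, ∃ y : P', (χ r : Ω) = y ∧ ((⟨r, hR r.2⟩, y) : ↥P × ↥P') ∈ D := by
    intro r
    have h3 : ((⟨r, le_of_mem F hχ r.2⟩, ⟨χ r, val_mem F hχ r⟩) : Bi S) ∈ D.map (inc F hα hβ) := by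
      rw [hE]
      exact (mem_gr F hχ).2 ⟨r.2, rfl⟩
    obtain ⟨⟨x, y⟩, hz, he⟩ := h3
    have e1 : (x : Ω) = r := congrArg (fun z : Bi S => ((z.1 : S) : Ω)) he
    have e2 : (y : Ω) = χ r := congrArg (fun z : Bi S => ((z.2 : S) : Ω)) he
    have e3 : x = ⟨r, hR r.2⟩ := Subtype.ext e1
    subst e3
    exact ⟨y, e2.symm, hz⟩
  have hχP' : ∀ r : R, χ r ∈ P' := by
    intro r
    obtain ⟨y, hy, -⟩ := h2 r
    rw [hy]
    exact y.2
  let αR : R →* Ω := α.comp (Subgroup.inclusion hR)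
  have hαR : αR ∈ F.Hom R := restrict_mem F hR hα
  obtain ⟨γ, hγ, hγR, hγ1, hγ2, hγr⟩ := exists_inv F hαR rfl
  let χ' : αR.range →* Ω := (β.comp (χ.codRestrict P' hχP')).comp (γ.codRestrict R hγR)
  have hχ' : χ' ∈ F.Hom αR.range := by
    have h3 : (χ.comp (γ.codRestrict R hγR)) ∈ F.Hom αR.range := F.comp_mem hγ hχ hγR
    exact comp_mem' F h3 hβ (fun x => hχP' _) χ' (fun x => rfl)
  have hval : ∀ r : R, χ' ⟨αR r, ⟨r, rfl⟩⟩ = β ⟨χ r, hχP' r⟩ := by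
    intro r
    show β ⟨χ ⟨γ ⟨αR r, ⟨r, rfl⟩⟩, hγR _⟩, _⟩ = β ⟨χ r, hχP' r⟩
    congr 3
    exact Subtype.ext (hγ1 r ⟨r, rfl⟩)
  have key : D.map (bm F hα hβ) = gr F hχ' := by
    ext ⟨s, u⟩
    rw [mem_gr]
    constructor
    · rintro ⟨⟨x, y⟩, hz, he⟩
      obtain ⟨hz1, hz2⟩ := h1 _ hz
      have e1 : α x = s := congrArg (fun z : Bi S => ((z.1 : S) : Ω)) he
      have e2 : β y = u := congrArg (fun z : Bi S => ((z.2 : S) : Ω)) he
      have e3 : αR ⟨x, hz1⟩ = s := e1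
      refine ⟨⟨⟨x, hz1⟩, e3⟩, ?_⟩
      have e4 : (⟨(s : Ω), ⟨⟨x, hz1⟩, e3⟩⟩ : αR.range) = ⟨αR ⟨x, hz1⟩, ⟨⟨x, hz1⟩, rfl⟩⟩ :=
        Subtype.ext e3.symm
      rw [e4, hval, ← e2]
      congr 1
      exact Subtype.ext hz2
    · rintro ⟨⟨r, hr⟩, hu⟩
      obtain ⟨y, hy, hD⟩ := h2 r
      refine ⟨_, hD, ?_⟩
      have e4 : (⟨(s : Ω), ⟨r, hr⟩⟩ : αR.range) = ⟨αR r, ⟨r, rfl⟩⟩ := Subtype.ext hr.symm
      rw [e4, hval] at hu
      apply Prod.ext
      · exact Subtype.ext hr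
      · apply Subtype.ext
        rw [← hu]
        show β y = β ⟨χ r, hχP' r⟩
        congr 1
        exact Subtype.ext hy.symm
  refine ⟨⟨_, _, hχ', key⟩, ?_⟩
  rw [hE, key, fstS_gr, fstS_gr]
  exact ⟨αR, hαR, rfl⟩

/-- The image under the pair of inclusions is a graph iff the image under the pair of maps is. -/
theorem Gs_bm_iff (hα : α ∈ F.Hom P) (hβ : β ∈ F.Hom P') (D : Subgroup (↥P × ↥P')) :
    D.map (inc F hα hβ) ∈ Gs F ↔ D.map (bm F hα hβ) ∈ Gs F := by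
  refine ⟨fun h => (Gs_bm F hα hβ D h).1, fun h => ?_⟩
  obtain ⟨α₁, hα₁, hα₁P, hα₁1, -, -⟩ := exists_inv F hα rfl
  obtain ⟨β₁, hβ₁, hβ₁P, hβ₁1, -, -⟩ := exists_inv F hβ rfl
  let e : ↥P × ↥P' →* ↥α.range × ↥β.range := MonoidHom.prodMap α.rangeRestrict β.rangeRestrict
  have h1 : (D.map e).map (inc F hα₁ hβ₁) = D.map (bm F hα hβ) := by
    rw [Subgroup.map_map]
    rfl
  have h2 : (D.map e).map (bm F hα₁ hβ₁) = D.map (inc F hα hβ) := by
    rw [Subgroup.map_map]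
    congr 1
    ext ⟨x, y⟩
    · exact hα₁1 x ⟨x, rfl⟩
    · exact hβ₁1 y ⟨y, rfl⟩
  rw [← h2]
  refine (Gs_bm F hα₁ hβ₁ _ ?_).1
  rw [h1]
  exact h

/-- `F`-graphs are closed under conjugation in `S × S`. -/
theorem Gs_cj {D : Subgroup (Bi S)} (hD : D ∈ Gs F) (g : Bi S) : cj g D ∈ Gs F := by
  have hα := F.conj_mem (P := S) le_rfl g.1.2
  have hβ := F.conj_mem (P := S) le_rfl g.2.2
  have h1 : D.map (inc F hα hβ) = D := by
    have : inc F hα hβ = MonoidHom.id _ := rfl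
    rw [this, Subgroup.map_id]
  have h2 : D.map (bm F hα hβ) = cj g D := rfl
  rw [← h2]
  refine (Gs_bm F hα hβ D ?_).1
  rw [h1]
  exact hD

theorem isConj_fstS_cj (D : Subgroup (Bi S)) (g : Bi S) : F.IsConj (fstS D) (fstS (cj g D)) := by
  refine ⟨conjHom (fstS D) g.1, F.conj_mem (fstS_le D) g.1.2, ?_⟩
  ext x
  constructor
  · rintro ⟨⟨_, ⟨s, ⟨z, hz, rfl⟩, rfl⟩⟩, rfl⟩
    exact ⟨_, ⟨_, ⟨z, hz, rfl⟩, rfl⟩, rfl⟩
  · rintro ⟨_, ⟨_, ⟨z, hz, rfl⟩, rfl⟩, rfl⟩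
    exact ⟨⟨_, ⟨_, ⟨z, hz, rfl⟩, rfl⟩⟩, rfl⟩

/-- Elements of the second projection. -/
def sndS (D : Subgroup (Bi S)) : Subgroup Ω := (D.map (MonoidHom.snd S S)).map S.subtype

theorem sndS_gr (hα : α ∈ F.Hom P) : sndS (gr F hα) = α.range := by
  ext x
  constructor
  · rintro ⟨_, ⟨⟨s, u⟩, h, rfl⟩, rfl⟩
    obtain ⟨h1, h2⟩ := (mem_gr F hα).1 h
    exact ⟨⟨s, h1⟩, h2⟩
  · rintro ⟨x, rfl⟩
    exact ⟨_, ⟨(⟨x, le_of_mem F hα x.2⟩, ⟨α x, val_mem F hα x⟩), (mem_gr F hα).2 ⟨x.2, rfl⟩, rfl⟩, rfl⟩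

theorem fst_mem_normalizer {D : Subgroup (Bi S)} {g : Bi S} (hg : g ∈ Subgroup.normalizer (D : Set (Bi S))) :
    (g.1 : Ω) ∈ Subgroup.normalizer (fstS D : Set Ω) :=
  Subgroup.le_normalizer_map S.subtype ⟨_, Subgroup.le_normalizer_map (MonoidHom.fst S S) ⟨g, hg, rfl⟩, rfl⟩

theorem snd_mem_normalizer {D : Subgroup (Bi S)} {g : Bi S} (hg : g ∈ Subgroup.normalizer (D : Set (Bi S))) :
    (g.2 : Ω) ∈ Subgroup.normalizer (sndS D : Set Ω) :=
  Subgroup.le_normalizer_map S.subtype ⟨_, Subgroup.le_normalizer_map (MonoidHom.snd S S) ⟨g, hg, rfl⟩, rfl⟩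

end graph

/-! ### Conjugacy-class representatives -/

section rep

variable {R R' : Subgroup Ω}

/-- A fully normalized representative of a conjugacy class. -/
noncomputable def rr (R : Subgroup Ω) : Subgroup Ω :=
  Classical.epsilon (fun Q => F.IsConj R Q ∧ F.IsFullyNormalized Q)

theorem rr_spec [Finite S] (hR : R ≤ S) : F.IsConj R (rr F R) ∧ F.IsFullyNormalized (rr F R) :=
  Classical.epsilon_spec (exists_isFullyNormalized F hR)

theorem rr_eq (h : F.IsConj R R') : rr F R = rr F R' := by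
  unfold rr
  congr 1
  funext Q
  apply propext
  refine and_congr_left (fun _ => ?_)
  exact ⟨fun h1 => Basic.IsConj.trans F (isConj_symm F h) h1, fun h1 => Basic.IsConj.trans F h h1⟩

/-- The diagonal subgroup on `Q`. -/
def dg (Q : Subgroup Ω) : Subgroup (Bi S) :=
  (Q.comap S.subtype).map (MonoidHom.prod (MonoidHom.id S) (MonoidHom.id S))

theorem mem_dg {Q : Subgroup Ω} {s u : S} : ((s, u) : Bi S) ∈ dg Q ↔ s = u ∧ (s : Ω) ∈ Q := by
  constructor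
  · rintro ⟨x, hx, he⟩
    have e1 : x = s := congrArg Prod.fst he
    have e2 : x = u := congrArg Prod.snd he
    subst e1
    exact ⟨e2, hx⟩
  · rintro ⟨rfl, h⟩
    exact ⟨s, h, rfl⟩

theorem dg_eq_gr {Q : Subgroup Ω} (hQ : Q ≤ S) : (dg Q : Subgroup (Bi S)) = gr F (subtype_mem F hQ) := by
  ext ⟨s, u⟩
  rw [mem_dg, mem_gr]
  constructor
  · rintro ⟨rfl, h⟩
    exact ⟨h, rfl⟩
  · rintro ⟨h, hu⟩
    exact ⟨Subtype.ext hu, h⟩

/-- The standard diagonal subgroup attached to a subgroup of `S × S`. -/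
noncomputable def star (D : Subgroup (Bi S)) : Subgroup (Bi S) := dg (rr F (fstS D))

theorem star_eq {D D' : Subgroup (Bi S)} (h : F.IsConj (fstS D) (fstS D')) : star F D = star F D' := by
  unfold star
  rw [rr_eq F h]

theorem star_cj (D : Subgroup (Bi S)) (g : Bi S) : star F (cj g D) = star F D :=
  (star_eq F (isConj_fstS_cj F D g)).symm

end rep

/-! ### Stability of marks, and the basic congruence -/

section stability

universe v

variable {X : Type v} [MulAction (Bi S) X]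

/-- Marks of images of subgroups of order at least `k` under maps of the system agree. -/
def Sta (F : FusionSystem S) (X : Type v) [MulAction (Bi S) X] (k : ℕ) : Prop :=
  ∀ (P P' : Subgroup Ω) (α : P →* Ω) (β : P' →* Ω) (hα : α ∈ F.Hom P) (hβ : β ∈ F.Hom P')
    (D : Subgroup (↥P × ↥P')), k ≤ Nat.card D →
    mark X (D.map (inc F hα hβ)) = mark X (D.map (bm F hα hβ))

theorem card_normalizer [Finite S] (E : Subgroup (Bi S)) :
    Nat.card (Subgroup.normalizer (E : Set (Bi S))) = cc E E * Nat.card E := by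
  rw [cc_self]
  have hle : E ≤ Subgroup.normalizer (E : Set (Bi S)) := Subgroup.le_normalizer
  have h4 := Subgroup.card_mul_index (E.subgroupOf (Subgroup.normalizer (E : Set (Bi S))))
  have h5 : Nat.card (E.subgroupOf (Subgroup.normalizer (E : Set (Bi S)))) = Nat.card E :=
    Nat.card_congr (Subgroup.subgroupOfEquivOfLe hle).toEquiv
  rw [h5] at h4
  rw [← h4, mul_comm]
  rfl

theorem cc_self_pos [Finite S] (E : Subgroup (Bi S)) : 0 < cc E E := by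
  have h := card_normalizer E
  have h1 : 0 < Nat.card (Subgroup.normalizer (E : Set (Bi S))) := Nat.card_pos
  rw [h] at h1
  exact Nat.pos_of_mul_pos_right h1

/-- **The basic congruence.** -/
theorem congr_main {p : ℕ} [Fact p.Prime] (hS : IsPGroup p S) [Finite S] (hF : F.IsSaturated p) [Finite X]
    {k : ℕ} (hk : Sta F X (k + 1)) {E : Subgroup (Bi S)} (hE : E ∈ Gs F) (hc : Nat.card E = k) :
    cc E E ∣ cc (star F E) (star F E) ∧ mark X E ≡ mark X (star F E) [MOD cc E E] := by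
  obtain ⟨R, χ, hχ, rfl⟩ := hE
  have hRS : R ≤ S := le_of_mem F hχ
  have hstar0 : star F (gr F hχ) = dg (rr F R) := by
    unfold star
    rw [fstS_gr]
  rw [hstar0]
  obtain ⟨hconj, hfn⟩ := rr_spec F hRS
  set Q₀ := rr F R with hQ₀
  have hQQ₀ : F.IsConj χ.range Q₀ := Basic.IsConj.trans F (isConj_symm F ⟨χ, hχ, rfl⟩) hconj
  have hrec := isReceptive_of_isFullyNormalized F hS hF hfn
  obtain ⟨e, ψ, he, hψ, hext, hv⟩ := exists_normalizer_ext F hS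
    (isFullyAutomized_of_isFullyNormalized F hS hF hfn) hrec hQQ₀
  have hQS : χ.range ≤ S := range_le F hχ
  let α₀ : R →* Ω := (isoHom e).comp χ.rangeRestrict
  have hα₀ : α₀ ∈ F.Hom R := comp_mem' F hχ he (fun x => ⟨x, rfl⟩) α₀ (fun _ => rfl)
  have hr : α₀.range = Q₀ := by
    ext y
    constructor
    · rintro ⟨r, rfl⟩
      exact (e _).2
    · intro hy
      obtain ⟨⟨_, r, rfl⟩, hx⟩ := e.surjective ⟨y, hy⟩
      exact ⟨r, congrArg Subtype.val hx⟩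
  have hα₀ψ : ∀ r : R, α₀ r = ψ ⟨χ r, le_normalizerIn hQS ⟨r, rfl⟩⟩ := fun r => (hext ⟨χ r, ⟨r, rfl⟩⟩).symm
  obtain ⟨α', hα', hα'ext⟩ := IsReceptive.exists_extension F hrec hα₀ hr le_rfl (le_extender F hα₀)
  have := finite_of_le (le_of_mem F hα')
  have := finite_of_le (le_of_mem F hψ)
  set f₁ := inc F hα' hψ with hf₁
  set f₂ := bm F hα' hψ with hf₂
  have hf₁i : Function.Injective f₁ := inc_injective F hα' hψ
  have hf₂i : Function.Injective f₂ := bm_injective F hα' hψ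
  set E := gr F hχ with hEdef
  have hE_le : E ≤ f₁.range := by
    rintro ⟨s, u⟩ h
    obtain ⟨hs, hu⟩ := (mem_gr F hχ).1 h
    exact ⟨(⟨s, le_extender F hα₀ hs⟩, ⟨u, le_normalizerIn hQS ⟨⟨s, hs⟩, hu⟩⟩), rfl⟩
  have hN_le : Subgroup.normalizer (E : Set (Bi S)) ≤ f₁.range := by
    rintro ⟨g₁, g₂⟩ hg
    have hg₁ := fst_mem_normalizer hg
    have hg₂ := snd_mem_normalizer hg
    rw [fstS_gr] at hg₁
    rw [sndS_gr] at hg₂
    have hg₂' : (g₂ : Ω) ∈ normalizerIn S χ.range := ⟨g₂.2, hg₂⟩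
    have hg₁' : (g₁ : Ω) ∈ extender S R α₀ := by
      refine mem_extender_of α₀ g₁.2 hg₁ (val_mem F hψ ⟨g₂, hg₂'⟩) (fun x => ?_)
      have h1 : ((⟨x, hRS x.2⟩, ⟨χ x, val_mem F hχ x⟩) : Bi S) ∈ E := (mem_gr F hχ).2 ⟨x.2, rfl⟩
      have h2 := (Subgroup.mem_normalizer_iff.1 hg _).1 h1
      have h3 : ((⟨g₁ * x * (g₁ : Ω)⁻¹, S.mul_mem (S.mul_mem g₁.2 (hRS x.2)) (S.inv_mem g₁.2)⟩,
          ⟨g₂ * χ x * (g₂ : Ω)⁻¹, S.mul_mem (S.mul_mem g₂.2 (val_mem F hχ x)) (S.inv_mem g₂.2)⟩) : Bi S) ∈ E := h2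
      obtain ⟨h4, h5⟩ := (mem_gr F hχ).1 h3
      rw [hα₀ψ, hα₀ψ, ← map_inv, ← map_mul, ← map_mul]
      congr 1
      exact Subtype.ext h5
    exact ⟨(⟨g₁, hg₁'⟩, ⟨g₂, hg₂'⟩), rfl⟩
  set D₀ := E.comap f₁ with hD₀
  set W := (Subgroup.normalizer (E : Set (Bi S))).comap f₁ with hW
  have hmap₁ : D₀.map f₁ = E := by
    rw [hD₀, Subgroup.map_comap_eq, inf_eq_right.2 hE_le]
  have hWmap₁ : W.map f₁ = Subgroup.normalizer (E : Set (Bi S)) := by
    rw [hW, Subgroup.map_comap_eq, inf_eq_right.2 hN_le]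
  have hmap₂ : D₀.map f₂ = dg Q₀ := by
    ext ⟨s, u⟩
    rw [mem_dg]
    constructor
    · rintro ⟨⟨x, y⟩, hz, he'⟩
      obtain ⟨hx, hy⟩ := (mem_gr F hχ).1 hz
      have e1 : α' x = s := congrArg (fun z : Bi S => ((z.1 : S) : Ω)) he'
      have e2 : ψ y = u := congrArg (fun z : Bi S => ((z.2 : S) : Ω)) he'
      have e3 : α' x = α₀ ⟨x, hx⟩ := hα'ext ⟨x, hx⟩
      have e4 : α₀ ⟨x, hx⟩ = ψ y := by
        rw [hα₀ψ]
        congr 1
        exact Subtype.ext hy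
      constructor
      · apply Subtype.ext
        rw [← e1, ← e2, e3, e4]
      · rw [← e1, e3, ← hr]
        exact ⟨_, rfl⟩
    · rintro ⟨rfl, hs⟩
      rw [← hr] at hs
      obtain ⟨r, hrs⟩ := hs
      refine ⟨(⟨r, le_extender F hα₀ r.2⟩, ⟨χ r, le_normalizerIn hQS ⟨r, rfl⟩⟩), ?_, ?_⟩
      · exact (mem_gr F hχ).2 ⟨r.2, rfl⟩
      · apply Prod.ext
        · apply Subtype.ext
          exact (hα'ext r).trans hrs
        · apply Subtype.ext
          exact (hα₀ψ r).symm.trans hrs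
  have hcD₀ : Nat.card D₀ = k := by
    rw [← hc, ← hmap₁, Subgroup.card_map_of_injective hf₁i]
  have hDW : D₀ ≤ W := Subgroup.comap_mono Subgroup.le_normalizer
  have hNW : W ≤ Subgroup.normalizer (D₀ : Set (↥(extender S R α₀) × ↥(normalizerIn S χ.range))) :=
    Subgroup.le_normalizer_comap f₁
  have hmain := mark_modEq (X := X) f₁ f₂ W D₀ hDW hNW (fun w _ hw => by
    refine hk _ _ _ _ hα' hψ _ ?_
    have hlt : Nat.card D₀ < Nat.card (D₀ ⊔ Subgroup.zpowers w : Subgroup _) := by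
      refine lt_of_le_of_ne (Subgroup.card_le_of_le le_sup_left) (fun h => hw ?_)
      have h1 := Subgroup.eq_of_le_of_card_ge (le_sup_left : D₀ ≤ D₀ ⊔ Subgroup.zpowers w) h.ge
      rw [h1]
      exact (le_sup_right : Subgroup.zpowers w ≤ D₀ ⊔ Subgroup.zpowers w) (Subgroup.mem_zpowers w)
    omega)
  rw [hmap₁, hmap₂] at hmain
  have hidx : Nat.card W = D₀.relIndex W * Nat.card D₀ := by
    have h4 := Subgroup.card_mul_index (D₀.subgroupOf W)
    have h5 : Nat.card (D₀.subgroupOf W) = Nat.card D₀ := Nat.card_congr (Subgroup.subgroupOfEquivOfLe hDW).toEquiv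
    rw [h5] at h4
    rw [← h4, mul_comm]
    rfl
  have hWc : Nat.card W = cc E E * Nat.card D₀ := by
    rw [← Subgroup.card_map_of_injective (K := W) hf₁i, hWmap₁, card_normalizer, ← hmap₁,
      Subgroup.card_map_of_injective hf₁i, hmap₁]
  have hpos : 0 < Nat.card D₀ := Nat.card_pos
  have hrel : D₀.relIndex W = cc E E := by
    rw [hidx] at hWc
    exact Nat.eq_of_mul_eq_mul_right hpos hWc
  rw [hrel] at hmain
  refine ⟨?_, hmain⟩
  have h1 : W.map f₂ ≤ Subgroup.normalizer ((D₀.map f₂ : Subgroup (Bi S)) : Set (Bi S)) := by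
    refine le_trans (Subgroup.map_mono ?_) (Subgroup.le_normalizer_map f₂)
    exact hNW
  rw [hmap₂] at h1
  have h2 := Subgroup.card_dvd_of_le h1
  rw [Subgroup.card_map_of_injective hf₂i, hWc, card_normalizer, ← hmap₂, Subgroup.card_map_of_injective hf₂i,
    hmap₂] at h2
  exact Nat.dvd_of_mul_dvd_mul_right hpos h2

end stability

end Cfsg.Agent.Lib.Fusion.CharBiset
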