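import Cfsg.Agent.Lib.Fusion.CharBiset

/-!
# Construction of a characteristic biset
-/

set_option autoImplicit false

namespace Cfsg.Agent.Lib.Fusion.CharBiset2

open Cfsg Cfsg.FusionSystem Cfsg.Agent.Lib.Fusion.Basic Cfsg.Agent.Lib.Fusion.Saturation
  Cfsg.Agent.Lib.Fusion.Biset Cfsg.Agent.Lib.Fusion.Marks Cfsg.Agent.Lib.Fusion.BisetSum
  Cfsg.Agent.Lib.Fusion.CharBiset

universe u

variable {Ω : Type u} [Group Ω] {S : Subgroup Ω} (F : FusionSystem S)

section stage

variable {p : ℕ} [Fact p.Prime] [Finite S]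

/-- The marks prescribed at one level. -/
noncomputable def MM [Fintype (Subgroup (Bi S))] (a : Subgroup (Bi S) → ℕ) (D : Subgroup (Bi S)) : ℕ :=
  mark (BX a) (star F D) + (Nat.card (BX a) + 1) * cc (star F D) (star F D)

theorem card_Gs_le {D : Subgroup (Bi S)} (hD : D ∈ Gs F) : Nat.card D ≤ Nat.card S := by
  obtain ⟨P, α, hα, rfl⟩ := hD
  rw [card_gr]
  exact card_le_of_le_finite (le_of_mem F hα)

theorem le_MM [Fintype (Subgroup (Bi S))] (a : Subgroup (Bi S) → ℕ) (E D : Subgroup (Bi S)) :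
    mark (BX a) E ≤ MM F a D := by
  have h1 := mark_le (X := BX a) E
  have h2 := cc_self_pos (star F D)
  have h3 : Nat.card (BX a) + 1 ≤ (Nat.card (BX a) + 1) * cc (star F D) (star F D) := Nat.le_mul_of_pos_right _ h2
  unfold MM
  omega

theorem dvd_MM [Fintype (Subgroup (Bi S))] (a : Subgroup (Bi S) → ℕ) {E : Subgroup (Bi S)}
    (h1 : cc E E ∣ cc (star F E) (star F E)) (h2 : mark (BX a) E ≡ mark (BX a) (star F E) [MOD cc E E]) :
    cc E E ∣ MM F a E - mark (BX a) E := by
  have hle := le_MM F a E E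
  have h3 := (Nat.modEq_iff_dvd.1 h2)
  rw [← Int.natCast_dvd_natCast, Nat.cast_sub hle]
  unfold MM
  push_cast
  have h4 : ((cc E E : ℕ) : ℤ) ∣ (cc (star F E) (star F E) : ℤ) := Int.natCast_dvd_natCast.2 h1
  have e : (mark (BX a) (star F E) : ℤ) + (Nat.card (BX a) + 1) * cc (star F E) (star F E) - mark (BX a) E =
      ((mark (BX a) (star F E) : ℤ) - mark (BX a) E) + (Nat.card (BX a) + 1) * cc (star F E) (star F E) := by ring
  rw [e]
  exact dvd_add h3 (Dvd.dvd.mul_left h4 _)

theorem mark_eq_zero_of_support [Fintype (Subgroup (Bi S))] {a : Subgroup (Bi S) → ℕ}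
    (ha : ∀ D, a D ≠ 0 → D ∈ Gs F) {E : Subgroup (Bi S)} (hE : E ∉ Gs F) : mark (BX a) E = 0 := by
  by_contra h
  obtain ⟨D, hD, g, hg⟩ := mark_BX_ne_zero h
  exact hE (Gs_of_le F (Gs_cj F (ha D hD) g) hg)

/-- The diagonal of `S`. -/
noncomputable abbrev Dl (S : Subgroup Ω) : Subgroup (Bi S) := dg S

theorem star_of_top {E : Subgroup (Bi S)} (hE : E ∈ Gs F) (hc : Nat.card E = Nat.card S) : star F E = Dl S := by
  obtain ⟨P, α, hα, rfl⟩ := hE
  have hP : P = S := by
    rw [card_gr] at hc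
    exact Subgroup.eq_of_le_of_card_ge (le_of_mem F hα) hc.ge
  subst hP
  unfold CharBiset.star Dl
  rw [fstS_gr]
  have h1 := (rr_spec F (le_rfl : P ≤ P)).1
  have h2 : rr F P = P := by
    refine Subgroup.eq_of_le_of_card_ge (IsConj.right_le F h1) ?_
    obtain ⟨φ, hφ, hr⟩ := h1
    rw [← hr, card_range F hφ]
  rw [h2]

/-- The inductive construction. -/
theorem exists_stage [Fintype (Subgroup (Bi S))] (hS : IsPGroup p S) (hF : F.IsSaturated p) :
    ∀ j k, k + j = Nat.card S + 1 →
      ∃ a : Subgroup (Bi S) → ℕ, (∀ D, a D ≠ 0 → D ∈ Gs F ∧ k ≤ Nat.card D) ∧ Sta F (BX a) k ∧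
        (k ≤ Nat.card S → ∀ E ∈ Gs F, Nat.card E = Nat.card S → mark (BX a) E = cc (Dl S) (Dl S)) := by
  intro j
  induction j with
  | zero =>
    intro k hk
    refine ⟨0, fun D hD => absurd rfl hD, fun P P' α β hα hβ D _ => ?_, fun h => by omega⟩
    rw [mark_BX, mark_BX]
    simp
  | succ j ih =>
    intro k hk
    obtain ⟨a, ha1, ha2, ha3⟩ := ih (k + 1) (by omega)
    obtain ⟨b, hb1, hb2, hb3, hb4⟩ := exists_level_step a (Gs F) (fun D hD g => Gs_cj F hD g) k (MM F a)
      (fun D g => by unfold MM; rw [star_cj]) (fun E _ _ => le_MM F a E E) (fun E hE hc => by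
        obtain ⟨h1, h2⟩ := congr_main F hS hF ha2 hE hc
        exact dvd_MM F a h1 h2)
    refine ⟨b, fun D hD => ?_, fun P P' α β hα hβ D hD => ?_, fun hk' E hE hc => ?_⟩
    · by_cases h : b D = a D
      · obtain ⟨h1, h2⟩ := ha1 D (h ▸ hD)
        exact ⟨h1, by omega⟩
      · obtain ⟨h1, h2⟩ := hb1 D h
        exact ⟨h1, h2.ge⟩
    · have hc1 : Nat.card (D.map (inc F hα hβ)) = Nat.card D :=
        Subgroup.card_map_of_injective (inc_injective F hα hβ)
      have hc2 : Nat.card (D.map (bm F hα hβ)) = Nat.card D :=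
        Subgroup.card_map_of_injective (bm_injective F hα hβ)
      rcases hD.lt_or_eq with hlt | heq
      · rw [hb3 _ (by omega), hb3 _ (by omega)]
        exact ha2 P P' α β hα hβ D (by omega)
      · by_cases hG : D.map (inc F hα hβ) ∈ Gs F
        · obtain ⟨hG2, hconj⟩ := Gs_bm F hα hβ D hG
          rw [hb2 _ hG (by omega), hb2 _ hG2 (by omega)]
          unfold MM
          rw [star_eq F hconj]
        · have hG2 : D.map (bm F hα hβ) ∉ Gs F := fun h => hG ((Gs_bm_iff F hα hβ D).2 h)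
          rw [hb4 _ (by omega) hG, hb4 _ (by omega) hG2,
            mark_eq_zero_of_support F (fun D h => (ha1 D h).1) hG,
            mark_eq_zero_of_support F (fun D h => (ha1 D h).1) hG2]
    · rcases hk'.lt_or_eq with hlt | heq
      · rw [hb3 E (by omega)]
        exact ha3 (by omega) E hE hc
      · have ha0 : ∀ D, a D = 0 := by
          intro D
          by_contra h
          obtain ⟨h1, h2⟩ := ha1 D h
          have := card_Gs_le F h1
          omega
        rw [hb2 E hE (by omega)]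
        unfold MM
        rw [star_of_top F hE hc]
        have h1 : ∀ E' : Subgroup (Bi S), mark (BX a) E' = 0 := by
          intro E'
          rw [mark_BX]
          simp [ha0]
        have h2 : Nat.card (BX a) = 0 := by
          have h3 := mark_bot (H := Bi S) (BX a)
          rw [h1] at h3
          exact h3.symm
        rw [h1, h2]
        simp

end stage

end Cfsg.Agent.Lib.Fusion.CharBiset2
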