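import Cfsg.Agent.Lib.Fusion.CharBiset2

/-!
# A characteristic biset: the count of right orbits, and existence
-/

set_option autoImplicit false

namespace Cfsg.Agent.Lib.Fusion.CharBiset3

open Cfsg Cfsg.FusionSystem Cfsg.Agent.Lib.Fusion.Basic Cfsg.Agent.Lib.Fusion.Saturation
  Cfsg.Agent.Lib.Fusion.Biset Cfsg.Agent.Lib.Fusion.Marks Cfsg.Agent.Lib.Fusion.BisetSum
  Cfsg.Agent.Lib.Fusion.CharBiset Cfsg.Agent.Lib.Fusion.CharBiset2 Cfsg.Agent.Lib.Fusion.ModelGroup

universe u

variable {Ω : Type u} [Group Ω] {S : Subgroup Ω} (F : FusionSystem S)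

section diag

/-- The normalizer of the diagonal has order `|S| |Z(S)|`. -/
theorem card_normalizer_Dl [Finite S] :
    Nat.card (Subgroup.normalizer ((Dl S : Subgroup (Bi S)) : Set (Bi S))) =
      Nat.card S * Nat.card (Subgroup.center S) := by
  have key : ∀ g h : S, ((g, h) : Bi S) ∈ Subgroup.normalizer ((Dl S : Subgroup (Bi S)) : Set (Bi S)) ↔
      ∀ x : S, g * x * g⁻¹ = h * x * h⁻¹ := by
    intro g h
    rw [Subgroup.mem_normalizer_iff]
    constructor
    · intro H x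
      have h1 : ((x, x) : Bi S) ∈ (Dl S : Subgroup (Bi S)) := mem_dg.2 ⟨rfl, x.2⟩
      have h2 := (H _).1 h1
      have h3 : ((g * x * g⁻¹, h * x * h⁻¹) : Bi S) ∈ (Dl S : Subgroup (Bi S)) := h2
      exact (mem_dg.1 h3).1
    · rintro H ⟨s, u⟩
      constructor
      · intro h1
        obtain ⟨rfl, -⟩ := mem_dg.1 h1
        show ((g * s * g⁻¹, h * s * h⁻¹) : Bi S) ∈ (Dl S : Subgroup (Bi S))
        rw [H s]
        exact mem_dg.2 ⟨rfl, (h * s * h⁻¹).2⟩
      · intro h1
        have h3 : ((g * s * g⁻¹, h * u * h⁻¹) : Bi S) ∈ (Dl S : Subgroup (Bi S)) := h1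
        have h4 := (mem_dg.1 h3).1
        rw [← H u] at h4
        have h5 : s = u := by
          exact mul_left_cancel (mul_right_cancel h4)
        rw [h5]
        exact mem_dg.2 ⟨rfl, u.2⟩
  rw [← Nat.card_prod]
  refine Nat.card_congr
    { toFun := fun z => (z.1.2, ⟨z.1.2⁻¹ * z.1.1, ?_⟩)
      invFun := fun y => ⟨(y.1 * y.2, y.1), ?_⟩
      left_inv := ?_
      right_inv := ?_ }
  · rw [Subgroup.mem_center_iff]
    intro x
    obtain ⟨⟨g, h⟩, hz⟩ := z
    have h1 := (key g h).1 hz x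
    show x * (h⁻¹ * g) = h⁻¹ * g * x
    have h2 : g * x = h * x * h⁻¹ * g := by
      rw [← h1]
      group
    rw [mul_assoc h⁻¹, h2]
    group
  · obtain ⟨h, z, hz⟩ := y
    refine (key _ _).2 (fun x => ?_)
    have h1 : x * z = z * x := Subgroup.mem_center_iff.1 hz x
    show h * z * x * (h * z)⁻¹ = h * x * h⁻¹
    rw [mul_assoc h z, ← h1]
    group
  · rintro ⟨⟨g, h⟩, hz⟩
    apply Subtype.ext
    exact Prod.ext (mul_inv_cancel_left h g) rfl
  · rintro ⟨h, z, hz⟩
    refine Prod.ext rfl (Subtype.ext (inv_mul_cancel_left h z))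

theorem card_Dl [Finite S] : Nat.card (Dl S : Subgroup (Bi S)) = Nat.card S := by
  have h1 : (Dl S : Subgroup (Bi S)) = (MonoidHom.prod (MonoidHom.id S) (MonoidHom.id S)).range := by
    ext ⟨s, u⟩
    rw [mem_dg]
    constructor
    · rintro ⟨rfl, -⟩
      exact ⟨s, rfl⟩
    · rintro ⟨x, hx⟩
      have e1 : x = s := congrArg Prod.fst hx
      have e2 : x = u := congrArg Prod.snd hx
      exact ⟨e1.symm.trans e2, s.2⟩
  rw [h1]
  refine (Nat.card_congr (MonoidHom.ofInjective (f := MonoidHom.prod (MonoidHom.id S) (MonoidHom.id S)) ?_).toEquiv).symm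
  intro x y h
  exact congrArg Prod.fst h

/-- The mark of the diagonal on its own coset space is `|Z(S)|`. -/
theorem cc_Dl [Finite S] : cc (Dl S : Subgroup (Bi S)) (Dl S) = Nat.card (Subgroup.center S) := by
  have h1 := card_normalizer (Dl S : Subgroup (Bi S))
  rw [card_normalizer_Dl, card_Dl, mul_comm] at h1
  exact (Nat.eq_of_mul_eq_mul_right Nat.card_pos h1).symm

/-- `Aut_S(S)`. -/
theorem autInducedBy_self_eq : autInducedBy S S = (MulAut.conj : S →* MulAut S).range := by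
  ext a
  rw [mem_autInducedBy_iff]
  constructor
  · rintro ⟨g, hg, hga⟩
    refine ⟨⟨g, hg⟩, ?_⟩
    ext x
    exact (hga x).symm
  · rintro ⟨g, rfl⟩
    exact ⟨g, g.2, fun x => rfl⟩

theorem card_autInducedBy_self [Finite S] :
    Nat.card (autInducedBy S S) * Nat.card (Subgroup.center S) = Nat.card S := by
  rw [autInducedBy_self_eq]
  have h1 : (MulAut.conj : S →* MulAut S).ker = Subgroup.center S := by
    ext z
    rw [MonoidHom.mem_ker, Subgroup.mem_center_iff]
    constructor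
    · intro h x
      have h2 := DFunLike.congr_fun h x
      have h3 : z * x * z⁻¹ = x := h2
      rw [mul_inv_eq_iff_eq_mul] at h3
      exact h3.symm
    · intro h
      ext x
      show (((z * x * z⁻¹ : S)) : Ω) = x
      rw [← h x]
      simp
  have h2 := Subgroup.card_mul_index (MulAut.conj : S →* MulAut S).ker
  rw [Subgroup.index_ker, h1] at h2
  rw [mul_comm]
  exact h2

end diag

section count

variable {X : Type u} [MulAction (Bi S) X]

/-- The left action of `S` on the set of right orbits. -/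
@[reducible] def xiAct : MulAction S (Xi S X) where
  smul s ξ := Quotient.map (lS s) (by
      rintro x y ⟨u, rfl⟩
      exact ⟨u, lS_rS s u x⟩) ξ
  one_smul ξ := by
    induction ξ using Quotient.inductionOn with
    | _ x => exact congrArg (Quotient.mk _) (lS_one x)
  mul_smul s s' ξ := by
    induction ξ using Quotient.inductionOn with
    | _ x => exact congrArg (Quotient.mk _) (lS_mul s s' x)

attribute [local instance] xiAct

theorem xi_smul_mk (s : S) (x : X) :
    s • (Quotient.mk (rSetoid (S := S) (X := X)) x) = Quotient.mk (rSetoid (S := S) (X := X)) (lS s x) := rfl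

theorem mk_mem_fixed_iff (y : X) : Quotient.mk (rSetoid (S := S) (X := X)) y ∈ MulAction.fixedPoints S (Xi S X) ↔
    ∀ s : S, ∃ u : S, ((s, u) : Bi S) • y = y := by
  rw [MulAction.mem_fixedPoints]
  constructor
  · intro h s
    have h1 := h s
    rw [xi_smul_mk] at h1
    obtain ⟨u, hu⟩ := Quotient.exact h1
    -- `y = rS u (lS s y)`
    refine ⟨u, ?_⟩
    rw [smul_eq, lS_rS]
    exact hu.symm
  · intro h s
    obtain ⟨u, hu⟩ := h s
    rw [xi_smul_mk]
    apply Quotient.sound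
    refine ⟨u, ?_⟩
    rw [smul_eq, lS_rS] at hu
    exact hu.symm

theorem mk_rS (u : S) (x : X) :
    Quotient.mk (rSetoid (S := S) (X := X)) (rS u x) = Quotient.mk (rSetoid (S := S) (X := X)) x :=
  Quotient.sound ((rSetoid (S := S)).symm ⟨u, rfl⟩)

/-- The points whose right orbit is fixed by the left action. -/
def Yy (S : Subgroup Ω) (X : Type u) [MulAction (Bi S) X] : Set X :=
  {y | ∀ s : S, ∃ u : S, ((s, u) : Bi S) • y = y}

/-- Free right action: the count of `Y` in terms of fixed points. -/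
theorem card_Yy [Finite S] [Finite X] (hfree : ∀ (x : X) (u : S), ((1, u) : Bi S) • x = x → u = 1) :
    Nat.card (Yy S X) = Nat.card (MulAction.fixedPoints S (Xi S X)) * Nat.card S := by
  rw [← Nat.card_prod]
  refine (Nat.card_congr (Equiv.ofBijective (fun z : (MulAction.fixedPoints S (Xi S X)) × S =>
    (⟨rS z.2 (z.1 : Xi S X).out, ?_⟩ : Yy S X)) ⟨?_, ?_⟩)).symm
  · -- membership
    obtain ⟨⟨ξ, hξ⟩, u⟩ := z
    induction ξ using Quotient.inductionOn with
    | _ x =>
    have h1 : Quotient.mk (rSetoid (S := S) (X := X)) (rS u (Quotient.mk (rSetoid (S := S) (X := X)) x).out) =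
        Quotient.mk (rSetoid (S := S) (X := X)) x := by
      rw [mk_rS, Quotient.out_eq]
    have h2 := (mk_mem_fixed_iff _).1 (h1 ▸ hξ)
    exact h2
  · rintro ⟨⟨ξ, hξ⟩, u⟩ ⟨⟨ξ', hξ'⟩, u'⟩ h
    have h1 : rS u ξ.out = rS u' ξ'.out := congrArg Subtype.val h
    have h2 : ξ = ξ' := by
      have h3 : Quotient.mk (rSetoid (S := S) (X := X)) (rS u ξ.out) = ξ := by
        rw [mk_rS, Quotient.out_eq]
      have h4 : Quotient.mk (rSetoid (S := S) (X := X)) (rS u' ξ'.out) = ξ' := by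
        rw [mk_rS, Quotient.out_eq]
      rw [← h3, ← h4, h1]
    subst h2
    have h3 : u = u' := by
      have h4 : rS (u'⁻¹ * u) ξ.out = ξ.out := by
        rw [rS_mul, h1, rS_inv_rS]
      have h5 := hfree _ _ h4
      rw [inv_mul_eq_one] at h5
      exact h5.symm
    subst h3
    rfl
  · rintro ⟨y, hy⟩
    have hξ : Quotient.mk (rSetoid (S := S) (X := X)) y ∈ MulAction.fixedPoints S (Xi S X) :=
      (mk_mem_fixed_iff y).2 hy
    obtain ⟨u, hu⟩ := out_rel (S := S) y
    refine ⟨(⟨_, hξ⟩, u⁻¹), Subtype.ext ?_⟩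
    show rS u⁻¹ (Quotient.mk (rSetoid (S := S) (X := X)) y).out = y
    rw [hu, rS_inv_rS]

/-- The graph of an element of `Aut_F(S)`. -/
abbrev grA (a : F.autGroup S) : Subgroup (Bi S) := gr F (autHom_mem F le_rfl a.2)

theorem smul_grA {y : X} {a : F.autGroup S} (hy : y ∈ fixS X (grA F a)) (s : S) :
    ((s, (a.1 s : S)) : Bi S) • y = y :=
  hy _ ((mem_gr F _).2 ⟨s.2, rfl⟩)

theorem card_Yy_eq [Finite S] [Finite X] (hfree : ∀ (x : X) (u : S), ((1, u) : Bi S) • x = x → u = 1)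
    (hgen : ∀ (x : X) (P : Subgroup Ω) (hP : P ≤ S) (φ : P →* Ω) (hφ : ∀ y : P, φ y ∈ S),
      (∀ h : P, ((⟨h, hP h.2⟩, ⟨φ h, hφ h⟩) : Bi S) • x = x) → φ ∈ F.Hom P)
    (c : ℕ) (hm : ∀ E ∈ Gs F, Nat.card E = Nat.card S → mark X E = c) :
    Nat.card (Yy S X) = Nat.card (F.autGroup S) * c := by
  classical
  haveI : Fintype (F.autGroup S) := Fintype.ofFinite _
  have hmem : ∀ (a : F.autGroup S) (x : fixS X (grA F a)), (x : X) ∈ Yy S X :=
    fun a x s => ⟨_, smul_grA F x.2 s⟩
  have e : (Σ a : F.autGroup S, fixS X (grA F a)) ≃ Yy S X := Equiv.ofBijective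
    (fun z => ⟨z.2, hmem z.1 z.2⟩) (by
      constructor
      · rintro ⟨a, x, hx⟩ ⟨b, y, hy⟩ h
        have h1 : x = y := congrArg Subtype.val h
        subst h1
        have h2 : a = b := by
          apply Subtype.ext
          ext s
          have h3 := smul_grA F hx s
          have h4 := smul_grA F hy s
          have h5 : ((1, (a.1 s)⁻¹ * b.1 s) : Bi S) = ((s, a.1 s) : Bi S)⁻¹ * (s, b.1 s) := by
            ext <;> simp
          have h6 : ((1, (a.1 s)⁻¹ * b.1 s) : Bi S) • x = x := by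
            rw [h5, mul_smul, h4, inv_smul_eq_iff, h3]
          have h7 := hfree _ _ h6
          rw [inv_mul_eq_one] at h7
          rw [h7]
        subst h2
        rfl
      · rintro ⟨y, hy⟩
        obtain ⟨D, hD, φ, hφ, h1, h2⟩ := exists_stab_hom hfree y S le_rfl
        have hSD : S ≤ D := fun s hs => by
          obtain ⟨u, hu⟩ := hy ⟨s, hs⟩
          exact (h2 s hs u hu).1
        let φ' : S →* Ω := φ.comp (Subgroup.inclusion hSD)
        have hφ' : φ' ∈ F.Hom S := hgen y S le_rfl φ' (fun t => hφ _) (fun t => h1 (Subgroup.inclusion hSD t))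
        have hr : φ'.range = S := Subgroup.eq_of_le_of_card_ge (range_le F hφ') (by
          rw [card_range F hφ'])
        obtain ⟨a, ha, hav⟩ := exists_aut_of_range F hφ' hr
        refine ⟨⟨⟨a, ha⟩, y, ?_⟩, rfl⟩
        rintro ⟨s, u⟩ hd
        obtain ⟨h3, h4⟩ := (mem_gr F _).1 hd
        have h5 : u = ⟨φ' ⟨s, h3⟩, hφ _⟩ := by
          apply Subtype.ext
          rw [← h4]
          exact hav ⟨s, h3⟩
        rw [h5]
        exact h1 (Subgroup.inclusion hSD ⟨s, h3⟩))
  rw [← Nat.card_congr e, Nat.card_sigma]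
  have h : ∀ a : F.autGroup S, Nat.card (fixS X (grA F a)) = c := by
    intro a
    apply hm
    · exact ⟨S, _, autHom_mem F le_rfl a.2, rfl⟩
    · rw [card_gr]
  simp only [h]
  rw [Finset.sum_const, smul_eq_mul, Finset.card_univ, Nat.card_eq_fintype_card]

theorem isFullyNormalized_self [Finite S] : F.IsFullyNormalized S := by
  refine ⟨le_rfl, fun Q _ => ?_⟩
  have h1 : normalizerIn S S = S := inf_eq_left.2 Subgroup.le_normalizer
  rw [h1]
  exact card_le_of_le_finite inf_le_left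

/-- **The number of right orbits is prime to `p`.** -/
theorem not_dvd_card_Xi {p : ℕ} [Fact p.Prime] [Finite S] [Finite X] (hS : IsPGroup p S) (hF : F.IsSaturated p)
    (hfree : ∀ (x : X) (u : S), ((1, u) : Bi S) • x = x → u = 1)
    (hgen : ∀ (x : X) (P : Subgroup Ω) (hP : P ≤ S) (φ : P →* Ω) (hφ : ∀ y : P, φ y ∈ S),
      (∀ h : P, ((⟨h, hP h.2⟩, ⟨φ h, hφ h⟩) : Bi S) • x = x) → φ ∈ F.Hom P)
    (hm : ∀ E ∈ Gs F, Nat.card E = Nat.card S → mark X E = cc (Dl S) (Dl S)) :
    ¬ p ∣ Nat.card (Xi S X) := by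
  have hmod := hS.card_modEq_card_fixedPoints (Xi S X)
  have h1 := card_Yy (X := X) hfree
  rw [card_Yy_eq F hfree hgen _ hm, cc_Dl] at h1
  obtain ⟨-, R, hR⟩ := isFullyAutomized_of_isFullyNormalized F hS hF (isFullyNormalized_self F)
  have h2 := Subgroup.card_mul_index (R : Subgroup (F.autGroup S))
  have hle : autInducedBy S S ≤ F.autGroup S := autInducedBy_le_autGroup F le_rfl
  have h3 : Nat.card (R : Subgroup (F.autGroup S)) = Nat.card (autInducedBy S S) := by
    rw [hR]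
    exact Nat.card_congr (Subgroup.subgroupOfEquivOfLe hle).toEquiv
  have h4 := card_autInducedBy_self (S := S)
  rw [h3] at h2
  have h5 : Nat.card (MulAction.fixedPoints S (Xi S X)) = (R : Subgroup (F.autGroup S)).index := by
    have h6 : Nat.card (MulAction.fixedPoints S (Xi S X)) * Nat.card S =
        (R : Subgroup (F.autGroup S)).index * Nat.card S := by
      rw [← h1, ← h2, ← h4]
      ring
    exact Nat.eq_of_mul_eq_mul_right Nat.card_pos h6
  have hnd := R.not_dvd_index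
  rw [← h5] at hnd
  exact fun h => hnd ((hmod.dvd_iff (dvd_refl p)).1 h)

end count

section final

/-- The marks of the restriction along a homomorphism. -/
theorem mark_compHom {K H : Type*} [Group K] [Group H] {X : Type*} [MulAction H X] (f : K →* H) (D : Subgroup K) :
    @mark K _ X (MulAction.compHom X f) D = mark X (D.map f) := by
  have h : @fixS K _ X (MulAction.compHom X f) D = fixS X (D.map f) :=
    Set.ext (fun x : X => (mark_of_subgroup_map_comp f D x).symm)
  unfold mark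
  rw [h]

/-- A permutation intertwining the two restrictions, when all marks agree. -/
theorem exists_equiv_of_sta [Finite S] {X : Type u} [MulAction (Bi S) X] [Finite X] (h : Sta F X 0)
    {P P' : Subgroup Ω} {α : P →* Ω} {β : P' →* Ω} (hα : α ∈ F.Hom P) (hβ : β ∈ F.Hom P') :
    ∃ σ : X ≃ X, ∀ (z : ↥P × ↥P') (x : X), σ (inc F hα hβ z • x) = bm F hα hβ z • σ x := by
  have := finite_of_le (le_of_mem F hα)
  have := finite_of_le (le_of_mem F hβ)
  exact @exists_equiv_of_mark_eq (↥P × ↥P') _ _ (Nat.card X) X X (MulAction.compHom X (inc F hα hβ))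
    (MulAction.compHom X (bm F hα hβ)) _ _ rfl (fun D => by
      rw [mark_compHom, mark_compHom]
      exact h P P' α β hα hβ D (Nat.zero_le _))

/-- A characteristic biset. -/
structure IsChar (F : FusionSystem S) (p : ℕ) (X : Type u) [MulAction (Bi S) X] : Prop where
  free_right : ∀ (x : X) (u : S), ((1, u) : Bi S) • x = x → u = 1
  free_left : ∀ (x : X) (s : S), ((s, 1) : Bi S) • x = x → s = 1
  gen : ∀ (x : X) (P : Subgroup Ω) (hP : P ≤ S) (φ : P →* Ω) (hφ : ∀ y : P, φ y ∈ S),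
      (∀ h : P, ((⟨h, hP h.2⟩, ⟨φ h, hφ h⟩) : Bi S) • x = x) → φ ∈ F.Hom P
  stable : ∀ {P P' : Subgroup Ω} {α : P →* Ω} {β : P' →* Ω} (hα : α ∈ F.Hom P) (hβ : β ∈ F.Hom P'),
    ∃ σ : X ≃ X, ∀ (z : ↥P × ↥P') (x : X), σ (inc F hα hβ z • x) = bm F hα hβ z • σ x
  count : ¬ p ∣ Nat.card (Xi S X)

/-- **Existence of a characteristic biset.** -/
theorem exists_charBiset {p : ℕ} [Fact p.Prime] [Finite S] (hS : IsPGroup p S) (hF : F.IsSaturated p) :
    ∃ (X : Type u) (_ : MulAction (Bi S) X) (_ : Finite X), IsChar F p X := by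
  classical
  haveI : Fintype (Subgroup (Bi S)) := Fintype.ofFinite _
  obtain ⟨a, ha1, ha2, ha3⟩ := exists_stage F hS hF (Nat.card S + 1) 0 (by omega)
  refine ⟨BX a, inferInstance, inferInstance, ?_⟩
  have hstab : ∀ x : BX a, ∃ E ∈ Gs F, ∀ g : Bi S, g • x = x → g ∈ E := by
    rintro ⟨D, i, q⟩
    obtain ⟨t, rfl⟩ := QuotientGroup.mk_surjective q
    refine ⟨cj t D, Gs_cj F (ha1 D i.pos.ne').1 t, fun g hg => ?_⟩
    have h1 : (⟨D, i, g • (t : Bi S ⧸ D)⟩ : BX a) = ⟨D, i, (t : Bi S ⧸ D)⟩ := hg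
    have h2 := sigma_mk_injective h1
    have h3 : g • (t : Bi S ⧸ D) = (t : Bi S ⧸ D) := (Prod.mk.inj h2).2
    have h4 : ((g * t : Bi S) : Bi S ⧸ D) = (t : Bi S ⧸ D) := h3
    have h5 := QuotientGroup.eq.1 h4
    rw [mem_cj]
    have h6 := D.inv_mem h5
    have e : ((g * t)⁻¹ * t)⁻¹ = t⁻¹ * g * t := by group
    rwa [e] at h6
  have hfree : ∀ (x : BX a) (u : S), ((1, u) : Bi S) • x = x → u = 1 := by
    intro x u hu
    obtain ⟨_, ⟨R, χ, hχ, rfl⟩, hE⟩ := hstab x
    obtain ⟨h1, h2⟩ := (mem_gr F hχ).1 (hE _ hu)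
    apply Subtype.ext
    rw [← h2]
    exact map_one χ
  have hgen : ∀ (x : BX a) (P : Subgroup Ω) (hP : P ≤ S) (φ : P →* Ω) (hφ : ∀ y : P, φ y ∈ S),
      (∀ h : P, ((⟨h, hP h.2⟩, ⟨φ h, hφ h⟩) : Bi S) • x = x) → φ ∈ F.Hom P := by
    intro x P hP φ hφ h
    obtain ⟨_, ⟨R, χ, hχ, rfl⟩, hE⟩ := hstab x
    have h1 : ∀ y : P, ∃ h1 : (y : Ω) ∈ R, χ ⟨y, h1⟩ = φ y := fun y => (mem_gr F hχ).1 (hE _ (h y))
    have hPR : P ≤ R := fun y hy => (h1 ⟨y, hy⟩).1
    exact restrict_mem' F hPR hχ φ (fun y => (h1 y).2.symm)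
  refine ⟨hfree, ?_, hgen, ?_, ?_⟩
  · intro x s hs
    obtain ⟨_, ⟨R, χ, hχ, rfl⟩, hE⟩ := hstab x
    obtain ⟨h1, h2⟩ := (mem_gr F hχ).1 (hE _ hs)
    have h3 : χ ⟨s, h1⟩ = χ 1 := h2.trans (map_one χ).symm
    have h4 := F.injective_of_mem hχ h3
    exact Subtype.ext (congrArg (fun z : ↥R => (z : Ω)) h4)
  · intro P P' α β hα hβ
    exact exists_equiv_of_sta F ha2 hα hβ
  · exact not_dvd_card_Xi F hS hF hfree hgen (ha3 (Nat.zero_le _))

end final

end Cfsg.Agent.Lib.Fusion.CharBiset3
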