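import Cfsg.Agent.Lib.Fusion.LiftX3
import Cfsg.Agent.Lib.FusionExt.Comp1
import Cfsg.Agent.Lib.FusionTheory.PStable

/-!
# Subsystems of `F` cut out by a normal subgroup of `Aut_F(T)` containing all `p`-elements (helper20)

`T` is strongly closed in `F`, `E` is an invariant saturated subsystem over `T`, and `K` is a normal subgroup of `Aut_F(T)` containing `Aut_E(T)` and all
`p`-elements of `Aut_F(T)`. The maps on subgroups of `T` of the form `c ∘ g` with `c ∈ K` and `g` a map of `E` are a well defined part of `F`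
on subgroups `Q ≤ T` with `C_T(Q') ≤ Q'` for all conjugates `Q'`.
-/

set_option autoImplicit false

namespace Cfsg.Agent.Lib.Fusion.ChiK

open Cfsg Cfsg.FusionSystem Cfsg.Agent.Lib.Fusion.Basic Cfsg.Agent.Lib.Fusion.GroupSystem
open Cfsg.Agent.Lib.FusionExt.MapApi Cfsg.Agent.Lib.FusionExt.Basic Cfsg.Agent.Lib.FusionExt.Normal
open Cfsg.Agent.Lib.FusionExt.PowerSys Cfsg.Agent.Lib.FusionExt.PowerGen Cfsg.Agent.Lib.FusionExt.PrimeRes1
open Cfsg.Agent.Lib.FusionExt.PrimeRes2 Cfsg.Agent.Lib.Fusion.Saturation Cfsg.Agent.Lib.Fusion.Saturation2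
open Cfsg.Agent.Lib.FusionExt.SatCrit1 Cfsg.Agent.Lib.FusionExt.Invariant Cfsg.Agent.Lib.FusionExt.PowerE
open Cfsg.Agent.Lib.FusionExt.LowPi Cfsg.Agent.Lib.FusionExt.CentSys
open Cfsg.Agent.Lib.FusionExt.FixQ Cfsg.Agent.Lib.FusionExt.PPrimeMin Cfsg.Agent.Lib.Fusion.LiftX

variable {Ω : Type*} [Group Ω] {S T : Subgroup Ω} {F : FusionSystem S} {E : FusionSystem T} {p : ℕ}
variable {X Y Q R U : Subgroup Ω} {f g h k : Ω → Ω} {K : Subgroup (MulAut T)}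

/-- The conditions on `K`. -/
structure KOK (F : FusionSystem S) (E : FusionSystem T) (p : ℕ) (K : Subgroup (MulAut T)) : Prop where
  le : K ≤ F.autGroup T
  auto : E.autGroup T ≤ K
  norm : ∀ a ∈ F.autGroup T, ∀ c ∈ K, a * c * a⁻¹ ∈ K
  pel : ∀ a ∈ F.autGroup T, ∀ m : ℕ, a ^ (p ^ m) = 1 → a ∈ K

/-- Maps `c ∘ g` with `c ∈ K` and `g` a map of `E`. -/
def MM (E : FusionSystem T) (K : Subgroup (MulAut T)) (X : Subgroup Ω) (f : Ω → Ω) : Prop :=
  ∃ c ∈ K, ∃ g, Mp E X g ∧ ∀ x ∈ X, f x = autFun c (g x)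

theorem MM.congr (h : MM E K X f) (e : ∀ x ∈ X, f x = g x) : MM E K X g := by
  obtain ⟨c, hc, u, hu, e1⟩ := h
  exact ⟨c, hc, u, hu, fun x hx => by rw [← e x hx, e1 x hx]⟩

theorem MM.restrict (h : MM E K X f) (hY : Y ≤ X) : MM E K Y f := by
  obtain ⟨c, hc, u, hu, e1⟩ := h
  exact ⟨c, hc, u, hu.restrict hY, fun x hx => e1 x (hY hx)⟩

theorem MM.of_mp (h : Mp E X f) : MM E K X f :=
  ⟨1, Subgroup.one_mem _, f, h, fun _ _ => (autFun_one_apply _).symm⟩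

theorem MM.of_K {c : MulAut T} (hc : c ∈ K) (hX : X ≤ T) : MM E K X (autFun c) :=
  ⟨c, hc, fun x => x, Mp.refl hX, fun _ _ => rfl⟩

theorem MM.le (h : MM E K X f) : X ≤ T := by
  obtain ⟨c, hc, u, hu, e1⟩ := h
  exact hu.le

theorem MM.mem_T (h : MM E K X f) {x : Ω} (hx : x ∈ X) : f x ∈ T := by
  obtain ⟨c, hc, u, hu, e1⟩ := h
  rw [e1 x hx]
  exact autFun_mem c (hu.mem_S hx)

theorem MM.mp (hTS : T ≤ S) (hsub : E.IsSubsystemOf F) (hK : K ≤ F.autGroup T) (h : MM E K X f) : Mp F X f := by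
  obtain ⟨c, hc, u, hu, e1⟩ := h
  exact ((mp_sub hsub hu).comp (Y := T) (fun x hx => hu.mem_S hx) (mp_autFun hTS (hK hc))).congr (fun x hx => (e1 x hx).symm)

theorem MM.comp (hTS : T ≤ S) (hSI : StrongInv F E) (hKle : K ≤ F.autGroup T) (h1 : MM E K X f) (hm : ∀ x ∈ X, f x ∈ Y)
    (h2 : MM E K Y g) : MM E K X (fun x => g (f x)) := by
  obtain ⟨c, hc, u, hu, eu⟩ := h1
  obtain ⟨d, hd, v, hv, ev⟩ := h2
  refine ⟨d * c, Subgroup.mul_mem _ hd hc, fun x => twB c v (u x),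
    hu.comp (Y := cjB c Y) (fun x hx => ⟨hu.mem_S hx, ?_⟩) (tw_sI hTS hSI (hKle hc) hv), fun x hx => ?_⟩
  · rw [← eu x hx]
    exact hm x hx
  · show g (f x) = autFun (d * c) (autFun c⁻¹ (v (autFun c (u x))))
    rw [autFun_mul_apply, autFun_apply_inv, ev _ (hm x hx), eu x hx]

theorem MM.inv (hTS : T ≤ S) (hSI : StrongInv F E) (hKle : K ≤ F.autGroup T) (h1 : MM E K X f) (hi : Img X f Y) :
    ∃ k, MM E K Y k ∧ ∀ x ∈ X, k (f x) = x := by
  obtain ⟨c, hc, u, hu, eu⟩ := h1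
  obtain ⟨Y₀, hY₀⟩ := hu.exists_img
  obtain ⟨u', hu', b1, -, -⟩ := hu.inverse hY₀
  have hinv : c⁻¹ ∈ K := Subgroup.inv_mem _ hc
  have hle : Y ≤ cjB c⁻¹ Y₀ := by
    intro y hy
    obtain ⟨x, hx, rfl⟩ := hi.2 y hy
    rw [eu x hx]
    refine ⟨autFun_mem c (hu.mem_S hx), ?_⟩
    rw [autFun_inv_apply]
    exact hY₀.1 x hx
  refine ⟨fun y => u' (autFun c⁻¹ y), ⟨c⁻¹, hinv, twB c⁻¹ u', (tw_sI hTS hSI (hKle hinv) hu').restrict hle, fun y hy => ?_⟩,
    fun x hx => ?_⟩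
  · show u' (autFun c⁻¹ y) = autFun c⁻¹ (autFun c⁻¹⁻¹ (u' (autFun c⁻¹ y)))
    rw [inv_inv, autFun_inv_apply]
  · show u' (autFun c⁻¹ (f x)) = x
    rw [eu x hx, autFun_inv_apply, b1 x hx]

/-- The Frattini form. -/
theorem form_mp (hFr : ∀ (P : Subgroup Ω), P ≤ T → ∀ (φ : P →* Ω), φ ∈ F.Hom P →
      ∃ α ∈ F.autGroup T, ∃ φ₀ ∈ E.Hom P, ∀ (x : P) (hx : φ₀ x ∈ T), φ x = ((α ⟨φ₀ x, hx⟩ : T) : Ω))
    (hX : X ≤ T) (hf : Mp F X f) : ∃ α ∈ F.autGroup T, ∃ g, Mp E X g ∧ ∀ x ∈ X, f x = autFun α (g x) := by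
  obtain ⟨φ, hφ, e⟩ := hf
  obtain ⟨α, hα, φ₀, hφ₀, h⟩ := hFr X hX φ hφ
  refine ⟨α, hα, extOf φ₀, mp_of_hom hφ₀, fun x hx => ?_⟩
  have h1 : φ₀ ⟨x, hx⟩ ∈ T := val_mem E hφ₀ _
  have h2 := h ⟨x, hx⟩ h1
  rw [← e ⟨x, hx⟩, h2, extOf_of_mem _ hx, autFun_of_mem α h1]

section main

variable [Finite S] [Fact p.Prime]

/-- The conjugation action of an element of `S` on `T` is an element of `K`. -/
theorem conj_mem_K (hS : IsPGroup p S) (hT : F.StronglyClosed T) (hK : KOK F E p K) {s : Ω} (hs : s ∈ S) :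
    normAct T (sc_le_normalizer F hT hs) ∈ K := by
  have hTS : T ≤ S := hT.1
  haveI : Finite T := finite_of_le hTS
  have h1 : normAct T (sc_le_normalizer F hT hs) ∈ autInducedBy S T := normAct_mem_autInducedBy S T _ hs
  obtain ⟨m, hm⟩ := (isPGroup_autInducedBy T hS) ⟨_, h1⟩
  exact hK.pel _ (autInducedBy_le_autGroup F hTS h1) m (congrArg Subtype.val hm)

theorem autFun_normAct {s : Ω} (hs : s ∈ Subgroup.normalizer (T : Set Ω)) {x : Ω} (hx : x ∈ T) : autFun (normAct T hs) x = s * x * s⁻¹ := by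
  rw [autFun_of_mem _ hx]
  rfl

/-- `p`-automorphisms are in the class. -/
theorem pq_MM (hS : IsPGroup p S) (hF : F.IsSaturated p) (hT : F.StronglyClosed T) (hSI : StrongInv F E)
    (hFr : ∀ (P : Subgroup Ω), P ≤ T → ∀ (φ : P →* Ω), φ ∈ F.Hom P →
      ∃ α ∈ F.autGroup T, ∃ φ₀ ∈ E.Hom P, ∀ (x : P) (hx : φ₀ x ∈ T), φ x = ((α ⟨φ₀ x, hx⟩ : T) : Ω))
    (hK : KOK F E p K) (hX : X ≤ T) (hf : Pq F p X f) : MM E K X f := by
  have hTS : T ≤ S := hT.1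
  haveI : Finite T := finite_of_le hTS
  haveI : Finite X := finite_of_le (hX.trans hTS)
  haveI : Finite (MulAut X) := Cfsg.Agent.Lib.Fusion.Basic.finite_mulAut_of_finite (A := X)
  obtain ⟨h1, h2, m, h3⟩ := hf
  obtain ⟨a, ha, hae⟩ := h1.toAut h2
  have hae' : ∀ x ∈ X, autFun a x = f x := fun x hx => by
    rw [autFun_of_mem a hx]
    exact hae ⟨x, hx⟩
  have hord : a ^ (p ^ m) = 1 := by
    ext x
    have h4 := iterate_autFun (a := a) (p ^ m) x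
    rw [iterate_congr (fun y hy => (img_autFun a).1 y hy) hae' _ x.2, h3 _ x.2] at h4
    exact h4.symm
  have hH : Subgroup.zpowers a ≤ F.autGroup X := by
    rintro _ ⟨n, rfl⟩
    exact Subgroup.zpow_mem _ ha n
  have hp : IsPGroup p (Subgroup.zpowers a) := by
    rintro ⟨b, n, rfl⟩
    refine ⟨m, Subtype.ext ?_⟩
    show (a ^ n) ^ (p ^ m) = 1
    rw [← zpow_natCast, ← zpow_mul, mul_comm, zpow_mul, zpow_natCast, hord, one_zpow]
  obtain ⟨L₃, ν, μ, hν, hνi, hμ, a1, a2, a3, hfn, hpos⟩ := exists_pos hS hF (hX.trans hTS) _ hH hp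
  obtain ⟨s, hs, hse⟩ := hpos a (Subgroup.mem_zpowers a)
  obtain ⟨α, hα, u, hu, eu⟩ := form_mp hFr hX hν
  obtain ⟨X₄, hX₄⟩ := hu.exists_img
  obtain ⟨u', hu', b1, b2, b3⟩ := hu.inverse hX₄
  have hsN := sc_le_normalizer F hT hs
  let k₀ : MulAut T := α⁻¹ * normAct T hsN * α
  have hk₀ : k₀ ∈ K := by
    have := hK.norm α⁻¹ (Subgroup.inv_mem _ hα) _ (conj_mem_K hS hT hK hs)
    rw [inv_inv] at this
    exact this
  have hval : ∀ x ∈ X, u (f x) = autFun k₀ (u x) := by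
    intro x hx
    have hfx : f x ∈ X := h2.1 x hx
    have e1 := hse x hx
    rw [hae' x hx, eu _ hfx, eu _ hx] at e1
    have hux : u x ∈ T := hu.mem_S hx
    show _ = autFun (α⁻¹ * normAct T hsN * α) (u x)
    rw [autFun_mul_apply, autFun_mul_apply, autFun_normAct hsN (autFun_mem α hux), ← e1, autFun_inv_apply]
  have hm₄ : ∀ y ∈ X₄, autFun k₀ y ∈ X₄ := by
    intro y hy
    obtain ⟨x, hx, rfl⟩ := hX₄.2 y hy
    rw [← hval x hx]
    exact hX₄.1 _ (h2.1 x hx)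
  have h5 : MM E K X (fun x => u' (autFun k₀ (u x))) :=
    (MM.comp hTS hSI hK.le (MM.of_mp hu) hX₄.1 (MM.of_K hk₀ (hu.img_le hX₄))).comp hTS hSI hK.le (fun x hx => hm₄ _ (hX₄.1 x hx)) (MM.of_mp hu')
  refine h5.congr (fun x hx => ?_)
  show u' (autFun k₀ (u x)) = f x
  rw [← hval x hx, b1 _ (h2.1 x hx)]

/-- **Well-definedness.** An automorphism of `T` in `F` whose restriction to a subgroup `Q` with the centralizer condition is in the class lies in `K`. -/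
theorem wd (hS : IsPGroup p S) (hF : F.IsSaturated p) (hEs : E.IsSaturated p) (hsub : E.IsSubsystemOf F) (hT : F.StronglyClosed T)
    (hSI : StrongInv F E)
    (hFr : ∀ (P : Subgroup Ω), P ≤ T → ∀ (φ : P →* Ω), φ ∈ F.Hom P →
      ∃ α ∈ F.autGroup T, ∃ φ₀ ∈ E.Hom P, ∀ (x : P) (hx : φ₀ x ∈ T), φ x = ((α ⟨φ₀ x, hx⟩ : T) : Ω))
    (hK : KOK F E p K) {a : MulAut T} (ha : a ∈ F.autGroup T) :
    ∀ (d : ℕ) (Q : Subgroup Ω), Nat.card T - Nat.card Q = d → Q ≤ T → (∀ Q', F.IsConj Q Q' → zz T Q' ≤ Q') →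
      MM E K Q (autFun a) → a ∈ K := by
  have hTS : T ≤ S := hT.1
  have hTp : IsPGroup p T := hS.to_le hTS
  haveI : Finite T := finite_of_le hTS
  intro d
  induction d using Nat.strong_induction_on with
  | _ d ih =>
  intro Q hd hQT hc hb
  by_cases hQe : Q = T
  · rw [hQe] at hb
    obtain ⟨c, hc', u, hu, eu⟩ := hb
    have hui : Img T u T := by
      refine ⟨fun x hx => hu.mem_S hx, fun y hy => ?_⟩
      have hy' : autFun c y ∈ T := autFun_mem c hy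
      obtain ⟨x, hx, e⟩ := (img_autFun a).2 _ hy'
      refine ⟨x, hx, ?_⟩
      rw [eu x hx] at e
      exact autFun_inj c e
    obtain ⟨u', hu', hue⟩ := hu.toAut hui
    have e : a = c * u' := by
      ext x
      have h1 := eu x x.2
      rw [autFun_coe] at h1
      show ((a x : T) : Ω) = ((c (u' x) : T) : Ω)
      rw [h1]
      have h2 : ((u' x : T) : Ω) = u x := hue x
      rw [← h2, autFun_coe]
    rw [e]
    exact Subgroup.mul_mem _ hc' (hK.auto hu')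
  obtain ⟨c, hc', u, hu, eu⟩ := hb
  have hcF := hK.le hc'
  obtain ⟨a₁, ha₁def⟩ : ∃ a₁, a₁ = c⁻¹ * a := ⟨_, rfl⟩
  have ha₁ : a₁ ∈ F.autGroup T := ha₁def ▸ Subgroup.mul_mem _ (Subgroup.inv_mem _ hcF) ha
  have ea₁ : ∀ x, autFun a x = autFun c (autFun a₁ x) := by
    intro x
    rw [ha₁def, autFun_mul_apply, autFun_apply_inv]
  have hb₁ : Mp E Q (autFun a₁) := hu.congr (fun x hx => by
    rw [ha₁def, autFun_mul_apply, eu x hx, autFun_inv_apply])
  obtain ⟨N, hN⟩ : ∃ N, N = normalizerIn T Q := ⟨_, rfl⟩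
  have hQN : Q ≤ N := hN ▸ le_normalizerIn hQT
  have hNT : N ≤ T := hN ▸ normalizerIn_le_left T Q
  have hNn : ∀ y ∈ N, y ∈ Subgroup.normalizer (Q : Set Ω) := fun y hy => (hN ▸ hy : y ∈ normalizerIn T Q).2
  have hlt : Nat.card Q < Nat.card N := by
    obtain ⟨y, hyS, hyQ, hyN⟩ := exists_normalizing hS hQT hQe hTS
    refine card_lt_of_lt hQN (fun e => hyQ ?_) (hNT.trans hTS)
    rw [e, hN]
    exact ⟨hyS, hyN⟩
  suffices hbN : MM E K N (autFun a) by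
    have h1 : Nat.card N ≤ Nat.card T := Subgroup.card_le_of_le hNT
    exact ih _ (by omega) N rfl hNT (fun Q' hQ' => hc_up hc hQN hQ') hbN
  suffices hbN₁ : MM E K N (autFun a₁) by
    exact (hbN₁.comp hTS hSI hK.le (Y := T) (fun x hx => autFun_mem a₁ (hNT hx)) (MM.of_K hc' le_rfl)).congr (fun x _ => (ea₁ x).symm)
  -- the image of `Q`
  obtain ⟨Q', hQ'def⟩ : ∃ Q', Q' = cjB a₁⁻¹ Q := ⟨_, rfl⟩
  have hiQ' : Img Q (autFun a₁) Q' := by
    rw [hQ'def]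
    refine ⟨fun x hx => ⟨autFun_mem a₁ (hQT hx), by rwa [autFun_inv_apply]⟩, fun y hy => ⟨_, hy.2, autFun_apply_inv a₁ y⟩⟩
  have hQ'T : Q' ≤ T := hQ'def ▸ fun y hy => hy.1
  have haN : ∀ y ∈ N, autFun a₁ y ∈ normalizerIn T Q' := by
    intro y hy
    rw [hQ'def, normalizerIn_cjB a₁⁻¹ hQT]
    refine ⟨autFun_mem a₁ (hNT hy), ?_⟩
    rw [autFun_inv_apply, ← hN]
    exact hy
  obtain ⟨R₀, hQ'R₀, hfn⟩ := exists_isFullyNormalized E hQ'T
  have hAD := isFullyAutomized_of_isFullyNormalized E hTp hEs hfn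
  have hrD := isReceptive_of_isFullyNormalized E hTp hEs hfn
  obtain ⟨μ, hμ, hμv, hμr⟩ := exists_normalizer_map E hTp hAD hrD hQ'R₀
  have hQ'N : Q' ≤ normalizerIn T Q' := le_normalizerIn hQ'T
  have him := img_of_normalizer_map hQ'N μ hμr
  have hm := mp_of_hom hμ
  obtain ⟨m, hmdef⟩ : ∃ m, m = extOf μ := ⟨_, rfl⟩
  rw [← hmdef] at him hm
  have hfQ : Mp E Q (fun x => m (autFun a₁ x)) := hb₁.comp hiQ'.1 (hm.restrict hQ'N)
  have hiR : Img Q (fun x => m (autFun a₁ x)) R₀ := hiQ'.comp him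
  obtain ⟨g₀, hg₀, hge⟩ := hfQ.ext_rec hrD hiR hQN (fun y hy => by
    have h1 : y ∈ T := hNT hy
    have h2 : y ∈ Subgroup.normalizer (Q : Set Ω) := hNn y hy
    refine ⟨h1, h2, m (autFun a₁ y), hm.mem_S (haN y hy), fun x hx => ?_⟩
    have hxS := hQT hx
    show m (autFun a₁ (y * x * y⁻¹)) = m (autFun a₁ y) * m (autFun a₁ x) * (m (autFun a₁ y))⁻¹
    rw [autFun_mul a₁ (T.mul_mem h1 hxS) (T.inv_mem h1), autFun_mul a₁ h1 hxS, autFun_inv' a₁ h1]
    exact hm.map_conj (haN y hy) (hQ'N (hiQ'.1 x hx)))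
  -- the comparison map
  have hbF : Mp F N (autFun a₁) := (mp_autFun hTS ha₁).restrict hNT
  have hmF : Mp F (normalizerIn T Q') m := mp_sub hsub hm
  have hhF : Mp F N (fun x => m (autFun a₁ x)) := hbF.comp haN hmF
  obtain ⟨M, hM⟩ := hhF.exists_img
  obtain ⟨κ, hκ, k1, k2, k3⟩ := hhF.inverse hM
  have hMT : M ≤ T := by
    intro y hy
    obtain ⟨x, hx, rfl⟩ := hM.2 y hy
    exact hm.mem_S (haN x hx)
  have hg₀F := mp_sub hsub hg₀
  have hψF : Mp F M (fun y => g₀ (κ y)) := hκ.comp k3.1 hg₀F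
  have hRM : R₀ ≤ M := by
    intro r hr
    obtain ⟨x, hx, rfl⟩ := hiR.2 r hr
    exact hM.1 x (hQN hx)
  have hψR : ∀ r ∈ R₀, g₀ (κ r) = r := by
    intro r hr
    obtain ⟨x, hx, rfl⟩ := hiR.2 r hr
    show g₀ (κ (m (autFun a₁ x))) = m (autFun a₁ x)
    have := k1 x (hQN hx)
    rw [this, hge x hx]
  have hR₀c : zz T R₀ ≤ R₀ := hc R₀ ((mp_sub hsub hfQ).isConj hiR)
  have hz : ∀ y ∈ M, y⁻¹ * g₀ (κ y) ∈ R₀ := by
    intro y hy
    obtain ⟨n, hn, rfl⟩ := hM.2 y hy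
    have e1 := k1 n hn
    show (m (autFun a₁ n))⁻¹ * g₀ (κ (m (autFun a₁ n))) ∈ R₀
    rw [e1]
    apply hR₀c
    refine ⟨T.mul_mem (T.inv_mem (hm.mem_S (haN n hn))) (hg₀.mem_S hn), Subgroup.mem_centralizer_iff.2 fun r hr => ?_⟩
    obtain ⟨x, hx, rfl⟩ := hiR.2 r hr
    have hnN : n ∈ Subgroup.normalizer (Q : Set Ω) := hNn n hn
    have hx' : n * x * n⁻¹ ∈ Q := (Subgroup.mem_normalizer_iff.1 hnN x).1 hx
    have h1 := hge _ hx'
    rw [hg₀.map_conj hn (hQN hx), hge x hx] at h1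
    have h2 := hhF.map_conj hn (hQN hx)
    have h3 : g₀ n * m (autFun a₁ x) * (g₀ n)⁻¹ = m (autFun a₁ n) * m (autFun a₁ x) * (m (autFun a₁ n))⁻¹ := h1.trans h2
    obtain ⟨r₀, hr₀⟩ : ∃ r₀, r₀ = m (autFun a₁ x) := ⟨_, rfl⟩
    obtain ⟨h₁, hh₁⟩ : ∃ h₁, h₁ = m (autFun a₁ n) := ⟨_, rfl⟩
    obtain ⟨g₁, hg₁⟩ : ∃ g₁, g₁ = g₀ n := ⟨_, rfl⟩
    rw [← hr₀, ← hh₁, ← hg₁] at h3
    show m (autFun a₁ x) * ((m (autFun a₁ n))⁻¹ * g₀ n) = (m (autFun a₁ n))⁻¹ * g₀ n * m (autFun a₁ x)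
    rw [← hr₀, ← hh₁, ← hg₁]
    have h4 : g₁ * r₀ = h₁ * r₀ * h₁⁻¹ * g₁ := by
      rw [← h3]
      group
    calc r₀ * (h₁⁻¹ * g₁) = h₁⁻¹ * (h₁ * r₀ * h₁⁻¹ * g₁) := by group
      _ = h₁⁻¹ * (g₁ * r₀) := by rw [h4]
      _ = h₁⁻¹ * g₁ * r₀ := by group
  -- it has `p`-power order
  haveI : Finite R₀ := finite_of_le hrD.1
  have hR₀p : IsPGroup p R₀ := hTp.to_le hrD.1
  obtain ⟨j, hj⟩ := IsPGroup.iff_card.1 hR₀p
  have hψmul : ∀ {y c : Ω}, y ∈ M → c ∈ R₀ → g₀ (κ (y * c)) = g₀ (κ y) * c := by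
    intro y c hy hc
    rw [hψF.map_mul hy (hRM hc), hψR c hc]
  have hψM : ∀ y ∈ M, g₀ (κ y) ∈ M := by
    intro y hy
    have h1 := M.mul_mem hy (hRM (hz y hy))
    rwa [mul_inv_cancel_left] at h1
  have hIter : ∀ (n : ℕ) (y : Ω), y ∈ M → (fun y => g₀ (κ y))^[n] y = y * (y⁻¹ * g₀ (κ y)) ^ n := by
    intro n y hy
    induction n with
    | zero => simp
    | succ n ih =>
      rw [Function.iterate_succ_apply', ih]
      show g₀ (κ (y * (y⁻¹ * g₀ (κ y)) ^ n)) = _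
      rw [hψmul hy (Subgroup.pow_mem _ (hz y hy) n), pow_succ', ← mul_assoc, mul_inv_cancel_left]
  have hPq : Pq F p M (fun y => g₀ (κ y)) := by
    refine ⟨hψF, ⟨hψM, fun y hy => ?_⟩, j, fun y hy => ?_⟩
    · have hc := hz y hy
      refine ⟨y * (y⁻¹ * g₀ (κ y))⁻¹, M.mul_mem hy (hRM (R₀.inv_mem hc)), ?_⟩
      show g₀ (κ (y * (y⁻¹ * g₀ (κ y))⁻¹)) = y
      rw [hψmul hy (R₀.inv_mem hc)]
      group
    · rw [hIter _ y hy]
      have h1 : (⟨y⁻¹ * g₀ (κ y), hz y hy⟩ : R₀) ^ (p ^ j) = 1 := by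
        rw [← hj]
        exact pow_card_eq_one'
      have h2 : (y⁻¹ * g₀ (κ y)) ^ (p ^ j) = 1 := congrArg Subtype.val h1
      rw [h2, mul_one]
  have hψD : MM E K M (fun y => g₀ (κ y)) := pq_MM hS hF hT hSI hFr hK hMT hPq
  obtain ⟨ψ', hψ', c1⟩ := hψD.inv hTS hSI hK.le hPq.2.1
  have hgM : ∀ n ∈ N, g₀ n ∈ M := by
    intro n hn
    have h1 := hψM _ (hM.1 n hn)
    have h2 := k1 n hn
    rwa [show g₀ (κ ((fun x => m (autFun a₁ x)) n)) = g₀ n from by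
      show g₀ (κ (m (autFun a₁ n))) = g₀ n
      rw [h2]] at h1
  have h5 : MM E K N (fun n => ψ' (g₀ n)) := (MM.of_mp hg₀).comp hTS hSI hK.le hgM hψ'
  have h6 : MM E K N (fun n => m (autFun a₁ n)) := by
    refine h5.congr (fun n hn => ?_)
    have h1 := c1 _ (hM.1 n hn)
    show ψ' (g₀ n) = m (autFun a₁ n)
    have h2 : g₀ (κ (m (autFun a₁ n))) = g₀ n := by rw [k1 n hn]
    rw [← h2]
    exact h1
  obtain ⟨W, hW⟩ := hm.exists_img
  obtain ⟨m', hm', d1, -, -⟩ := hm.inverse hW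
  have h7 : MM E K N (fun n => m' (m (autFun a₁ n))) := h6.comp hTS hSI hK.le (fun n hn => hW.1 _ (haN n hn)) (MM.of_mp hm')
  exact h7.congr (fun n hn => d1 _ (haN n hn))

/-- Extending a map of the class. -/
theorem wd2 (hS : IsPGroup p S) (hF : F.IsSaturated p) (hEs : E.IsSaturated p) (hsub : E.IsSubsystemOf F) (hT : F.StronglyClosed T)
    (hSI : StrongInv F E)
    (hFr : ∀ (P : Subgroup Ω), P ≤ T → ∀ (φ : P →* Ω), φ ∈ F.Hom P →
      ∃ α ∈ F.autGroup T, ∃ φ₀ ∈ E.Hom P, ∀ (x : P) (hx : φ₀ x ∈ T), φ x = ((α ⟨φ₀ x, hx⟩ : T) : Ω))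
    (hK : KOK F E p K) (hXY : X ≤ Y) (hYT : Y ≤ T) (hf : Mp F Y f) (hc : ∀ Q', F.IsConj X Q' → zz T Q' ≤ Q')
    (hm : MM E K X f) : MM E K Y f := by
  have hTS : T ≤ S := hT.1
  obtain ⟨α, hα, u, hu, eu⟩ := form_mp hFr hYT hf
  obtain ⟨c, hc', v, hv, ev⟩ := hm
  have hcF := hK.le hc'
  have huX := hu.restrict hXY
  obtain ⟨Q, hQ⟩ := huX.exists_img
  obtain ⟨u', hu', b1, b2, b3⟩ := huX.inverse hQ
  have hQT : Q ≤ T := huX.img_le hQ
  have hb : Mp E Q (autFun (c⁻¹ * α)) := by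
    refine (hu'.comp b3.1 hv).congr (fun y hy => ?_)
    have hx := b3.1 y hy
    show v (u' y) = autFun (c⁻¹ * α) y
    rw [autFun_mul_apply]
    have e1 := eu _ (hXY hx)
    rw [ev _ hx, b2 y hy] at e1
    rw [← e1, autFun_inv_apply]
  have hcQ : ∀ Q', F.IsConj Q Q' → zz T Q' ≤ Q' := fun Q' hQ' =>
    hc Q' (isConj_trans F ((mp_sub hsub huX).isConj hQ) hQ')
  have h1 := wd hS hF hEs hsub hT hSI hFr hK (Subgroup.mul_mem _ (Subgroup.inv_mem _ hcF) hα) _ Q rfl hQT hcQ (MM.of_mp hb)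
  have h2 : α ∈ K := by
    have e : α = c * (c⁻¹ * α) := by group
    rw [e]
    exact Subgroup.mul_mem _ hc' h1
  exact ⟨α, h2, u, hu, eu⟩

end main

/-! ### Good subgroups -/

/-- The centralizer condition, for the intersection with `T`. -/
def Gd (F : FusionSystem S) (T P : Subgroup Ω) : Prop := ∀ Q', F.IsConj (P ⊓ T) Q' → zz T Q' ≤ Q'

theorem img_inf (hT : F.StronglyClosed T) (hf : Mp F X f) (hi : Img X f Y) : Img (X ⊓ T) f (Y ⊓ T) := by
  obtain ⟨k, hk, a1, a2, a3⟩ := hf.inverse hi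
  refine ⟨fun x hx => ⟨hi.1 x hx.1, LiftX.sc_mp hT (hf.restrict inf_le_left) inf_le_right hx⟩, fun y hy => ?_⟩
  exact ⟨k y, ⟨a3.1 y hy.1, LiftX.sc_mp hT (hk.restrict inf_le_left) inf_le_right hy⟩, a2 y hy.1⟩

theorem img_range {P Q : Subgroup Ω} {φ : P →* Ω} (h : φ.range = Q) : Img P (extOf φ) Q := by
  refine ⟨fun x hx => ?_, fun z hz => ?_⟩
  · rw [extOf_of_mem _ hx, ← h]
    exact ⟨_, rfl⟩
  · rw [← h] at hz
    obtain ⟨x, rfl⟩ := hz
    exact ⟨x, x.2, extOf_coe φ x⟩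

theorem Gd.up (h : Gd F T X) (hXY : X ≤ Y) : Gd F T Y := fun _ hQ' => hc_up h (inf_le_inf_right T hXY) hQ'

theorem Gd.conj (hT : F.StronglyClosed T) (h : Gd F T X) (hf : Mp F X f) (hi : Img X f Y) : Gd F T Y := fun Q' hQ' =>
  h Q' (isConj_trans F ((hf.restrict inf_le_left).isConj (img_inf hT hf hi)) hQ')

theorem Gd.of_isConj (hT : F.StronglyClosed T) (h : Gd F T X) (hc : F.IsConj X Y) : Gd F T Y := by
  obtain ⟨φ, hφ, hr⟩ := hc
  exact h.conj hT (mp_of_hom hφ) (img_range hr)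

theorem gd_of_le [Finite S] (hT : F.StronglyClosed T) (hTX : T ≤ X) : Gd F T X := by
  have hinf : X ⊓ T = T := inf_eq_right.2 hTX
  intro Q' hQ'
  rw [hinf] at hQ'
  have hTS : T ≤ S := hT.1
  haveI : Finite T := finite_of_le hTS
  obtain ⟨φ, hφ, hr⟩ := hQ'
  have hle : Q' ≤ T := by
    rw [← hr]
    rintro _ ⟨x, rfl⟩
    exact hT.2 T le_rfl φ hφ x
  have hcard : Nat.card Q' = Nat.card T := by
    rw [← hr]
    exact (Nat.card_congr (MonoidHom.ofInjective (F.injective_of_mem hφ)).toEquiv).symm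
  have e : Q' = T := Subgroup.eq_of_le_of_card_ge hle hcard.ge
  rw [e]
  exact inf_le_left

/-- An element of `T` outside `R`, normalizing `R` and centralizing `R ∩ T`. -/
structure Ny (T R : Subgroup Ω) (y : Ω) : Prop where
  memT : y ∈ T
  notR : y ∉ R
  norm : y ∈ Subgroup.normalizer (R : Set Ω)
  comm : ∀ u ∈ R ⊓ T, u * y = y * u

theorem Ny.transport [Finite S] (hT : F.StronglyClosed T) {W : Subgroup Ω} {θ : Ω → Ω} {y : Ω} (hθ : Mp F W θ) (hRW : R ≤ W) (hyW : y ∈ W)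
    (hi : Img R θ Q) (h : Ny T R y) : Ny T Q (θ y) := by
  have hQS : Q ≤ S := (hθ.restrict hRW).img_le hi
  haveI : Finite Q := finite_of_le hQS
  refine ⟨LiftX.sc_mp hT (hθ.restrict inf_le_left) (inf_le_right : W ⊓ T ≤ T) ⟨hyW, h.memT⟩, fun hm => ?_, ?_, fun u hu => ?_⟩
  · obtain ⟨r, hr, e⟩ := hi.2 _ hm
    exact h.notR ((hθ.inj (hRW hr) hyW e) ▸ hr)
  · refine mem_normalizer_of_conj_le' (fun x hx => ?_)
    obtain ⟨r, hr, rfl⟩ := hi.2 x hx
    rw [← hθ.map_conj hyW (hRW hr)]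
    exact hi.1 _ (norm_conj h.norm hr)
  · obtain ⟨r, hr, rfl⟩ := (img_inf hT (hθ.restrict hRW) hi).2 u hu
    rw [← hθ.map_mul (hRW hr.1) hyW, ← hθ.map_mul hyW (hRW hr.1), h.comm r hr]

section main2

variable [Finite S] [Fact p.Prime]

/-- A non-good subgroup has a conjugate with an element as in `Ny`. -/
theorem nongood (hS : IsPGroup p S) (hF : F.IsSaturated p) (hT : F.StronglyClosed T) (hR : R ≤ S) (h : ¬ Gd F T R) :
    ∃ R', F.IsConj R R' ∧ ∃ y, Ny T R' y := by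
  have hTS : T ≤ S := hT.1
  unfold Gd at h
  push_neg at h
  obtain ⟨Q', hQ', hnz⟩ := h
  have hUR : R ⊓ T ≤ R := inf_le_left
  have hUS : R ⊓ T ≤ S := hUR.trans hR
  haveI : Finite R := finite_of_le hR
  have hH : autInducedBy R (R ⊓ T) ≤ F.autGroup (R ⊓ T) :=
    (autInducedBy_mono _ hR).trans (autInducedBy_le_autGroup F hUS)
  have hHp : IsPGroup p (autInducedBy R (R ⊓ T)) := isPGroup_autInducedBy _ (hS.to_le hR)
  obtain ⟨L₃, ν, μ, hν, hνi, hμ, a1, a2, a3, hfn, hpos⟩ := exists_pos hS hF hUS _ hH hHp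
  have hrc := isReceptive_of_isFullyNormalized F hS hF hfn
  have hfa := isFullyAutomized_of_isFullyNormalized F hS hF hfn
  have hRn : ∀ r ∈ R, r ∈ Subgroup.normalizer ((R ⊓ T : Subgroup Ω) : Set Ω) := by
    intro r hr
    haveI : Finite (R ⊓ T : Subgroup Ω) := finite_of_le hUS
    refine mem_normalizer_of_conj_le' (fun x hx => ⟨?_, ?_⟩)
    · exact R.mul_mem (R.mul_mem hr hx.1) (R.inv_mem hr)
    · exact sc_conj_mem F hT (hR hr) hx.2
  obtain ⟨ν', hν', hν'e⟩ := hν.ext_rec hrc hνi hUR (fun y hy => by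
    refine ⟨hR hy, hRn y hy, ?_⟩
    obtain ⟨s, hs, hse⟩ := hpos (normAct (R ⊓ T) (hRn y hy)) (normAct_mem_autInducedBy R (R ⊓ T) _ hy)
    refine ⟨s, hs, fun x hx => ?_⟩
    rw [← hse x hx, autFun_of_mem _ hx]
    rfl)
  obtain ⟨R'', hR''⟩ := hν'.exists_img
  have hi₁ := img_inf hT hν' hR''
  have hi₂ : Img (R ⊓ T) ν' L₃ := hνi.congr (fun x hx => (hν'e x hx).symm)
  have hL₃ : L₃ = R'' ⊓ T := hi₂.unique hi₁
  have hR''S : R'' ≤ S := hν'.img_le hR''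
  refine ⟨R'', hν'.isConj hR'', ?_⟩
  -- the element of `C_T(L₃)` outside `L₃`
  have hQ'L₃ : F.IsConj Q' L₃ := isConj_trans F (isConj_symm F hQ') (hν.isConj hνi)
  obtain ⟨c, hc, hcQ⟩ := SetLike.not_le_iff_exists.1 hnz
  have hQ'S : Q' ≤ S := isConj_right_le F hQ'
  obtain ⟨θ, hθ, hθv, hθr⟩ := exists_normalizer_map F hS hfa hrc hQ'L₃
  have hQ'N : Q' ≤ normalizerIn S Q' := le_normalizerIn hQ'S
  have him := img_of_normalizer_map hQ'N θ hθr
  have hm := mp_of_hom hθ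
  have hcN : c ∈ normalizerIn S Q' := by
    refine ⟨hTS hc.1, ?_⟩
    haveI : Finite Q' := finite_of_le hQ'S
    refine mem_normalizer_of_conj_le' (fun x hx => ?_)
    have := (mem_zz.1 hc).2 x hx
    have e : c * x * c⁻¹ = x := by rw [← this]; group
    rwa [e]
  have hc₁T : extOf θ c ∈ T := LiftX.sc_mp hT (hm.restrict inf_le_left) (inf_le_right : normalizerIn S Q' ⊓ T ≤ T) ⟨hcN, hc.1⟩
  have hc₁ : extOf θ c ∈ zz T L₃ := by
    refine mem_zz.2 ⟨hc₁T, fun y hy => ?_⟩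
    obtain ⟨q, hq, rfl⟩ := him.2 y hy
    rw [← hm.map_mul (hQ'N hq) hcN, ← hm.map_mul hcN (hQ'N hq), (mem_zz.1 hc).2 q hq]
  have hc₁L : extOf θ c ∉ L₃ := by
    intro hm'
    obtain ⟨q, hq, e⟩ := him.2 _ hm'
    exact hcQ ((hm.inj (hQ'N hq) hcN e) ▸ hq)
  have hc₁R : extOf θ c ∉ R'' := fun hm' => hc₁L (hL₃ ▸ ⟨hm', hc₁T⟩)
  -- the normalizer
  obtain ⟨C, hC⟩ : ∃ C, C = zz T L₃ := ⟨_, rfl⟩
  have hCS : C ≤ S := hC ▸ (inf_le_left.trans hTS)
  haveI : Finite C := finite_of_le hCS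
  have hL₃n : ∀ r ∈ R'', ∀ l ∈ L₃, r⁻¹ * l * r ∈ L₃ := by
    intro r hr l hl
    rw [hL₃] at hl ⊢
    have e := sc_conj_mem F hT (S.inv_mem (hR''S hr)) hl.2
    rw [inv_inv] at e
    exact ⟨R''.mul_mem (R''.mul_mem (R''.inv_mem hr) hl.1) hr, e⟩
  have hRnC : R'' ≤ Subgroup.normalizer (C : Set Ω) := by
    intro r hr
    refine mem_normalizer_of_conj_le' (fun z hz => ?_)
    rw [hC] at hz ⊢
    refine mem_zz.2 ⟨sc_conj_mem F hT (hR''S hr) (mem_zz.1 hz).1, fun l hl => ?_⟩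
    have h1 := (mem_zz.1 hz).2 _ (hL₃n r hr l hl)
    have e1 : l * (r * z * r⁻¹) = r * ((r⁻¹ * l * r) * z) * r⁻¹ := by group
    have e2 : r * z * r⁻¹ * l = r * (z * (r⁻¹ * l * r)) * r⁻¹ := by group
    rw [e1, e2, h1]
  have hne : R'' ≠ R'' ⊔ C := by
    intro e
    apply hc₁R
    rw [e]
    exact Subgroup.mem_sup_right (hC ▸ hc₁)
  obtain ⟨y, hyB, hyR, hyN⟩ := exists_normalizing hS le_sup_left hne (sup_le hR''S hCS)
  obtain ⟨r, hr, z, hz, rfl⟩ := exists_mul_of_mem_sup' hRnC hyB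
  refine ⟨z, ?_, fun hzR => hyR (R''.mul_mem hr hzR), ?_, fun u hu => ?_⟩
  · exact ((mem_zz.1 (hC ▸ hz)).1)
  · have := Subgroup.mul_mem _ (Subgroup.inv_mem _ (Subgroup.le_normalizer hr)) hyN
    rwa [inv_mul_cancel_left] at this
  · exact (mem_zz.1 (hC ▸ hz)).2 u (hL₃ ▸ hu)

/-- The same for a fully normalized subgroup. -/
theorem nongood_fn (hS : IsPGroup p S) (hF : F.IsSaturated p) (hT : F.StronglyClosed T) (hfn : F.IsFullyNormalized R) (h : ¬ Gd F T R) :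
    ∃ y, Ny T R y := by
  have hTS : T ≤ S := hT.1
  obtain ⟨R', hR', y, hy⟩ := nongood hS hF hT hfn.1 h
  have hrc := isReceptive_of_isFullyNormalized F hS hF hfn
  have hfa := isFullyAutomized_of_isFullyNormalized F hS hF hfn
  obtain ⟨θ, hθ, hθv, hθr⟩ := exists_normalizer_map F hS hfa hrc (isConj_symm F hR')
  have hR'S : R' ≤ S := isConj_right_le F hR'
  have hR'N : R' ≤ normalizerIn S R' := le_normalizerIn hR'S
  exact ⟨_, hy.transport hT (mp_of_hom hθ) hR'N ⟨hTS hy.memT, hy.norm⟩ (img_of_normalizer_map hR'N θ hθr)⟩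

end main2

/-! ### The stability group -/

/-- The automorphisms in `A`, trivial on `U` and on `R / U`. -/
def stabD {R : Subgroup Ω} [Finite (MulAut R)] (A : Subgroup (MulAut R)) (U : Subgroup Ω) (hUR : U ≤ R) : Subgroup (MulAut R) := finSub
  { carrier := {b | b ∈ A ∧ (∀ q ∈ U, autFun b q = q) ∧ ∀ y ∈ R, y⁻¹ * autFun b y ∈ U}
    one_mem' := ⟨Subgroup.one_mem _, fun q _ => autFun_one_apply q, fun y _ => by
      rw [autFun_one_apply, inv_mul_cancel]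
      exact U.one_mem⟩
    mul_mem' := by
      rintro a b ⟨h1, h2, h3⟩ ⟨h4, h5, h6⟩
      refine ⟨Subgroup.mul_mem _ h1 h4, fun q hq => ?_, fun y hy => ?_⟩
      · rw [autFun_mul_apply, h5 q hq, h2 q hq]
      · rw [autFun_mul_apply]
        obtain ⟨q, hq, e⟩ : ∃ q ∈ U, autFun b y = y * q := ⟨_, h6 y hy, by group⟩
        rw [e, autFun_mul a hy (hUR hq), h2 q hq]
        have e2 : y⁻¹ * (autFun a y * q) = (y⁻¹ * autFun a y) * q := by group
        rw [e2]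
        exact U.mul_mem (h3 y hy) hq }

theorem mem_stabD {R : Subgroup Ω} [Finite (MulAut R)] {A : Subgroup (MulAut R)} {hUR : U ≤ R} {b : MulAut R} :
    b ∈ stabD A U hUR ↔ b ∈ A ∧ (∀ q ∈ U, autFun b q = q) ∧ ∀ y ∈ R, y⁻¹ * autFun b y ∈ U := Iff.rfl

theorem stabD_pgroup {R : Subgroup Ω} [Fact p.Prime] [Finite R] [Finite (MulAut R)] {A : Subgroup (MulAut R)} {hUR : U ≤ R} (hR : IsPGroup p R) :
    IsPGroup p (stabD A U hUR) := by
  rintro ⟨b, hb⟩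
  obtain ⟨-, h2, h3⟩ := mem_stabD.1 hb
  obtain ⟨k, hk⟩ := pow_fix_step (P := R) hR b (M := R) (N := U) hUR (fun x _ => by
    have := h3 x x.2
    rwa [autFun_coe] at this) ⟨0, fun z hz => by
      apply Subtype.ext
      have := h2 z hz
      rw [autFun_coe] at this
      simpa using this⟩
  refine ⟨k, Subtype.ext (MulEquiv.ext fun x => ?_)⟩
  exact hk x x.2

theorem stabD_conj {R : Subgroup Ω} [Finite (MulAut R)] {A : Subgroup (MulAut R)} {hUR : U ≤ R} {a b : MulAut R} (ha : a ∈ A)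
    (hU : ∀ c ∈ A, ∀ u ∈ U, autFun c u ∈ U) (hb : b ∈ stabD A U hUR) : a * b * a⁻¹ ∈ stabD A U hUR := by
  obtain ⟨h1, h2, h3⟩ := mem_stabD.1 hb
  have hai : a⁻¹ ∈ A := Subgroup.inv_mem _ ha
  refine mem_stabD.2 ⟨Subgroup.mul_mem _ (Subgroup.mul_mem _ ha h1) hai, fun q hq => ?_, fun y hy => ?_⟩
  · rw [autFun_mul_apply, autFun_mul_apply, h2 _ (hU _ hai q hq), autFun_apply_inv]
  · rw [autFun_mul_apply, autFun_mul_apply]
    have hy₁ : autFun a⁻¹ y ∈ R := autFun_mem _ hy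
    obtain ⟨q, hq, e⟩ : ∃ q ∈ U, autFun b (autFun a⁻¹ y) = autFun a⁻¹ y * q := ⟨_, h3 _ hy₁, by group⟩
    rw [e, autFun_mul a hy₁ (hUR hq), autFun_apply_inv, inv_mul_cancel_left]
    exact hU _ ha q hq

theorem Ny.mem_stabD [Finite S] {y : Ω} {A : Subgroup (MulAut R)} [Finite (MulAut R)] (hT : F.StronglyClosed T) (hRS : R ≤ S) (h : Ny T R y)
    (hA : normAct R h.norm ∈ A) : normAct R h.norm ∈ stabD A (R ⊓ T) inf_le_left := by
  refine ChiK.mem_stabD.2 ⟨hA, fun q hq => ?_, fun x hx => ?_⟩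
  · rw [autFun_of_mem _ hq.1]
    show y * q * y⁻¹ = q
    rw [← h.comm q hq]
    group
  · rw [autFun_of_mem _ hx]
    show x⁻¹ * (y * x * y⁻¹) ∈ R ⊓ T
    refine ⟨R.mul_mem (R.inv_mem hx) (norm_conj h.norm hx), ?_⟩
    have e : x⁻¹ * (y * x * y⁻¹) = (x⁻¹ * y * x) * y⁻¹ := by group
    rw [e]
    have h1 := sc_conj_mem F hT (S.inv_mem (hRS hx)) h.memT
    rw [inv_inv] at h1
    exact T.mul_mem h1 (T.inv_mem h.memT)

section main3

variable [Finite S] [Fact p.Prime]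

/-- A `p`-automorphism of a fully normalized subgroup with an element as in `Ny` comes from larger subgroups. -/
theorem step_ng (hS : IsPGroup p S) (hF : F.IsSaturated p) (hT : F.StronglyClosed T) (E' : FusionSystem S) (hfn : F.IsFullyNormalized R)
    {y : Ω} (hy : Ny T R y) (hf : Pq F p R f)
    (hH : ∀ (X : Subgroup Ω) (f' : Ω → Ω), Mp (e0 F p) X f' → Nat.card R < Nat.card X → Mp E' X f') : Mp E' R f := by
  have hTS : T ≤ S := hT.1
  have hR : R ≤ S := hfn.1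
  haveI : Finite R := finite_of_le hR
  haveI : Finite (MulAut R) := Cfsg.Agent.Lib.Fusion.Basic.finite_mulAut_of_finite (A := R)
  have hfa := isFullyAutomized_of_isFullyNormalized F hS hF hfn
  have hrc := isReceptive_of_isFullyNormalized F hS hF hfn
  have hRp : IsPGroup p R := hS.to_le hR
  obtain ⟨h1, h2, m, h3⟩ := id hf
  obtain ⟨a, ha, hae⟩ := h1.toAut h2
  have hae' : ∀ x ∈ R, autFun a x = f x := fun x hx => by
    rw [autFun_of_mem a hx]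
    exact hae ⟨x, hx⟩
  have hord : a ^ (p ^ m) = 1 := by
    ext x
    have h4 := iterate_autFun (a := a) (p ^ m) x
    rw [iterate_congr (fun y hy => (img_autFun a).1 y hy) hae' _ x.2, h3 _ x.2] at h4
    exact h4.symm
  have hH₀ : Subgroup.zpowers a ≤ F.autGroup R := by
    rintro _ ⟨n, rfl⟩
    exact Subgroup.zpow_mem _ ha n
  have hp : IsPGroup p (Subgroup.zpowers a) := by
    rintro ⟨b, n, rfl⟩
    refine ⟨m, Subtype.ext ?_⟩
    show (a ^ n) ^ (p ^ m) = 1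
    rw [← zpow_natCast, ← zpow_mul, mul_comm, zpow_mul, zpow_natCast, hord, one_zpow]
  have hsyl : IsSylowIn p (autInducedBy S R) (F.autGroup R) := hfa.2
  obtain ⟨κ, hκ, hκc⟩ := hsyl.exists_conj hH₀ hp
  obtain ⟨s, hs, hse⟩ := (mem_autInducedBy_iff S R _).1 (hκc a (Subgroup.mem_zpowers a))
  have hU : ∀ c ∈ F.autGroup R, ∀ u ∈ R ⊓ T, autFun c u ∈ R ⊓ T := by
    intro c hc u hu
    have hm := mp_autFun hR hc
    exact ⟨(img_autFun c).1 u hu.1, LiftX.sc_mp hT (hm.restrict inf_le_left) inf_le_right hu⟩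
  have hWop : stabD (F.autGroup R) (R ⊓ T) inf_le_left ≤ opAut F p R :=
    le_opAut (fun b hb => (mem_stabD.1 hb).1) (stabD_pgroup hRp) (fun b hb w hw => stabD_conj hb hU hw)
  have hWS := hWop.trans (opAut_le_autInducedBy hfa)
  have hcy : normAct R hy.norm ∈ stabD (F.autGroup R) (R ⊓ T) inf_le_left :=
    hy.mem_stabD hT hR (autInducedBy_le_autGroup F hR (normAct_mem_autInducedBy S R _ (hTS hy.memT)))
  obtain ⟨t, ht, hte⟩ := (mem_autInducedBy_iff S R _).1 (hWS (stabD_conj hκ hU hcy))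
  obtain ⟨Y, hYdef⟩ : ∃ Y, Y = extender S R (autHom κ) := ⟨_, rfl⟩
  have hRY : R ≤ Y := hYdef ▸ le_extender F (autHom_mem F hR hκ)
  have hyY : y ∈ Y := by
    rw [hYdef]
    refine mem_extender_of (autHom κ) (hTS hy.memT) hy.norm ht (fun x => ?_)
    have e1 := hte (κ x)
    have e2 : (κ * normAct R hy.norm * κ⁻¹) (κ x) = κ (normAct R hy.norm x) := by
      show κ (normAct R hy.norm (κ⁻¹ (κ x))) = _
      rw [MulAut.inv_apply_self]
    rw [e2] at e1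
    exact e1
  obtain ⟨g, hg, hge⟩ := (mp_autFun hR hκ).ext_rec hrc (img_autFun κ) hRY (fun z hz => by
    rw [hYdef] at hz
    obtain ⟨h5, h6, b, hb, h7⟩ := (mem_extender_iff (autHom κ)).1 hz
    refine ⟨h5, h6, b, hb, fun x hx => ?_⟩
    have hx' : z * x * z⁻¹ ∈ R := norm_conj h6 hx
    have h8 := h7 ⟨x, hx⟩ hx'
    rw [autFun_of_mem _ hx', autFun_of_mem _ hx]
    exact h8)
  have hlt : Nat.card R < Nat.card Y := card_lt_of_lt hRY (fun e => hy.notR (e ▸ hyY)) hg.le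
  obtain ⟨c, hc, κ₁, hκ₁, e⟩ := frat hS hF _ _ hg
  have hκ₁E := hH _ _ hκ₁ hlt
  have hκ₁R := hκ₁E.restrict hRY
  have hiR : Img R κ₁ (cjB c R) := by
    refine ⟨fun x hx => ⟨hκ₁.mem_S (hRY hx), ?_⟩, fun z hz => ?_⟩
    · rw [← e x (hRY hx), hge x hx]
      exact (img_autFun κ).1 x hx
    · obtain ⟨x, hx, e1⟩ := (img_autFun κ).2 _ hz.2
      refine ⟨x, hx, autFun_inj c ?_⟩
      rw [← e x (hRY hx), hge x hx, e1]
  obtain ⟨κ', hκ', a1, a2, a3⟩ := hκ₁R.inverse hiR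
  obtain ⟨s', hs'def⟩ : ∃ s', s' = autFun c⁻¹ s := ⟨_, rfl⟩
  have hs' : s' ∈ S := hs'def ▸ autFun_mem _ hs
  have hcs' : autFun c s' = s := by rw [hs'def, autFun_apply_inv]
  have hkey : ∀ x ∈ R, κ₁ (f x) = s' * κ₁ x * s'⁻¹ := by
    intro x hx
    apply autFun_inj c
    have hfx : f x ∈ R := h2.1 x hx
    have hκx := hκ₁.mem_S (hRY hx)
    rw [autFun_mul c (S.mul_mem hs' hκx) (S.inv_mem hs'), autFun_mul c hs' hκx, autFun_inv' c hs', hcs', ← e x (hRY hx),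
      hge x hx, ← e _ (hRY hfx), hge _ hfx, ← hae' x hx]
    have e1 := hse (κ ⟨x, hx⟩)
    have e2 : (κ * a * κ⁻¹) (κ ⟨x, hx⟩) = κ (a ⟨x, hx⟩) := by
      show κ (a (κ⁻¹ (κ ⟨x, hx⟩))) = _
      rw [MulAut.inv_apply_self]
    rw [e2] at e1
    rw [autFun_of_mem a hx, autFun_of_mem κ (a ⟨x, hx⟩).2, autFun_of_mem κ hx]
    exact e1
  have hm1 : Mp E' R (fun x => s' * κ₁ x * s'⁻¹) := hκ₁R.comp hiR.1 (Mp.conj (X := cjB c R) (fun z hz => hz.1) hs')
  have hm2 : Mp E' R (fun x => κ' (s' * κ₁ x * s'⁻¹)) := hm1.comp (fun x hx => by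
    show s' * κ₁ x * s'⁻¹ ∈ cjB c R
    rw [← hkey x hx]
    exact hiR.1 _ (h2.1 x hx)) hκ'
  refine hm2.congr (fun x hx => ?_)
  show κ' (s' * κ₁ x * s'⁻¹) = f x
  rw [← hkey x hx, a1 _ (h2.1 x hx)]

/-- A variant of the generation theorem for the `p`-automorphisms. -/
theorem step_genQ' (hS : IsPGroup p S) (hF : F.IsSaturated p) (E' : FusionSystem S)
    (hC : ∀ R, F.IsFullyNormalized R → F.IsCentric R → ∀ f, Pq F p R f →
      (∀ (X : Subgroup Ω) (f' : Ω → Ω), Mp (e0 F p) X f' → Nat.card R < Nat.card X → Mp E' X f') → Mp E' R f)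
    (hQ : Q ≤ S) (hf : Pq F p Q f)
    (hH : ∀ (X : Subgroup Ω) (f : Ω → Ω), Mp (e0 F p) X f → Nat.card Q < Nat.card X → Mp E' X f) : Mp E' Q f := by
  by_cases hQS : Q = S
  · subst hQS
    exact hC Q (Cfsg.Agent.Lib.FusionExt.PPowerNormal.isFullyNormalized_of_stronglyClosed sc_top)
      (Cfsg.Agent.Lib.FusionTheory.Centric.isCentric_top F) f hf hH
  obtain ⟨R₀, hQR₀, hfn⟩ := exists_isFullyNormalized F hQ
  have hA := isFullyAutomized_of_isFullyNormalized F hS hF hfn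
  have hR₀r := isReceptive_of_isFullyNormalized F hS hF hfn
  obtain ⟨φ, hφ, hv, hr⟩ := exists_normalizer_map F hS hA hR₀r hQR₀
  have hQN : Q ≤ normalizerIn S Q := fun x hx => ⟨hQ hx, Subgroup.le_normalizer hx⟩
  have hi₀ := img_of_normalizer_map hQN φ hr
  obtain ⟨a, ha, g, hg, eg⟩ := frat hS hF _ _ (mp_of_hom hφ)
  have hi : Img Q g (cjB a R₀) := by
    refine ⟨fun x hx => ⟨hg.mem_S (hQN hx), ?_⟩, fun y hy => ?_⟩
    · rw [← eg x (hQN hx)]
      exact hi₀.1 x hx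
    · obtain ⟨x, hx, e⟩ := hi₀.2 _ hy.2
      refine ⟨x, hx, ?_⟩
      rw [eg x (hQN hx)] at e
      exact autFun_inj a e
  obtain ⟨R, hR⟩ : ∃ R, R = cjB a R₀ := ⟨_, rfl⟩
  rw [← hR] at hi
  have hlt : Nat.card Q < Nat.card (normalizerIn S Q) := by
    obtain ⟨y, hyT, hyQ, hyN⟩ := exists_normalizing hS hQ hQS le_rfl
    refine card_lt_of_lt hQN (fun e => hyQ ?_) inf_le_left
    rw [e]
    exact ⟨hyT, hyN⟩
  have hg' := hH _ g hg hlt
  have hgQ := hg.restrict hQN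
  obtain ⟨μ, hμ, a1, a2, a3⟩ := hgQ.inverse hi
  obtain ⟨μ', hμ', b1, -, -⟩ := (hg'.restrict hQN).inverse hi
  have hμE' : Mp E' R μ := by
    refine hμ'.congr (fun y hy => ?_)
    obtain ⟨x, hx, rfl⟩ := hi.2 y hy
    rw [b1 x hx, a1 x hx]
  have hRS : R ≤ S := hR ▸ fun y hy => hy.1
  have hf' : Pq F p R (fun y => g (f (μ y))) :=
    Pq.conj_iso hf (mp_sub e0_sub hgQ) hi (mp_sub e0_sub hμ) a1 a2 a3.1
  have hfnR : F.IsFullyNormalized R := hR ▸ isFN_cjB ha hfn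
  have hrR := isReceptive_of_isFullyNormalized F hS hF hfnR
  have hcardR : Nat.card Q = Nat.card R := (hgQ.card_img hi).symm
  have hf'E' : Mp E' R (fun y => g (f (μ y))) := by
    by_cases hCR : centralizerIn S R ≤ R
    · have hcen : F.IsCentric R := mem_CC_of_rec sc_top hrR hRS hCR
      exact hC R hfnR hcen _ hf' (fun X f' h1 h2 => hH X f' h1 (by rwa [hcardR]))
    · obtain ⟨f', hf'', he⟩ := exists_ext_centQ hrR hf'
      have hUS : R ⊔ centralizerIn S R ≤ S := sup_le hRS inf_le_left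
      have h1 := e0_inFam (F := F) (p := p).2 _ hUS _ hf''
      have hlt2 : Nat.card Q < Nat.card ↥(R ⊔ centralizerIn S R) := by
        rw [hcardR]
        refine card_lt_of_lt le_sup_left (fun e => hCR ?_) hUS
        intro c hc
        have h5 : c ∈ R ⊔ centralizerIn S R := Subgroup.mem_sup_right hc
        rwa [← e] at h5
      have h2 := hH _ _ h1 hlt2
      exact (h2.restrict le_sup_left).congr he
  have h3 : Mp E' Q (fun x => g (f (μ (g x)))) := (hg'.restrict hQN).comp hi.1 hf'E'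
  have hm3 : ∀ x ∈ Q, g (f (μ (g x))) ∈ R := fun x hx => hf'.2.1.1 (g x) (hi.1 x hx)
  have h4 : Mp E' Q (fun x => μ (g (f (μ (g x))))) := h3.comp hm3 hμE'
  refine h4.congr (fun x hx => ?_)
  show μ (g (f (μ (g x)))) = f x
  rw [a1 x hx, a1 _ (hf.2.1.1 x hx)]

theorem gen_e0' (hS : IsPGroup p S) (hF : F.IsSaturated p) (E' : FusionSystem S)
    (hC : ∀ R, F.IsFullyNormalized R → F.IsCentric R → ∀ f, Pq F p R f →
      (∀ (X : Subgroup Ω) (f' : Ω → Ω), Mp (e0 F p) X f' → Nat.card R < Nat.card X → Mp E' X f') → Mp E' R f)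
    (X : Subgroup Ω) (f : Ω → Ω) (hf : Mp (e0 F p) X f) : Mp E' X f := by
  have key : ∀ (d : ℕ) (X : Subgroup Ω) (f : Ω → Ω), Nat.card S - Nat.card X = d → Mp (e0 F p) X f → Mp E' X f := by
    intro d
    induction d using Nat.strong_induction_on with
    | _ d ih =>
    intro X f hd hf
    have hH : ∀ (X' : Subgroup Ω) (f' : Ω → Ω), Mp (e0 F p) X' f' → Nat.card X < Nat.card X' → Mp E' X' f' := by
      intro X' f' hf' hlt
      have h1 : Nat.card X' ≤ Nat.card S := card_le_S hf'.le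
      exact ih (Nat.card S - Nat.card X') (by omega) X' f' rfl hf'
    have hfam : InFamQ F p (mkSys (e3Ax (e0 F p) E' (Nat.card X))) := by
      refine ⟨fun P φ hφ => ?_, fun Q hQ f' hf' => ?_⟩
      · have h1 := (mp_mkSys (e3Ax (e0 F p) E' (Nat.card X))).1 (mp_of_hom hφ)
        exact hom_of_mp (mp_sub e0_sub h1.1)
      · have h1 : Mp (e0 F p) Q f' := e0_inFam.2 Q hQ f' hf'
        refine (mp_mkSys (e3Ax (e0 F p) E' (Nat.card X))).2 ⟨h1, fun hn => ?_⟩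
        rcases hn.lt_or_eq with hlt | heq
        · exact hH Q f' h1 hlt
        · exact step_genQ' hS hF E' hC hQ hf' (by rwa [← heq])
    have h2 := e0_min hfam hf
    exact ((mp_mkSys (e3Ax (e0 F p) E' (Nat.card X))).1 h2).2 le_rfl
  exact key _ X f rfl hf

end main3

/-! ### The subsystem -/

/-- Centric and good. -/
def Hh (F : FusionSystem S) (T X : Subgroup Ω) : Prop := F.IsCentric X ∧ Gd F T X

/-- Systems containing the generators. -/
def InFamG (F : FusionSystem S) (E : FusionSystem T) (K : Subgroup (MulAut T)) (D : FusionSystem S) : Prop :=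
  ∀ X f, Hh F T X → Mp F X f → MM E K (X ⊓ T) f → Mp D X f

theorem f0Ax : SysAx S (fun X f => Mp F X f ∧ ∀ D : FusionSystem S, InFamG F E K D → Mp D X f) := by
  refine ⟨?_, ?_, ?_, ?_, ?_, ?_, ?_, ?_⟩
  · rintro X f g ⟨h1, h2⟩ e
    exact ⟨h1.congr e, fun D hD => (h2 D hD).congr e⟩
  · rintro X f ⟨h1, -⟩
    exact h1.le
  · rintro X f x ⟨h1, -⟩ hx
    exact h1.mem_S hx
  · rintro X f x y ⟨h1, -⟩ hx hy
    exact h1.map_mul hx hy
  · rintro X f x y ⟨h1, -⟩ hx hy e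
    exact h1.inj hx hy e
  · intro X c hX hc
    exact ⟨Mp.conj hX hc, fun D _ => Mp.conj hX hc⟩
  · rintro X Y f g ⟨h1, h2⟩ hm ⟨g1, g2⟩
    exact ⟨h1.comp hm g1, fun D hD => (h2 D hD).comp hm (g2 D hD)⟩
  · rintro X Y f ⟨h1, h2⟩ hi
    obtain ⟨k, hk, a1, -, a3⟩ := h1.inverse hi
    refine ⟨k, ⟨hk, fun D hD => ?_⟩, a1⟩
    obtain ⟨k', hk', b1, -, -⟩ := (h2 D hD).inverse hi
    refine hk'.congr (fun y hy => ?_)
    obtain ⟨x, hx, rfl⟩ := hi.2 y hy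
    rw [b1 x hx, a1 x hx]

/-- The subsystem generated by the maps on good centric subgroups whose restriction to the intersection with `T` is in the class. -/
noncomputable def f0 (F : FusionSystem S) (E : FusionSystem T) (K : Subgroup (MulAut T)) : FusionSystem S :=
  mkSys (f0Ax (F := F) (E := E) (K := K))

theorem mp_f0 : Mp (f0 F E K) X f ↔ Mp F X f ∧ ∀ D : FusionSystem S, InFamG F E K D → Mp D X f := mp_mkSys _

theorem f0_sub : (f0 F E K).IsSubsystemOf F := fun _ _ hφ => hom_of_mp (mp_f0.1 (mp_of_hom hφ)).1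

theorem f0_gen (hX : Hh F T X) (hf : Mp F X f) (hm : MM E K (X ⊓ T) f) : Mp (f0 F E K) X f :=
  mp_f0.2 ⟨hf, fun _ hD => hD X f hX hf hm⟩

theorem f0_min {D : FusionSystem S} (hD : InFamG F E K D) (h : Mp (f0 F E K) X f) : Mp D X f := (mp_f0.1 h).2 D hD

theorem isConj_f0 (h : (f0 F E K).IsConj X Y) : F.IsConj X Y := by
  obtain ⟨φ, hφ, hr⟩ := h
  exact ⟨φ, f0_sub X hφ, hr⟩

section main4

variable [Finite S] [Fact p.Prime]

/-- The system of maps whose restriction to the intersection with `T` is in the class. -/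
theorem ttAx (hS : IsPGroup p S) (hT : F.StronglyClosed T) (hSI : StrongInv F E) (hK : KOK F E p K) :
    SysAx S (fun X f => Mp F X f ∧ MM E K (X ⊓ T) f) := by
  have hTS : T ≤ S := hT.1
  refine ⟨?_, ?_, ?_, ?_, ?_, ?_, ?_, ?_⟩
  · rintro X f g ⟨h1, h2⟩ e
    exact ⟨h1.congr e, h2.congr (fun x hx => e x hx.1)⟩
  · rintro X f ⟨h1, -⟩
    exact h1.le
  · rintro X f x ⟨h1, -⟩ hx
    exact h1.mem_S hx
  · rintro X f x y ⟨h1, -⟩ hx hy
    exact h1.map_mul hx hy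
  · rintro X f x y ⟨h1, -⟩ hx hy e
    exact h1.inj hx hy e
  · intro X c hX hc
    refine ⟨Mp.conj hX hc, (MM.of_K (conj_mem_K hS hT hK hc) inf_le_right).congr (fun x hx => ?_)⟩
    exact autFun_normAct _ hx.2
  · rintro X Y f g ⟨h1, h2⟩ hm ⟨g1, g2⟩
    refine ⟨h1.comp hm g1, h2.comp (Y := Y ⊓ T) hTS hSI hK.le (fun x hx => ⟨hm x hx.1, ?_⟩) g2⟩
    exact LiftX.sc_mp hT (h1.restrict inf_le_left) inf_le_right hx
  · rintro X Y f ⟨h1, h2⟩ hi
    obtain ⟨k, hk, a1, a2, a3⟩ := h1.inverse hi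
    refine ⟨k, ⟨hk, ?_⟩, a1⟩
    obtain ⟨k', hk', b1⟩ := h2.inv hTS hSI hK.le (img_inf hT h1 hi)
    refine hk'.congr (fun y hy => ?_)
    obtain ⟨x, hx, rfl⟩ := (img_inf hT h1 hi).2 y hy
    rw [b1 x hx, a1 x hx.1]

/-- All maps of the subsystem are in the class on the intersection with `T`. -/
theorem f0_tt (hS : IsPGroup p S) (hT : F.StronglyClosed T) (hSI : StrongInv F E) (hK : KOK F E p K) (h : Mp (f0 F E K) X f) :
    MM E K (X ⊓ T) f := by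
  have hfam : InFamG F E K (mkSys (ttAx hS hT hSI hK)) := fun X f _ h1 h2 => (mp_mkSys _).2 ⟨h1, h2⟩
  exact ((mp_mkSys _).1 (f0_min hfam h)).2

/-- The `p`-automorphisms are in the subsystem. -/
theorem e0_f0 (hS : IsPGroup p S) (hF : F.IsSaturated p) (hT : F.StronglyClosed T) (hSI : StrongInv F E)
    (hFr : ∀ (P : Subgroup Ω), P ≤ T → ∀ (φ : P →* Ω), φ ∈ F.Hom P →
      ∃ α ∈ F.autGroup T, ∃ φ₀ ∈ E.Hom P, ∀ (x : P) (hx : φ₀ x ∈ T), φ x = ((α ⟨φ₀ x, hx⟩ : T) : Ω))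
    (hK : KOK F E p K) (h : Mp (e0 F p) X f) : Mp (f0 F E K) X f := by
  refine gen_e0' hS hF (f0 F E K) (fun R hfn hcen f hf hH => ?_) X f h
  by_cases hG : Gd F T R
  · have hRT : R ⊓ T ≤ R := inf_le_left
    have hi := img_inf hT hf.1 hf.2.1
    obtain ⟨m, hm⟩ := hf.2.2
    exact f0_gen ⟨hcen, hG⟩ hf.1 (pq_MM hS hF hT hSI hFr hK inf_le_right
      ⟨hf.1.restrict hRT, hi, m, fun x hx => hm x hx.1⟩)
  · obtain ⟨y, hy⟩ := nongood_fn hS hF hT hfn hG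
    exact step_ng hS hF hT _ hfn hy hf hH

end main4

section main5

variable [Finite S] [Fact p.Prime]

/-- A bundle of the hypotheses. -/
structure Setup (F : FusionSystem S) (E : FusionSystem T) (p : ℕ) (K : Subgroup (MulAut T)) : Prop where
  hS : IsPGroup p S
  hF : F.IsSaturated p
  hEs : E.IsSaturated p
  hsub : E.IsSubsystemOf F
  hT : F.StronglyClosed T
  hSI : StrongInv F E
  hFr : ∀ (P : Subgroup Ω), P ≤ T → ∀ (φ : P →* Ω), φ ∈ F.Hom P →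
      ∃ α ∈ F.autGroup T, ∃ φ₀ ∈ E.Hom P, ∀ (x : P) (hx : φ₀ x ∈ T), φ x = ((α ⟨φ₀ x, hx⟩ : T) : Ω)
  hK : KOK F E p K

theorem Setup.of_e0 (H : Setup F E p K) (h : Mp (e0 F p) X f) : Mp (f0 F E K) X f :=
  e0_f0 H.hS H.hF H.hT H.hSI H.hFr H.hK h

theorem Setup.tt (H : Setup F E p K) (h : Mp (f0 F E K) X f) : MM E K (X ⊓ T) f :=
  f0_tt H.hS H.hT H.hSI H.hK h

theorem Setup.frat' (H : Setup F E p K) (hf : Mp F X f) :
    ∃ a ∈ F.autGroup S, ∃ g, Mp (f0 F E K) X g ∧ Mp (Cfsg.Agent.Lib.FusionExt.PrimeRes1.e0 F p) X g ∧ ∀ x ∈ X, f x = autFun a (g x) := by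
  obtain ⟨a, ha, g, hg, eg⟩ := frat H.hS H.hF _ _ hf
  exact ⟨a, ha, g, H.of_e0 hg, hg, eg⟩

theorem Setup.centric (H : Setup F E p K) {P : Subgroup Ω} (hP : (f0 F E K).IsCentric P) : F.IsCentric P := by
  refine ⟨hP.1, fun Q hQ c hc => ?_⟩
  obtain ⟨φ, hφ, hrg⟩ := hQ
  have hi₀ := img_range hrg
  obtain ⟨a, ha, g, hg, -, eg⟩ := H.frat' (mp_of_hom hφ)
  have hi : Img P g (cjB a Q) := by
    refine ⟨fun x hx => ⟨hg.mem_S hx, ?_⟩, fun y hy => ?_⟩
    · rw [← eg x hx]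
      exact hi₀.1 x hx
    · obtain ⟨x, hx, e⟩ := hi₀.2 _ hy.2
      refine ⟨x, hx, ?_⟩
      rw [eg x hx] at e
      exact autFun_inj a e
  have hcent := hP.2 _ (hg.isConj hi)
  have hcS : c ∈ S := hc.1
  have h1 : autFun a⁻¹ c ∈ centralizerIn S (cjB a Q) := by
    refine ⟨autFun_mem _ hcS, Subgroup.mem_centralizer_iff.2 fun z hz => ?_⟩
    obtain ⟨hzS, hzQ⟩ := hz
    have h3 : autFun a z * c = c * autFun a z := (Subgroup.mem_centralizer_iff.1 hc.2) _ hzQ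
    apply autFun_inj a
    rw [autFun_mul a hzS (autFun_mem _ hcS), autFun_mul a (autFun_mem _ hcS) hzS, autFun_apply_inv, h3]
  have h5 := (hcent h1).2
  rwa [autFun_apply_inv] at h5

theorem Hh.of_isConj (hT : F.StronglyClosed T) (h : Hh F T X) (hc : F.IsConj X Y) : Hh F T Y :=
  ⟨Cfsg.Agent.Lib.FusionTheory.Centric.IsCentric.of_conj F h.1 hc, h.2.of_isConj hT hc⟩

theorem Setup.recep (H : Setup F E p K) (hrF : F.IsReceptive R) (hR : Hh F T R) : (f0 F E K).IsReceptive R := by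
  refine ⟨hrF.1, fun P φ hφ hrg => ?_⟩
  have hφF : φ ∈ F.Hom P := f0_sub P hφ
  obtain ⟨ψ, hψ, he⟩ := hrF.2 P φ hφF hrg
  have hPN : P ≤ extender S P φ := le_extender F hφF
  have hPh : Hh F T P := Hh.of_isConj H.hT hR (isConj_symm F ⟨φ, hφF, hrg⟩)
  have hψm := mp_of_hom hψ
  have hX : Hh F T (extender S P φ) :=
    ⟨Cfsg.Agent.Lib.FusionTheory.Centric.IsCentric.of_le F hPh.1 hPN hψm.le, hPh.2.up hPN⟩
  have h1 : MM E K (P ⊓ T) (extOf φ) := H.tt (mp_of_hom hφ)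
  have h2 : MM E K (P ⊓ T) (extOf ψ) := h1.congr (fun x hx => by
    rw [extOf_of_mem _ hx.1, extOf_of_mem _ (hPN hx.1), he x hx.1 (hPN hx.1)])
  have h3 : MM E K (extender S P φ ⊓ T) (extOf ψ) :=
    wd2 H.hS H.hF H.hEs H.hsub H.hT H.hSI H.hFr H.hK (inf_le_inf_right T hPN) inf_le_right (hψm.restrict inf_le_left) hPh.2 h2
  exact ⟨ψ, hom_of_mp (f0_gen hX hψm h3), he⟩

theorem Setup.sat (H : Setup F E p K) (P : Subgroup Ω) (hP : Hh F T P) :
    ∃ Q, (f0 F E K).IsConj P Q ∧ (f0 F E K).IsFullyAutomized p Q ∧ (f0 F E K).IsReceptive Q := by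
  obtain ⟨R₀, hPR₀, hfn⟩ := exists_isFullyNormalized F hP.1.1
  obtain ⟨φ, hφ, hrg⟩ := hPR₀
  have hi₀ := img_range hrg
  obtain ⟨a, ha, g, hg, -, eg⟩ := H.frat' (mp_of_hom hφ)
  have hi : Img P g (cjB a R₀) := by
    refine ⟨fun x hx => ⟨hg.mem_S hx, ?_⟩, fun y hy => ?_⟩
    · rw [← eg x hx]
      exact hi₀.1 x hx
    · obtain ⟨x, hx, e⟩ := hi₀.2 _ hy.2
      refine ⟨x, hx, ?_⟩
      rw [eg x hx] at e
      exact autFun_inj a e
  have hconj : (f0 F E K).IsConj P (cjB a R₀) := hg.isConj hi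
  have hfnR : F.IsFullyNormalized (cjB a R₀) := isFN_cjB ha hfn
  have hA := isFullyAutomized_of_isFullyNormalized F H.hS H.hF hfnR
  have hrF := isReceptive_of_isFullyNormalized F H.hS H.hF hfnR
  have hcen : Hh F T (cjB a R₀) := Hh.of_isConj H.hT hP (isConj_f0 hconj)
  refine ⟨_, hconj, ?_, H.recep hrF hcen⟩
  have hsyl : IsSylowIn p (autInducedBy S (cjB a R₀)) (F.autGroup (cjB a R₀)) := hA.2
  refine ⟨hA.1, hsyl.mono (autInducedBy_le_autGroup F hA.1) (autInducedBy_le_autGroup _ hA.1) ?_⟩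
  exact Cfsg.Agent.Lib.FusionExt.PIndex.autGroup_le_of_subsystem f0_sub hA.1

/-- **The subsystem is saturated.** -/
theorem Setup.saturated (H : Setup F E p K) : (f0 F E K).IsSaturated p := by
  have hS := H.hS
  have hT := H.hT
  have hTS : T ≤ S := hT.1
  refine Cfsg.Agent.Lib.FusionExt.SatCrit4.main hS (f0 F E K) {P | Hh F T P} (fun P hP => hP.1.1) ?_ ?_ ?_ ?_
  · intro P hP Q hQ
    exact Hh.of_isConj hT hP (isConj_f0 hQ)
  · intro P hP
    exact H.sat P hP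
  · intro E' h P φ hφ
    have hfam : InFamG F E K E' := by
      intro X f hX hf hm
      obtain ⟨φ', hφ', e⟩ := f0_gen hX hf hm
      exact ⟨φ', h X hX hφ', e⟩
    exact hom_of_mp (f0_min hfam (mp_of_hom hφ))
  · intro P hP hPC
    have hPF := H.centric hP
    have hG : ¬ Gd F T P := fun hG => hPC ⟨hPF, hG⟩
    obtain ⟨P'', hPP'', y, hy⟩ := nongood hS H.hF hT hPF.1 hG
    have hP''S : P'' ≤ S := isConj_right_le F hPP''
    obtain ⟨φ, hφ, hrg⟩ := hPP''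
    have hi₀ := img_range hrg
    obtain ⟨a, ha, g, hg, -, eg⟩ := H.frat' (mp_of_hom hφ)
    have hi : Img P g (cjB a P'') := by
      refine ⟨fun x hx => ⟨hg.mem_S hx, ?_⟩, fun y hy => ?_⟩
      · rw [← eg x hx]
        exact hi₀.1 x hx
      · obtain ⟨x, hx, e⟩ := hi₀.2 _ hy.2
        refine ⟨x, hx, ?_⟩
        rw [eg x hx] at e
        exact autFun_inj a e
    obtain ⟨Q, hQ⟩ : ∃ Q, Q = cjB a P'' := ⟨_, rfl⟩
    rw [← hQ] at hi
    have hiP : Img P'' (autFun a⁻¹) Q := by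
      rw [hQ]
      exact ⟨fun x hx => mem_cjB_of a hP''S hx, fun z hz => ⟨autFun a z, hz.2, autFun_inv_apply a z⟩⟩
    have hy' : Ny T Q (autFun a⁻¹ y) := hy.transport hT (mp_autFun_inv ha) hP''S (hTS hy.memT) hiP
    have hQS : Q ≤ S := hQ ▸ fun z hz => hz.1
    have hPQ : (f0 F E K).IsConj P Q := hg.isConj hi
    refine ⟨Q, hPQ, fun hle => ?_⟩
    haveI : Finite Q := finite_of_le hQS
    haveI : Finite (MulAut Q) := Cfsg.Agent.Lib.Fusion.Basic.finite_mulAut_of_finite (A := Q)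
    have hQp : IsPGroup p Q := hS.to_le hQS
    have hU : ∀ c ∈ (f0 F E K).autGroup Q, ∀ u ∈ Q ⊓ T, autFun c u ∈ Q ⊓ T := by
      intro c hc u hu
      have hm := mp_sub f0_sub (mp_autFun hQS hc)
      exact ⟨(img_autFun c).1 u hu.1, LiftX.sc_mp hT (hm.restrict inf_le_left) inf_le_right hu⟩
    have hWop : stabD ((f0 F E K).autGroup Q) (Q ⊓ T) inf_le_left ≤ opAut (f0 F E K) p Q :=
      le_opAut (fun b hb => (mem_stabD.1 hb).1) (stabD_pgroup hQp) (fun b hb w hw => stabD_conj hb hU hw)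
    have hmem := normAct_mem_autInducedBy S Q hy'.norm (hTS hy'.memT)
    have hcy : normAct Q hy'.norm ∈ stabD ((f0 F E K).autGroup Q) (Q ⊓ T) inf_le_left :=
      hy'.mem_stabD hT hQS (autInducedBy_le_autGroup _ hQS hmem)
    have h1 : normAct Q hy'.norm ∈ Inn Q := hle ⟨hmem, hWop hcy⟩
    exact hy'.notR (mem_of_normAct_mem_inn hQS (hP.2 Q hPQ) (hTS hy'.memT) hy'.norm h1)

theorem MM.tw (hTS : T ≤ S) (hSI : StrongInv F E) (hK : KOK F E p K) {b : MulAut T} (hb : b ∈ F.autGroup T) (h : MM E K X f) :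
    MM E K (cjB b X) (twB b f) := by
  obtain ⟨c, hc, u, hu, eu⟩ := h
  have hc' := hK.norm b⁻¹ (Subgroup.inv_mem _ hb) c hc
  refine ⟨b⁻¹ * c * b⁻¹⁻¹, hc', twB b u, tw_sI hTS hSI hb hu, fun y hy => ?_⟩
  show autFun b⁻¹ (f (autFun b y)) = autFun (b⁻¹ * c * b⁻¹⁻¹) (autFun b⁻¹ (u (autFun b y)))
  rw [eu _ hy.2, autFun_mul_apply, autFun_mul_apply, inv_inv, autFun_apply_inv]

/-- The restriction of an automorphism of `S` to a strongly closed subgroup. -/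
theorem exists_res (hT : F.StronglyClosed T) {a : MulAut S} (ha : a ∈ F.autGroup S) :
    ∃ b ∈ F.autGroup T, (∀ x ∈ T, autFun b x = autFun a x) ∧ ∀ x ∈ T, autFun b⁻¹ x = autFun a⁻¹ x := by
  have hTS : T ≤ S := hT.1
  have hiT : Img T (autFun a) T :=
    ⟨fun x hx => LiftX.sc_mp hT ((mp_autFun le_rfl ha).restrict hTS) le_rfl hx, fun y hy =>
      ⟨autFun a⁻¹ y, LiftX.sc_mp hT ((mp_autFun_inv ha).restrict hTS) le_rfl hy, autFun_apply_inv a y⟩⟩
  obtain ⟨b, hb, hbe⟩ := ((mp_autFun le_rfl ha).restrict hTS).toAut hiT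
  have hbf : ∀ x ∈ T, autFun b x = autFun a x := fun x hx => by
    rw [autFun_of_mem b hx]
    exact hbe ⟨x, hx⟩
  refine ⟨b, hb, hbf, fun x hx => ?_⟩
  have hz : autFun a⁻¹ x ∈ T := LiftX.sc_mp hT ((mp_autFun_inv ha).restrict hTS) le_rfl hx
  have h1 := autFun_inv_apply b (autFun a⁻¹ x)
  rw [hbf _ hz, autFun_apply_inv] at h1
  exact h1

theorem Setup.tw (H : Setup F E p K) {a : MulAut S} (ha : a ∈ F.autGroup S) (h : Mp (f0 F E K) X f) :
    Mp (f0 F E K) (cjB a X) (twB a f) := by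
  have hT := H.hT
  have hTS : T ≤ S := hT.1
  have hfam : InFamG F E K (conjSysB (f0 F E K) a) := by
    intro X f hX hf hm
    have hXS : X ≤ S := hX.1.1
    refine mp_conjSysB.2 ⟨hXS, f0_gen ?_ (mp_twB ha hf) ?_⟩
    · refine Hh.of_isConj hT hX (((mp_autFun_inv ha).restrict hXS).isConj ?_)
      exact ⟨fun x hx => mem_cjB_of a hXS hx, fun z hz => ⟨autFun a z, hz.2, autFun_inv_apply a z⟩⟩
    · obtain ⟨b, hb, hbf, hbi⟩ := exists_res hT ha
      have h1 := hm.tw hTS H.hSI H.hK hb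
      refine (h1.restrict (Y := cjB a X ⊓ T) (fun y hy => ⟨hy.2, ?_⟩)).congr (fun y hy => ?_)
      · show autFun b y ∈ X ⊓ T
        rw [hbf y hy.2]
        exact ⟨hy.1.2, LiftX.sc_mp hT ((mp_autFun le_rfl ha).restrict hTS) le_rfl hy.2⟩
      · have h2 : autFun a y ∈ X ⊓ T := ⟨hy.1.2, LiftX.sc_mp hT ((mp_autFun le_rfl ha).restrict hTS) le_rfl hy.2⟩
        show autFun b⁻¹ (f (autFun b y)) = autFun a⁻¹ (f (autFun a y))
        rw [hbf y hy.2, hbi _ (hm.mem_T h2)]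
  exact (mp_conjSysB.1 (f0_min hfam h)).2

/-- **The subsystem is normal.** -/
theorem Setup.isNormalIn (H : Setup F E p K) : (f0 F E K).IsNormalIn F p := by
  refine ⟨⟨H.saturated, H.hF, f0_sub, sc_top, ?_, ?_⟩, ?_⟩
  · intro P hPT φ hφ α hα
    have h1 := H.tw (Subgroup.inv_mem _ hα) (mp_of_hom hφ)
    have hU : cjB α⁻¹ P = (P.subgroupOf S).map (S.subtype.comp α.toMonoidHom) := by
      ext y
      constructor
      · rintro ⟨h2, h3⟩
        refine ⟨α⁻¹ ⟨y, h2⟩, ?_, ?_⟩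
        · show ((α⁻¹ ⟨y, h2⟩ : S) : Ω) ∈ P
          rwa [autFun_of_mem _ h2] at h3
        · show ((α (α⁻¹ ⟨y, h2⟩) : S) : Ω) = y
          simp
      · rintro ⟨x, hx, rfl⟩
        refine ⟨(α x).2, ?_⟩
        show autFun α⁻¹ ((α x : S) : Ω) ∈ P
        rw [autFun_coe, MulAut.inv_apply_self]
        exact hx
    rw [hU] at h1
    obtain ⟨χ, hχ, e⟩ := h1
    refine ⟨χ, hχ, fun x hφx hαx => ?_⟩
    rw [e]
    show autFun α⁻¹⁻¹ (extOf φ (autFun α⁻¹ ((α ⟨x, hPT x.2⟩ : S) : Ω))) = _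
    rw [autFun_coe]
    have e1 : α⁻¹ (α ⟨x, hPT x.2⟩) = ⟨x, hPT x.2⟩ := MulAut.inv_apply_self _ _ _
    rw [e1, inv_inv]
    show autFun α (extOf φ (x : Ω)) = _
    rw [extOf_coe]
    exact autFun_of_mem α hφx
  · intro P hPS φ hφ
    obtain ⟨a, ha, g, hg, -, eg⟩ := H.frat' (mp_of_hom hφ)
    obtain ⟨ψ, hψ, eψ⟩ := hg
    refine ⟨a, ha, ψ, hψ, fun x hx => ?_⟩
    have e1 := eg x x.2
    rw [extOf_coe] at e1
    rw [e1, ← eψ x, autFun_of_mem a hx]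
  · intro α hα
    exact (Cfsg.Agent.Lib.FusionExt.Comp1.isNormalIn_self H.hS H.hF).2 α
      (Cfsg.Agent.Lib.FusionExt.PIndex.autGroup_le_of_subsystem f0_sub le_rfl hα)

theorem Setup.index (H : Setup F E p K) : (f0 F E K).HasPrimeToPIndexIn F p := by
  refine ⟨f0_sub, fun P hP => ?_⟩
  rw [Subgroup.map_le_iff_le_comap]
  apply (Subgroup.closure_le _).2
  rintro β ⟨m, hm⟩
  have h1 : (β : MulAut P) ^ (p ^ m) = 1 := by
    have := pow_orderOf_eq_one β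
    rw [hm] at this
    exact congrArg Subtype.val this
  have h2 : Mp (Cfsg.Agent.Lib.FusionExt.PrimeRes1.e0 F p) P (autFun (β : MulAut P)) := e0_inFam.2 P hP _ (Pq.of_aut hP β.2 h1)
  exact (mem_autGroup_iff _ hP _).2 (hom_of_mp (H.of_e0 h2))

/-- The residual lies in the subsystem. -/
theorem Setup.residual_le (H : Setup F E p K) {R : FusionSystem S} (hR : F.IsPPrimeResidual p R) : R.IsSubsystemOf (f0 F E K) :=
  hR.2.2 _ H.saturated H.index

theorem hh_top (hT : F.StronglyClosed T) : Hh F T S :=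
  ⟨Cfsg.Agent.Lib.FusionTheory.Centric.isCentric_top F, gd_of_le hT hT.1⟩

theorem Setup.receptive_T (H : Setup F E p K) : F.IsReceptive T :=
  isReceptive_of_isFullyNormalized F H.hS H.hF (Cfsg.Agent.Lib.FusionExt.PPowerNormal.isFullyNormalized_of_stronglyClosed H.hT)

theorem Setup.hh_TC (H : Setup F E p K) : Hh F T (T ⊔ centralizerIn S T) :=
  ⟨Cfsg.Agent.Lib.FusionTheory.PStable.isCentric_sup_centralizer F (isFullyCentralized_of_isReceptive F H.receptive_T),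
    gd_of_le H.hT le_sup_left⟩

/-- A map in the class from `T` to `T`. -/
theorem MM.toK (hK : KOK F E p K) (h : MM E K T f) (hi : Img T f T) : ∃ β ∈ K, ∀ x ∈ T, autFun β x = f x := by
  obtain ⟨c, hc, u, hu, eu⟩ := h
  have hui : Img T u T := by
    refine ⟨fun x hx => hu.mem_S hx, fun y hy => ?_⟩
    have hy' : autFun c y ∈ T := autFun_mem c hy
    obtain ⟨x, hx, e⟩ := hi.2 _ hy'
    refine ⟨x, hx, ?_⟩
    rw [eu x hx] at e
    exact autFun_inj c e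
  obtain ⟨u', hu', hue⟩ := hu.toAut hui
  refine ⟨c * u', Subgroup.mul_mem _ hc (hK.auto hu'), fun x hx => ?_⟩
  rw [autFun_mul_apply, eu x hx, autFun_of_mem u' hx, hue ⟨x, hx⟩]

/-- **The automizer of `T`.** -/
theorem Setup.mem_aut_T (H : Setup F E p K) {a : MulAut T} : a ∈ (f0 F E K).autGroup T ↔ a ∈ K := by
  have hTS : T ≤ S := H.hT.1
  constructor
  · intro ha
    have h1 := H.tt (mp_autFun hTS ha)
    have hinf : T ⊓ T = T := inf_idem T
    rw [hinf] at h1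
    obtain ⟨β, hβ, e⟩ := h1.toK H.hK (img_autFun a)
    have e2 : a = β := by
      ext x
      have := e x x.2
      rw [autFun_coe, autFun_coe] at this
      exact this.symm
    rw [e2]
    exact hβ
  · intro ha
    have hm := mp_autFun (F := F) hTS (H.hK.le ha)
    obtain ⟨g, hg, hge⟩ := ext_cent H.receptive_T hm (img_autFun a)
    have h1 : Mp (f0 F E K) (T ⊔ centralizerIn S T) g := by
      refine f0_gen H.hh_TC hg ?_
      refine ((MM.of_K ha inf_le_right).congr (fun x hx => ?_))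
      exact (hge x hx.2).symm
    refine (mem_autGroup_iff _ hTS _).2 (hom_of_mp ((h1.restrict le_sup_left).congr hge))

/-- The automorphisms of `S` in the subsystem. -/
theorem Setup.mem_aut_S (H : Setup F E p K) {a : MulAut S} :
    a ∈ (f0 F E K).autGroup S ↔ a ∈ F.autGroup S ∧ ∃ β ∈ K, ∀ x ∈ T, autFun β x = autFun a x := by
  have hT := H.hT
  have hTS : T ≤ S := hT.1
  have hinf : S ⊓ T = T := inf_eq_right.2 hTS
  constructor
  · intro ha
    have haF := Cfsg.Agent.Lib.FusionExt.PIndex.autGroup_le_of_subsystem f0_sub le_rfl ha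
    refine ⟨haF, ?_⟩
    have h1 := H.tt (mp_autFun le_rfl ha)
    rw [hinf] at h1
    obtain ⟨b, hb, hbf, hbi⟩ := exists_res hT haF
    exact h1.toK H.hK ((img_autFun b).congr hbf)
  · rintro ⟨ha, β, hβ, e⟩
    refine (mem_autGroup_iff _ le_rfl _).2 (hom_of_mp (f0_gen (hh_top hT) (mp_autFun le_rfl ha) ?_))
    rw [hinf]
    exact (MM.of_K hβ le_rfl).congr e

/-- The intersection of a system over `T` with a system over `S`. -/
theorem interAx' (D : FusionSystem S) (hTS : T ≤ S) : SysAx T (fun X f => Mp E X f ∧ Mp D X f) := by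
  refine ⟨?_, ?_, ?_, ?_, ?_, ?_, ?_, ?_⟩
  · rintro X f g ⟨h1, h2⟩ e
    exact ⟨h1.congr e, h2.congr e⟩
  · rintro X f ⟨h1, -⟩
    exact h1.le
  · rintro X f x ⟨h1, -⟩ hx
    exact h1.mem_S hx
  · rintro X f x y ⟨h1, -⟩ hx hy
    exact h1.map_mul hx hy
  · rintro X f x y ⟨h1, -⟩ hx hy e
    exact h1.inj hx hy e
  · intro X c hX hc
    exact ⟨Mp.conj hX hc, Mp.conj (hX.trans hTS) (hTS hc)⟩
  · rintro X Y f g ⟨h1, h2⟩ hm ⟨g1, g2⟩
    exact ⟨h1.comp hm g1, h2.comp hm g2⟩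
  · rintro X Y f ⟨h1, h2⟩ hi
    obtain ⟨k, hk, a1, -, a3⟩ := h1.inverse hi
    refine ⟨k, ⟨hk, ?_⟩, a1⟩
    obtain ⟨k', hk', b1, -, -⟩ := h2.inverse hi
    refine hk'.congr (fun y hy => ?_)
    obtain ⟨x, hx, rfl⟩ := hi.2 y hy
    rw [b1 x hx, a1 x hx]

/-- **`E` is contained in the subsystem.** -/
theorem Setup.E_le (H : Setup F E p K) : E.IsSubsystemOf (f0 F E K) := by
  have hTS : T ≤ S := H.hT.1
  have hTp : IsPGroup p T := H.hS.to_le hTS
  haveI : Finite T := finite_of_le hTS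
  have hfam : InFamQ E p (mkSys (interAx' (E := E) (f0 F E K) hTS)) := by
    refine ⟨fun P φ hφ => hom_of_mp ((mp_mkSys _).1 (mp_of_hom hφ)).1, fun Q hQ f hf => (mp_mkSys _).2 ⟨hf.1, ?_⟩⟩
    have h1 : Pq F p Q f := ⟨mp_sub H.hsub hf.1, hf.2.1, hf.2.2⟩
    exact H.of_e0 (e0_inFam.2 Q (hQ.trans hTS) _ h1)
  intro P φ hφ
  obtain ⟨a, ha, g, hg, eg⟩ := frat hTp H.hEs P (extOf φ) (mp_of_hom hφ)
  have h1 : Mp (f0 F E K) P g := ((mp_mkSys _).1 (e0_min hfam hg)).2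
  have h2 : Mp (f0 F E K) T (autFun a) := mp_autFun hTS (H.mem_aut_T.2 (H.hK.auto ha))
  have h3 : Mp (f0 F E K) P (fun x => autFun a (g x)) := h1.comp (Y := T) (fun x hx => hg.mem_S hx) h2
  exact hom_of_mp (h3.congr (fun x hx => (eg x hx).symm))

end main5

end Cfsg.Agent.Lib.Fusion.ChiK
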