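import Cfsg.Agent.Lib.Fusion.ChiK

/-!
# Lifting maps modulo a strongly closed subgroup (helper20)

For `T` strongly closed in the saturated system `F` and a map `f` of `F` on `P`, there is a map `g` of `F` on `P T` with `f ≡ g` modulo `T` on `P`.
-/

set_option autoImplicit false

namespace Cfsg.Agent.Lib.Fusion.ChiK2

open Cfsg Cfsg.FusionSystem Cfsg.Agent.Lib.Fusion.Basic Cfsg.Agent.Lib.Fusion.GroupSystem
open Cfsg.Agent.Lib.FusionExt.MapApi Cfsg.Agent.Lib.FusionExt.Basic Cfsg.Agent.Lib.FusionExt.Normal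
open Cfsg.Agent.Lib.FusionExt.PowerSys Cfsg.Agent.Lib.FusionExt.PowerGen Cfsg.Agent.Lib.FusionExt.PrimeRes1
open Cfsg.Agent.Lib.FusionExt.PrimeRes2 Cfsg.Agent.Lib.Fusion.Saturation Cfsg.Agent.Lib.Fusion.Saturation2
open Cfsg.Agent.Lib.FusionExt.SatCrit1 Cfsg.Agent.Lib.FusionExt.Invariant Cfsg.Agent.Lib.FusionExt.PowerE
open Cfsg.Agent.Lib.FusionExt.LowPi Cfsg.Agent.Lib.FusionExt.CentSys
open Cfsg.Agent.Lib.FusionExt.FixQ Cfsg.Agent.Lib.FusionExt.PPrimeMin Cfsg.Agent.Lib.Fusion.LiftX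
open Cfsg.Agent.Lib.Fusion.ChiK

variable {Ω : Type*} [Group Ω] {S T : Subgroup Ω} {F : FusionSystem S} {p : ℕ}
variable {X Y Q R : Subgroup Ω} {f g h k : Ω → Ω}

/-- `f` agrees modulo `T` with a map on `P T`. -/
def Lf (F : FusionSystem S) (T P : Subgroup Ω) (f : Ω → Ω) : Prop :=
  ∃ g, Mp F (P ⊔ T) g ∧ ∀ x ∈ P, (g x)⁻¹ * f x ∈ T

theorem Lf.congr (h1 : Lf F T X f) (e : ∀ x ∈ X, f x = g x) : Lf F T X g := by
  obtain ⟨u, hu, eu⟩ := h1
  exact ⟨u, hu, fun x hx => by rw [← e x hx]; exact eu x hx⟩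

theorem Lf.restrict (h1 : Lf F T X f) (hY : Y ≤ X) : Lf F T Y f := by
  obtain ⟨u, hu, eu⟩ := h1
  exact ⟨u, hu.restrict (sup_le_sup_right hY T), fun x hx => eu x (hY hx)⟩

theorem Lf.comp (hT : F.StronglyClosed T) (h1 : Lf F T X f) (hm : ∀ x ∈ X, f x ∈ Y) (h2 : Lf F T Y k) :
    Lf F T X (fun x => k (f x)) := by
  obtain ⟨g₁, hg₁, e₁⟩ := h1
  obtain ⟨g₂, hg₂, e₂⟩ := h2
  have hTg₁ : ∀ t ∈ T, g₁ t ∈ T := fun t ht => LiftX.sc_mp hT (hg₁.restrict le_sup_right) le_rfl ht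
  have hTg₂ : ∀ t ∈ T, g₂ t ∈ T := fun t ht => LiftX.sc_mp hT (hg₂.restrict le_sup_right) le_rfl ht
  have hmaps : ∀ z ∈ X ⊔ T, g₁ z ∈ Y ⊔ T := by
    refine maps_sup hg₁ (fun x hx => ?_) (fun t ht => Subgroup.mem_sup_right (hTg₁ t ht))
    have e : g₁ x = f x * ((g₁ x)⁻¹ * f x)⁻¹ := by group
    rw [e]
    exact Subgroup.mul_mem _ (Subgroup.mem_sup_left (hm x hx)) (Subgroup.mem_sup_right (T.inv_mem (e₁ x hx)))
  refine ⟨fun z => g₂ (g₁ z), hg₁.comp hmaps hg₂, fun x hx => ?_⟩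
  have ht := e₁ x hx
  have hx₁ : g₁ x ∈ Y ⊔ T := hmaps x (Subgroup.mem_sup_left hx)
  have e1 : f x = g₁ x * ((g₁ x)⁻¹ * f x) := by group
  have e2 : g₂ (f x) = g₂ (g₁ x) * g₂ ((g₁ x)⁻¹ * f x) := by
    rw [← hg₂.map_mul hx₁ (Subgroup.mem_sup_right ht), ← e1]
  have h3 := e₂ _ (hm x hx)
  have e3 : (g₂ (g₁ x))⁻¹ * k (f x) = g₂ ((g₁ x)⁻¹ * f x) * ((g₂ (f x))⁻¹ * k (f x)) := by
    rw [e2]
    group
  show (g₂ (g₁ x))⁻¹ * k (f x) ∈ T
  rw [e3]
  exact T.mul_mem (hTg₂ _ ht) h3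

theorem Lf.inv [Finite S] (hT : F.StronglyClosed T) (h1 : Lf F T X f) (hk : ∀ y ∈ Y, f (k y) = y) (hkm : ∀ y ∈ Y, k y ∈ X)
    (hf : ∀ x ∈ X, f x ∈ Y) : Lf F T Y k := by
  have hTS : T ≤ S := hT.1
  obtain ⟨g₁, hg₁, e₁⟩ := h1
  have hg₁T := hg₁.restrict (le_sup_right : T ≤ X ⊔ T)
  have hTg₁ : ∀ t ∈ T, g₁ t ∈ T := fun t ht => LiftX.sc_mp hT hg₁T le_rfl ht
  have hiT : Img T g₁ T := Cfsg.Agent.Lib.FusionExt.LowPi.img_self hg₁T hTg₁
  obtain ⟨Z, hZ⟩ := hg₁.exists_img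
  have hTZ : T ≤ Z := by
    intro t ht
    obtain ⟨t', ht', rfl⟩ := hiT.2 t ht
    exact hZ.1 _ (Subgroup.mem_sup_right ht')
  have hYZ : Y ≤ Z := by
    intro y hy
    have hx := hkm y hy
    have e : y = g₁ (k y) * ((g₁ (k y))⁻¹ * f (k y)) := by
      rw [hk y hy]
      group
    rw [e]
    exact Z.mul_mem (hZ.1 _ (Subgroup.mem_sup_left hx)) (hTZ (by
      have := e₁ _ hx
      rwa [hk y hy] at this ⊢))
  have hZle : Z ≤ Y ⊔ T := by
    intro z hz
    obtain ⟨w, hw, rfl⟩ := hZ.2 z hz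
    refine maps_sup hg₁ (fun x hx => ?_) (fun t ht => Subgroup.mem_sup_right (hTg₁ t ht)) w hw
    have e : g₁ x = f x * ((g₁ x)⁻¹ * f x)⁻¹ := by group
    rw [e]
    exact Subgroup.mul_mem _ (Subgroup.mem_sup_left (hf x hx)) (Subgroup.mem_sup_right (T.inv_mem (e₁ x hx)))
  have hZe : Z = Y ⊔ T := le_antisymm hZle (sup_le hYZ hTZ)
  rw [hZe] at hZ
  obtain ⟨g', hg', a1, a2, a3⟩ := hg₁.inverse hZ
  refine ⟨g', hg', fun y hy => ?_⟩
  have hx := hkm y hy
  have hxL : k y ∈ X ⊔ T := Subgroup.mem_sup_left hx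
  have ht : (g₁ (k y))⁻¹ * y ∈ T := by
    have := e₁ _ hx
    rwa [hk y hy] at this
  have e1 : y = g₁ (k y) * ((g₁ (k y))⁻¹ * y) := by group
  have e2 : g' y = k y * g' ((g₁ (k y))⁻¹ * y) := by
    have hgx : g₁ (k y) ∈ Y ⊔ T := hZ.1 _ hxL
    conv_lhs => rw [e1]
    rw [hg'.map_mul hgx (Subgroup.mem_sup_right ht), a1 _ hxL]
  have hg't : g' ((g₁ (k y))⁻¹ * y) ∈ T :=
    LiftX.sc_mp hT (hg'.restrict (le_sup_right : T ≤ Y ⊔ T)) le_rfl ht
  rw [e2]
  have e3 : (k y * g' ((g₁ (k y))⁻¹ * y))⁻¹ * k y = (g' ((g₁ (k y))⁻¹ * y))⁻¹ := by group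
  rw [e3]
  exact T.inv_mem hg't

theorem Lf.of_le (hTX : T ≤ X) (hf : Mp F X f) : Lf F T X f := by
  have e : X ⊔ T = X := sup_eq_left.2 hTX
  refine ⟨f, by rwa [e], fun x _ => ?_⟩
  rw [inv_mul_cancel]
  exact T.one_mem

section main

variable [Finite S] [Fact p.Prime]

/-- The step for an automorphism of a fully normalized subgroup. -/
theorem aut_step (hS : IsPGroup p S) (hF : F.IsSaturated p) (hT : F.StronglyClosed T) (hfn : F.IsFullyNormalized R) (hRT : ¬ T ≤ R)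
    (hH : ∀ (X : Subgroup Ω) (f : Ω → Ω), Mp F X f → Nat.card R < Nat.card X → Lf F T X f)
    (β : MulAut R) (hβ : β ∈ F.autGroup R) : Lf F T R (autFun β) := by
  have hTS : T ≤ S := hT.1
  have hR := hfn.1
  haveI : Finite R := finite_of_le hR
  haveI : Finite (MulAut R) := Cfsg.Agent.Lib.Fusion.Basic.finite_mulAut_of_finite (A := R)
  have hA := isFullyAutomized_of_isFullyNormalized F hS hF hfn
  have hrc := isReceptive_of_isFullyNormalized F hS hF hfn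
  -- the maps trivial modulo `T`
  let B : Subgroup (MulAut R) :=
    { carrier := {b | b ∈ F.autGroup R ∧ ∀ x ∈ R, x⁻¹ * autFun b x ∈ T}
      one_mem' := ⟨Subgroup.one_mem _, fun x _ => by
        rw [autFun_one_apply, inv_mul_cancel]
        exact T.one_mem⟩
      mul_mem' := by
        rintro a b ⟨h1, h2⟩ ⟨h3, h4⟩
        refine ⟨Subgroup.mul_mem _ h1 h3, fun x hx => ?_⟩
        rw [autFun_mul_apply]
        have e : x⁻¹ * autFun a (autFun b x) = (x⁻¹ * autFun b x) * ((autFun b x)⁻¹ * autFun a (autFun b x)) := by group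
        rw [e]
        exact T.mul_mem (h4 x hx) (h2 _ (autFun_mem b hx))
      inv_mem' := by
        rintro a ⟨h1, h2⟩
        refine ⟨Subgroup.inv_mem _ h1, fun x hx => ?_⟩
        have h3 := h2 _ (autFun_mem a⁻¹ hx)
        rw [autFun_apply_inv] at h3
        have e : x⁻¹ * autFun a⁻¹ x = ((autFun a⁻¹ x)⁻¹ * x)⁻¹ := by group
        rw [e]
        exact T.inv_mem h3 }
  have hB : ∀ {b}, b ∈ B ↔ b ∈ F.autGroup R ∧ ∀ x ∈ R, x⁻¹ * autFun b x ∈ T := Iff.rfl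
  have hBA : B ≤ F.autGroup R := fun b hb => (hB.1 hb).1
  have hconj : ∀ a ∈ F.autGroup R, ∀ b ∈ B, a * b * a⁻¹ ∈ B := by
    intro a ha b hb
    obtain ⟨h1, h2⟩ := hB.1 hb
    refine hB.2 ⟨Subgroup.mul_mem _ (Subgroup.mul_mem _ ha h1) (Subgroup.inv_mem _ ha), fun x hx => ?_⟩
    rw [autFun_mul_apply, autFun_mul_apply]
    have hy : autFun a⁻¹ x ∈ R := autFun_mem _ hx
    have ht := h2 _ hy
    have hbt : (autFun a⁻¹ x)⁻¹ * autFun b (autFun a⁻¹ x) ∈ R := R.mul_mem (R.inv_mem hy) (autFun_mem b hy)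
    have e : autFun b (autFun a⁻¹ x) = autFun a⁻¹ x * ((autFun a⁻¹ x)⁻¹ * autFun b (autFun a⁻¹ x)) := by group
    rw [e, autFun_mul a hy hbt, autFun_apply_inv, inv_mul_cancel_left]
    exact LiftX.sc_mp hT ((mp_autFun hR ha).restrict (inf_le_left : R ⊓ T ≤ R)) inf_le_right ⟨hbt, ht⟩
  have hsyl : IsSylowIn p (autInducedBy S R) (F.autGroup R) := hA.2
  have hPA : autInducedBy S R ≤ F.autGroup R := autInducedBy_le_autGroup F hR
  have hsylB := hsyl.inf_normal hPA hBA hconj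
  have hWp : IsPGroup p ↥(autInducedBy S R ⊓ B) := (isPGroup_autInducedBy R hS).to_inf_left
  let U : Subgroup (MulAut R) := (autInducedBy S R ⊓ B).map (MulAut.conj β).toMonoidHom
  have hUB : U ≤ B := by
    rintro _ ⟨w, hw, rfl⟩
    exact hconj β hβ w hw.2
  have hUp : IsPGroup p U := hWp.map _
  obtain ⟨b, hb, hbc⟩ := hsylB.exists_conj hUB hUp
  let n : MulAut R := b * β
  have hn : n ∈ F.autGroup R := Subgroup.mul_mem _ (hBA hb) hβ
  have hnW : ∀ w ∈ autInducedBy S R ⊓ B, n * w * n⁻¹ ∈ autInducedBy S R ⊓ B := by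
    intro w hw
    have h1 := hbc _ ⟨w, hw, rfl⟩
    have e : b * (MulAut.conj β).toMonoidHom w * b⁻¹ = n * w * n⁻¹ := by
      show b * (β * w * β⁻¹) * b⁻¹ = (b * β) * w * (b * β)⁻¹
      group
    rwa [e] at h1
  -- an element of `N_T(R)` outside `R`
  have hne : R ≠ R ⊔ T := fun e => hRT (e ▸ le_sup_right)
  obtain ⟨y₀, hy₀B, hy₀R, hy₀N⟩ := exists_normalizing hS le_sup_left hne (sup_le hR hTS)
  have hRnT : R ≤ Subgroup.normalizer (T : Set Ω) := fun r hr => sc_le_normalizer F hT (hR hr)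
  obtain ⟨r, hr, t, ht, rfl⟩ := exists_mul_of_mem_sup' hRnT hy₀B
  have htR : t ∉ R := fun h => hy₀R (R.mul_mem hr h)
  have htN : t ∈ Subgroup.normalizer (R : Set Ω) := by
    have := Subgroup.mul_mem _ (Subgroup.inv_mem _ (Subgroup.le_normalizer hr)) hy₀N
    rwa [inv_mul_cancel_left] at this
  have hcP : normAct R htN ∈ autInducedBy S R := normAct_mem_autInducedBy S R htN (hTS ht)
  have hcB : normAct R htN ∈ B := by
    refine hB.2 ⟨hPA hcP, fun x hx => ?_⟩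
    rw [autFun_of_mem _ hx]
    show x⁻¹ * (t * x * t⁻¹) ∈ T
    have e : x⁻¹ * (t * x * t⁻¹) = (x⁻¹ * t * x) * t⁻¹ := by group
    rw [e]
    have h1 := sc_conj_mem F hT (S.inv_mem (hR hx)) ht
    rw [inv_inv] at h1
    exact T.mul_mem h1 (T.inv_mem ht)
  obtain ⟨s, hs, hse⟩ := (mem_autInducedBy_iff S R _).1 (hnW _ ⟨hcP, hcB⟩).1
  obtain ⟨Y, hYdef⟩ : ∃ Y, Y = extender S R (autHom n) := ⟨_, rfl⟩
  have hRY : R ≤ Y := hYdef ▸ le_extender F (autHom_mem F hR hn)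
  have htY : t ∈ Y := by
    rw [hYdef]
    refine mem_extender_of (autHom n) (hTS ht) htN hs (fun x => ?_)
    have e1 := hse (n x)
    have e2 : (n * normAct R htN * n⁻¹) (n x) = n (normAct R htN x) := by
      show n (normAct R htN (n⁻¹ (n x))) = _
      rw [MulAut.inv_apply_self]
    rw [e2] at e1
    exact e1
  obtain ⟨g₀, hg₀, hge⟩ := (mp_autFun hR hn).ext_rec hrc (img_autFun n) hRY (fun z hz => by
    rw [hYdef] at hz
    obtain ⟨h5, h6, c, hc, h7⟩ := (mem_extender_iff (autHom n)).1 hz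
    refine ⟨h5, h6, c, hc, fun x hx => ?_⟩
    have hx' : z * x * z⁻¹ ∈ R := norm_conj h6 hx
    have h8 := h7 ⟨x, hx⟩ hx'
    rw [autFun_of_mem _ hx', autFun_of_mem _ hx]
    exact h8)
  have hlt : Nat.card R < Nat.card Y := card_lt_of_lt hRY (fun e => htR (e ▸ htY)) hg₀.le
  obtain ⟨g, hg, eg⟩ := ((hH _ _ hg₀ hlt).restrict hRY).congr hge
  refine ⟨g, hg, fun x hx => ?_⟩
  have e1 : autFun β x = autFun b⁻¹ (autFun n x) := by
    show _ = autFun b⁻¹ (autFun (b * β) x)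
    rw [autFun_mul_apply, autFun_inv_apply]
  rw [e1]
  have h1 := eg x hx
  have h2 := (hB.1 (B.inv_mem hb)).2 _ (autFun_mem n hx)
  have e2 : (g x)⁻¹ * autFun b⁻¹ (autFun n x) = ((g x)⁻¹ * autFun n x) * ((autFun n x)⁻¹ * autFun b⁻¹ (autFun n x)) := by group
  rw [e2]
  exact T.mul_mem h1 h2

/-- **Every map lifts modulo `T`.** -/
theorem lf_main (hS : IsPGroup p S) (hF : F.IsSaturated p) (hT : F.StronglyClosed T) :
    ∀ (P : Subgroup Ω) (f : Ω → Ω), Mp F P f → Lf F T P f := by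
  have key : ∀ (d : ℕ) (P : Subgroup Ω) (f : Ω → Ω), Nat.card S - Nat.card P = d → Mp F P f → Lf F T P f := by
    intro d
    induction d using Nat.strong_induction_on with
    | _ d ih =>
    intro P f hd hf
    have hH : ∀ (X : Subgroup Ω) (f : Ω → Ω), Mp F X f → Nat.card P < Nat.card X → Lf F T X f := by
      intro X f' hf' hlt
      have h1 : Nat.card X ≤ Nat.card S := card_le_S hf'.le
      exact ih (Nat.card S - Nat.card X) (by omega) X f' rfl hf'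
    have hPS : P ≤ S := hf.le
    by_cases hTP : T ≤ P
    · exact Lf.of_le hTP hf
    have hPe : P ≠ S := fun e => hTP (e ▸ hT.1)
    obtain ⟨Q', hQ'⟩ := hf.exists_img
    have hcQ : Nat.card Q' = Nat.card P := hf.card_img hQ'
    obtain ⟨R', hPR', hfn⟩ := exists_isFullyNormalized F hPS
    have hA := isFullyAutomized_of_isFullyNormalized F hS hF hfn
    have hrc := isReceptive_of_isFullyNormalized F hS hF hfn
    have hPQ' : F.IsConj P Q' := hf.isConj hQ'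
    have hQ'R' : F.IsConj Q' R' := isConj_trans F (isConj_symm F hPQ') hPR'
    obtain ⟨μ, hμ, -, hμr⟩ := exists_normalizer_map F hS hA hrc hPR'
    obtain ⟨ν, hν, -, hνr⟩ := exists_normalizer_map F hS hA hrc hQ'R'
    have hQ'S : Q' ≤ S := hf.img_le hQ'
    have hcR : Nat.card R' = Nat.card P := (isConj_card_eq F hPR').symm
    have hQ'ne : Q' ≠ S := by
      intro e
      apply hPe
      refine eq_of_le_of_card hPS ?_ le_rfl
      rw [← hcQ, e]
    have hR'T : ¬ T ≤ R' := by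
      intro hle
      -- then `T` is in the image of `P`
      obtain ⟨θ, hθ, hθr⟩ := isConj_symm F hPR'
      apply hTP
      intro t ht
      have hi := img_range hθr
      have hmT : Mp F T (extOf θ) := (mp_of_hom hθ).restrict hle
      have hiT : Img T (extOf θ) T :=
        Cfsg.Agent.Lib.FusionExt.LowPi.img_self hmT (fun x hx => LiftX.sc_mp hT hmT le_rfl hx)
      obtain ⟨t', ht', rfl⟩ := hiT.2 t ht
      exact hi.1 _ (hle ht')
    have hgrow : ∀ {A : Subgroup Ω}, A ≤ S → A ≠ S → Nat.card A < Nat.card (normalizerIn S A) := by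
      intro A hAS hAne
      obtain ⟨y, hyS, hyA, hyN⟩ := exists_normalizing hS hAS hAne le_rfl
      refine card_lt_of_lt (fun x hx => ⟨hAS hx, Subgroup.le_normalizer hx⟩) (fun e => hyA ?_) inf_le_left
      rw [e]
      exact ⟨hyS, hyN⟩
    have hPN : P ≤ normalizerIn S P := fun x hx => ⟨hPS hx, Subgroup.le_normalizer hx⟩
    have hQN : Q' ≤ normalizerIn S Q' := fun x hx => ⟨hQ'S hx, Subgroup.le_normalizer hx⟩
    have hμF : Lf F T P (extOf μ) := (hH _ _ (mp_of_hom hμ) (hgrow hPS hPe)).restrict hPN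
    have hνF : Lf F T Q' (extOf ν) := (hH _ _ (mp_of_hom hν) (by
      have := hgrow hQ'S hQ'ne
      omega)).restrict hQN
    have hiμ := img_of_normalizer_map hPN μ hμr
    have hiν := img_of_normalizer_map hQN ν hνr
    have hμP : Mp F P (extOf μ) := (mp_of_hom hμ).restrict hPN
    have hνQ : Mp F Q' (extOf ν) := (mp_of_hom hν).restrict hQN
    obtain ⟨μ', hμ', a1, a2, a3⟩ := hμP.inverse hiμ
    obtain ⟨ν', hν', c1, c2, c3⟩ := hνQ.inverse hiν
    -- the automorphism of `R'`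
    have hαM : Mp F R' (fun y => extOf ν (f (μ' y))) :=
      (hμ'.comp a3.1 hf).comp (fun y hy => hQ'.1 _ (a3.1 y hy)) hνQ
    have hαI : Img R' (fun y => extOf ν (f (μ' y))) R' :=
      (a3.comp hQ').comp hiν
    obtain ⟨α, hα, hαe⟩ := hαM.toAut hαI
    have hαF : Lf F T R' (fun y => extOf ν (f (μ' y))) :=
      (aut_step hS hF hT hfn hR'T (by rwa [hcR]) α hα).congr (fun y hy => by
        rw [autFun_of_mem _ hy, hαe ⟨y, hy⟩])
    -- assembling
    have h1 : Lf F T P (fun x => (fun y => extOf ν (f (μ' y))) (extOf μ x)) := Lf.comp (f := extOf μ) (k := fun y => extOf ν (f (μ' y))) hT hμF hiμ.1 hαF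
    have hν'F : Lf F T R' ν' := Lf.inv hT hνF c2 c3.1 hiν.1
    have h2 := h1.comp hT (Y := R') (fun x hx => hαI.1 _ (hiμ.1 x hx)) hν'F
    refine h2.congr (fun x hx => ?_)
    show ν' (extOf ν (f (μ' (extOf μ x)))) = f x
    rw [a1 x hx, c1 _ (hQ'.1 x hx)]
  exact fun P f hf => key _ P f rfl hf

end main

end Cfsg.Agent.Lib.Fusion.ChiK2
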