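import Cfsg.Agent.Lib.Fusion.ChiK2

/-!
# The subgroup of `S` acting on `T` through a normal subgroup of `Aut_F(T)`; `p'`-automorphisms (helper20)
-/

set_option autoImplicit false

namespace Cfsg.Agent.Lib.Fusion.ChiK3

open Cfsg Cfsg.FusionSystem Cfsg.Agent.Lib.Fusion.Basic Cfsg.Agent.Lib.Fusion.GroupSystem
open Cfsg.Agent.Lib.FusionExt.MapApi Cfsg.Agent.Lib.FusionExt.Basic Cfsg.Agent.Lib.FusionExt.Normal
open Cfsg.Agent.Lib.FusionExt.PowerSys Cfsg.Agent.Lib.FusionExt.PowerGen Cfsg.Agent.Lib.FusionExt.PrimeRes1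
open Cfsg.Agent.Lib.FusionExt.PrimeRes2 Cfsg.Agent.Lib.Fusion.Saturation Cfsg.Agent.Lib.Fusion.Saturation2
open Cfsg.Agent.Lib.FusionExt.SatCrit1 Cfsg.Agent.Lib.FusionExt.Invariant Cfsg.Agent.Lib.FusionExt.PowerE
open Cfsg.Agent.Lib.FusionExt.LowPi Cfsg.Agent.Lib.FusionExt.CentSys
open Cfsg.Agent.Lib.FusionExt.FixQ Cfsg.Agent.Lib.FusionExt.PPrimeMin Cfsg.Agent.Lib.Fusion.LiftX
open Cfsg.Agent.Lib.Fusion.ChiK Cfsg.Agent.Lib.Fusion.ChiK2

variable {Ω : Type*} [Group Ω] {S T : Subgroup Ω} {F : FusionSystem S} {E : FusionSystem T} {p : ℕ}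
variable {X Y Q R : Subgroup Ω} {f g h k : Ω → Ω} {K : Subgroup (MulAut T)}

/-- The elements of `S` acting on `T` through `K`. -/
def kerK (S : Subgroup Ω) (hn : ∀ s ∈ S, ∀ t ∈ T, s * t * s⁻¹ ∈ T) (K : Subgroup (MulAut T)) : Subgroup Ω where
  carrier := {s | s ∈ S ∧ ∃ c ∈ K, ∀ t ∈ T, autFun c t = s * t * s⁻¹}
  mul_mem' := by
    rintro a b ⟨h1, c₁, hc₁, e₁⟩ ⟨h2, c₂, hc₂, e₂⟩
    refine ⟨S.mul_mem h1 h2, c₁ * c₂, K.mul_mem hc₁ hc₂, fun t ht => ?_⟩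
    rw [autFun_mul_apply, e₂ t ht, e₁ _ (hn b h2 t ht)]
    group
  one_mem' := ⟨S.one_mem, 1, K.one_mem, fun t _ => by
    rw [autFun_one_apply]
    group⟩
  inv_mem' := by
    rintro a ⟨h1, c, hc, e⟩
    refine ⟨S.inv_mem h1, c⁻¹, K.inv_mem hc, fun t ht => ?_⟩
    have h2 := hn a⁻¹ (S.inv_mem h1) t ht
    have h3 := e _ h2
    have e1 : a * (a⁻¹ * t * a⁻¹⁻¹) * a⁻¹ = t := by group
    rw [e1] at h3
    have h4 := autFun_inv_apply c (a⁻¹ * t * a⁻¹⁻¹)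
    rw [h3] at h4
    exact h4

theorem mem_kerK {hn : ∀ s ∈ S, ∀ t ∈ T, s * t * s⁻¹ ∈ T} {s : Ω} :
    s ∈ kerK S hn K ↔ s ∈ S ∧ ∃ c ∈ K, ∀ t ∈ T, autFun c t = s * t * s⁻¹ := Iff.rfl

theorem kerK_le {hn : ∀ s ∈ S, ∀ t ∈ T, s * t * s⁻¹ ∈ T} : kerK S hn K ≤ S := fun _ h => h.1

/-- The restriction to `T` of a map on a subgroup containing `T`. -/
theorem exists_alpha [Finite S] (hT : F.StronglyClosed T) (hXT : T ≤ X) (hg : Mp F X g) :
    ∃ α ∈ F.autGroup T, ∀ t ∈ T, autFun α t = g t := by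
  have hm := hg.restrict hXT
  obtain ⟨α, hα, e⟩ := hm.toAut (Cfsg.Agent.Lib.FusionExt.LowPi.img_self hm (fun x hx => LiftX.sc_mp hT hm le_rfl hx))
  refine ⟨α, hα, fun t ht => ?_⟩
  rw [autFun_of_mem α ht]
  exact e ⟨t, ht⟩

/-- The action of the image. -/
theorem act_image (hT : F.StronglyClosed T) (hg : Mp F (X ⊔ T) g) {α c : MulAut T} (hα : ∀ t ∈ T, autFun α t = g t) {x : Ω} (hx : x ∈ X)
    (hc : ∀ t ∈ T, autFun c t = x * t * x⁻¹) : ∀ t ∈ T, autFun (α * c * α⁻¹) t = g x * t * (g x)⁻¹ := by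
  intro t ht
  rw [autFun_mul_apply, autFun_mul_apply]
  have h1 : autFun α⁻¹ t ∈ T := autFun_mem _ ht
  have h2 : autFun c (autFun α⁻¹ t) ∈ T := autFun_mem _ h1
  rw [hα _ h2, hc _ h1]
  have hxL : x ∈ X ⊔ T := Subgroup.mem_sup_left hx
  have hyL : autFun α⁻¹ t ∈ X ⊔ T := Subgroup.mem_sup_right h1
  rw [hg.map_mul (Subgroup.mul_mem _ hxL hyL) (Subgroup.inv_mem _ hxL), hg.map_mul hxL hyL, hg.map_inv hxL, ← hα _ h1, autFun_apply_inv]

section main

variable [Finite S] [Fact p.Prime]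

/-- **`kerK` is strongly closed.** -/
theorem kerK_sc (hS : IsPGroup p S) (hF : F.IsSaturated p) (hT : F.StronglyClosed T) {hn : ∀ s ∈ S, ∀ t ∈ T, s * t * s⁻¹ ∈ T}
    (hKn : ∀ a ∈ F.autGroup T, ∀ c ∈ K, a * c * a⁻¹ ∈ K) (hInn : ∀ t ∈ T, ∃ c ∈ K, ∀ u ∈ T, autFun c u = t * u * t⁻¹) :
    F.StronglyClosed (kerK S hn K) := by
  refine ⟨kerK_le, fun P hP φ hφ x => ?_⟩
  have hm := mp_of_hom hφ
  obtain ⟨g, hg, eg⟩ := lf_main hS hF hT P _ hm
  obtain ⟨α, hα, hαe⟩ := exists_alpha hT le_sup_right hg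
  obtain ⟨-, c, hc, hce⟩ := hP x.2
  have h1 := act_image hT hg hαe x.2 hce
  have h2 := eg x x.2
  obtain ⟨d, hd, hde⟩ := hInn _ h2
  rw [extOf_coe] at h2 hde
  refine ⟨val_mem F hφ x, α * c * α⁻¹ * d, K.mul_mem (hKn α hα c hc) hd, fun t ht => ?_⟩
  rw [autFun_mul_apply, hde t ht, h1 _ (T.mul_mem (T.mul_mem h2 ht) (T.inv_mem h2))]
  group

/-- The hyperfocal subgroup is generated by elements coming from automorphisms of order prime to `p`. -/
theorem hyp_le_of_coprime {V : Subgroup Ω}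
    (h : ∀ (P : Subgroup Ω), P ≤ S → ∀ τ : MulAut P, τ ∈ F.autGroup P → (orderOf τ).Coprime p → ∀ y : P, (y : Ω)⁻¹ * ((τ y : P) : Ω) ∈ V) :
    F.hyperfocalSubgroup p ≤ V := by
  apply (Subgroup.closure_le _).2
  rintro _ ⟨P, α, x, hP, hα, rfl⟩
  show (x : Ω)⁻¹ * (((α : MulAut P) x : P) : Ω) ∈ _
  have key : ∀ τ : F.autGroup P, τ ∈ pResidual p (F.autGroup P) → ∀ y : P,
      (y : Ω)⁻¹ * (((τ : MulAut P) y : P) : Ω) ∈ V := by
    intro τ hτ
    induction hτ using Subgroup.closure_induction with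
    | mem a ha =>
      intro y
      exact h P hP a a.2 (by rw [Subgroup.orderOf_coe]; exact ha) y
    | one =>
      intro y
      simp
    | mul a b _ _ ha hb =>
      intro y
      have h1 := Subgroup.mul_mem _ (hb y) (ha ((b : MulAut P) y))
      have e : (y : Ω)⁻¹ * (((a * b : F.autGroup P) : MulAut P) y : P) =
          (y : Ω)⁻¹ * (((b : MulAut P) y : P) : Ω) * ((((b : MulAut P) y : P) : Ω)⁻¹ * (((a : MulAut P) ((b : MulAut P) y) : P) : Ω)) := by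
        show _ = _
        simp [MulAut.mul_apply, mul_assoc]
      rw [e]
      exact h1
    | inv a _ ha =>
      intro y
      have h1 := Subgroup.inv_mem _ (ha ((a : MulAut P)⁻¹ y))
      have e : ((((a : MulAut P) ((a : MulAut P)⁻¹ y) : P) : Ω)) = y := by
        rw [MulAut.apply_inv_self]
      rw [e] at h1
      simpa using h1
  exact key α hα x

/-- The conjugation action of `S` on a strongly closed subgroup, in `Aut_F(T)`. -/
noncomputable def Cs (hT : F.StronglyClosed T) : S →* F.autGroup T where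
  toFun s := ⟨normAct T (sc_le_normalizer F hT s.2), autInducedBy_le_autGroup F hT.1 (normAct_mem_autInducedBy S T _ s.2)⟩
  map_one' := by
    apply Subtype.ext
    ext x
    show ((1 : Ω) * (x : Ω) * (1 : Ω)⁻¹) = x
    group
  map_mul' := by
    intro a b
    apply Subtype.ext
    ext x
    show ((a : Ω) * (b : Ω)) * (x : Ω) * ((a : Ω) * (b : Ω))⁻¹ = (a : Ω) * ((b : Ω) * (x : Ω) * (b : Ω)⁻¹) * (a : Ω)⁻¹
    group

theorem autFun_Cs (hT : F.StronglyClosed T) (s : S) {t : Ω} (ht : t ∈ T) : autFun (Cs hT s : MulAut T) t = (s : Ω) * t * (s : Ω)⁻¹ := by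
  rw [autFun_of_mem _ ht]
  rfl

/-- **The hyperfocal subgroup lies in `kerK`**, when `Aut_F(T) / K` is a `p`-group. -/
theorem hyp_le_kerK (hS : IsPGroup p S) (hF : F.IsSaturated p) (hT : F.StronglyClosed T) {hn : ∀ s ∈ S, ∀ t ∈ T, s * t * s⁻¹ ∈ T}
    (hKn : ∀ a ∈ F.autGroup T, ∀ c ∈ K, a * c * a⁻¹ ∈ K) (hInn : ∀ t ∈ T, ∃ c ∈ K, ∀ u ∈ T, autFun c u = t * u * t⁻¹)
    {m : ℕ} (hq : ∀ a ∈ F.autGroup T, a ^ (p ^ m) ∈ K) : F.hyperfocalSubgroup p ≤ kerK S hn K := by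
  have hTS : T ≤ S := hT.1
  haveI : Finite T := finite_of_le hTS
  have hp : p.Prime := Fact.out
  haveI hN : (K.subgroupOf (F.autGroup T)).Normal := ⟨fun n hn' g => hKn g g.2 n hn'⟩
  let π := QuotientGroup.mk' (K.subgroupOf (F.autGroup T))
  have hπ1 : ∀ a : F.autGroup T, (a : MulAut T) ∈ K → π a = 1 := fun a ha => (QuotientGroup.eq_one_iff a).2 ha
  have hπ2 : ∀ a : F.autGroup T, π a = 1 → (a : MulAut T) ∈ K := fun a ha => (QuotientGroup.eq_one_iff a).1 ha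
  refine hyp_le_of_coprime (fun P hP τ hτ hc y => ?_)
  haveI : Finite P := finite_of_le hP
  have hmτ := mp_autFun (F := F) hP hτ
  obtain ⟨g, hg, eg⟩ := lf_main hS hF hT P _ hmτ
  obtain ⟨α, hα, hαe⟩ := exists_alpha hT le_sup_right hg
  let q : (F.autGroup T) ⧸ (K.subgroupOf (F.autGroup T)) := π ⟨α, hα⟩
  let ρ : P →* (F.autGroup T) ⧸ (K.subgroupOf (F.autGroup T)) := π.comp ((Cs hT).comp (Subgroup.inclusion hP))
  have hρ : ∀ x : P, ρ (τ x) = q * ρ x * q⁻¹ := by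
    intro x
    have ht := eg x x.2
    have hxe : autFun τ (x : Ω) = ((τ x : P) : Ω) := autFun_coe τ x
    rw [hxe] at ht
    obtain ⟨d, hd, hde⟩ := hInn _ ht
    have hdF : d ∈ F.autGroup T := by
      have h1 : d = (Cs hT ⟨_, hTS ht⟩ : MulAut T) := by
        ext u
        have h2 := autFun_Cs hT ⟨_, hTS ht⟩ u.2
        have h4 := hde u u.2
        rw [autFun_coe] at h2 h4
        exact h4.trans h2.symm
      rw [h1]
      exact Subtype.coe_prop _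
    have e1 : Cs hT (Subgroup.inclusion hP (τ x)) =
        (⟨α, hα⟩ * Cs hT (Subgroup.inclusion hP x) * ⟨α, hα⟩⁻¹ * ⟨d, hdF⟩ : F.autGroup T) := by
      apply Subtype.ext
      ext u
      have h1 := act_image hT hg hαe (c := (Cs hT (Subgroup.inclusion hP x) : MulAut T)) x.2 (fun t ht' => autFun_Cs hT _ ht')
      have hdu : autFun d u ∈ T := autFun_mem d u.2
      have h2 := h1 _ hdu
      have h3 := autFun_Cs hT (Subgroup.inclusion hP (τ x)) u.2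
      rw [autFun_coe] at h3
      rw [h3]
      show _ = ((((α * (Cs hT (Subgroup.inclusion hP x) : MulAut T) * α⁻¹) * d) u : T) : Ω)
      rw [← autFun_coe, autFun_mul_apply, h2, hde u u.2]
      show ((τ x : P) : Ω) * u * ((τ x : P) : Ω)⁻¹ = _
      group
    show π (Cs hT (Subgroup.inclusion hP (τ x))) = π ⟨α, hα⟩ * π (Cs hT (Subgroup.inclusion hP x)) * (π ⟨α, hα⟩)⁻¹
    rw [e1, map_mul, map_mul, map_mul, map_inv, hπ1 ⟨d, hdF⟩ hd, mul_one]
  have hiter : ∀ (i : ℕ) (x : P), ρ ((τ ^ i) x) = q ^ i * ρ x * (q ^ i)⁻¹ := by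
    intro i
    induction i with
    | zero => intro x; simp
    | succ i ih =>
      intro x
      rw [pow_succ', MulAut.mul_apply, hρ, ih, pow_succ']
      group
  have hcomm : q * ρ y * q⁻¹ = ρ y := by
    have h1 := hiter (orderOf τ) y
    rw [pow_orderOf_eq_one] at h1
    have h2 : q ^ orderOf τ * ρ y = ρ y * q ^ orderOf τ := by
      have h3 : ρ y * q ^ orderOf τ = q ^ orderOf τ * ρ y * (q ^ orderOf τ)⁻¹ * q ^ orderOf τ := by
        rw [← h1]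
        rfl
      rw [h3]
      group
    have hqm : q ^ (p ^ m) = 1 := by
      show (π ⟨α, hα⟩) ^ (p ^ m) = 1
      rw [← map_pow]
      exact hπ1 _ (hq α hα)
    have hco : (p ^ m).Coprime (orderOf τ) := Nat.Coprime.pow_left m hc.symm
    obtain ⟨k, hk1, hk2⟩ := Nat.chineseRemainder hco 1 0
    obtain ⟨d, hd⟩ := (Nat.modEq_zero_iff_dvd).1 hk2
    have hqk : q ^ k = q := by
      have h5 : k ≡ 1 [MOD orderOf q] := hk1.of_dvd (orderOf_dvd_of_pow_eq_one hqm)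
      have := (pow_eq_pow_iff_modEq (x := q)).2 h5
      rwa [pow_one] at this
    have h6 : Commute q (ρ y) := by
      have h7 : Commute (q ^ orderOf τ) (ρ y) := h2
      have h8 : Commute ((q ^ orderOf τ) ^ d) (ρ y) := h7.pow_left d
      rw [← pow_mul, ← hd, hqk] at h8
      exact h8
    rw [h6.eq]
    group
  have hfin : ρ (τ y) = ρ y := by rw [hρ, hcomm]
  have hker : ρ (y⁻¹ * τ y) = 1 := by
    rw [map_mul, map_inv, hfin, inv_mul_cancel]
  have hz : (y : Ω)⁻¹ * ((τ y : P) : Ω) ∈ S := S.mul_mem (S.inv_mem (hP y.2)) (hP (τ y).2)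
  refine ⟨hz, (Cs hT ⟨_, hz⟩ : MulAut T), hπ2 _ hker, fun t ht => autFun_Cs hT _ ht⟩

/-- Transport by automorphisms normalizing `K`. -/
theorem MM.tw' (hTS : T ≤ S) (hSI : StrongInv F E) (hKn : ∀ a ∈ F.autGroup T, ∀ c ∈ K, a * c * a⁻¹ ∈ K) {b : MulAut T}
    (hb : b ∈ F.autGroup T) (h : MM E K X f) : MM E K (cjB b X) (twB b f) := by
  obtain ⟨c, hc, u, hu, eu⟩ := h
  have hc' := hKn b⁻¹ (Subgroup.inv_mem _ hb) c hc
  refine ⟨b⁻¹ * c * b⁻¹⁻¹, hc', twB b u, tw_sI hTS hSI hb hu, fun y hy => ?_⟩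
  show autFun b⁻¹ (f (autFun b y)) = autFun (b⁻¹ * c * b⁻¹⁻¹) (autFun b⁻¹ (u (autFun b y)))
  rw [eu _ hy.2, autFun_mul_apply, autFun_mul_apply, inv_inv, autFun_apply_inv]

/-- A map in the class from `T` to `T`. -/
theorem MM.toK' (hauto : E.autGroup T ≤ K) (h : MM E K T f) (hi : Img T f T) : ∃ β ∈ K, ∀ x ∈ T, autFun β x = f x := by
  obtain ⟨c, hc, u, hu, eu⟩ := h
  have hui : Img T u T := by
    refine ⟨fun x hx => hu.mem_S hx, fun y hy => ?_⟩
    have hy' : autFun c y ∈ T := autFun_mem c hy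
    obtain ⟨x, hx, e⟩ := hi.2 _ hy'
    refine ⟨x, hx, ?_⟩
    rw [eu x hx] at e
    exact autFun_inj c e
  obtain ⟨u', hu', hue⟩ := hu.toAut hui
  refine ⟨c * u', Subgroup.mul_mem _ hc (hauto hu'), fun x hx => ?_⟩
  rw [autFun_mul_apply, eu x hx, autFun_of_mem u' hx, hue ⟨x, hx⟩]

end main

end Cfsg.Agent.Lib.Fusion.ChiK3
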