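import Cfsg.Agent.Lib.Fusion.ChiK3

/-!
# `p'`-automorphisms on subgroups of `T` are in the class (helper20)
-/

set_option autoImplicit false

namespace Cfsg.Agent.Lib.Fusion.ChiK4

open Cfsg Cfsg.FusionSystem Cfsg.Agent.Lib.Fusion.Basic Cfsg.Agent.Lib.Fusion.GroupSystem
open Cfsg.Agent.Lib.FusionExt.MapApi Cfsg.Agent.Lib.FusionExt.Basic Cfsg.Agent.Lib.FusionExt.Normal
open Cfsg.Agent.Lib.FusionExt.PowerSys Cfsg.Agent.Lib.FusionExt.PowerGen Cfsg.Agent.Lib.FusionExt.PrimeRes1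
open Cfsg.Agent.Lib.FusionExt.PrimeRes2 Cfsg.Agent.Lib.Fusion.Saturation Cfsg.Agent.Lib.Fusion.Saturation2
open Cfsg.Agent.Lib.FusionExt.SatCrit1 Cfsg.Agent.Lib.FusionExt.Invariant Cfsg.Agent.Lib.FusionExt.PowerE
open Cfsg.Agent.Lib.FusionExt.LowPi Cfsg.Agent.Lib.FusionExt.CentSys
open Cfsg.Agent.Lib.FusionExt.FixQ Cfsg.Agent.Lib.FusionExt.PPrimeMin Cfsg.Agent.Lib.Fusion.LiftX
open Cfsg.Agent.Lib.Fusion.ChiK Cfsg.Agent.Lib.Fusion.ChiK2 Cfsg.Agent.Lib.Fusion.ChiK3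

variable {Ω : Type*} [Group Ω] {S T : Subgroup Ω} {F : FusionSystem S} {E : FusionSystem T} {p : ℕ}
variable {X Y Q R : Subgroup Ω} {f g h k : Ω → Ω} {K : Subgroup (MulAut T)}

section main

variable [Finite S] [Fact p.Prime]

/-- Powers of `b * a`. -/
theorem pow_form (hTS : T ≤ S) (hRT : R ≤ T) (hSI : StrongInv F E) {a b : MulAut R} (ha : a ∈ F.autGroup R) (hb : b ∈ E.autGroup R) (k : ℕ) :
    ∃ c ∈ E.autGroup R, (b * a) ^ k = c * a ^ k := by
  induction k with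
  | zero => exact ⟨1, Subgroup.one_mem _, by simp⟩
  | succ k ih =>
    obtain ⟨c, hc, e⟩ := ih
    refine ⟨b * (a * c * a⁻¹), Subgroup.mul_mem _ hb (aut_conj hTS hRT hSI ha hc), ?_⟩
    rw [pow_succ', e, pow_succ']
    group

/-- The fully normalized case. -/
theorem pp_fn (hS : IsPGroup p S) (hF : F.IsSaturated p) (hEs : E.IsSaturated p) (hsub : E.IsSubsystemOf F) (hT : F.StronglyClosed T)
    (hSI : StrongInv F E) (hKle : K ≤ F.autGroup T) (hfn : F.IsFullyNormalized R) (hRT : R ≤ T) (hne : R ≠ T)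
    (hH : ∀ (Y : Subgroup Ω) (f' : Ω → Ω), Y ≤ T → Pp F p Y f' → Nat.card R < Nat.card Y → MM E K Y f') (hf : Pp F p R f) : MM E K R f := by
  have hTS : T ≤ S := hT.1
  have hTp : IsPGroup p T := hS.to_le hTS
  have hR : R ≤ S := hfn.1
  haveI : Finite T := finite_of_le hTS
  haveI : Finite R := finite_of_le hR
  haveI : Finite (MulAut R) := Cfsg.Agent.Lib.Fusion.Basic.finite_mulAut_of_finite (A := R)
  obtain ⟨h1, h2, r₀, hr₀, h3⟩ := hf
  obtain ⟨a₀, ha₀, hae⟩ := h1.toAut h2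
  have hae' : ∀ x ∈ R, autFun a₀ x = f x := fun x hx => by
    rw [autFun_of_mem a₀ hx]
    exact hae ⟨x, hx⟩
  have hord : a₀ ^ r₀ = 1 := by
    ext x
    have h4 := iterate_autFun (a := a₀) r₀ x
    rw [iterate_congr (fun y hy => (img_autFun a₀).1 y hy) hae' _ x.2, h3 _ x.2] at h4
    exact h4.symm
  have hfE := fn_sub hS hF hsub hT hfn hRT
  have hAE := isFullyAutomized_of_isFullyNormalized E hTp hEs hfE
  have hrc := isReceptive_of_isFullyNormalized F hS hF hfn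
  have hsyl : IsSylowIn p (autInducedBy T R) (E.autGroup R) := hAE.2
  let U : Subgroup (MulAut R) := (autInducedBy T R).map (MulAut.conj a₀).toMonoidHom
  have hUE : U ≤ E.autGroup R := by
    rintro _ ⟨w, hw, rfl⟩
    exact aut_conj hTS hRT hSI ha₀ (autInducedBy_le_autGroup E hRT hw)
  have hUp : IsPGroup p U := (isPGroup_autInducedBy R hTp).map _
  obtain ⟨b, hb, hbc⟩ := hsyl.exists_conj hUE hUp
  have hbF : b ∈ F.autGroup R := Cfsg.Agent.Lib.FusionExt.PIndex.autGroup_le_of_subsystem hsub hRT hb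
  let n : MulAut R := b * a₀
  have hn : n ∈ F.autGroup R := Subgroup.mul_mem _ hbF ha₀
  have hnW : ∀ w ∈ autInducedBy T R, n * w * n⁻¹ ∈ autInducedBy T R := by
    intro w hw
    have h5 := hbc _ ⟨w, hw, rfl⟩
    have e : b * (MulAut.conj a₀).toMonoidHom w * b⁻¹ = n * w * n⁻¹ := by
      show b * (a₀ * w * a₀⁻¹) * b⁻¹ = (b * a₀) * w * (b * a₀)⁻¹
      group
    rwa [e] at h5
  obtain ⟨Y, hYdef⟩ : ∃ Y, Y = normalizerIn T R := ⟨_, rfl⟩
  have hRY : R ≤ Y := hYdef ▸ le_normalizerIn hRT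
  have hYT : Y ≤ T := hYdef ▸ normalizerIn_le_left T R
  have hYn : ∀ y ∈ Y, y ∈ Subgroup.normalizer (R : Set Ω) := fun y hy => (hYdef ▸ hy : y ∈ normalizerIn T R).2
  obtain ⟨g₀, hg₀, hge⟩ := (mp_autFun hR hn).ext_rec hrc (img_autFun n) hRY (fun z hz => by
    have hzT : z ∈ T := hYT hz
    have hzN := hYn z hz
    obtain ⟨s, hs, hse⟩ := (mem_autInducedBy_iff T R _).1 (hnW _ (normAct_mem_autInducedBy T R hzN hzT))
    refine ⟨hTS hzT, hzN, s, hTS hs, fun x hx => ?_⟩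
    have hx' : z * x * z⁻¹ ∈ R := norm_conj hzN hx
    have e1 := hse (n ⟨x, hx⟩)
    have e2 : (n * normAct R hzN * n⁻¹) (n ⟨x, hx⟩) = n (normAct R hzN ⟨x, hx⟩) := by
      show n (normAct R hzN (n⁻¹ (n ⟨x, hx⟩))) = _
      rw [MulAut.inv_apply_self]
    rw [e2] at e1
    rw [autFun_of_mem _ hx', autFun_of_mem _ hx]
    exact e1)
  have hg₀Y : ∀ y ∈ Y, g₀ y ∈ Y := by
    intro y hy
    rw [hYdef]
    refine ⟨LiftX.sc_mp hT hg₀ hYT hy, ?_⟩
    refine mem_normalizer_of_conj_le' (fun r hr => ?_)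
    obtain ⟨r', hr', rfl⟩ := (img_autFun n).2 r hr
    rw [← hge r' hr', ← hg₀.map_conj hy (hRY hr'), hge _ (norm_conj (hYn y hy) hr')]
    exact autFun_mem n (norm_conj (hYn y hy) hr')
  have hgi : Img Y g₀ Y := Cfsg.Agent.Lib.FusionExt.LowPi.img_self hg₀ hg₀Y
  obtain ⟨f', j, hf', hf'e, hj⟩ := pp_part (hYT.trans hTS) hg₀ hgi hr₀
  have hlt : Nat.card R < Nat.card Y := by
    obtain ⟨y, hyS, hyQ, hyN⟩ := exists_normalizing hS hRT hne hTS
    refine card_lt_of_lt hRY (fun e => hyQ ?_) (hYT.trans hTS)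
    rw [e, hYdef]
    exact ⟨hyS, hyN⟩
  have hMM := (hH Y f' hYT hf' hlt).restrict hRY
  obtain ⟨c, hc, ec⟩ := pow_form hTS hRT hSI ha₀ hb j
  have hapow : a₀ ^ j = a₀ := by
    have h5 : j ≡ 1 [MOD orderOf a₀] := hj.of_dvd (orderOf_dvd_of_pow_eq_one hord)
    have := (pow_eq_pow_iff_modEq (x := a₀)).2 h5
    rwa [pow_one] at this
  rw [hapow] at ec
  have hf'R : ∀ x ∈ R, f' x = autFun (n ^ j) x := by
    intro x hx
    rw [hf'e x (hRY hx), autFun_of_mem _ hx, ← iterate_autFun]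
    have hagree : ∀ y ∈ R, g₀ y = autFun n y := hge
    exact iterate_congr (f := g₀) (g := autFun n) (Q := R) (fun y hy => by rw [hagree y hy]; exact autFun_mem n hy) hagree j hx
  have hci : c⁻¹ ∈ E.autGroup R := Subgroup.inv_mem _ hc
  have h5 := hMM.comp (Y := R) hTS hSI hKle (fun x hx => by rw [hf'R x hx]; exact autFun_mem _ hx) (MM.of_mp (mp_autFun hRT hci))
  refine h5.congr (fun x hx => ?_)
  show autFun c⁻¹ (f' x) = f x
  rw [hf'R x hx, ec, autFun_mul_apply, autFun_inv_apply, hae' x hx]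

/-- **`p'`-automorphisms are in the class.** -/
theorem pp_MM (hS : IsPGroup p S) (hF : F.IsSaturated p) (hEs : E.IsSaturated p) (hsub : E.IsSubsystemOf F) (hT : F.StronglyClosed T)
    (hSI : StrongInv F E)
    (hFr : ∀ (P : Subgroup Ω), P ≤ T → ∀ (φ : P →* Ω), φ ∈ F.Hom P →
      ∃ α ∈ F.autGroup T, ∃ φ₀ ∈ E.Hom P, ∀ (x : P) (hx : φ₀ x ∈ T), φ x = ((α ⟨φ₀ x, hx⟩ : T) : Ω))
    (hKle : K ≤ F.autGroup T) (hKn : ∀ a ∈ F.autGroup T, ∀ c ∈ K, a * c * a⁻¹ ∈ K)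
    (hpp : ∀ a ∈ F.autGroup T, (orderOf a).Coprime p → a ∈ K) {X : Subgroup Ω} (hX : X ≤ T) {f : Ω → Ω} (hf : Pp F p X f) :
    MM E K X f := by
  have hTS : T ≤ S := hT.1
  haveI : Finite T := finite_of_le hTS
  have key : ∀ (d : ℕ) (X : Subgroup Ω) (f : Ω → Ω), Nat.card T - Nat.card X = d → X ≤ T → Pp F p X f → MM E K X f := by
    intro d
    induction d using Nat.strong_induction_on with
    | _ d ih =>
    intro X f hd hX hf
    by_cases hXT : X = T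
    · subst hXT
      obtain ⟨h1, h2, r₀, hr₀, h3⟩ := hf
      obtain ⟨a₀, ha₀, hae⟩ := h1.toAut h2
      have hae' : ∀ x ∈ X, autFun a₀ x = f x := fun x hx => by
        rw [autFun_of_mem a₀ hx]
        exact hae ⟨x, hx⟩
      have hord : a₀ ^ r₀ = 1 := by
        ext x
        have h4 := iterate_autFun (a := a₀) r₀ x
        rw [iterate_congr (fun y hy => (img_autFun a₀).1 y hy) hae' _ x.2, h3 _ x.2] at h4
        exact h4.symm
      have hco : (orderOf a₀).Coprime p := Nat.Coprime.coprime_dvd_left (orderOf_dvd_of_pow_eq_one hord) hr₀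
      exact (MM.of_K (hpp a₀ ha₀ hco) le_rfl).congr hae'
    -- the conjugate
    have hcardX : Nat.card X < Nat.card T := by
      have h1 : Nat.card X ≤ Nat.card T := Subgroup.card_le_of_le hX
      rcases h1.lt_or_eq with h2 | h2
      · exact h2
      · exact absurd (Subgroup.eq_of_le_of_card_ge hX h2.ge) hXT
    obtain ⟨R₀, hXR₀, hfn⟩ := exists_isFullyNormalized F (hX.trans hTS)
    obtain ⟨φ, hφ, hrg⟩ := hXR₀
    have hi₀ := img_range hrg
    have hm₀ : Mp F X (extOf φ) := mp_of_hom hφ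
    have hcR₀ : Nat.card R₀ = Nat.card X := hm₀.card_img hi₀
    have hR₀T : R₀ ≤ T := by
      intro y hy
      obtain ⟨x, hx, rfl⟩ := hi₀.2 y hy
      exact LiftX.sc_mp hT hm₀ hX hx
    have hR₀ne : R₀ ≠ T := by
      intro e
      rw [e] at hcR₀
      omega
    obtain ⟨α₀, hα₀, g₀, hg₀, eg₀⟩ := form_mp hFr hX hm₀
    obtain ⟨κ, hκ, k1, k2, k3⟩ := hm₀.inverse hi₀
    have hf₃ : Pp F p R₀ (fun y => extOf φ (f (κ y))) := hf.conj_iso hm₀ hi₀ hκ k1 k2 k3.1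
    have hMR := pp_fn hS hF hEs hsub hT hSI hKle hfn hR₀T hR₀ne (fun Y f' hYT hf' hlt => by
      have h1 : Nat.card Y ≤ Nat.card T := Subgroup.card_le_of_le hYT
      exact ih (Nat.card T - Nat.card Y) (by omega) Y f' rfl hYT hf') hf₃
    have hMt := MM.tw' hTS hSI hKn hα₀ hMR
    have hiG : Img X g₀ (cjB α₀ R₀) := by
      refine ⟨fun x hx => ⟨hg₀.mem_S hx, ?_⟩, fun y hy => ?_⟩
      · rw [← eg₀ x hx]
        exact hi₀.1 x hx
      · obtain ⟨x, hx, e⟩ := hi₀.2 _ hy.2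
        refine ⟨x, hx, ?_⟩
        rw [eg₀ x hx] at e
        exact autFun_inj α₀ e
    obtain ⟨g', hg', b1, b2, b3⟩ := hg₀.inverse hiG
    have h1 := (MM.of_mp (K := K) hg₀).comp hTS hSI hKle hiG.1 hMt
    have hm₁ : ∀ x ∈ X, twB α₀ (fun y => extOf φ (f (κ y))) (g₀ x) ∈ cjB α₀ R₀ := by
      intro x hx
      have hx₁ := hiG.1 x hx
      have h3 := hf₃.2.1.1 _ hx₁.2
      exact ⟨hMt.mem_T hx₁, by rwa [apply_twB]⟩
    have h2 := h1.comp hTS hSI hKle hm₁ (MM.of_mp hg')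
    refine h2.congr (fun x hx => ?_)
    show g' (twB α₀ (fun y => extOf φ (f (κ y))) (g₀ x)) = f x
    have hfx : f x ∈ X := hf.2.1.1 x hx
    unfold twB
    show g' (autFun α₀⁻¹ (extOf φ (f (κ (autFun α₀ (g₀ x)))))) = f x
    rw [← eg₀ x hx, k1 x hx, eg₀ _ hfx, autFun_inv_apply, b1 _ hfx]
  exact key _ X f rfl hX hf

end main

end Cfsg.Agent.Lib.Fusion.ChiK4
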