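import Cfsg.Agent.Lib.Fusion.ChiK4

/-!
# Transitivity of weak normality under an invariance hypothesis (helper20)
-/

set_option autoImplicit false

namespace Cfsg.Agent.Lib.Fusion.ChiK5

open Cfsg Cfsg.FusionSystem Cfsg.Agent.Lib.Fusion.Basic Cfsg.Agent.Lib.Fusion.GroupSystem
open Cfsg.Agent.Lib.FusionExt.MapApi Cfsg.Agent.Lib.FusionExt.Basic Cfsg.Agent.Lib.FusionExt.Normal
open Cfsg.Agent.Lib.FusionExt.PowerSys Cfsg.Agent.Lib.FusionExt.PowerGen Cfsg.Agent.Lib.FusionExt.PrimeRes1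
open Cfsg.Agent.Lib.FusionExt.PrimeRes2 Cfsg.Agent.Lib.Fusion.Saturation Cfsg.Agent.Lib.Fusion.Saturation2
open Cfsg.Agent.Lib.FusionExt.SatCrit1 Cfsg.Agent.Lib.FusionExt.Invariant Cfsg.Agent.Lib.FusionExt.PowerE
open Cfsg.Agent.Lib.FusionExt.LowPi Cfsg.Agent.Lib.FusionExt.CentSys
open Cfsg.Agent.Lib.FusionExt.FixQ Cfsg.Agent.Lib.FusionExt.PPrimeMin Cfsg.Agent.Lib.Fusion.LiftX
open Cfsg.Agent.Lib.Fusion.ChiK Cfsg.Agent.Lib.Fusion.ChiK2 Cfsg.Agent.Lib.Fusion.ChiK3 Cfsg.Agent.Lib.Fusion.ChiK4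

variable {Ω : Type*} [Group Ω] {S T S₁ S₂ : Subgroup Ω} {F : FusionSystem S} {E : FusionSystem T} {p : ℕ}
variable {X Y Q R : Subgroup Ω} {f g h k : Ω → Ω}

theorem cjB_mul (a c : MulAut T) (X : Subgroup Ω) : cjB (a * c) X = cjB c (cjB a X) := by
  ext y
  constructor
  · rintro ⟨h1, h2⟩
    rw [autFun_mul_apply] at h2
    exact ⟨h1, autFun_mem c h1, h2⟩
  · rintro ⟨h1, -, h2⟩
    refine ⟨h1, ?_⟩
    rw [autFun_mul_apply]
    exact h2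

theorem twB_mul (a c : MulAut T) (f : Ω → Ω) (y : Ω) : twB (a * c) f y = twB c (twB a f) y := by
  show autFun (a * c)⁻¹ (f (autFun (a * c) y)) = autFun c⁻¹ (autFun a⁻¹ (f (autFun a (autFun c y))))
  rw [mul_inv_rev, autFun_mul_apply, autFun_mul_apply]

/-- Invariance is multiplicative. -/
theorem tw_mul_of {a c : MulAut T} (ha : ∀ (X : Subgroup Ω) (f : Ω → Ω), Mp E X f → Mp E (cjB a X) (twB a f))
    (hc : ∀ (X : Subgroup Ω) (f : Ω → Ω), Mp E X f → Mp E (cjB c X) (twB c f)) :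
    ∀ (X : Subgroup Ω) (f : Ω → Ω), Mp E X f → Mp E (cjB (a * c) X) (twB (a * c) f) := by
  intro X f hf
  rw [cjB_mul]
  exact (hc _ _ (ha X f hf)).congr (fun y _ => (twB_mul a c f y).symm)

/-- The invariance clause in terms of transports. -/
theorem invClause_of_tw (h : ∀ α ∈ F.autGroup T, ∀ (X : Subgroup Ω) (f : Ω → Ω), Mp E X f → Mp E (cjB α X) (twB α f)) : InvClause F E := by
  intro P hPT φ hφ α hα
  have h1 := h _ (Subgroup.inv_mem _ hα) _ _ (mp_of_hom hφ)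
  have hU : cjB α⁻¹ P = (P.subgroupOf T).map (T.subtype.comp α.toMonoidHom) := by
    ext y
    constructor
    · rintro ⟨h2, h3⟩
      refine ⟨α⁻¹ ⟨y, h2⟩, ?_, ?_⟩
      · show ((α⁻¹ ⟨y, h2⟩ : T) : Ω) ∈ P
        rwa [autFun_of_mem _ h2] at h3
      · show ((α (α⁻¹ ⟨y, h2⟩) : T) : Ω) = y
        simp
    · rintro ⟨x, hx, rfl⟩
      refine ⟨(α x).2, ?_⟩
      show autFun α⁻¹ ((α x : T) : Ω) ∈ P
      rw [autFun_coe, MulAut.inv_apply_self]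
      exact hx
  rw [hU] at h1
  obtain ⟨χ, hχ, e⟩ := h1
  refine ⟨χ, hχ, fun x hφx hαx => ?_⟩
  rw [e]
  show autFun α⁻¹⁻¹ (extOf φ (autFun α⁻¹ ((α ⟨x, hPT x.2⟩ : T) : Ω))) = _
  rw [autFun_coe]
  have e1 : α⁻¹ (α ⟨x, hPT x.2⟩) = ⟨x, hPT x.2⟩ := MulAut.inv_apply_self _ _ _
  rw [e1, inv_inv]
  show autFun α (extOf φ (x : Ω)) = _
  rw [extOf_coe]
  exact autFun_of_mem α hφx

/-- The Frattini clause in terms of functions. -/
theorem frClause_of_mp (h : ∀ (P : Subgroup Ω) (f : Ω → Ω), P ≤ T → Mp F P f → ∃ α ∈ F.autGroup T, ∃ g, Mp E P g ∧ ∀ x ∈ P, f x = autFun α (g x)) :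
    ∀ (P : Subgroup Ω), P ≤ T → ∀ (φ : P →* Ω), φ ∈ F.Hom P →
      ∃ α ∈ F.autGroup T, ∃ φ₀ ∈ E.Hom P, ∀ (x : P) (hx : φ₀ x ∈ T), φ x = ((α ⟨φ₀ x, hx⟩ : T) : Ω) := by
  intro P hP φ hφ
  obtain ⟨a, ha, g, hg, eg⟩ := h P _ hP (mp_of_hom hφ)
  obtain ⟨ψ, hψ, eψ⟩ := hg
  refine ⟨a, ha, ψ, hψ, fun x hx => ?_⟩
  have e1 := eg x x.2
  rw [extOf_coe] at e1
  rw [e1, ← eψ x, autFun_of_mem a hx]

section main

variable [Finite S] [Fact p.Prime]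

/-- The restriction of an automorphism to a strongly closed subgroup. -/
theorem exists_res' (hS₁S : S₁ ≤ S) (hsc : F.StronglyClosed S₂) (h21 : S₂ ≤ S₁) {a : MulAut S₁} (ha : a ∈ F.autGroup S₁) :
    ∃ b ∈ F.autGroup S₂, ∀ x ∈ S₂, autFun b x = autFun a x := by
  have hm : Mp F S₂ (autFun a) := (mp_autFun hS₁S ha).restrict h21
  obtain ⟨b, hb, hbe⟩ := hm.toAut (Cfsg.Agent.Lib.FusionExt.LowPi.img_self hm (fun x hx => LiftX.sc_mp hsc hm le_rfl hx))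
  refine ⟨b, hb, fun x hx => ?_⟩
  rw [autFun_of_mem b hx]
  exact hbe ⟨x, hx⟩

omit [Finite S] [Fact p.Prime] in
/-- Agreement passes to the inverse. -/
theorem inv_agree {a : MulAut S₁} {b : MulAut S₂} (he : ∀ x ∈ S₂, autFun b x = autFun a x) : ∀ x ∈ S₂, autFun b⁻¹ x = autFun a⁻¹ x := by
  intro x hx
  have h1 := he (autFun b⁻¹ x) (autFun_mem _ hx)
  rw [autFun_apply_inv] at h1
  rw [h1, autFun_inv_apply]
  rw [← h1]

/-- **Transitivity of weak normality.** -/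
theorem wn_step {C : FusionSystem S₁} {D : FusionSystem S₂} (hC : C.IsWeaklyNormalIn F p) (hD : D.IsWeaklyNormalIn C p)
    (hsc : F.StronglyClosed S₂)
    (hI : ∀ a ∈ F.autGroup S₁, ∀ b ∈ F.autGroup S₂, (∀ x ∈ S₂, autFun b x = autFun a x) →
      ∀ (X : Subgroup Ω) (f : Ω → Ω), Mp D X f → Mp D (cjB b X) (twB b f)) :
    D.IsWeaklyNormalIn F p := by
  obtain ⟨hCs, hFs, hCsub, hCsc, hCinv, hCfr⟩ := hC
  obtain ⟨hDs, -, hDsub, hDsc, hDinv, hDfr⟩ := hD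
  have hSI : StrongInv C D := strong_of_inv hDinv hDfr
  have h21 : S₂ ≤ S₁ := hDsc.1
  have hS₁S : S₁ ≤ S := hCsc.1
  haveI : Finite S₁ := finite_of_le hS₁S
  have hle : C.autGroup S₂ ≤ F.autGroup S₂ := Cfsg.Agent.Lib.FusionExt.PIndex.autGroup_le_of_subsystem hCsub h21
  have hfr : ∀ (P : Subgroup Ω) (f : Ω → Ω), P ≤ S₂ → Mp F P f → ∃ α ∈ F.autGroup S₂, ∃ g, Mp D P g ∧ ∀ x ∈ P, f x = autFun α (g x) := by
    intro P f hP hf
    obtain ⟨α₁, hα₁, g₁, hg₁, e₁⟩ := form_mp hCfr (hP.trans h21) hf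
    obtain ⟨α₂, hα₂, g₂, hg₂, e₂⟩ := form_mp hDfr hP hg₁
    obtain ⟨b, hb, hbe⟩ := exists_res' hS₁S hsc h21 hα₁
    refine ⟨b * α₂, Subgroup.mul_mem _ hb (hle hα₂), g₂, hg₂, fun x hx => ?_⟩
    rw [e₁ x hx, e₂ x hx, autFun_mul_apply, hbe _ (autFun_mem α₂ (hg₂.mem_S hx))]
  have hinv : ∀ α ∈ F.autGroup S₂, ∀ (X : Subgroup Ω) (f : Ω → Ω), Mp D X f → Mp D (cjB α X) (twB α f) := by
    intro α hα
    obtain ⟨α₁, hα₁, g₁, hg₁, e₁⟩ := form_mp hCfr h21 (mp_autFun (h21.trans hS₁S) hα)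
    obtain ⟨b, hb, hbe⟩ := exists_res' hS₁S hsc h21 hα₁
    have hg₁S₂ : ∀ x ∈ S₂, g₁ x = autFun b⁻¹ (autFun α x) := by
      intro x hx
      rw [inv_agree hbe _ (autFun_mem α hx), e₁ x hx, autFun_inv_apply]
    have hgi : Img S₂ g₁ S₂ := Cfsg.Agent.Lib.FusionExt.LowPi.img_self hg₁ (fun x hx => by
      rw [hg₁S₂ x hx]
      exact autFun_mem _ (autFun_mem _ hx))
    obtain ⟨c, hc, hce⟩ := hg₁.toAut hgi
    have e : α = b * c := by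
      ext x
      have h2 : autFun c (x : Ω) = g₁ x := by
        rw [autFun_coe]
        exact hce x
      have h5 : autFun (b * c) (x : Ω) = autFun α (x : Ω) := by
        rw [autFun_mul_apply, h2, hbe _ (hgi.1 x x.2), e₁ x x.2]
      rw [autFun_coe, autFun_coe] at h5
      exact h5.symm
    rw [e]
    exact tw_mul_of (hI α₁ hα₁ b hb hbe) (fun X f hf => tw_sI h21 hSI hc hf)
  exact ⟨hDs, hFs, fun P => (hDsub P).trans (hCsub P), hsc, invClause_of_tw hinv, frClause_of_mp hfr⟩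

end main

end Cfsg.Agent.Lib.Fusion.ChiK5
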