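import Cfsg.Agent.Lib.Fusion.ChiK5
import Cfsg.Agent.Lib.FusionTheory.ResidualLimit

/-!
# Stable subsystems lie in residual limits (helper20)
-/

set_option autoImplicit false

namespace Cfsg.Agent.Lib.Fusion.ChiK6

open Cfsg Cfsg.FusionSystem Cfsg.Agent.Lib.Fusion.Basic Cfsg.Agent.Lib.Fusion.GroupSystem
open Cfsg.Agent.Lib.FusionExt.MapApi Cfsg.Agent.Lib.FusionExt.Basic Cfsg.Agent.Lib.FusionExt.Normal
open Cfsg.Agent.Lib.FusionExt.PowerSys Cfsg.Agent.Lib.FusionExt.PowerGen Cfsg.Agent.Lib.FusionExt.PrimeRes1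
open Cfsg.Agent.Lib.FusionExt.PrimeRes2 Cfsg.Agent.Lib.Fusion.Saturation Cfsg.Agent.Lib.Fusion.Saturation2
open Cfsg.Agent.Lib.FusionExt.SatCrit1 Cfsg.Agent.Lib.FusionExt.Invariant Cfsg.Agent.Lib.FusionExt.PowerE
open Cfsg.Agent.Lib.FusionExt.LowPi Cfsg.Agent.Lib.FusionExt.CentSys
open Cfsg.Agent.Lib.FusionExt.FixQ Cfsg.Agent.Lib.FusionExt.PPrimeMin Cfsg.Agent.Lib.Fusion.LiftX
open Cfsg.Agent.Lib.Fusion.ChiK Cfsg.Agent.Lib.Fusion.ChiK2 Cfsg.Agent.Lib.Fusion.ChiK3 Cfsg.Agent.Lib.Fusion.ChiK4 Cfsg.Agent.Lib.Fusion.ChiK5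
open Cfsg.Agent.Lib.FusionTheory.ResidualLimit

universe u

variable {Ω : Type u} [Group Ω] {S T U : Subgroup Ω} {F : FusionSystem S} {E : FusionSystem T} {p : ℕ}
variable {Q R : Subgroup Ω} {f g h k : Ω → Ω}

/-- The containment relation. -/
structure Ii (X : FusionSystem T) (Y : FusionSystem S) : Prop where
  sub : X.IsSubsystemOf Y
  sc : Y.StronglyClosed T
  cent : ∀ Q : Subgroup Ω, X.IsCentric Q → ∀ Q' : Subgroup Ω, Y.IsConj Q Q' → zz T Q' ≤ Q'

theorem Ii.of_wn [Finite S] {X : FusionSystem T} {Y : FusionSystem S} (h : X.IsWeaklyNormalIn Y p) : Ii X Y :=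
  ⟨h.2.2.1, h.2.2.2.1, fun _ hQ _ hQ' => hc_of_centric h.2.2.2.2.2 hQ hQ'⟩

theorem Ii.mono {X : FusionSystem T} {Y : FusionSystem S} {Y' : FusionSystem U} (h : Ii X Y) (hX : X.IsSubsystemOf Y') (hY : Y'.IsSubsystemOf Y)
    (hTU : T ≤ U) : Ii X Y' :=
  ⟨hX, ⟨hTU, fun R hR φ hφ x => h.sc.2 R hR φ (hY R hφ) x⟩, fun Q hQ Q' ⟨φ, hφ, hr⟩ => h.cent Q hQ Q' ⟨φ, hY Q hφ, hr⟩⟩

section lk

variable [Finite S] [Fact p.Prime]

/-- **A saturated subsystem containing the `p`-automorphisms contains the automorphisms of a strongly closed subgroup restricting to one of its maps on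
a subgroup with the centralizer condition.** -/
theorem lk (hS : IsPGroup p S) (hT : F.StronglyClosed T) {D : FusionSystem S} (hD : D.IsSaturated p) (hfam : InFamQ F p D) {a : MulAut T}
    (ha : a ∈ F.autGroup T) :
    ∀ (d : ℕ) (Q : Subgroup Ω), Nat.card T - Nat.card Q = d → Q ≤ T → (∀ Q', F.IsConj Q Q' → zz T Q' ≤ Q') →
      Mp D Q (autFun a) → a ∈ D.autGroup T := by
  have hTS : T ≤ S := hT.1
  have hTp : IsPGroup p T := hS.to_le hTS
  haveI : Finite T := finite_of_le hTS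
  intro d
  induction d using Nat.strong_induction_on with
  | _ d ih =>
  intro Q hd hQT hc hb
  by_cases hQe : Q = T
  · subst hQe
    exact (mem_autGroup_iff D hTS a).2 (hom_of_mp hb)
  obtain ⟨N, hN⟩ : ∃ N, N = normalizerIn T Q := ⟨_, rfl⟩
  have hQN : Q ≤ N := hN ▸ le_normalizerIn hQT
  have hNT : N ≤ T := hN ▸ normalizerIn_le_left T Q
  have hNn : ∀ y ∈ N, y ∈ Subgroup.normalizer (Q : Set Ω) := fun y hy => (hN ▸ hy : y ∈ normalizerIn T Q).2
  have hlt : Nat.card Q < Nat.card N := by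
    obtain ⟨y, hyS, hyQ, hyN⟩ := exists_normalizing hS hQT hQe hTS
    refine card_lt_of_lt hQN (fun e => hyQ ?_) (hNT.trans hTS)
    rw [e, hN]
    exact ⟨hyS, hyN⟩
  suffices hbN : Mp D N (autFun a) by
    have h1 : Nat.card N ≤ Nat.card T := Subgroup.card_le_of_le hNT
    exact ih _ (by omega) N rfl hNT (fun Q' hQ' => hc_up hc hQN hQ') hbN
  -- the image of `Q`
  obtain ⟨Q', hQ'def⟩ : ∃ Q', Q' = cjB a⁻¹ Q := ⟨_, rfl⟩
  have hiQ' : Img Q (autFun a) Q' := by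
    rw [hQ'def]
    refine ⟨fun x hx => ⟨autFun_mem a (hQT hx), by rwa [autFun_inv_apply]⟩, fun y hy => ⟨_, hy.2, autFun_apply_inv a y⟩⟩
  have hQ'T : Q' ≤ T := hQ'def ▸ fun y hy => hy.1
  have hQ'S : Q' ≤ S := hQ'T.trans hTS
  have haN₀ : ∀ y ∈ N, autFun a y ∈ normalizerIn T Q' := by
    intro y hy
    rw [hQ'def, normalizerIn_cjB a⁻¹ hQT]
    refine ⟨autFun_mem a (hNT hy), ?_⟩
    rw [autFun_inv_apply, ← hN]
    exact hy
  have haN : ∀ y ∈ N, autFun a y ∈ normalizerIn S Q' := fun y hy => ⟨hTS (haN₀ y hy).1, (haN₀ y hy).2⟩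
  obtain ⟨R₀, hQ'R₀, hfn⟩ := exists_isFullyNormalized D hQ'S
  have hAD := isFullyAutomized_of_isFullyNormalized D hS hD hfn
  have hrD := isReceptive_of_isFullyNormalized D hS hD hfn
  obtain ⟨μ, hμ, hμv, hμr⟩ := exists_normalizer_map D hS hAD hrD hQ'R₀
  have hQ'N : Q' ≤ normalizerIn S Q' := le_normalizerIn hQ'S
  have him := img_of_normalizer_map hQ'N μ hμr
  have hm := mp_of_hom hμ
  obtain ⟨m, hmdef⟩ : ∃ m, m = extOf μ := ⟨_, rfl⟩
  rw [← hmdef] at him hm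
  have hfQ : Mp D Q (fun x => m (autFun a x)) := hb.comp hiQ'.1 (hm.restrict hQ'N)
  have hiR : Img Q (fun x => m (autFun a x)) R₀ := hiQ'.comp him
  obtain ⟨g₀, hg₀, hge⟩ := hfQ.ext_rec hrD hiR hQN (fun y hy => by
    have h1 : y ∈ T := hNT hy
    have h2 : y ∈ Subgroup.normalizer (Q : Set Ω) := hNn y hy
    refine ⟨hTS h1, h2, m (autFun a y), hm.mem_S (haN y hy), fun x hx => ?_⟩
    have hxS := hQT hx
    show m (autFun a (y * x * y⁻¹)) = m (autFun a y) * m (autFun a x) * (m (autFun a y))⁻¹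
    rw [autFun_mul a (T.mul_mem h1 hxS) (T.inv_mem h1), autFun_mul a h1 hxS, autFun_inv' a h1]
    exact hm.map_conj (haN y hy) (hQ'N (hiQ'.1 x hx)))
  -- the comparison map
  have hbF : Mp F N (autFun a) := (mp_autFun hTS ha).restrict hNT
  have hmF : Mp F (normalizerIn S Q') m := mp_sub hfam.1 hm
  have hhF : Mp F N (fun x => m (autFun a x)) := hbF.comp haN hmF
  obtain ⟨M, hM⟩ := hhF.exists_img
  obtain ⟨κ, hκ, k1, k2, k3⟩ := hhF.inverse hM
  have hMT : M ≤ T := by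
    intro y hy
    obtain ⟨x, hx, rfl⟩ := hM.2 y hy
    exact LiftX.sc_mp hT hhF hNT hx
  have hg₀F := mp_sub hfam.1 hg₀
  have hψF : Mp F M (fun y => g₀ (κ y)) := hκ.comp k3.1 hg₀F
  have hRM : R₀ ≤ M := by
    intro r hr
    obtain ⟨x, hx, rfl⟩ := hiR.2 r hr
    exact hM.1 x (hQN hx)
  have hψR : ∀ r ∈ R₀, g₀ (κ r) = r := by
    intro r hr
    obtain ⟨x, hx, rfl⟩ := hiR.2 r hr
    show g₀ (κ (m (autFun a x))) = m (autFun a x)
    have := k1 x (hQN hx)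
    rw [this, hge x hx]
  have hR₀c : zz T R₀ ≤ R₀ := hc R₀ ((mp_sub hfam.1 hfQ).isConj hiR)
  have hz : ∀ y ∈ M, y⁻¹ * g₀ (κ y) ∈ R₀ := by
    intro y hy
    obtain ⟨n, hn, rfl⟩ := hM.2 y hy
    have e1 := k1 n hn
    show (m (autFun a n))⁻¹ * g₀ (κ (m (autFun a n))) ∈ R₀
    rw [e1]
    apply hR₀c
    refine ⟨T.mul_mem (T.inv_mem (LiftX.sc_mp hT hhF hNT hn)) (LiftX.sc_mp hT hg₀F hNT hn), Subgroup.mem_centralizer_iff.2 fun r hr => ?_⟩
    obtain ⟨x, hx, rfl⟩ := hiR.2 r hr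
    have hnN : n ∈ Subgroup.normalizer (Q : Set Ω) := hNn n hn
    have hx' : n * x * n⁻¹ ∈ Q := (Subgroup.mem_normalizer_iff.1 hnN x).1 hx
    have h1 := hge _ hx'
    rw [hg₀.map_conj hn (hQN hx), hge x hx] at h1
    have h2 := hhF.map_conj hn (hQN hx)
    have h3 : g₀ n * m (autFun a x) * (g₀ n)⁻¹ = m (autFun a n) * m (autFun a x) * (m (autFun a n))⁻¹ := h1.trans h2
    obtain ⟨r₀, hr₀⟩ : ∃ r₀, r₀ = m (autFun a x) := ⟨_, rfl⟩
    obtain ⟨h₁, hh₁⟩ : ∃ h₁, h₁ = m (autFun a n) := ⟨_, rfl⟩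
    obtain ⟨g₁, hg₁⟩ : ∃ g₁, g₁ = g₀ n := ⟨_, rfl⟩
    rw [← hr₀, ← hh₁, ← hg₁] at h3
    show m (autFun a x) * ((m (autFun a n))⁻¹ * g₀ n) = (m (autFun a n))⁻¹ * g₀ n * m (autFun a x)
    rw [← hr₀, ← hh₁, ← hg₁]
    have h4 : g₁ * r₀ = h₁ * r₀ * h₁⁻¹ * g₁ := by
      rw [← h3]
      group
    calc r₀ * (h₁⁻¹ * g₁) = h₁⁻¹ * (h₁ * r₀ * h₁⁻¹ * g₁) := by group
      _ = h₁⁻¹ * (g₁ * r₀) := by rw [h4]
      _ = h₁⁻¹ * g₁ * r₀ := by group
  -- it has `p`-power order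
  haveI : Finite R₀ := finite_of_le hrD.1
  have hR₀p : IsPGroup p R₀ := hS.to_le hrD.1
  obtain ⟨j, hj⟩ := IsPGroup.iff_card.1 hR₀p
  have hψmul : ∀ {y c : Ω}, y ∈ M → c ∈ R₀ → g₀ (κ (y * c)) = g₀ (κ y) * c := by
    intro y c hy hc
    rw [hψF.map_mul hy (hRM hc), hψR c hc]
  have hψM : ∀ y ∈ M, g₀ (κ y) ∈ M := by
    intro y hy
    have h1 := M.mul_mem hy (hRM (hz y hy))
    rwa [mul_inv_cancel_left] at h1
  have hIter : ∀ (n : ℕ) (y : Ω), y ∈ M → (fun y => g₀ (κ y))^[n] y = y * (y⁻¹ * g₀ (κ y)) ^ n := by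
    intro n y hy
    induction n with
    | zero => simp
    | succ n ih =>
      rw [Function.iterate_succ_apply', ih]
      show g₀ (κ (y * (y⁻¹ * g₀ (κ y)) ^ n)) = _
      rw [hψmul hy (Subgroup.pow_mem _ (hz y hy) n), pow_succ', ← mul_assoc, mul_inv_cancel_left]
  have hPq : Pq F p M (fun y => g₀ (κ y)) := by
    refine ⟨hψF, ⟨hψM, fun y hy => ?_⟩, j, fun y hy => ?_⟩
    · have hc := hz y hy
      refine ⟨y * (y⁻¹ * g₀ (κ y))⁻¹, M.mul_mem hy (hRM (R₀.inv_mem hc)), ?_⟩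
      show g₀ (κ (y * (y⁻¹ * g₀ (κ y))⁻¹)) = y
      rw [hψmul hy (R₀.inv_mem hc)]
      group
    · rw [hIter _ y hy]
      have h1 : (⟨y⁻¹ * g₀ (κ y), hz y hy⟩ : R₀) ^ (p ^ j) = 1 := by
        rw [← hj]
        exact pow_card_eq_one'
      have h2 : (y⁻¹ * g₀ (κ y)) ^ (p ^ j) = 1 := congrArg Subtype.val h1
      rw [h2, mul_one]
  have hψD : Mp D M (fun y => g₀ (κ y)) := hfam.2 M (hMT.trans hTS) _ hPq
  obtain ⟨ψ', hψ', c1, -, -⟩ := hψD.inverse hPq.2.1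
  have hgM : ∀ n ∈ N, g₀ n ∈ M := by
    intro n hn
    have h1 := hψM _ (hM.1 n hn)
    have h2 := k1 n hn
    rwa [show g₀ (κ ((fun x => m (autFun a x)) n)) = g₀ n from by
      show g₀ (κ (m (autFun a n))) = g₀ n
      rw [h2]] at h1
  have h5 : Mp D N (fun n => ψ' (g₀ n)) := hg₀.comp hgM hψ'
  have h6 : Mp D N (fun n => m (autFun a n)) := by
    refine h5.congr (fun n hn => ?_)
    have h1 := c1 _ (hM.1 n hn)
    show ψ' (g₀ n) = m (autFun a n)
    have h2 : g₀ (κ (m (autFun a n))) = g₀ n := by rw [k1 n hn]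
    rw [← h2]
    exact h1
  obtain ⟨W, hW⟩ := hm.exists_img
  obtain ⟨m', hm', d1, -, -⟩ := hm.inverse hW
  have h7 : Mp D N (fun n => m' (m (autFun a n))) := h6.comp (fun n hn => hW.1 _ (haN n hn)) hm'
  exact h7.congr (fun n hn => d1 _ (haN n hn))

/-- **Claim 1.** A system that is its own `p'`-residual lies in the `p'`-residual of a saturated system containing it suitably. -/
theorem claim1 (hS : IsPGroup p S) {X : FusionSystem T} {Y : FusionSystem S} (hY : Y.IsSaturated p) (hI : Ii X Y) (hXs : X.IsSaturated p)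
    (hXr : X.IsPPrimeResidual p X) : X.IsSubsystemOf (e1 Y p) := by
  have hT := hI.sc
  have hTS : T ≤ S := hT.1
  have hTp : IsPGroup p T := hS.to_le hTS
  haveI : Finite T := finite_of_le hTS
  have hDs : (e1 Y p).IsSaturated p := e1_saturated hS hY
  have hfam : InFamQ Y p (e1 Y p) := ⟨e1_sub, fun Q hQ f hf => e0_mp_e1 (e0_inFam.2 Q hQ f hf)⟩
  have hfamX : InFamQ X p (mkSys (interAx' (E := X) (e1 Y p) hTS)) := by
    refine ⟨fun P φ hφ => hom_of_mp ((mp_mkSys _).1 (mp_of_hom hφ)).1, fun Q hQ f hf => (mp_mkSys _).2 ⟨hf.1, ?_⟩⟩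
    exact hfam.2 Q (hQ.trans hTS) f ⟨mp_sub hI.sub hf.1, hf.2.1, hf.2.2⟩
  have he0 : ∀ (Q : Subgroup Ω) (g : Ω → Ω), Mp (e0 X p) Q g → Mp (e1 Y p) Q g := fun Q g h => ((mp_mkSys _).1 (e0_min hfamX h)).2
  have hHH : HH X p ≤ (e1 Y p).autGroup T := by
    apply (Subgroup.closure_le _).2
    rintro a ⟨ha, Q, hQ, hm⟩
    exact lk hS hT hDs hfam (Cfsg.Agent.Lib.FusionExt.PIndex.autGroup_le_of_subsystem hI.sub le_rfl ha) _ Q rfl hQ.1 (hI.cent Q hQ) (he0 _ _ hm)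
  have e : e1 X p = X := pPrimeResidual_unique (Cfsg.Agent.Lib.FusionExt.PrimeRes2.main hTp X hXs) hXr
  intro P φ hφ
  have hφ' : φ ∈ (e1 X p).Hom P := by
    rw [e]
    exact hφ
  obtain ⟨c, hc, u, hu, eu⟩ := mp_e1.1 (mp_of_hom hφ')
  have h1 := he0 _ _ hu
  have h2 : Mp (e1 Y p) T (autFun c) := mp_autFun hTS (hHH hc)
  exact hom_of_mp ((h1.comp (Y := T) (fun x hx => hu.mem_S hx) h2).congr (fun x hx => (eu x hx).symm))

/-- **Claim 2.** A system equal to its own hyperfocal subgroup lies in a subsystem of `p`-power index. -/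
theorem claim2 (hS : IsPGroup p S) {X : FusionSystem T} {Y : FusionSystem S} {D : FusionSystem U} (hXs : X.IsSaturated p) (hXS : X.IsSubsystemOf Y) (hTS : T ≤ S)
    (hH : X.hyperfocalSubgroup p = T) (hidx : D.HasPPowerIndexIn Y p) : X.IsSubsystemOf D := by
  have hTp : IsPGroup p T := hS.to_le hTS
  haveI : Finite T := finite_of_le hTS
  have hTU : T ≤ U := (hH ▸ hyp_le_hyp (p := p) hXS hTS).trans hidx.2.1
  exact fun P => hom_subset_of_coprime hTp X hXs hTU D (fun R hR α hα hc =>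
    mem_of_coprime_of_pPowerIndex hidx (hR.trans hTU) (Cfsg.Agent.Lib.FusionTheory.ResidualLimit.autGroup_le_of_subsystem hXS hTS hR hα) hc) P

end lk

/-- **Stable subsystems lie in the residual limit.** -/
theorem stable_le_limit {T' S' : Subgroup Ω} {L : FusionSystem T'} {A : FusionSystem S'} {q : ℕ} (h : L.IsResidualLimitOf A q) (hq : q.Prime)
    (hfin : Finite S') (hpg : IsPGroup q S') (hA : A.IsSaturated q) {X : FusionSystem T} (hXs : X.IsSaturated q) (hH : X.hyperfocalSubgroup q = T)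
    (hXr : X.IsPPrimeResidual q X) (hI : Ii X A) : X.IsSubsystemOf L := by
  induction h with
  | stable F p _ _ => exact hI.sub
  | @step S E F p D D' hD hD' hL ih =>
    have := Fact.mk hq
    have hHS : F.hyperfocalSubgroup p ≤ S := Cfsg.Agent.Lib.FusionTheory.Hyperfocal.hyp_le F
    have hfin' : Finite (F.hyperfocalSubgroup p) := finite_of_le hHS
    have hpg' : IsPGroup p (F.hyperfocalSubgroup p) := hpg.to_le hHS
    have hTS : T ≤ S := hI.sc.1
    have hX_D : X.IsSubsystemOf D := claim2 hpg hXs hI.sub hTS hH hD.2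
    have hTH : T ≤ F.hyperfocalSubgroup p := hH ▸ hyp_le_hyp (p := p) hI.sub hTS
    have hI_D : Ii X D := hI.mono hX_D hD.2.1 hTH
    have e : D' = e1 D p := pPrimeResidual_unique hD' (Cfsg.Agent.Lib.FusionExt.PrimeRes2.main hpg' D hD.1)
    have hX_D' : X.IsSubsystemOf D' := by
      rw [e]
      exact claim1 hpg' hD.1 hI_D hXs hXr
    have hI_D' : Ii X D' := hI_D.mono hX_D' hD'.2.1.1 hTH
    exact ih hq hfin' hpg' hD'.1 hXs hH hXr hI_D'

/-- The residual limit is stable. -/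
theorem limit_stable {T' S' : Subgroup Ω} {L : FusionSystem T'} {A : FusionSystem S'} {q : ℕ} (h : L.IsResidualLimitOf A q) :
    L.hyperfocalSubgroup q = T' ∧ L.IsPPrimeResidual q L := by
  induction h with
  | stable F p h1 h2 => exact ⟨h1, h2⟩
  | step F p D D' hD hD' hL ih => exact ih

/-- The residual limit is saturated. -/
theorem limit_sat {T' S' : Subgroup Ω} {L : FusionSystem T'} {A : FusionSystem S'} {q : ℕ} (h : L.IsResidualLimitOf A q) (hA : A.IsSaturated q) : L.IsSaturated q := by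
  induction h with
  | stable F p h1 h2 => exact hA
  | step F p D D' hD hD' hL ih => exact ih hD'.1

end Cfsg.Agent.Lib.Fusion.ChiK6
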