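import Cfsg.Agent.Lib.Fusion.ChiK6

/-!
# Residual limits of weakly normal subsystems are weakly normal (helper20)
-/

set_option autoImplicit false

namespace Cfsg.Agent.Lib.Fusion.ChiK7

open Cfsg Cfsg.FusionSystem Cfsg.Agent.Lib.Fusion.Basic Cfsg.Agent.Lib.Fusion.GroupSystem
open Cfsg.Agent.Lib.FusionExt.MapApi Cfsg.Agent.Lib.FusionExt.Basic Cfsg.Agent.Lib.FusionExt.Normal
open Cfsg.Agent.Lib.FusionExt.PowerSys Cfsg.Agent.Lib.FusionExt.PowerGen Cfsg.Agent.Lib.FusionExt.PrimeRes1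
open Cfsg.Agent.Lib.FusionExt.PrimeRes2 Cfsg.Agent.Lib.Fusion.Saturation Cfsg.Agent.Lib.Fusion.Saturation2
open Cfsg.Agent.Lib.FusionExt.SatCrit1 Cfsg.Agent.Lib.FusionExt.Invariant Cfsg.Agent.Lib.FusionExt.PowerE
open Cfsg.Agent.Lib.FusionExt.LowPi Cfsg.Agent.Lib.FusionExt.CentSys
open Cfsg.Agent.Lib.FusionExt.FixQ Cfsg.Agent.Lib.FusionExt.PPrimeMin Cfsg.Agent.Lib.Fusion.LiftX
open Cfsg.Agent.Lib.Fusion.ChiK Cfsg.Agent.Lib.Fusion.ChiK2 Cfsg.Agent.Lib.Fusion.ChiK3 Cfsg.Agent.Lib.Fusion.ChiK4 Cfsg.Agent.Lib.Fusion.ChiK5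
open Cfsg.Agent.Lib.Fusion.ChiK6
open Cfsg.Agent.Lib.FusionTheory.ResidualLimit

universe u

variable {Ω : Type u} [Group Ω] {S T S₁ S₂ : Subgroup Ω} {F : FusionSystem S} {p : ℕ}
variable {X R : Subgroup Ω} {f g h k : Ω → Ω}

section main

variable [Finite S] [Fact p.Prime]

omit [Finite S] in
/-- The hyperfocal subgroup contains the commutators with `p'`-automorphisms. -/
theorem mem_hyp_of_Pp [Finite R] (hR : R ≤ S) (hf : Pp F p R f) {x : Ω} (hx : x ∈ R) : x⁻¹ * f x ∈ F.hyperfocalSubgroup p := by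
  haveI : Finite (MulAut R) := Cfsg.Agent.Lib.Fusion.Basic.finite_mulAut_of_finite (A := R)
  obtain ⟨h1, h2, m, hm, h3⟩ := hf
  obtain ⟨a, ha, hae⟩ := h1.toAut h2
  have hae' : ∀ x ∈ R, autFun a x = f x := fun x hx => by
    rw [autFun_of_mem a hx]
    exact hae ⟨x, hx⟩
  have hord : a ^ m = 1 := by
    ext x
    have h4 := iterate_autFun (a := a) m x
    rw [iterate_congr (fun y hy => (img_autFun a).1 y hy) hae' _ x.2, h3 _ x.2] at h4
    exact h4.symm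
  have hco : (orderOf a).Coprime p := Nat.Coprime.coprime_dvd_left (orderOf_dvd_of_pow_eq_one hord) hm
  have h5 := Cfsg.Agent.Lib.FusionTheory.Hyperfocal.mem_hyp_of_coprime F hR ha hco ⟨x, hx⟩
  have h6 := hae ⟨x, hx⟩
  rwa [h6] at h5

omit [Finite S] [Fact p.Prime] in
/-- The twist of a `p'`-automorphism. -/
theorem pp_tw' {C : FusionSystem S₁} {a : MulAut S₁} {b : MulAut S₂} (hS₁S : S₁ ≤ S) (h21 : S₂ ≤ S₁) (hSI : StrongInv F C) (ha : a ∈ F.autGroup S₁)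
    (he : ∀ x ∈ S₂, autFun b x = autFun a x) (hRS₂ : R ≤ S₂) (hf : Pp C p R f) : Pp C p (cjB b R) (twB b f) := by
  obtain ⟨h1, h2, m, hm, h3⟩ := hf
  have hm₁ := tw_sI hS₁S hSI ha h1
  have hle : cjB b R ≤ cjB a R := by
    rintro y ⟨hy1, hy2⟩
    refine ⟨h21 hy1, ?_⟩
    rw [← he y hy1]
    exact hy2
  have hM : Mp C (cjB b R) (twB b f) := (hm₁.restrict hle).congr (fun y hy => by
    show autFun a⁻¹ (f (autFun a y)) = autFun b⁻¹ (f (autFun b y))
    rw [← he y hy.1]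
    exact (inv_agree he _ (hRS₂ (h2.1 _ hy.2))).symm)
  refine ⟨hM, ⟨fun y hy => ⟨autFun_mem _ (hRS₂ (h2.1 _ hy.2)), ?_⟩, fun z hz => ?_⟩, m, hm, fun y hy => ?_⟩
  · rw [apply_twB]
    exact h2.1 _ hy.2
  · obtain ⟨x, hx, e⟩ := h2.2 _ hz.2
    refine ⟨_, mem_cjB_of b hRS₂ hx, ?_⟩
    rw [twB_inv, e, autFun_inv_apply]
  · rw [iterate_twB, h3 _ hy.2, autFun_inv_apply]

omit [Fact p.Prime] in
/-- `p'`-automorphisms lie in a subsystem of `p`-power index. -/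
theorem mp_of_Pp [Finite R] {C : FusionSystem S₁} {D : FusionSystem S₂} (hidx : D.HasPPowerIndexIn C p) (hR : R ≤ S₂) (hf : Pp C p R f) : Mp D R f := by
  haveI : Finite (MulAut R) := Cfsg.Agent.Lib.Fusion.Basic.finite_mulAut_of_finite (A := R)
  obtain ⟨h1, h2, m, hm, h3⟩ := hf
  obtain ⟨a, ha, hae⟩ := h1.toAut h2
  have hae' : ∀ x ∈ R, autFun a x = f x := fun x hx => by
    rw [autFun_of_mem a hx]
    exact hae ⟨x, hx⟩
  have hord : a ^ m = 1 := by
    ext x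
    have h4 := iterate_autFun (a := a) m x
    rw [iterate_congr (fun y hy => (img_autFun a).1 y hy) hae' _ x.2, h3 _ x.2] at h4
    exact h4.symm
  have hco : (orderOf a).Coprime p := Nat.Coprime.coprime_dvd_left (orderOf_dvd_of_pow_eq_one hord) hm
  exact (mp_autFun hR (mem_of_coprime_of_pPowerIndex hidx hR ha hco)).congr hae'

/-- The invariance of a subsystem of `p`-power index. -/
theorem hI_of_index {C : FusionSystem S₁} {D : FusionSystem S₂} (hS : IsPGroup p S) (hS₁S : S₁ ≤ S) (h21 : S₂ ≤ S₁) (hSI : StrongInv F C)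
    (hDs : D.IsSaturated p) (hidx : D.HasPPowerIndexIn C p) {a : MulAut S₁} {b : MulAut S₂} (ha : a ∈ F.autGroup S₁)
    (he : ∀ x ∈ S₂, autFun b x = autFun a x) : ∀ (X : Subgroup Ω) (f : Ω → Ω), Mp D X f → Mp D (cjB b X) (twB b f) := by
  intro X f hf
  have hS₂S : S₂ ≤ S := h21.trans hS₁S
  have hS₂p : IsPGroup p S₂ := hS.to_le hS₂S
  haveI : Finite S₂ := finite_of_le hS₂S
  have h1 : Mp (conjSysB D b) X f := by
    obtain ⟨φ, hφ, eφ⟩ := hf
    refine ⟨φ, hom_subset_of_coprime hS₂p D hDs le_rfl (conjSysB D b) (fun R hR β hβ hc => ?_) X hφ, eφ⟩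
    refine (mem_autGroup_iff _ hR β).2 (hom_of_mp (mp_conjSysB.2 ⟨hR, ?_⟩))
    have hβC := Pp.of_aut (p := p) (hR.trans h21) (Cfsg.Agent.Lib.FusionExt.PIndex.autGroup_le_of_subsystem hidx.1 hR hβ) hc
    have h2 := pp_tw' hS₁S h21 hSI ha he hR hβC
    haveI : Finite (cjB b R : Subgroup Ω) := finite_of_le (show cjB b R ≤ S from fun y hy => hS₂S hy.1)
    exact mp_of_Pp hidx (fun y hy => hy.1) h2
  exact (mp_conjSysB.1 h1).2

/-- The hyperfocal subgroup of an invariant subsystem is invariant. -/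
theorem hyp_tw {Y : FusionSystem S₁} (hS₁S : S₁ ≤ S) (hSI : StrongInv F Y) {a : MulAut S₁} (ha : a ∈ F.autGroup S₁) :
    ∀ y ∈ Y.hyperfocalSubgroup p, autFun a y ∈ Y.hyperfocalSubgroup p := by
  haveI : Finite S₁ := finite_of_le hS₁S
  have hle : Y.hyperfocalSubgroup p ≤ cjB a (Y.hyperfocalSubgroup p) := by
    refine hyp_le_of_coprime (fun P hP τ hτ hc y => ?_)
    have hy : (y : Ω) ∈ S₁ := hP y.2
    have hτy : ((τ y : P) : Ω) ∈ S₁ := hP (τ y).2
    refine ⟨S₁.mul_mem (S₁.inv_mem hy) hτy, ?_⟩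
    have hai : a⁻¹ ∈ F.autGroup S₁ := Subgroup.inv_mem _ ha
    have h1 := pp_tw' (a := a⁻¹) (b := a⁻¹) hS₁S le_rfl hSI hai (fun _ _ => rfl) hP (Pp.of_aut (p := p) hP hτ hc)
    haveI : Finite (cjB a⁻¹ P : Subgroup Ω) := finite_of_le (show cjB a⁻¹ P ≤ S₁ from fun y hy => hy.1)
    have hx : autFun a (y : Ω) ∈ cjB a⁻¹ P := ⟨autFun_mem a hy, by
      rw [autFun_inv_apply]
      exact y.2⟩
    have h2 := mem_hyp_of_Pp (show cjB a⁻¹ P ≤ S₁ from fun y hy => hy.1) h1 hx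
    rw [autFun_mul a (S₁.inv_mem hy) hτy, autFun_inv' a hy]
    have e : twB a⁻¹ (autFun τ) (autFun a (y : Ω)) = autFun a ((τ y : P) : Ω) := by
      show autFun a⁻¹⁻¹ (autFun τ (autFun a⁻¹ (autFun a (y : Ω)))) = _
      rw [inv_inv, autFun_inv_apply, autFun_coe]
    rwa [e] at h2
  exact fun y hy => (hle hy).2

end main

section main2

variable [Finite S] [Fact p.Prime]

/-- The hyperfocal subgroup of a weakly normal subsystem is strongly closed. -/
theorem hyp_sc (hS : IsPGroup p S) {Y : FusionSystem S₁} (hY : Y.IsWeaklyNormalIn F p) : F.StronglyClosed (Y.hyperfocalSubgroup p) := by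
  obtain ⟨hYs, hFs, hsub, hT, hInv, hFr⟩ := hY
  have hS₁S : S₁ ≤ S := hT.1
  have hSI : StrongInv F Y := strong_of_inv hInv hFr
  haveI : Finite S₁ := finite_of_le hS₁S
  have hHS₁ : Y.hyperfocalSubgroup p ≤ S₁ := Cfsg.Agent.Lib.FusionTheory.Hyperfocal.hyp_le Y
  refine ⟨hHS₁.trans hS₁S, fun R hR φ hφ x => ?_⟩
  obtain ⟨α, hα, g, hg, eg⟩ := form_mp hFr (hR.trans hHS₁) (mp_of_hom hφ)
  have e1 := eg x x.2
  rw [extOf_coe] at e1
  rw [e1]
  have hsc := Cfsg.Agent.Lib.FusionExt.Hyperfocal.stronglyClosed_hyperfocal Y (hS.to_le hS₁S) hYs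
  exact hyp_tw hS₁S hSI hα _ (LiftX.sc_mp hsc hg hR x.2)

omit [Fact p.Prime] in
theorem normal_of_sc {A : FusionSystem S₁} (hT : A.StronglyClosed T) : (T.subgroupOf S₁).Normal :=
  ⟨fun x hx g => sc_conj_mem A hT g.2 hx⟩

/-- **`O^p` of a weakly normal subsystem is weakly normal.** -/
theorem presidual_wn (hS : IsPGroup p S) {Y : FusionSystem S₁} {D : FusionSystem (Y.hyperfocalSubgroup p)} (hY : Y.IsWeaklyNormalIn F p) (hD : Y.IsPResidual p D) :
    D.IsWeaklyNormalIn F p := by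
  have hS₁S : S₁ ≤ S := hY.2.2.2.1.1
  have hSI : StrongInv F Y := strong_of_inv hY.2.2.2.2.1 hY.2.2.2.2.2
  haveI : Finite S₁ := finite_of_le hS₁S
  have hHS₁ : Y.hyperfocalSubgroup p ≤ S₁ := Cfsg.Agent.Lib.FusionTheory.Hyperfocal.hyp_le Y
  have hS₁p := hS.to_le hS₁S
  have hscY := Cfsg.Agent.Lib.FusionExt.Hyperfocal.stronglyClosed_hyperfocal Y hS₁p hY.1
  have hDN := Cfsg.Agent.Lib.FusionExt.PPowerNormal.isNormalIn_of_ppower hS₁p hY.1 hHS₁ (normal_of_sc hscY) le_rfl hD.1 hD.2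
  exact wn_step hY hDN.1 (hyp_sc hS hY) (fun a ha b _ he => hI_of_index hS hS₁S hHS₁ hSI hD.1 hD.2 ha he)

end main2

/-- **Residual limits of weakly normal subsystems are weakly normal.** -/
theorem limit_wn [Finite S] {T' S' : Subgroup Ω} {L : FusionSystem T'} {A : FusionSystem S'} {q : ℕ} (h : L.IsResidualLimitOf A q) (hq : q.Prime)
    (hS : IsPGroup q S) (hA : A.IsWeaklyNormalIn F q) : L.IsWeaklyNormalIn F q := by
  induction h with
  | stable A q _ _ => exact hA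
  | @step S' E A q D D' hD hD' hL ih =>
    have := Fact.mk hq
    have h1 := presidual_wn hS hA hD
    have h2 := (residual_isNormalIn hS h1 hD').1
    exact ih hq hS h2

end Cfsg.Agent.Lib.Fusion.ChiK7
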