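import Cfsg.Agent.Lib.Fusion.ChiK7
import Cfsg.Agent.Lib.FusionExt.PowerMain
import Cfsg.Prelude.Def_Local

/-!
# The chain from `F` down to a subsystem with the automizer of `E` (helper20)
-/

set_option autoImplicit false

namespace Cfsg.Agent.Lib.Fusion.ChiK8

open Cfsg Cfsg.FusionSystem Cfsg.Agent.Lib.Fusion.Basic Cfsg.Agent.Lib.Fusion.GroupSystem
open Cfsg.Agent.Lib.FusionExt.MapApi Cfsg.Agent.Lib.FusionExt.Basic Cfsg.Agent.Lib.FusionExt.Normal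
open Cfsg.Agent.Lib.FusionExt.PowerSys Cfsg.Agent.Lib.FusionExt.PowerGen Cfsg.Agent.Lib.FusionExt.PrimeRes1
open Cfsg.Agent.Lib.FusionExt.PrimeRes2 Cfsg.Agent.Lib.Fusion.Saturation Cfsg.Agent.Lib.Fusion.Saturation2
open Cfsg.Agent.Lib.FusionExt.SatCrit1 Cfsg.Agent.Lib.FusionExt.Invariant Cfsg.Agent.Lib.FusionExt.PowerE
open Cfsg.Agent.Lib.FusionExt.LowPi Cfsg.Agent.Lib.FusionExt.CentSys
open Cfsg.Agent.Lib.FusionExt.FixQ Cfsg.Agent.Lib.FusionExt.PPrimeMin Cfsg.Agent.Lib.Fusion.LiftX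
open Cfsg.Agent.Lib.Fusion.ChiK Cfsg.Agent.Lib.Fusion.ChiK2 Cfsg.Agent.Lib.Fusion.ChiK3 Cfsg.Agent.Lib.Fusion.ChiK4 Cfsg.Agent.Lib.Fusion.ChiK5
open Cfsg.Agent.Lib.Fusion.ChiK6 Cfsg.Agent.Lib.Fusion.ChiK7
open Cfsg.Agent.Lib.FusionTheory.ResidualLimit

universe u

/-- The chain of subgroups between `E₀` and `G`. -/
theorem exists_chain {A : Type*} [Group A] {p : ℕ} (G E₀ : Subgroup A) (hle : E₀ ≤ G) [hn : (E₀.subgroupOf G).Normal]
    (hs : Cfsg.IsPSolvable p (G ⧸ E₀.subgroupOf G)) :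
    ∃ (n : ℕ) (K : Fin (n + 1) → Subgroup A), K 0 = E₀ ∧ K (Fin.last n) = G ∧
      (∀ i, E₀ ≤ K i ∧ K i ≤ G ∧ ∀ a ∈ G, ∀ c ∈ K i, a * c * a⁻¹ ∈ K i) ∧
      ∀ i : Fin n, K i.castSucc ≤ K i.succ ∧
        ((∃ m : ℕ, ∀ a ∈ K i.succ, a ^ (p ^ m) ∈ K i.castSucc) ∨ (∃ r : ℕ, r.Coprime p ∧ ∀ a ∈ K i.succ, a ^ r ∈ K i.castSucc)) := by
  obtain ⟨n, H, h0, hl, hm, hN, hi⟩ := hs
  let π := QuotientGroup.mk' (E₀.subgroupOf G)
  have hπ : ∀ x : G, π x = 1 ↔ (x : A) ∈ E₀ := fun x => QuotientGroup.eq_one_iff x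
  let K : Fin (n + 1) → Subgroup A := fun i => ((H i).comap π).map G.subtype
  have memK : ∀ i a, a ∈ K i ↔ ∃ h : a ∈ G, π ⟨a, h⟩ ∈ H i := by
    intro i a
    constructor
    · rintro ⟨x, hx, rfl⟩
      exact ⟨x.2, hx⟩
    · rintro ⟨h, h1⟩
      exact ⟨⟨a, h⟩, h1, rfl⟩
  have hE₀ : ∀ i, E₀ ≤ K i := fun i a ha => (memK i a).2 ⟨hle ha, by
    rw [(hπ ⟨a, hle ha⟩).2 ha]
    exact (H i).one_mem⟩
  have hKG : ∀ i, K i ≤ G := fun i a ha => ((memK i a).1 ha).1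
  refine ⟨n, K, ?_, ?_, fun i => ⟨hE₀ i, hKG i, fun a ha c hc => ?_⟩, fun i => ⟨?_, ?_⟩⟩
  · refine le_antisymm (fun a ha => ?_) (hE₀ 0)
    obtain ⟨h, h1⟩ := (memK 0 a).1 ha
    rw [h0] at h1
    exact (hπ ⟨a, h⟩).1 (Subgroup.mem_bot.1 h1)
  · refine le_antisymm (hKG _) (fun a ha => (memK _ a).2 ⟨ha, ?_⟩)
    rw [hl]
    trivial
  · obtain ⟨h, h1⟩ := (memK i c).1 hc
    have h2 : π ⟨a * c * a⁻¹, G.mul_mem (G.mul_mem ha h) (G.inv_mem ha)⟩ = π ⟨a, ha⟩ * π ⟨c, h⟩ * (π ⟨a, ha⟩)⁻¹ := by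
      rw [← map_inv, ← map_mul, ← map_mul]
      rfl
    refine (memK i _).2 ⟨G.mul_mem (G.mul_mem ha h) (G.inv_mem ha), ?_⟩
    rw [h2]
    exact (hN i).conj_mem _ h1 _
  · intro a ha
    obtain ⟨h, h1⟩ := (memK _ a).1 ha
    exact (memK _ a).2 ⟨h, hm (Fin.castSucc_lt_succ).le h1⟩
  · have hpow : ∀ a ∈ K i.succ, a ^ ((H i.castSucc).relIndex (H i.succ)) ∈ K i.castSucc := by
      intro a ha
      obtain ⟨h, h1⟩ := (memK _ a).1 ha
      haveI := hN i.castSucc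
      have h2 := Subgroup.pow_index_mem ((H i.castSucc).subgroupOf (H i.succ)) ⟨π ⟨a, h⟩, h1⟩
      refine (memK _ _).2 ⟨G.pow_mem h _, ?_⟩
      have e : π ⟨a ^ ((H i.castSucc).relIndex (H i.succ)), G.pow_mem h _⟩ = (π ⟨a, h⟩) ^ ((H i.castSucc).relIndex (H i.succ)) := by
        rw [← map_pow]
        rfl
      rw [e]
      exact h2
    rcases hi i with ⟨m, hm'⟩ | hc
    · left
      exact ⟨m, fun a ha => by
        have := hpow a ha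
        rwa [hm'] at this⟩
    · right
      exact ⟨_, hc, hpow⟩

theorem mem_of_pow_mem {G : Type*} [Group G] {p : ℕ} {A : Subgroup G} {a : G} {m : ℕ} (hc : (orderOf a).Coprime p) (h : a ^ (p ^ m) ∈ A) : a ∈ A := by
  have hco : (orderOf a).Coprime (p ^ m) := Nat.Coprime.pow_right m hc
  obtain ⟨k, hk1, hk2⟩ := Nat.chineseRemainder hco 1 0
  obtain ⟨d, hd⟩ := (Nat.modEq_zero_iff_dvd).1 hk2
  have h1 : a ^ k = a := by
    have := (pow_eq_pow_iff_modEq (x := a)).2 hk1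
    rwa [pow_one] at this
  rw [← h1, hd, pow_mul]
  exact A.pow_mem h d

theorem mem_of_pow_mem' {G : Type*} [Group G] {p : ℕ} {A : Subgroup G} {a : G} {m r : ℕ} (hr : r.Coprime p) (h1 : a ^ (p ^ m) = 1) (h : a ^ r ∈ A) : a ∈ A := by
  have hco : (p ^ m).Coprime r := (Nat.Coprime.pow_right m hr).symm
  obtain ⟨k, hk1, hk2⟩ := Nat.chineseRemainder hco 1 0
  obtain ⟨d, hd⟩ := (Nat.modEq_zero_iff_dvd).1 hk2
  have h2 : a ^ k = a := by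
    have := (pow_eq_pow_iff_modEq (x := a)).2 (hk1.of_dvd (orderOf_dvd_of_pow_eq_one h1))
    rwa [pow_one] at this
  rw [← h2, hd, pow_mul]
  exact A.pow_mem h d

variable {Ω : Type u} [Group Ω] {S T S₁ S₂ : Subgroup Ω} {F : FusionSystem S} {E : FusionSystem T} {p : ℕ}
variable {X R : Subgroup Ω} {f g h k : Ω → Ω} {K K' : Subgroup (MulAut T)} {C : FusionSystem S₁}

/-- The invariants of the chain. -/
structure Ch (F : FusionSystem S) (E : FusionSystem T) (p : ℕ) (K : Subgroup (MulAut T)) (S₁ : Subgroup Ω) (C : FusionSystem S₁) : Prop where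
  wn : C.IsWeaklyNormalIn F p
  EC : E.IsSubsystemOf C
  aut : ∀ a, a ∈ C.autGroup T ↔ a ∈ K
  mm : ∀ (X : Subgroup Ω) (f : Ω → Ω), X ≤ T → Mp C X f → MM E K X f
  mem : ∀ s, s ∈ S₁ ↔ s ∈ S ∧ ∃ c ∈ K, ∀ t ∈ T, autFun c t = s * t * s⁻¹
  stab : ∀ (U : Subgroup Ω) (X : FusionSystem U), X.IsSaturated p → X.hyperfocalSubgroup p = U → X.IsPPrimeResidual p X → Ii X F → X.IsSubsystemOf C

theorem Ch.T_le (h : Ch F E p K S₁ C) : T ≤ S₁ := Cfsg.Agent.Lib.FusionExt.PIndex.IsSubsystemOf_le h.EC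

theorem Ch.S₁_le (h : Ch F E p K S₁ C) : S₁ ≤ S := h.wn.2.2.2.1.1

/-- Conjugates under an invariant transport. -/
theorem conj_tw (hS₁S : S₁ ≤ S) (hSIC : StrongInv F C) {a : MulAut S₁} (ha : a ∈ F.autGroup S₁) {A Q : Subgroup Ω} (hA : A ≤ S₁)
    (h : C.IsConj (cjB a A) Q) : C.IsConj A (cjB a⁻¹ Q) := by
  obtain ⟨φ, hφ, hr⟩ := h
  have hm : Mp C (cjB a A) (extOf φ) := mp_of_hom hφ
  have hi := img_range hr
  have htw := tw_sI hS₁S hSIC (Subgroup.inv_mem _ ha) hm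
  rw [cjB_inv_cjB a hA] at htw
  have hti : Img A (twB a⁻¹ (extOf φ)) (cjB a⁻¹ Q) := by
    refine ⟨fun x hx => ⟨htw.mem_S hx, ?_⟩, fun y hy => ?_⟩
    · rw [apply_twB]
      refine hi.1 _ ⟨autFun_mem _ (hA hx), ?_⟩
      rw [autFun_apply_inv]
      exact hx
    · obtain ⟨x, hx, e⟩ := hi.2 _ hy.2
      refine ⟨autFun a x, hx.2, ?_⟩
      show autFun a⁻¹⁻¹ (extOf φ (autFun a⁻¹ (autFun a x))) = y
      rw [autFun_inv_apply, e, autFun_inv_apply]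
  exact htw.isConj hti

theorem comm_tw {a : MulAut S₁} {Q : Subgroup Ω} {z : Ω} (hz : z ∈ S₁) (hc : ∀ y ∈ Q, y * z = z * y) :
    ∀ y ∈ cjB a⁻¹ Q, y * autFun a z = autFun a z * y := by
  intro y hy
  apply autFun_inj a⁻¹
  rw [autFun_mul a⁻¹ hy.1 (autFun_mem a hz), autFun_mul a⁻¹ (autFun_mem a hz) hy.1, autFun_inv_apply]
  exact hc _ hy.2

/-- The class `Hh` under an invariant transport. -/
theorem hh_tw (hS₁S : S₁ ≤ S) (hTS₁ : T ≤ S₁) (hSIC : StrongInv F C) {a : MulAut S₁} (ha : a ∈ F.autGroup S₁) (hTa : ∀ t ∈ T, autFun a t ∈ T)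
    (hTa' : ∀ t ∈ T, autFun a⁻¹ t ∈ T) (hX : Hh C T X) : Hh C T (cjB a X) := by
  refine ⟨⟨fun y hy => hy.1, fun Q hQ => ?_⟩, fun Q hQ => ?_⟩
  · have h1 := hX.1.2 _ (conj_tw hS₁S hSIC ha hX.1.1 hQ)
    intro z hz
    obtain ⟨hzS, hzc⟩ := mem_cent.1 hz
    have h2 := h1 (mem_cent.2 ⟨autFun_mem a hzS, comm_tw hzS hzc⟩)
    have h3 := h2.2
    rwa [autFun_inv_apply] at h3
  · have e : cjB a X ⊓ T = cjB a (X ⊓ T) := by
      ext y
      constructor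
      · rintro ⟨⟨h1, h2⟩, h3⟩
        exact ⟨h1, h2, hTa y h3⟩
      · rintro ⟨h1, h2, h3⟩
        refine ⟨⟨h1, h2⟩, ?_⟩
        have := hTa' _ h3
        rwa [autFun_inv_apply] at this
    rw [e] at hQ
    have h1 := hX.2 _ (conj_tw hS₁S hSIC ha (inf_le_left.trans hX.1.1) hQ)
    intro z hz
    obtain ⟨hzT, hzc⟩ := mem_zz.1 hz
    have h2 := h1 (mem_zz.2 ⟨hTa z hzT, comm_tw (hTS₁ hzT) hzc⟩)
    have h3 := h2.2
    rwa [autFun_inv_apply] at h3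

section main

variable [Finite S] [Fact p.Prime]

/-- The subsystem `f0` under automorphisms of the ambient system. -/
theorem f0_tw (hS₁S : S₁ ≤ S) (hTS₁ : T ≤ S₁) (hSIC : StrongInv F C) (hSI : StrongInv F E) (hT : F.StronglyClosed T)
    (hKn : ∀ a ∈ F.autGroup T, ∀ c ∈ K', a * c * a⁻¹ ∈ K') {a : MulAut S₁} (ha : a ∈ F.autGroup S₁) (h : Mp (f0 C E K') X f) :
    Mp (f0 C E K') (cjB a X) (twB a f) := by
  have hTS : T ≤ S := hT.1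
  haveI : Finite S₁ := finite_of_le hS₁S
  have hTa : ∀ t ∈ T, autFun a t ∈ T := fun t ht => LiftX.sc_mp hT ((mp_autFun hS₁S ha).restrict hTS₁) le_rfl ht
  have hTa' : ∀ t ∈ T, autFun a⁻¹ t ∈ T := fun t ht => LiftX.sc_mp hT ((mp_autFun hS₁S (Subgroup.inv_mem _ ha)).restrict hTS₁) le_rfl ht
  have hfam : InFamG C E K' (conjSysB (f0 C E K') a) := by
    intro X f hX hf hm
    refine mp_conjSysB.2 ⟨hX.1.1, f0_gen (hh_tw hS₁S hTS₁ hSIC ha hTa hTa' hX) (tw_sI hS₁S hSIC ha hf) ?_⟩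
    obtain ⟨b, hb, hbf⟩ := exists_res' hS₁S hT hTS₁ ha
    have hbi := inv_agree hbf
    have h1 := MM.tw' hTS hSI hKn hb hm
    refine (h1.restrict (Y := cjB a X ⊓ T) (fun y hy => ⟨hy.2, ?_⟩)).congr (fun y hy => ?_)
    · rw [hbf y hy.2]
      exact ⟨hy.1.2, hTa y hy.2⟩
    · have h2 : autFun a y ∈ X ⊓ T := ⟨hy.1.2, hTa y hy.2⟩
      show autFun b⁻¹ (f (autFun b y)) = autFun a⁻¹ (f (autFun a y))
      rw [hbf y hy.2, hbi _ (hm.mem_T h2)]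
  exact (mp_conjSysB.1 (f0_min hfam h)).2

/-- The setup for the `p'`-step. -/
theorem Ch.setup (hS : IsPGroup p S) (hE : E.IsWeaklyNormalIn F p) (h : Ch F E p K S₁ C) (hKK : K' ≤ K) (hauto : E.autGroup T ≤ K')
    (hKn : ∀ a ∈ F.autGroup T, ∀ c ∈ K', a * c * a⁻¹ ∈ K') (hpel : ∀ a ∈ K, ∀ m : ℕ, a ^ (p ^ m) = 1 → a ∈ K') : Setup C E p K' := by
  obtain ⟨hEs, hFs, hsub, hT, hInv, hFr⟩ := hE
  have hSI : StrongInv F E := strong_of_inv hInv hFr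
  have hCsub : C.IsSubsystemOf F := h.wn.2.2.1
  have hCF : C.autGroup T ≤ F.autGroup T := Cfsg.Agent.Lib.FusionExt.PIndex.autGroup_le_of_subsystem hCsub h.T_le
  refine ⟨hS.to_le h.S₁_le, h.wn.1, hEs, h.EC, ⟨h.T_le, fun R hR φ hφ x => hT.2 R hR φ (hCsub R hφ) x⟩,
    fun P Q hPQ hQT φ hφ hφQ ψ hψ => hSI P Q hPQ hQT φ hφ hφQ ψ (hCsub Q hψ), ?_, ?_⟩
  · refine frClause_of_mp (fun P f hP hf => ?_)
    obtain ⟨c, hc, g, hg, eg⟩ := h.mm P f hP hf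
    exact ⟨c, (h.aut c).2 hc, g, hg, eg⟩
  · exact ⟨fun a ha => (h.aut a).2 (hKK ha), hauto, fun a ha c hc => hKn a (hCF ha) c hc, fun a ha m hm => hpel a ((h.aut a).1 ha) m hm⟩

/-- **The `p'`-step.** -/
theorem Ch.step_pp (hS : IsPGroup p S) (hE : E.IsWeaklyNormalIn F p) (h : Ch F E p K S₁ C) (hKK : K' ≤ K) (hauto : E.autGroup T ≤ K')
    (hKn : ∀ a ∈ F.autGroup T, ∀ c ∈ K', a * c * a⁻¹ ∈ K') (hpel : ∀ a ∈ K, ∀ m : ℕ, a ^ (p ^ m) = 1 → a ∈ K') : Ch F E p K' S₁ (f0 C E K') := by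
  have hS₁S := h.S₁_le
  haveI : Finite S₁ := finite_of_le hS₁S
  have H := h.setup hS hE hKK hauto hKn hpel
  have hSICF : StrongInv F C := strong_of_inv h.wn.2.2.2.2.1 h.wn.2.2.2.2.2
  have hSI : StrongInv F E := strong_of_inv hE.2.2.2.2.1 hE.2.2.2.2.2
  refine ⟨?_, H.E_le, fun a => H.mem_aut_T, fun X f hX hf => ?_, fun s => ⟨fun hs => ?_, ?_⟩, fun U X hXs hH hXr hI => ?_⟩
  · refine wn_step h.wn H.isNormalIn.1 h.wn.2.2.2.1 (fun a ha b _ hbe => ?_)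
    have e : b = a := by
      ext x
      have := hbe x x.2
      rw [autFun_coe, autFun_coe] at this
      exact this
    subst e
    exact fun X f hf => f0_tw hS₁S h.T_le hSICF hSI hE.2.2.2.1 hKn ha hf
  · have := H.tt hf
    rwa [inf_eq_left.2 hX] at this
  · exact ⟨((h.mem s).1 hs).1, normAct T (sc_le_normalizer C H.hT hs), conj_mem_K H.hS H.hT H.hK hs, fun t ht => autFun_normAct _ ht⟩
  · rintro ⟨hs, c, hc, e⟩
    exact (h.mem s).2 ⟨hs, c, hKK hc, e⟩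
  · have h1 := h.stab U X hXs hH hXr hI
    have hUS₁ : U ≤ S₁ := Cfsg.Agent.Lib.FusionExt.PIndex.IsSubsystemOf_le h1
    have hI' : Ii X C := hI.mono h1 h.wn.2.2.1 hUS₁
    have h2 := claim1 H.hS H.hF hI' hXs hXr
    exact fun P => (h2 P).trans (H.residual_le (Cfsg.Agent.Lib.FusionExt.PrimeRes2.main H.hS C H.hF) P)

/-- The system of maps of `D` whose restriction to the intersection with `T` is in the class. -/
theorem ttAx' {D : FusionSystem S₂} (hTS : T ≤ S) (hSI : StrongInv F E) (hKle : K' ≤ F.autGroup T) (hTD : D.StronglyClosed T)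
    (hc : ∀ c ∈ S₂, ∃ d ∈ K', ∀ t ∈ T, autFun d t = c * t * c⁻¹) : SysAx S₂ (fun X f => Mp D X f ∧ MM E K' (X ⊓ T) f) := by
  refine ⟨?_, ?_, ?_, ?_, ?_, ?_, ?_, ?_⟩
  · rintro X f g ⟨h1, h2⟩ e
    exact ⟨h1.congr e, h2.congr (fun x hx => e x hx.1)⟩
  · rintro X f ⟨h1, -⟩
    exact h1.le
  · rintro X f x ⟨h1, -⟩ hx
    exact h1.mem_S hx
  · rintro X f x y ⟨h1, -⟩ hx hy
    exact h1.map_mul hx hy
  · rintro X f x y ⟨h1, -⟩ hx hy e
    exact h1.inj hx hy e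
  · intro X c hX hc'
    obtain ⟨d, hd, ed⟩ := hc c hc'
    exact ⟨Mp.conj hX hc', (MM.of_K hd inf_le_right).congr (fun x hx => ed x hx.2)⟩
  · rintro X Y f g ⟨h1, h2⟩ hm ⟨g1, g2⟩
    refine ⟨h1.comp hm g1, h2.comp (Y := Y ⊓ T) hTS hSI hKle (fun x hx => ⟨hm x hx.1, ?_⟩) g2⟩
    exact LiftX.sc_mp hTD (h1.restrict inf_le_left) inf_le_right hx
  · rintro X Y f ⟨h1, h2⟩ hi
    obtain ⟨k, hk, a1, a2, a3⟩ := h1.inverse hi
    refine ⟨k, ⟨hk, ?_⟩, a1⟩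
    obtain ⟨k', hk', b1⟩ := h2.inv hTS hSI hKle (img_inf hTD h1 hi)
    refine hk'.congr (fun y hy => ?_)
    obtain ⟨x, hx, rfl⟩ := (img_inf hTD h1 hi).2 y hy
    rw [b1 x hx, a1 x hx.1]

/-- **The `p`-step.** -/
theorem Ch.step_p (hS : IsPGroup p S) (hE : E.IsWeaklyNormalIn F p) (h : Ch F E p K S₁ C) (hKK : K' ≤ K) (hauto : E.autGroup T ≤ K')
    (hKn : ∀ a ∈ F.autGroup T, ∀ c ∈ K', a * c * a⁻¹ ∈ K') {m : ℕ} (hq : ∀ a ∈ K, a ^ (p ^ m) ∈ K') : ∃ S₂, ∃ D : FusionSystem S₂, Ch F E p K' S₂ D := by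
  obtain ⟨hEs, hFs, hsub, hT, hInv, hFr⟩ := id hE
  have hTS : T ≤ S := hT.1
  have hSI : StrongInv F E := strong_of_inv hInv hFr
  have hS₁S := h.S₁_le
  have hTS₁ := h.T_le
  haveI : Finite S₁ := finite_of_le hS₁S
  haveI : Finite T := finite_of_le hTS
  have hS₁p := hS.to_le hS₁S
  have hTp := hS.to_le hTS
  have hCsub : C.IsSubsystemOf F := h.wn.2.2.1
  have hCs := h.wn.1
  have hTC : C.StronglyClosed T := ⟨hTS₁, fun R hR φ hφ x => hT.2 R hR φ (hCsub R hφ) x⟩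
  have hSIC' : StrongInv C E := fun P Q hPQ hQT φ hφ hφQ ψ hψ => hSI P Q hPQ hQT φ hφ hφQ ψ (hCsub Q hψ)
  have hSICF : StrongInv F C := strong_of_inv h.wn.2.2.2.2.1 h.wn.2.2.2.2.2
  have hFrC : ∀ (P : Subgroup Ω), P ≤ T → ∀ (φ : P →* Ω), φ ∈ C.Hom P →
      ∃ α ∈ C.autGroup T, ∃ φ₀ ∈ E.Hom P, ∀ (x : P) (hx : φ₀ x ∈ T), φ x = ((α ⟨φ₀ x, hx⟩ : T) : Ω) := by
    refine frClause_of_mp (fun P f hP hf => ?_)
    obtain ⟨c, hc, g, hg, eg⟩ := h.mm P f hP hf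
    exact ⟨c, (h.aut c).2 hc, g, hg, eg⟩
  have hKle : K' ≤ C.autGroup T := fun a ha => (h.aut a).2 (hKK ha)
  have hCF : C.autGroup T ≤ F.autGroup T := Cfsg.Agent.Lib.FusionExt.PIndex.autGroup_le_of_subsystem hCsub hTS₁
  have hKF : K' ≤ F.autGroup T := hKle.trans hCF
  have hKn₁ : ∀ a ∈ C.autGroup T, ∀ c ∈ K', a * c * a⁻¹ ∈ K' := fun a ha c hc => hKn a (hCF ha) c hc
  have hn : ∀ s ∈ S, ∀ t ∈ T, s * t * s⁻¹ ∈ T := fun s hs t ht => sc_conj_mem F hT hs ht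
  have hn₁ : ∀ s ∈ S₁, ∀ t ∈ T, s * t * s⁻¹ ∈ T := fun s hs t ht => hn s (hS₁S hs) t ht
  have hInn : ∀ t ∈ T, ∃ c ∈ K', ∀ u ∈ T, autFun c u = t * u * t⁻¹ := by
    intro t ht
    have hN : t ∈ Subgroup.normalizer (T : Set Ω) := Subgroup.le_normalizer ht
    exact ⟨normAct T hN, hauto (autInducedBy_le_autGroup E le_rfl (normAct_mem_autInducedBy T T hN ht)), fun u hu => autFun_normAct hN hu⟩
  obtain ⟨S', hS'⟩ : ∃ S', S' = kerK S hn K' := ⟨_, rfl⟩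
  have hS'mem : ∀ s, s ∈ S' ↔ s ∈ S ∧ ∃ c ∈ K', ∀ t ∈ T, autFun c t = s * t * s⁻¹ := by
    rw [hS']
    exact fun s => Iff.rfl
  have hS'S₁ : S' ≤ S₁ := fun s hs => (h.mem s).2 (by
    obtain ⟨a, c, hc, e⟩ := (hS'mem s).1 hs
    exact ⟨a, c, hKK hc, e⟩)
  have hTS' : T ≤ S' := fun t ht => (hS'mem t).2 ⟨hTS ht, hInn t ht⟩
  have hSCF : F.StronglyClosed S' := hS' ▸ kerK_sc hS hFs hT hKn hInn
  have hSC : C.StronglyClosed S' := ⟨hS'S₁, fun R hR φ hφ x => hSCF.2 R hR φ (hCsub R hφ) x⟩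
  have hhyp : C.hyperfocalSubgroup p ≤ S' := by
    have h1 := hyp_le_kerK (F := C) (hn := hn₁) hS₁p hCs hTC hKn₁ hInn (m := m) (fun a ha => hq a ((h.aut a).1 ha))
    intro s hs
    obtain ⟨h2, h3⟩ := h1 hs
    exact (hS'mem s).2 ⟨hS₁S h2, h3⟩
  obtain ⟨D, ⟨hDs, hDi⟩, -⟩ := Cfsg.Agent.Lib.FusionExt.PowerMain.main hS₁p C hCs S' hS'S₁ hhyp
  have hDn := Cfsg.Agent.Lib.FusionExt.PPowerNormal.isNormalIn_of_ppower hS₁p hCs hS'S₁ (normal_of_sc hSC) hhyp hDs hDi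
  have hS'p : IsPGroup p S' := hS₁p.to_le hS'S₁
  haveI : Finite S' := finite_of_le hS'S₁
  have hWn : D.IsWeaklyNormalIn F p := wn_step h.wn hDn.1 hSCF (fun a ha b _ he => hI_of_index hS hS₁S hS'S₁ hSICF hDs hDi ha he)
  have hpp : ∀ a ∈ C.autGroup T, (orderOf a).Coprime p → a ∈ K' := fun a ha hc => mem_of_pow_mem hc (hq a ((h.aut a).1 ha))
  have hTD : D.StronglyClosed T := ⟨hTS', fun R hR φ hφ x => hTC.2 R hR φ (hDi.1 R hφ) x⟩
  have hax := ttAx' (F := F) (E := E) (D := D) hTS hSI hKF hTD (fun c hc => ((hS'mem c).1 hc).2)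
  have hmmD : ∀ (P : Subgroup Ω) (f : Ω → Ω), Mp D P f → MM E K' (P ⊓ T) f := by
    intro P f hf
    obtain ⟨φ, hφ, eφ⟩ := hf
    have h1 := hom_subset_of_coprime hS'p D hDs le_rfl (mkSys hax) (fun R hR α hα hc => ?_) P hφ
    · exact ((mp_mkSys hax).1 ⟨φ, h1, eφ⟩).2
    · refine (mem_autGroup_iff _ hR α).2 (hom_of_mp ((mp_mkSys hax).2 ⟨mp_autFun hR hα, ?_⟩))
      have hPp : Pp C p R (autFun α) := Pp.of_aut (hR.trans hS'S₁) (Cfsg.Agent.Lib.FusionExt.PIndex.autGroup_le_of_subsystem hDi.1 hR hα) hc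
      exact pp_MM hS₁p hCs hEs h.EC hTC hSIC' hFrC hKle hKn₁ hpp inf_le_right (pp_inf hTC hPp)
  have haut₁ : ∀ a, a ∈ D.autGroup T → a ∈ K' := by
    intro a ha
    have h1 := hmmD T _ (mp_autFun hTS' ha)
    rw [inf_idem] at h1
    obtain ⟨β, hβ, e⟩ := MM.toK' hauto h1 (img_autFun a)
    have e2 : a = β := by
      ext x
      have := e x x.2
      rw [autFun_coe, autFun_coe] at this
      exact this.symm
    rw [e2]
    exact hβ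
  have haut₂ : ∀ a, a ∈ K' → a ∈ D.autGroup T := by
    intro a ha
    have hfn : C.IsFullyNormalized T := Cfsg.Agent.Lib.FusionExt.PPowerNormal.isFullyNormalized_of_stronglyClosed hTC
    obtain ⟨s, hs, τ, hτ, e⟩ := Cfsg.Agent.Lib.FusionTheory.Hyperfocal.exists_factor C hS₁p hCs hfn ⟨a, hKle ha⟩
    have hτD : (τ : MulAut T) ∈ D.autGroup T := hDi.2.2 T hTS' ⟨τ, hτ, rfl⟩
    have hτK : (τ : MulAut T) ∈ K' := haut₁ _ hτD
    have hN : s ∈ Subgroup.normalizer (T : Set Ω) := sc_le_normalizer C hTC hs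
    have e2 : a = normAct T hN * (τ : MulAut T) := by
      ext x
      exact e x
    have e3 : a * (τ : MulAut T)⁻¹ = normAct T hN := by
      rw [e2]
      group
    have hsS' : s ∈ S' := (hS'mem s).2 ⟨hS₁S hs, a * (τ : MulAut T)⁻¹, Subgroup.mul_mem _ ha (Subgroup.inv_mem _ hτK), fun t ht => by
      rw [e3]
      exact autFun_normAct hN ht⟩
    have h3 : normAct T hN ∈ D.autGroup T := autInducedBy_le_autGroup D hTS' (normAct_mem_autInducedBy S' T hN hsS')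
    rw [e2]
    exact Subgroup.mul_mem _ h3 hτD
  refine ⟨S', D, hWn, fun P => hom_subset_of_coprime hTp E hEs hTS' D (fun R hR α hα hc => ?_) P, fun a => ⟨haut₁ a, haut₂ a⟩, fun X f hX hf => ?_, hS'mem, fun U X hXs hH hXr hI => ?_⟩
  · exact mem_of_coprime_of_pPowerIndex hDi (hR.trans hTS') (Cfsg.Agent.Lib.FusionExt.PIndex.autGroup_le_of_subsystem h.EC hR hα) hc
  · have := hmmD X f hf
    rwa [inf_eq_left.2 hX] at this
  · have h1 := h.stab U X hXs hH hXr hI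
    exact claim2 hS₁p hXs h1 (Cfsg.Agent.Lib.FusionExt.PIndex.IsSubsystemOf_le h1) hH hDi

/-- The start of the chain. -/
theorem ch_init (hS : IsPGroup p S) (hE : E.IsWeaklyNormalIn F p) : Ch F E p (F.autGroup T) S F := by
  obtain ⟨hEs, hFs, hsub, hT, hInv, hFr⟩ := hE
  refine ⟨(Cfsg.Agent.Lib.FusionExt.Comp1.isNormalIn_self hS hFs).1, hsub, fun _ => Iff.rfl, fun X f hX hf => ?_, fun s => ⟨fun hs => ?_, fun h => h.1⟩,
    fun U X _ _ _ hI => hI.sub⟩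
  · obtain ⟨α, hα, g, hg, eg⟩ := form_mp hFr hX hf
    exact ⟨α, hα, g, hg, eg⟩
  · exact ⟨hs, (Cs hT ⟨s, hs⟩ : MulAut T), Subtype.coe_prop _, fun t ht => autFun_Cs hT _ ht⟩

/-- **The chain.** -/
theorem exists_final (hS : IsPGroup p S) (hE : E.IsWeaklyNormalIn F p) [hn : ((E.autGroup T).subgroupOf (F.autGroup T)).Normal]
    (hsolv : Cfsg.IsPSolvable p (↥(F.autGroup T) ⧸ (E.autGroup T).subgroupOf (F.autGroup T))) :
    ∃ S₁, ∃ C : FusionSystem S₁, Ch F E p (E.autGroup T) S₁ C := by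
  have hle : E.autGroup T ≤ F.autGroup T := Cfsg.Agent.Lib.FusionExt.PIndex.autGroup_le_of_subsystem hE.2.2.1 le_rfl
  obtain ⟨n, K, h0, hl, hK, hstep⟩ := exists_chain (F.autGroup T) (E.autGroup T) hle hsolv
  have key : ∀ i, ∃ S₁, ∃ C : FusionSystem S₁, Ch F E p (K i) S₁ C := by
    intro i
    induction i using Fin.reverseInduction with
    | last =>
      rw [hl]
      exact ⟨S, F, ch_init hS hE⟩
    | cast i ih =>
      obtain ⟨S₁, C, h⟩ := ih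
      obtain ⟨hle', hcase⟩ := hstep i
      have hi := hK i.castSucc
      rcases hcase with ⟨m, hm⟩ | ⟨r, hr, hrm⟩
      · exact h.step_p hS hE hle' hi.1 hi.2.2 hm
      · exact ⟨S₁, _, h.step_pp hS hE hle' hi.1 hi.2.2 (fun a ha m hm => mem_of_pow_mem' hr hm (hrm a ha))⟩
  have := key 0
  rwa [h0] at this

end main

end Cfsg.Agent.Lib.Fusion.ChiK8
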