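import Cfsg.Agent.Lib.Fusion.ChiK8
import Cfsg.Agent.Lib.FusionExt.CentE3

/-!
# Reduction to `T C_S(T)`; residual limits (helper20)
-/

set_option autoImplicit false

namespace Cfsg.Agent.Lib.Fusion.ChiK9

open Cfsg Cfsg.FusionSystem Cfsg.Agent.Lib.Fusion.Basic Cfsg.Agent.Lib.Fusion.GroupSystem
open Cfsg.Agent.Lib.FusionExt.MapApi Cfsg.Agent.Lib.FusionExt.Basic Cfsg.Agent.Lib.FusionExt.Normal
open Cfsg.Agent.Lib.FusionExt.PowerSys Cfsg.Agent.Lib.FusionExt.PowerGen Cfsg.Agent.Lib.FusionExt.PrimeRes1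
open Cfsg.Agent.Lib.FusionExt.PrimeRes2 Cfsg.Agent.Lib.Fusion.Saturation Cfsg.Agent.Lib.Fusion.Saturation2
open Cfsg.Agent.Lib.FusionExt.SatCrit1 Cfsg.Agent.Lib.FusionExt.Invariant Cfsg.Agent.Lib.FusionExt.PowerE
open Cfsg.Agent.Lib.FusionExt.LowPi Cfsg.Agent.Lib.FusionExt.CentSys
open Cfsg.Agent.Lib.FusionExt.FixQ Cfsg.Agent.Lib.FusionExt.PPrimeMin Cfsg.Agent.Lib.Fusion.LiftX
open Cfsg.Agent.Lib.Fusion.ChiK Cfsg.Agent.Lib.Fusion.ChiK2 Cfsg.Agent.Lib.Fusion.ChiK3 Cfsg.Agent.Lib.Fusion.ChiK4 Cfsg.Agent.Lib.Fusion.ChiK5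
open Cfsg.Agent.Lib.Fusion.ChiK6 Cfsg.Agent.Lib.Fusion.ChiK7 Cfsg.Agent.Lib.Fusion.ChiK8
open Cfsg.Agent.Lib.FusionTheory.ResidualLimit
open Cfsg.Agent.Lib.FusionExt.CentE Cfsg.Agent.Lib.FusionExt.CentE3

universe u

variable {Ω : Type u} [Group Ω] {S T S₁ : Subgroup Ω} {F : FusionSystem S} {E : FusionSystem T} {p : ℕ}
variable {K : Subgroup (MulAut T)} {C : FusionSystem S₁}

/-- Weakly normal subsystems over a subgroup containing its centralizer are normal. -/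
theorem normal_of_cent (h : C.IsWeaklyNormalIn F p) (hc : centralizerIn S S₁ ≤ S₁) : C.IsNormalIn F p := by
  refine ⟨h, fun α hα => ?_⟩
  have hS₁S : S₁ ≤ S := h.2.2.2.1.1
  have hα' : α ∈ F.autGroup S₁ := Cfsg.Agent.Lib.FusionExt.PIndex.autGroup_le_of_subsystem h.2.2.1 le_rfl hα
  have e : S₁ ⊔ centralizerIn S S₁ = S₁ := sup_eq_left.2 hc
  have hm : Mp F (S₁ ⊔ centralizerIn S S₁) (autFun α) := by
    rw [e]
    exact mp_autFun hS₁S hα'
  have hi : Img (S₁ ⊔ centralizerIn S S₁) (autFun α) (S₁ ⊔ centralizerIn S S₁) := by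
    rw [e]
    exact img_autFun α
  obtain ⟨β, hβ, hβe⟩ := hm.toAut hi
  refine ⟨β, hβ, fun x => ?_, fun c hc' => ?_⟩
  · have := hβe (Subgroup.inclusion le_sup_left x)
    refine this.trans ?_
    show autFun α x = _
    rw [autFun_of_mem α x.2]
  · rw [hβe c]
    have hcS : (c : Ω) ∈ S₁ := hc hc'
    rw [autFun_of_mem α hcS]
    have hcen : ∀ a : S₁, ((α a : S₁) : Ω) * ((α ⟨c, hcS⟩ : S₁) : Ω) = ((α ⟨c, hcS⟩ : S₁) : Ω) * ((α a : S₁) : Ω) := by
      intro a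
      have h1 : a * ⟨c, hcS⟩ = ⟨c, hcS⟩ * a := Subtype.ext ((mem_cent.1 hc').2 a a.2)
      have h2 := congrArg α h1
      rw [map_mul, map_mul] at h2
      exact congrArg Subtype.val h2
    have hv : ((α ⟨c, hcS⟩ : S₁) : Ω) ∈ Subgroup.centralizer (S₁ : Set Ω) := by
      rw [Subgroup.mem_centralizer_iff]
      intro y hy
      have hs : y = ((α (α⁻¹ ⟨y, hy⟩) : S₁) : Ω) := by simp
      rw [hs]
      exact hcen _
    have hc'' : (c : Ω) ∈ Subgroup.centralizer (S₁ : Set Ω) := (mem_cent.1 hc').2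
    exact ⟨S₁.mul_mem (S₁.inv_mem hcS) (α ⟨c, hcS⟩).2, Subgroup.mul_mem _ (Subgroup.inv_mem _ hc'') hv⟩

section main

variable [Finite S] [Fact p.Prime]

/-- The base of the final term of the chain. -/
theorem S₁_eq (hS : IsPGroup p S) (hE : E.IsWeaklyNormalIn F p) (h : Ch F E p (E.autGroup T) S₁ C) : S₁ = T ⊔ centralizerIn S T := by
  obtain ⟨hEs, hFs, hsub, hT, hInv, hFr⟩ := hE
  have hTS : T ≤ S := hT.1
  have hTp := hS.to_le hTS
  haveI : Finite T := finite_of_le hTS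
  refine le_antisymm (fun s hs => ?_) (sup_le h.T_le (fun c hc => (h.mem c).2 ⟨hc.1, 1, Subgroup.one_mem _, fun t ht => ?_⟩))
  · obtain ⟨hsS, c, hc, e⟩ := (h.mem s).1 hs
    have hN : s ∈ Subgroup.normalizer (T : Set Ω) := sc_le_normalizer F hT hsS
    have he : c = normAct T hN := by
      ext x
      have := e x x.2
      rw [autFun_coe] at this
      exact this
    obtain ⟨m, hm⟩ := (isPGroup_autInducedBy T hS) ⟨_, normAct_mem_autInducedBy S T hN hsS⟩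
    have hk : ∃ k : ℕ, c ^ p ^ k = 1 := ⟨m, by
      rw [he]
      exact congrArg Subtype.val hm⟩
    obtain ⟨t, ht, et⟩ := p_elt_inner hTS hTp hEs hc hk
    have hu : t⁻¹ * s ∈ centralizerIn S T := by
      refine mem_cent.2 ⟨S.mul_mem (S.inv_mem (hTS ht)) hsS, fun y hy => ?_⟩
      have h1 := et y hy
      rw [e y hy] at h1
      have h2 : s * y = t * y * t⁻¹ * s := by
        rw [← h1]
        group
      calc y * (t⁻¹ * s) = t⁻¹ * (t * y * t⁻¹ * s) := by group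
        _ = t⁻¹ * (s * y) := by rw [h2]
        _ = t⁻¹ * s * y := by group
    have e2 : s = t * (t⁻¹ * s) := by group
    rw [e2]
    exact Subgroup.mul_mem _ (Subgroup.mem_sup_left ht) (Subgroup.mem_sup_right hu)
  · rw [autFun_one_apply]
    have := (mem_cent.1 hc).2 t ht
    rw [← this]
    group

/-- **The statement of the reduction.** -/
theorem main_env (hS : IsPGroup p S) (hF : F.IsSaturated p) (hE : E.IsNormalIn F p) [hn : ((E.autGroup T).subgroupOf (F.autGroup T)).Normal]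
    (hsolv : Cfsg.IsPSolvable p (↥(F.autGroup T) ⧸ (E.autGroup T).subgroupOf (F.autGroup T))) :
    ∃ F₀ : FusionSystem (T ⊔ centralizerIn S T), F₀.IsNormalIn F p ∧ E.IsSubsystemOf F₀ ∧ F₀.autGroup T = E.autGroup T ∧
      ∀ {U : Subgroup Ω} (Finf : FusionSystem U), Finf.IsResidualLimitOf F p → Finf.IsSubsystemOf F₀ ∧
        ∀ {V : Subgroup Ω} (L : FusionSystem V), L.IsResidualLimitOf F₀ p → ∀ P : Subgroup Ω, L.Hom P = Finf.Hom P := by
  have hp : p.Prime := Fact.out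
  obtain ⟨S₁, C, h⟩ := exists_final hS hE.1 hsolv
  have e := S₁_eq hS hE.1 h
  subst e
  refine ⟨C, normal_of_cent h.wn ?_, h.EC, Subgroup.ext h.aut, fun {U} Finf hFinf => ?_⟩
  · intro c hc
    refine Subgroup.mem_sup_right (mem_cent.2 ⟨(mem_cent.1 hc).1, fun y hy => ?_⟩)
    exact (mem_cent.1 hc).2 y (Subgroup.mem_sup_left hy)
  · have hFwn : F.IsWeaklyNormalIn F p := (Cfsg.Agent.Lib.FusionExt.Comp1.isNormalIn_self hS hF).1
    have hFst := limit_stable hFinf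
    have hFsat := limit_sat hFinf hF
    have hIF : Ii Finf F := Ii.of_wn (limit_wn hFinf hp hS hFwn)
    have hsub₀ := h.stab U Finf hFsat hFst.1 hFst.2 hIF
    refine ⟨hsub₀, fun {V} L hL P => ?_⟩
    have hLst := limit_stable hL
    have hLsat := limit_sat hL h.wn.1
    have hIL : Ii L F := Ii.of_wn (limit_wn hL hp hS h.wn)
    have h1 : L.IsSubsystemOf Finf := stable_le_limit hFinf hp inferInstance hS hF hLsat hLst.1 hLst.2 hIL
    have hI₀ : Ii Finf C := hIF.mono hsub₀ h.wn.2.2.1 (Cfsg.Agent.Lib.FusionExt.PIndex.IsSubsystemOf_le hsub₀)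
    have h2 : Finf.IsSubsystemOf L := stable_le_limit hL hp (finite_of_le h.S₁_le) (hS.to_le h.S₁_le) h.wn.1 hFsat hFst.1 hFst.2 hI₀
    exact Set.Subset.antisymm (h1 P) (h2 P)

/-- The hyperfocal subgroup of the final term lies in `T`. -/
theorem hyp_le_T (hS : IsPGroup p S) (hE : E.IsNormalIn F p) (hFoc : Foc F T ≤ T) (hS₁ : S₁ = T ⊔ centralizerIn S T) (h : Ch F E p (E.autGroup T) S₁ C) :
    C.hyperfocalSubgroup p ≤ T := by
  subst hS₁
  obtain ⟨⟨hEs, hF, hsub, hT, hInv, hFr⟩, hext⟩ := id hE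
  have hTS : T ≤ S := hT.1
  have hWS : T ⊔ centralizerIn S T ≤ S := h.S₁_le
  haveI : Finite ↥(T ⊔ centralizerIn S T) := finite_of_le hWS
  haveI : Finite ↥(centralizerIn S T) := finite_of_le (inf_le_left : centralizerIn S T ≤ S)
  have hWp := hS.to_le hWS
  have hCsub : C.IsSubsystemOf F := h.wn.2.2.1
  have hTC : C.StronglyClosed T := ⟨h.T_le, fun R hR φ hφ x => hT.2 R hR φ (hCsub R hφ) x⟩
  have hTnC : T ≤ Subgroup.normalizer (centralizerIn S T : Set Ω) := by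
    intro t ht
    refine mem_normalizer_of_conj_le' (fun c hc => ?_)
    have h1 := (mem_cent.1 hc).2 t ht
    have e : t * c * t⁻¹ = c := by
      rw [h1]
      group
    rwa [e]
  have hfac : ∀ z ∈ T ⊔ centralizerIn S T, ∃ t ∈ T, ∃ c ∈ centralizerIn S T, z = t * c := fun z hz => exists_mul_of_mem_sup' hTnC hz
  refine hyp_le_of_coprime (fun P hP τ hτ hc y => ?_)
  obtain ⟨g, hg, eg⟩ := lf_main hWp h.wn.1 hTC P _ (mp_autFun hP hτ)
  obtain ⟨α, hα, hαe⟩ := exists_alpha hTC le_sup_right hg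
  obtain ⟨β, hβ, hβT, hβC⟩ := hext α ((h.aut α).1 hα)
  have hβT' : ∀ t ∈ T, autFun β t = g t := by
    intro t ht
    rw [autFun_of_mem β (Subgroup.mem_sup_left ht), ← hαe t ht, autFun_of_mem α ht]
    exact hβT ⟨t, ht⟩
  have hβC' : ∀ c ∈ centralizerIn S T, c⁻¹ * autFun β c ∈ T := by
    intro c hc'
    rw [autFun_of_mem β (Subgroup.mem_sup_right hc')]
    exact (hβC ⟨c, Subgroup.mem_sup_right hc'⟩ hc').1
  have hgF := mp_sub hCsub hg
  have hβi : β⁻¹ ∈ F.autGroup (T ⊔ centralizerIn S T) := Subgroup.inv_mem _ hβ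
  have hγ : Mp F (P ⊔ T) (fun x => autFun β⁻¹ (g x)) :=
    hgF.comp (Y := T ⊔ centralizerIn S T) (fun x hx => hg.mem_S hx) (mp_autFun hWS hβi)
  have hγT : ∀ t ∈ T, autFun β⁻¹ (g t) = t := by
    intro t ht
    rw [← hβT' t ht, autFun_inv_apply]
  have key1 : ∀ x ∈ P, x⁻¹ * autFun β⁻¹ (g x) ∈ T := by
    intro x hx
    obtain ⟨t, ht, c, hc', rfl⟩ := hfac x (hP hx)
    have htL : t ∈ P ⊔ T := Subgroup.mem_sup_right ht
    have hxL : t * c ∈ P ⊔ T := Subgroup.mem_sup_left hx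
    have hcL : c ∈ P ⊔ T := by
      have := Subgroup.mul_mem _ (Subgroup.inv_mem _ htL) hxL
      rwa [inv_mul_cancel_left] at this
    have e1 : autFun β⁻¹ (g (t * c)) = t * autFun β⁻¹ (g c) := by
      have := hγ.map_mul htL hcL
      rw [hγT t ht] at this
      exact this
    rw [e1]
    have hγc : autFun β⁻¹ (g c) ∈ centralizerIn S T := by
      refine mem_cent.2 ⟨hγ.mem_S hcL, fun u hu => ?_⟩
      have huL : u ∈ P ⊔ T := Subgroup.mem_sup_right hu
      have h1 := hγ.map_mul huL hcL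
      have h2 := hγ.map_mul hcL huL
      have h3 := (mem_cent.1 hc').2 u hu
      rw [hγT u hu] at h1 h2
      rw [← h1, h3, h2]
    have hRel : Rel F T c (autFun β⁻¹ (g c)) := by
      refine ⟨hc', hγc, _, hγ.restrict (sup_le le_sup_right ((Subgroup.zpowers_le).2 hcL)), hγT, rfl⟩
    have h4 : c⁻¹ * autFun β⁻¹ (g c) ∈ T := hFoc (Subgroup.subset_closure ⟨c, _, hRel, rfl⟩)
    have e2 : (t * c)⁻¹ * (t * autFun β⁻¹ (g c)) = c⁻¹ * autFun β⁻¹ (g c) := by group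
    rw [e2]
    exact h4
  have key2 : ∀ z ∈ T ⊔ centralizerIn S T, z⁻¹ * autFun β z ∈ T := by
    intro z hz
    obtain ⟨t, ht, c, hc', rfl⟩ := hfac z hz
    rw [autFun_mul β (Subgroup.mem_sup_left ht) (Subgroup.mem_sup_right hc'), hβT' t ht]
    have hgt : g t ∈ T := LiftX.sc_mp hT (hgF.restrict le_sup_right) le_rfl ht
    have h1 : t⁻¹ * g t ∈ T := T.mul_mem (T.inv_mem ht) hgt
    have hcS : c ∈ S := hc'.1
    have h2 := sc_conj_mem F hT (S.inv_mem hcS) h1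
    rw [inv_inv] at h2
    have e : (t * c)⁻¹ * (g t * autFun β c) = c⁻¹ * (t⁻¹ * g t) * c * (c⁻¹ * autFun β c) := by group
    rw [e]
    exact T.mul_mem h2 (hβC' c hc')
  have hy := y.2
  have hyL : (y : Ω) ∈ P ⊔ T := Subgroup.mem_sup_left hy
  have h5 := key1 _ hy
  have h6 := key2 _ (autFun_mem β⁻¹ (hg.mem_S hyL))
  rw [autFun_apply_inv] at h6
  have h7 := eg _ hy
  rw [autFun_coe] at h7
  have e : (y : Ω)⁻¹ * ((τ y : P) : Ω) = ((y : Ω)⁻¹ * autFun β⁻¹ (g y)) * ((autFun β⁻¹ (g y))⁻¹ * g y) * ((g y)⁻¹ * ((τ y : P) : Ω)) := by group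
  rw [e]
  exact T.mul_mem (T.mul_mem h5 h6) h7

/-- **The residual limits agree.** -/
theorem main_lim (hS : IsPGroup p S) (hF : F.IsSaturated p) (hE : E.IsNormalIn F p)
    (hCE : ∀ Y : Subgroup Ω, Y ≤ centralizerIn S T → (∀ C : FusionSystem (centralizerIn S Y), F.IsCentralizerSystem Y C → E.IsSubsystemOf C) → Y ≤ T)
    [hn : ((E.autGroup T).subgroupOf (F.autGroup T)).Normal]
    (hsolv : Cfsg.IsPSolvable p (↥(F.autGroup T) ⧸ (E.autGroup T).subgroupOf (F.autGroup T))) {U V : Subgroup Ω} (Finf : FusionSystem U)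
    (hFinf : Finf.IsResidualLimitOf F p) (Einf : FusionSystem V) (hEinf : Einf.IsResidualLimitOf E p) : ∀ P : Subgroup Ω, Finf.Hom P = Einf.Hom P := by
  have hp : p.Prime := Fact.out
  have hTS : T ≤ S := hE.1.2.2.2.1.1
  haveI : Finite T := finite_of_le hTS
  have hTp := hS.to_le hTS
  obtain ⟨S₁, C, h⟩ := exists_final hS hE.1 hsolv
  have e := S₁_eq hS hE.1 h
  have hCC : CC F E ≤ T := hCE (CC F E) CC_le (fun D hD P => by
    rw [hD P]
    exact (Cfsg.Agent.Lib.FusionExt.CentE2.main' hS hE).2.1 P)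
  have hhyp := hyp_le_T hS hE ((Foc_le_CC hS hE).trans hCC) e h
  have hFwn : F.IsWeaklyNormalIn F p := (Cfsg.Agent.Lib.FusionExt.Comp1.isNormalIn_self hS hF).1
  have hFst := limit_stable hFinf
  have hFsat := limit_sat hFinf hF
  have hIF : Ii Finf F := Ii.of_wn (limit_wn hFinf hp hS hFwn)
  have hsub₀ := h.stab U Finf hFsat hFst.1 hFst.2 hIF
  have hUS₁ : U ≤ S₁ := Cfsg.Agent.Lib.FusionExt.PIndex.IsSubsystemOf_le hsub₀
  have hUT : U ≤ T := (hFst.1 ▸ hyp_le_hyp (p := p) hsub₀ hUS₁).trans hhyp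
  have hFE : Finf.IsSubsystemOf E := by
    intro P φ hφ
    have hPU : P ≤ U := le_of_mem Finf hφ
    obtain ⟨c, hc, g, hg, eg⟩ := h.mm P _ (hPU.trans hUT) (mp_of_hom (hsub₀ P hφ))
    exact hom_of_mp ((hg.comp (Y := T) (fun x hx => hg.mem_S hx) (mp_autFun le_rfl hc)).congr (fun x hx => (eg x hx).symm))
  have hIE : Ii Finf E := hIF.mono hFE hE.1.2.2.1 hUT
  have h1 : Finf.IsSubsystemOf Einf := stable_le_limit hEinf hp inferInstance hTp hE.1.1 hFsat hFst.1 hFst.2 hIE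
  have hEst := limit_stable hEinf
  have hEsat := limit_sat hEinf hE.1.1
  have h2 : Einf.IsSubsystemOf Finf := stable_le_limit hFinf hp inferInstance hS hF hEsat hEst.1 hEst.2 (Ii.of_wn (limit_wn hEinf hp hS hE.1))
  exact fun P => Set.Subset.antisymm (h1 P) (h2 P)

end main

end Cfsg.Agent.Lib.Fusion.ChiK9
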