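import Cfsg.Agent.Lib.Fusion.Generation3

/-!
# Local control of transfer by a characteristic functor: the trivial-core part
-/

set_option autoImplicit false

namespace Cfsg.Agent.Lib.Fusion.FocalControl

open Cfsg Cfsg.FusionSystem Cfsg.Agent.Lib.Fusion.Basic Cfsg.Agent.Lib.Fusion.Saturation
  Cfsg.Agent.Lib.Fusion.Saturation2 Cfsg.Agent.Lib.Fusion.LocalGlobal Cfsg.Agent.Lib.Fusion.Center
  Cfsg.Agent.Lib.Fusion.Model Cfsg.Agent.Lib.Fusion.ModelNormalizer Cfsg.Agent.Lib.Fusion.NormSystem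
  Cfsg.Agent.Lib.Core.Basic Cfsg.Agent.Lib.FusionExt.Basic Cfsg.Agent.Lib.Fusion.KSystem
  Cfsg.Agent.Lib.Fusion.WeakClosure Cfsg.Agent.Lib.Fusion.FrobThompson2 Cfsg.Agent.Lib.Core.SylowFacts
  Cfsg.Agent.Lib.Fusion.Generation Cfsg.Agent.Lib.Fusion.Generation3 Cfsg.Agent.Lib.FusionExt.Normal

universe u

section sys

variable {Ω : Type*} [Group Ω] {S : Subgroup Ω}

/-- The maps of `F` congruent to the identity modulo `Φ`. -/
def stabSys (F : FusionSystem S) (Φ : Subgroup Ω) (hΦ : ∀ g ∈ S, ∀ x ∈ S, x⁻¹ * (g * x * g⁻¹) ∈ Φ) : FusionSystem S where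
  Hom P := {φ | φ ∈ F.Hom P ∧ ∀ x : P, (x : Ω)⁻¹ * φ x ∈ Φ}
  le_of_mem := fun h => F.le_of_mem h.1
  injective_of_mem := fun h => F.injective_of_mem h.1
  conj_mem := fun {P g} hP hg => ⟨F.conj_mem hP hg, fun x => hΦ g hg x (hP x.2)⟩
  comp_mem := by
    rintro P Q φ ψ ⟨h1, h2⟩ ⟨k1, k2⟩ h
    refine ⟨F.comp_mem h1 k1 h, fun x => ?_⟩
    have h3 := Φ.mul_mem (h2 x) (k2 ⟨φ x, h x⟩)
    have e : (x : Ω)⁻¹ * φ x * ((φ x)⁻¹ * ψ ⟨φ x, h x⟩) = (x : Ω)⁻¹ * ψ ⟨φ x, h x⟩ := by group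
    rw [e] at h3
    exact h3
  inv_mem := by
    rintro P φ ⟨h1, h2⟩
    obtain ⟨ψ, hψ, hv⟩ := F.inv_mem h1
    refine ⟨ψ, ⟨hψ, ?_⟩, hv⟩
    rintro ⟨_, y, rfl⟩
    rw [hv]
    have h3 := Φ.inv_mem (h2 y)
    have e : ((y : Ω)⁻¹ * φ y)⁻¹ = (φ y)⁻¹ * y := by group
    rw [e] at h3
    exact h3

/-- All maps are congruent to the identity modulo `Φ`. -/
def Good (F : FusionSystem S) (Φ : Subgroup Ω) : Prop :=
  ∀ (P : Subgroup Ω) (φ : P →* Ω), φ ∈ F.Hom P → ∀ x : P, (x : Ω)⁻¹ * φ x ∈ Φ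

/-- All automorphisms of subgroups between `U` and `N_S(U)` preserving `U` are congruent to the identity modulo `Φ`. -/
def GoodA (F : FusionSystem S) (U Φ : Subgroup Ω) : Prop :=
  ∀ (R : Subgroup Ω) (γ : MulAut R), U ≤ R → R ≤ normalizerIn S U → γ ∈ F.autGroup R →
    (∀ y : R, (y : Ω) ∈ U → ((γ y : R) : Ω) ∈ U) → ∀ x : R, (x : Ω)⁻¹ * ((γ x : R) : Ω) ∈ Φ

end sys

section main

variable {Ω : Type u} [Group Ω] {S : Subgroup Ω} {F : FusionSystem S} {p : ℕ} [hp : Fact p.Prime]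
  {W : ∀ (Q : Type u) [Group Q], Subgroup Q}

/-- The induction hypothesis. -/
def IH (p : ℕ) (W : ∀ (Q : Type u) [Group Q], Subgroup Q) (F : FusionSystem S) : Prop :=
  ∀ (Ω₂ : Type u) [Group Ω₂] (S₂ : Subgroup Ω₂) [Finite S₂], IsPGroup p S₂ → ∀ F₂ : FusionSystem S₂, F₂.IsSaturated p →
    Mu F₂ < Mu F → ∀ Φ₂ : Subgroup Ω₂, GoodA F₂ (UU W S₂) Φ₂ → Good F₂ Φ₂

variable [Finite S]

theorem mu_normalizer_lt {U : Subgroup Ω} (hUS : U ≤ S) (hUO : ¬ U ≤ F.core)
    {G : FusionSystem (normalizerIn S U)} (hG : F.IsNormalizerSystem U G) : Mu G < Mu F := by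
  have hTS : normalizerIn S U ≤ S := inf_le_left
  haveI hTf : Finite ↥(normalizerIn S U) := finite_of_le hTS
  have hO : F.IsNormal F.core := Cfsg.Agent.S5145.result F
  have hOS : F.core ≤ S := hO.1
  have hcoreG : G.core ≤ normalizerIn S U := (Cfsg.Agent.S5145.result G).1
  haveI : Finite G.core := finite_of_le (hcoreG.trans hTS)
  have hpos : 0 < Nat.card G.core := Nat.card_pos
  have h1 : Nat.card G.core ≤ Nat.card (normalizerIn S U) := card_le_of_le_finite hcoreG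
  have h2 : Nat.card F.core ≤ Nat.card S := card_le_of_le_finite hOS
  unfold Mu
  by_cases hTe : normalizerIn S U = S
  · have hSN : S ≤ Subgroup.normalizer (U : Set Ω) := by
      rw [← hTe]
      exact inf_le_right
    have hOG := Cfsg.Agent.Lib.Fusion.FrobThompson.isNormal_normalizerSystem hO hSN hG
    have hUG := normalizerSystem_isNormal F hUS hG
    have h3 : F.core ≤ G.core := le_sSup hOG
    have h4 : U ≤ G.core := le_sSup hUG
    have h5 : F.core < G.core := lt_of_le_of_ne h3 (fun e => hUO (h4.trans e.ge))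
    have h6 : Nat.card F.core < Nat.card G.core := card_lt_of_lt h5
    have h7 : Nat.card (normalizerIn S U) = Nat.card S := by rw [hTe]
    omega
  · have hlt : normalizerIn S U < S := lt_of_le_of_ne hTS hTe
    have h3 : Nat.card (normalizerIn S U) < Nat.card S := card_lt_of_lt hlt
    obtain ⟨k, hk⟩ := Subgroup.card_dvd_of_le hTS
    have hb : 0 < Nat.card S := Nat.card_pos
    have h5 : 2 * Nat.card (normalizerIn S U) ≤ Nat.card S := by
      by_contra hcon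
      have hk2 : k < 2 := by
        by_contra hk3
        apply hcon
        rw [hk, mul_comm 2]
        exact Nat.mul_le_mul_left _ (by omega)
      have hk0 : k = 0 ∨ k = 1 := by omega
      rcases hk0 with rfl | rfl
      · simp at hk
        omega
      · simp at hk
        omega
    omega

/-- `N_F(U)` for `U` not in `O_p(F)`. -/
theorem sub_goodA (hS : IsPGroup p S) (hF : F.IsSaturated p) (hIH : IH p W F) {U Φ : Subgroup Ω}
    (hU : F.IsFullyNormalized U) (hUO : ¬ U ≤ F.core)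
    (hNJ : ∀ R : Subgroup Ω, R ≤ normalizerIn S U → UU W (normalizerIn S U) ≤ R → ∀ γ ∈ F.autGroup R,
      (∀ y : R, (y : Ω) ∈ UU W (normalizerIn S U) → ((γ y : R) : Ω) ∈ UU W (normalizerIn S U)) →
      ∀ x : R, (x : Ω)⁻¹ * ((γ x : R) : Ω) ∈ Φ) : GoodA F U Φ := by
  have hUS : U ≤ S := hU.1
  obtain ⟨G, hG⟩ := exists_normalizerSystem F hUS
  have hGsat := isSaturated_normalizerSystem hS F hF hU G hG
  have hTS : normalizerIn S U ≤ S := inf_le_left
  haveI hTf : Finite ↥(normalizerIn S U) := finite_of_le hTS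
  have hTp : IsPGroup p ↥(normalizerIn S U) := hS.to_le hTS
  have hGF : ∀ R', R' ≤ normalizerIn S U → ∀ γ' ∈ G.autGroup R', γ' ∈ F.autGroup R' := by
    intro R' hR' γ' hγ'
    rw [mem_autGroup_iff F (hR'.trans hTS)]
    have h1 := autHom_mem G hR' hγ'
    rw [hG] at h1
    exact h1.1
  have hμ : Mu G < Mu F := mu_normalizer_lt hUS hUO hG
  have hGA : GoodA G (UU W (normalizerIn S U)) Φ := by
    intro R γ hUR hRN hγ hpres
    have hRT : R ≤ normalizerIn S U := hRN.trans inf_le_left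
    exact hNJ R hRT hUR γ (hGF R hRT γ hγ) hpres
  have h := hIH Ω (normalizerIn S U) hTp G hGsat hμ Φ hGA
  intro R γ hUR hRN hγ hpres x
  have h1 : autHom γ ∈ G.Hom R := by
    rw [hG]
    exact aut_mem_normalizerHom (hRN.trans hTS) hUR hRN hγ hpres
  exact h R _ h1 x

/-- `N_F(U)` for `U` normal in `S` and not in `O_p(F)`. -/
theorem good_of_normal (hS : IsPGroup p S) (hF : F.IsSaturated p) (hIH : IH p W F) {U Φ : Subgroup Ω} (hUS : U ≤ S)
    (hUn : S ≤ Subgroup.normalizer (U : Set Ω)) (hUO : ¬ U ≤ F.core) (hN : GoodA F (UU W S) Φ)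
    (hW2 : ∀ (Q R : Type u) [Group Q] [Group R] [Finite Q], IsPGroup p Q → ∀ φ : Q ≃* R, (W Q).map φ.toMonoidHom = W R) :
    GoodA F U Φ := by
  have hTe : normalizerIn S U = S := inf_eq_left.2 hUn
  have hfn : F.IsFullyNormalized U := by
    refine ⟨hUS, fun Q' _ => ?_⟩
    rw [hTe]
    exact card_le_of_le_finite inf_le_left
  have key : ∀ T : Subgroup Ω, T = S → ∀ R : Subgroup Ω, R ≤ T → UU W T ≤ R → ∀ γ ∈ F.autGroup R,
      (∀ y : R, (y : Ω) ∈ UU W T → ((γ y : R) : Ω) ∈ UU W T) → ∀ x : R, (x : Ω)⁻¹ * ((γ x : R) : Ω) ∈ Φ := by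
    rintro T rfl R hR hJ γ₁ hγ₁ hp₁ x
    have hRN : R ≤ normalizerIn T (UU W T) := hR.trans (by
      have h1 := normalizerIn_le_UU W hW2 hS (le_refl T)
      have h2 : normalizerIn T T = T := inf_eq_left.2 (fun t ht => Subgroup.le_normalizer ht)
      rwa [h2] at h1)
    exact hN R γ₁ hJ hRN hγ₁ hp₁ x
  exact sub_goodA hS hF hIH hfn hUO (key _ hTe)

/-- The case of trivial `O_p(F)`. -/
theorem good_of_core_bot (hS : IsPGroup p S) (hF : F.IsSaturated p) (hIH : IH p W F) {Φ : Subgroup Ω}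
    (hcore : F.core = ⊥) (hN : GoodA F (UU W S) Φ)
    (hW1 : ∀ (Q : Type u) [Group Q] [Finite Q], IsPGroup p Q → Nontrivial Q → W Q ≠ ⊥)
    (hW2 : ∀ (Q R : Type u) [Group Q] [Group R] [Finite Q], IsPGroup p Q → ∀ φ : Q ≃* R, (W Q).map φ.toMonoidHom = W R)
    (hΦ : ∀ g ∈ S, ∀ x ∈ S, x⁻¹ * (g * x * g⁻¹) ∈ Φ) : Good F Φ := by
  have hSN : S ≤ normalizerIn S (UU W S) := by
    have h1 := normalizerIn_le_UU W hW2 hS (le_refl S)
    have h2 : normalizerIn S S = S := inf_eq_left.2 (fun t ht => Subgroup.le_normalizer ht)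
    rwa [h2] at h1
  have hUUS : UU W S ≤ S := UU_le W S
  have hEF : ∀ P, (stabSys F Φ hΦ).Hom P ⊆ F.Hom P := fun P φ h => h.1
  have hTop : ∀ γ ∈ F.autGroup S, autHom γ ∈ (stabSys F Φ hΦ).Hom S := by
    intro γ hγ
    refine ⟨autHom_mem F le_rfl hγ, fun x => ?_⟩
    refine hN S γ hUUS hSN hγ (fun y hy => ?_) x
    have h1 := hW2 S S hS γ
    obtain ⟨t, ht, e⟩ := hy
    have e' : t = y := Subtype.ext e
    subst e'
    refine ⟨γ t, ?_, rfl⟩
    show γ t ∈ W S
    rw [← h1]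
    exact ⟨t, ht, rfl⟩
  have hall := global_of_local (E := stabSys F Φ hΦ) hS hF hEF hTop (by
    intro n hbig Q γ hQ hQc hγ hb hn hmax
    have hQS : Q ≤ S := hQ.1
    have hQO : ¬ Q ≤ F.core := by
      intro h
      rw [hcore] at h
      have hQb : Q = ⊥ := le_bot_iff.1 h
      have h1 := hQc.2 Q (isConj_refl F hQS)
      have h2 : S ≤ centralizerIn S Q := by
        intro s hs
        refine ⟨hs, Subgroup.mem_centralizer_iff.2 fun z hz => ?_⟩
        rw [hQb] at hz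
        have : z = 1 := hz
        rw [this, one_mul, mul_one]
      have hQe : Q = S := le_antisymm hQS (h2.trans h1)
      subst hQe
      exact hb (hTop γ hγ)
    let s : Set ℕ := {m | ∃ U : Subgroup Ω, U ≤ S ∧ ¬ U ≤ F.core ∧ BadE F (stabSys F Φ hΦ) U ∧
      n < Nat.card (normalizerIn S U) ∧ m = Nat.card (normalizerIn S U)}
    have hbd : BddAbove s := ⟨Nat.card S, by
      rintro _ ⟨U, -, -, -, -, rfl⟩
      exact card_le_of_le_finite inf_le_left⟩
    have hne : s.Nonempty := ⟨_, Q, hQS, hQO, ⟨Q, γ, le_rfl, le_normalizerIn hQS, hγ, hb, fun y _ => (γ y).2⟩, hn, rfl⟩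
    obtain ⟨U₁, hU₁S, hU₁O, hU₁b, hU₁n, hU₁e⟩ := Nat.sSup_mem hne hbd
    have hmaxs : ∀ m ∈ s, m ≤ Nat.card (normalizerIn S U₁) := by
      intro m hm
      rw [← hU₁e]
      exact le_csSup hbd hm
    obtain ⟨U', hc, hfn⟩ := exists_isFullyNormalized F hU₁S
    have hbad' := BadE.transport hS hF hEF hbig hfn hc hU₁n hU₁b
    have hcard : Nat.card (normalizerIn S U₁) ≤ Nat.card (normalizerIn S U') := hfn.2 U₁ (isConj_symm F hc)
    have hU'O : ¬ U' ≤ F.core := by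
      intro h
      apply hU₁O
      have hsc := isNormal_stronglyClosed F (Cfsg.Agent.S5145.result F)
      obtain ⟨φ, hφ, hr⟩ := isConj_symm F hc
      rw [← hr]
      rintro _ ⟨u, rfl⟩
      exact sc_map_mem' F hsc hφ u (h u.2)
    have hTS : normalizerIn S U' ≤ S := inf_le_left
    haveI hTf : Finite ↥(normalizerIn S U') := finite_of_le hTS
    have hTp : IsPGroup p ↥(normalizerIn S U') := hS.to_le hTS
    have key : ∀ T : Subgroup Ω, T = S → ∀ R : Subgroup Ω, R ≤ T → UU W T ≤ R → ∀ γ ∈ F.autGroup R,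
        (∀ y : R, (y : Ω) ∈ UU W T → ((γ y : R) : Ω) ∈ UU W T) → ∀ x : R, (x : Ω)⁻¹ * ((γ x : R) : Ω) ∈ Φ := by
      rintro T rfl R hR hJ γ₁ hγ₁ hp₁ x
      exact hN R γ₁ hJ (hR.trans hSN) hγ₁ hp₁ x
    have hNJ : ∀ R : Subgroup Ω, R ≤ normalizerIn S U' → UU W (normalizerIn S U') ≤ R → ∀ γ ∈ F.autGroup R,
        (∀ y : R, (y : Ω) ∈ UU W (normalizerIn S U') → ((γ y : R) : Ω) ∈ UU W (normalizerIn S U')) →
        ∀ x : R, (x : Ω)⁻¹ * ((γ x : R) : Ω) ∈ Φ := by
      by_cases hTe : normalizerIn S U' = S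
      · exact key _ hTe
      intro R hR hJR γ₁ hγ₁ hp₁ x
      by_contra hbad₁
      have hlt : normalizerIn S U' < S := lt_of_le_of_ne hTS hTe
      have hJTS : UU W (normalizerIn S U') ≤ S := (UU_le W _).trans hTS
      have hlt2 : normalizerIn S U' < normalizerIn S (UU W (normalizerIn S U')) :=
        (lt_normalizerIn hS hlt).trans_le (normalizerIn_le_UU W hW2 hS hTS)
      have hB : BadE F (stabSys F Φ hΦ) (UU W (normalizerIn S U')) :=
        ⟨R, γ₁, hJR, hR.trans hlt2.le, hγ₁, fun h => hbad₁ (h.2 x), hp₁⟩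
      have hJO : ¬ UU W (normalizerIn S U') ≤ F.core := by
        intro h
        rw [hcore] at h
        have hU'T : U' ≤ normalizerIn S U' := le_normalizerIn hfn.1
        have hW := hW1 ↥(normalizerIn S U') hTp ?_
        · apply hW
          have h3 := le_bot_iff.1 h
          exact (Subgroup.map_eq_bot_iff_of_injective _ (Subgroup.subtype_injective _)).1 h3
        · have : U' ≠ ⊥ := fun e => hU'O (e ▸ bot_le)
          obtain ⟨⟨u, hu⟩, hu1⟩ := (Subgroup.ne_bot_iff_exists_ne_one).1 this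
          refine ⟨⟨⟨u, hU'T hu⟩, 1, fun e => hu1 ?_⟩⟩
          exact Subtype.ext (show u = 1 from congrArg (fun z : ↥(normalizerIn S U') => (z : Ω)) e)
      haveI : Finite ↥(normalizerIn S (UU W (normalizerIn S U'))) := finite_of_le inf_le_left
      have hc3 := card_lt_of_lt hlt2
      have hm := hmaxs _ ⟨_, hJTS, hJO, hB, by omega, rfl⟩
      omega
    obtain ⟨R', γ', hUR, hRN, hγ', hb', hp'⟩ := hbad'
    have h := sub_goodA hS hF hIH hfn hU'O hNJ R' γ' hUR hRN hγ' hp'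
    exact hb' ⟨autHom_mem F (hRN.trans inf_le_left) hγ', h⟩)
  exact fun P φ hφ x => (hall P hφ).2 x

end main

end Cfsg.Agent.Lib.Fusion.FocalControl
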