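import Cfsg.Agent.Lib.Fusion.BisetTransfer
import Cfsg.Agent.Lib.PGroups.Basic

/-!
# Tate's theorem for fusion systems: the focal subgroup
-/

set_option autoImplicit false

namespace Cfsg.Agent.Lib.Fusion.TateFocal

open Cfsg Cfsg.FusionSystem Cfsg.Agent.Lib.Fusion.Basic Cfsg.Agent.Lib.Fusion.Saturation
  Cfsg.Agent.Lib.Fusion.Biset Cfsg.Agent.Lib.Fusion.CharBiset3 Cfsg.Agent.Lib.Fusion.BisetTransfer
  Cfsg.Agent.Lib.Fusion.ModelGroup

universe u v w

variable {Ω : Type u} [Group Ω] {S : Subgroup Ω} {X : Type u} [MulAction (Bi S) X]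

/-- Transfer is natural in the coefficients. -/
theorem Vv_comp [Finite X] {A : Type v} {B : Type w} [CommGroup A] [CommGroup B]
    (hfree : ∀ (x : X) (u : S), ((1, u) : Bi S) • x = x → u = 1) (ρ : S →* A) (π : A →* B) :
    Vv hfree (π.comp ρ) = π.comp (Vv hfree ρ) := by
  ext s
  simp only [MonoidHom.comp_apply, Vv_apply, map_prod]

/-- A subgroup together with the Frattini subgroup generates a finite `p`-group only if it is everything: the form we use. -/
theorem eq_top_of_forall_pow {M : Type v} [CommGroup M] [Finite M] {p : ℕ} [Fact p.Prime] (hM : IsPGroup p M)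
    (I : Subgroup M) {n : ℕ} (hn : ¬ p ∣ n) (h : ∀ a : M, ∃ m : M, a ^ n * m ^ p ∈ I) : I = ⊤ := by
  have hcop : Nat.Coprime n p := ((Fact.out : p.Prime).coprime_iff_not_dvd.2 hn).symm
  have hgen : I ⊔ frattini M = ⊤ := by
    rw [eq_top_iff]
    intro a _
    have hΦ : ∀ m : M, m ^ p ∈ frattini M := fun m => Cfsg.Agent.Lib.PGroups.Basic.pow_mem_frattini hM m
    have h1 : a ^ n ∈ I ⊔ frattini M := by
      obtain ⟨m, hm⟩ := h a
      have h2 : a ^ n = (a ^ n * m ^ p) * (m ^ p)⁻¹ := by group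
      rw [h2]
      exact Subgroup.mul_mem _ (Subgroup.mem_sup_left hm) (Subgroup.mem_sup_right (Subgroup.inv_mem _ (hΦ m)))
    have h3 : a ^ p ∈ I ⊔ frattini M := Subgroup.mem_sup_right (hΦ a)
    have hbez : (n : ℤ) * Nat.gcdA n p + (p : ℤ) * Nat.gcdB n p = 1 := by
      have := Nat.gcd_eq_gcd_ab n p
      rw [hcop.gcd_eq_one] at this
      simpa using this.symm
    have h4 : a = (a ^ n) ^ Nat.gcdA n p * (a ^ p) ^ Nat.gcdB n p := by
      rw [← zpow_natCast, ← zpow_natCast, ← zpow_mul, ← zpow_mul, ← zpow_add, hbez, zpow_one]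
    rw [h4]
    exact Subgroup.mul_mem _ (Subgroup.zpow_mem _ h1 _) (Subgroup.zpow_mem _ h3 _)
  exact frattini_nongenerating hgen

variable (F : FusionSystem S) {p : ℕ} [Fact p.Prime] [Finite S]

/-- **Tate**: if the focal subgroup lies in `N Φ(S)` for `N ≤ foc(F)` containing `S'`, then it lies in `N`. -/
theorem focal_le_of_sup_frattini (hS : IsPGroup p S) (hF : F.IsSaturated p) (N : Subgroup S)
    (hc : commutator S ≤ N) (hNle : N ≤ F.focalSubgroup.comap S.subtype)
    (h : F.focalSubgroup.comap S.subtype ≤ N ⊔ frattini S) : F.focalSubgroup.comap S.subtype ≤ N := by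
  obtain ⟨X, iX, fX, hX⟩ := exists_charBiset F hS hF
  let M := Abelianization S ⧸ (N.map (Abelianization.of : S →* Abelianization S))
  let ρ : S →* M := (QuotientGroup.mk' _).comp Abelianization.of
  have hρs : Function.Surjective ρ := by
    intro a
    obtain ⟨b, rfl⟩ := QuotientGroup.mk'_surjective _ a
    obtain ⟨s, rfl⟩ := QuotientGroup.mk'_surjective _ b
    exact ⟨s, rfl⟩
  have hM : IsPGroup p M := hS.of_surjective ρ hρs
  have hNρ : ρ.ker = N := by
    ext s
    rw [MonoidHom.mem_ker]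
    constructor
    · intro h1
      have h2 : (Abelianization.of s : Abelianization S) ∈ N.map (Abelianization.of : S →* Abelianization S) :=
        (QuotientGroup.eq_one_iff _).1 h1
      obtain ⟨y, hy, hys⟩ := h2
      have h3 : y⁻¹ * s ∈ (Abelianization.of : S →* Abelianization S).ker := by
        rw [MonoidHom.mem_ker, map_mul, map_inv, ← hys, inv_mul_cancel]
      rw [Abelianization.ker_of] at h3
      have h4 := N.mul_mem hy (hc h3)
      rwa [mul_inv_cancel_left] at h4
    · intro hs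
      exact (QuotientGroup.eq_one_iff _).2 ⟨s, hs, rfl⟩
  let Mb := M ⧸ (powMonoidHom p : M →* M).range
  let π : M →* Mb := QuotientGroup.mk' _
  let ρb : S →* Mb := π.comp ρ
  have hπ : ∀ a : M, π (a ^ p) = 1 := fun a => (QuotientGroup.eq_one_iff _).2 ⟨a, rfl⟩
  have hΦ : frattini S ≤ ρb.ker := by
    refine Cfsg.Agent.Lib.PGroups.Basic.frattini_le_of_normal (p := p) _ (Abelianization.commutator_subset_ker ρb) (fun x => ?_)
    rw [MonoidHom.mem_ker]
    show π (ρ (x ^ p)) = 1
    rw [map_pow, hπ]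
  have hNb : N ≤ ρb.ker := by
    intro s hs
    rw [MonoidHom.mem_ker]
    show π (ρ s) = 1
    rw [show ρ s = 1 from hNρ.ge hs, map_one]
  have hstab : ∀ (P : Subgroup Ω) (φ : P →* Ω) (hφ : φ ∈ F.Hom P) (x : P),
      ρb ⟨φ x, val_mem F hφ x⟩ = ρb ⟨x, le_of_mem F hφ x.2⟩ := by
    intro P φ hφ x
    have h1 : (⟨x, le_of_mem F hφ x.2⟩ : S)⁻¹ * ⟨φ x, val_mem F hφ x⟩ ∈ F.focalSubgroup.comap S.subtype :=
      Subgroup.subset_closure ⟨P, φ, x, hφ, rfl⟩
    have h2 := (sup_le hNb hΦ) (h h1)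
    rw [MonoidHom.mem_ker, map_mul, map_inv, inv_mul_eq_one] at h2
    exact h2.symm
  set V := Vv hX.free_right ρ with hV
  have hVb : ∀ s, π (V s) = π (ρ s ^ Nat.card (Xi S X)) := by
    intro s
    have h1 := Vv_eq_pow_of_stable hX ρb hstab s
    have h2 := DFunLike.congr_fun (Vv_comp hX.free_right ρ π) s
    rw [MonoidHom.comp_apply] at h2
    rw [← h2, h1, map_pow]
    rfl
  have hsurj : V.range = ⊤ := by
    refine eq_top_of_forall_pow hM V.range hX.count (fun a => ?_)
    obtain ⟨s, rfl⟩ := hρs a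
    have h1 : (ρ s ^ Nat.card (Xi S X)) * (V s)⁻¹ ∈ (powMonoidHom p : M →* M).range := by
      apply (QuotientGroup.eq_one_iff _).1
      show π _ = 1
      rw [map_mul, map_inv, hVb, mul_inv_cancel]
    obtain ⟨m, hm⟩ := h1
    refine ⟨m⁻¹, ⟨s, ?_⟩⟩
    have hm' : m ^ p = (ρ s ^ Nat.card (Xi S X)) * (V s)⁻¹ := hm
    rw [inv_pow, hm', mul_inv_rev, inv_inv, mul_comm (V s), mul_inv_cancel_left]
  have hfoc : F.focalSubgroup.comap S.subtype ≤ V.ker := by
    intro x hx
    obtain ⟨y, hy, hyx⟩ := focal_le_ker hX ρ hx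
    have : y = x := Subtype.ext hyx
    rwa [← this]
  have hcard : Nat.card V.ker = Nat.card ρ.ker := by
    have h1 := Subgroup.card_mul_index V.ker
    have h2 := Subgroup.card_mul_index ρ.ker
    have h3 : Nat.card V.range = Nat.card M := by
      rw [hsurj]
      exact Nat.card_congr Subgroup.topEquiv.toEquiv
    have h4 : Nat.card ρ.range = Nat.card M := by
      rw [MonoidHom.range_eq_top.2 hρs]
      exact Nat.card_congr Subgroup.topEquiv.toEquiv
    rw [Subgroup.index_ker, h3] at h1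
    rw [Subgroup.index_ker, h4] at h2
    exact Nat.eq_of_mul_eq_mul_right Nat.card_pos (h1.trans h2.symm)
  have hNV : N ≤ V.ker := hNle.trans hfoc
  have : N = V.ker := by
    refine Subgroup.eq_of_le_of_card_ge hNV ?_
    rw [hcard, hNρ]
  rw [this]
  exact hfoc

end Cfsg.Agent.Lib.Fusion.TateFocal
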