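import Cfsg.Agent.Lib.Fusion.FocalControl
import Cfsg.Agent.Lib.Fusion.TateFocal
import Cfsg.Agent.Lib.FusionExt.PrimeIndex

/-!
# Local control of transfer: elements of `O_p(F)` in the focal subgroup
-/

set_option autoImplicit false

namespace Cfsg.Agent.Lib.Fusion.FocalControl2

open Cfsg Cfsg.FusionSystem Cfsg.Agent.Lib.Fusion.Basic Cfsg.Agent.Lib.Fusion.Saturation
  Cfsg.Agent.Lib.Fusion.Saturation2 Cfsg.Agent.Lib.Fusion.LocalGlobal Cfsg.Agent.Lib.Fusion.Center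
  Cfsg.Agent.Lib.Fusion.Model Cfsg.Agent.Lib.Fusion.ModelNormalizer Cfsg.Agent.Lib.Fusion.NormSystem
  Cfsg.Agent.Lib.Core.Basic Cfsg.Agent.Lib.FusionExt.Basic Cfsg.Agent.Lib.Fusion.KSystem
  Cfsg.Agent.Lib.Fusion.WeakClosure Cfsg.Agent.Lib.Fusion.FrobThompson2 Cfsg.Agent.Lib.Core.SylowFacts
  Cfsg.Agent.Lib.Fusion.Generation Cfsg.Agent.Lib.Fusion.Generation3 Cfsg.Agent.Lib.FusionExt.Normal
  Cfsg.Agent.Lib.Fusion.FocalControl Cfsg.Agent.Lib.Fusion.Biset Cfsg.Agent.Lib.Fusion.CharBiset3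
  Cfsg.Agent.Lib.Fusion.BisetTransfer Cfsg.Agent.Lib.Fusion.ModelGroup
open scoped commutatorElement

universe u

section transfer

variable {Ω : Type u} [Group Ω] {S : Subgroup Ω} [Finite S] (F : FusionSystem S) {p : ℕ} [hp : Fact p.Prime]

/-- A commutative quotient of `S` with a given kernel containing the commutator subgroup. -/
theorem exists_comm_quot (N : Subgroup S) (hc : commutator S ≤ N) :
    ∃ (M : Type u) (_ : CommGroup M) (ρ : S →* M), Function.Surjective ρ ∧ ρ.ker = N := by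
  refine ⟨Abelianization S ⧸ (N.map (Abelianization.of : S →* Abelianization S)), inferInstance,
    (QuotientGroup.mk' _).comp Abelianization.of, ?_, ?_⟩
  · intro a
    obtain ⟨b, rfl⟩ := QuotientGroup.mk'_surjective _ a
    obtain ⟨s, rfl⟩ := QuotientGroup.mk'_surjective _ b
    exact ⟨s, rfl⟩
  · ext s
    rw [MonoidHom.mem_ker]
    constructor
    · intro h1
      have h2 : (Abelianization.of s : Abelianization S) ∈ N.map (Abelianization.of : S →* Abelianization S) :=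
        (QuotientGroup.eq_one_iff _).1 h1
      obtain ⟨y, hy, hys⟩ := h2
      have h3 : y⁻¹ * s ∈ (Abelianization.of : S →* Abelianization S).ker := by
        rw [MonoidHom.mem_ker, map_mul, map_inv, ← hys, inv_mul_cancel]
      rw [Abelianization.ker_of] at h3
      have h4 := N.mul_mem hy (hc h3)
      rwa [mul_inv_cancel_left] at h4
    · intro hs
      exact (QuotientGroup.eq_one_iff _).2 ⟨s, hs, rfl⟩

/-- The commutator subgroup from the congruence property. -/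
theorem commutator_le_of_cong {Φ : Subgroup Ω} (hc : ∀ g ∈ S, ∀ x ∈ S, x⁻¹ * (g * x * g⁻¹) ∈ Φ) :
    commutator S ≤ Φ.subgroupOf S := by
  rw [commutator_def, Subgroup.commutator_le]
  intro a _ b _
  rw [Subgroup.mem_subgroupOf]
  have h := hc b b.2 (a⁻¹ : S) (a⁻¹ : S).2
  have e : ((⁅a, b⁆ : S) : Ω) = ((a⁻¹ : S) : Ω)⁻¹ * ((b : Ω) * ((a⁻¹ : S) : Ω) * (b : Ω)⁻¹) := by
    simp [commutatorElement_def]
    group
  rw [e]
  exact h

/-- **Transfer**: if every map of the system is congruent to the identity modulo `Φ` on `O`, then `O ∩ foc(F) ≤ Φ`. -/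
theorem inf_focal_le_of_stable (hS : IsPGroup p S) (hF : F.IsSaturated p) {O Φ : Subgroup Ω} (hOS : O ≤ S)
    (hc : ∀ g ∈ S, ∀ x ∈ S, x⁻¹ * (g * x * g⁻¹) ∈ Φ)
    (hloc : ∀ (P : Subgroup Ω) (φ : P →* Ω), φ ∈ F.Hom P → ∀ x : P, (x : Ω) ∈ O → (x : Ω)⁻¹ * φ x ∈ Φ) :
    O ⊓ F.focalSubgroup ≤ Φ := by
  obtain ⟨X, iX, fX, hX⟩ := exists_charBiset F hS hF
  obtain ⟨M, iM, ρ, hρs, hρk⟩ := exists_comm_quot (Φ.subgroupOf S) (commutator_le_of_cong hc)
  have hM : IsPGroup p M := hS.of_surjective ρ hρs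
  rintro x ⟨hxO, hxf⟩
  have hxS : x ∈ S := hOS hxO
  have hpow : Vv hX.free_right ρ ⟨x, hxS⟩ = ρ ⟨x, hxS⟩ ^ Nat.card (Xi S X) := by
    refine Vv_eq_pow hX.free_right ρ _ (fun z hz u ω h => ?_)
    obtain ⟨D, φ, hφ, hzD, hu⟩ := exists_hom_of_smul_eq hX h
    have hzO : (z : Ω) ∈ O := by
      obtain ⟨k, rfl⟩ := Subgroup.mem_zpowers_iff.1 hz
      show ((⟨x, hxS⟩ : S) ^ k : S).1 ∈ O
      rw [SubgroupClass.coe_zpow]
      exact O.zpow_mem hxO k
    have h1 := hloc D φ hφ ⟨z, hzD⟩ hzO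
    rw [hu] at h1
    have h2 : z⁻¹ * u ∈ Φ.subgroupOf S := by
      rw [Subgroup.mem_subgroupOf]
      exact h1
    rw [← hρk, MonoidHom.mem_ker, map_mul, map_inv, inv_mul_eq_one] at h2
    exact h2
  obtain ⟨y, hy, hyx⟩ := focal_le_ker hX ρ hxf
  have hy' : y = ⟨x, hxS⟩ := Subtype.ext hyx
  subst hy'
  have hy2 : Vv hX.free_right ρ ⟨x, hxS⟩ = 1 := hy
  rw [hy2] at hpow
  have hcop : Nat.Coprime p (Nat.card (Xi S X)) := (Nat.Prime.coprime_iff_not_dvd hp.out).2 hX.count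
  have hord := hM.orderOf_coprime hcop (ρ ⟨x, hxS⟩)
  have hdvd : orderOf (ρ ⟨x, hxS⟩) ∣ Nat.card (Xi S X) := orderOf_dvd_of_pow_eq_one hpow.symm
  have h1 : orderOf (ρ ⟨x, hxS⟩) = 1 := Nat.Coprime.eq_one_of_dvd hord hdvd
  have h2 : ρ ⟨x, hxS⟩ = 1 := orderOf_eq_one_iff.1 h1
  have h3 : (⟨x, hxS⟩ : S) ∈ Φ.subgroupOf S := by
    rw [← hρk, MonoidHom.mem_ker]
    exact h2
  exact h3

end transfer

section stable

variable {Ω : Type u} [Group Ω] {S : Subgroup Ω} [Finite S] {F : FusionSystem S} {p : ℕ} [hp : Fact p.Prime]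
  {W : ∀ (Q : Type u) [Group Q], Subgroup Q}

/-- A subgroup normal in `F` is fully normalized. -/
theorem isFullyNormalized_of_normal {O : Subgroup Ω} (hOS : O ≤ S) (hn : S ≤ Subgroup.normalizer (O : Set Ω)) :
    F.IsFullyNormalized O := by
  have hTe : normalizerIn S O = S := inf_eq_left.2 hn
  refine ⟨hOS, fun Q' _ => ?_⟩
  rw [hTe]
  exact card_le_of_le_finite inf_le_left

/-- If `C_S(O)` is not in `O = O_p(F)`, every map of the system is congruent to the identity modulo `Φ` on `O`. -/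
theorem stable_on_core (hS : IsPGroup p S) (hF : F.IsSaturated p) (hIH : IH p W F) {Φ : Subgroup Ω}
    (hN : GoodA F (UU W S) Φ)
    (hW2 : ∀ (Q R : Type u) [Group Q] [Group R] [Finite Q], IsPGroup p Q → ∀ φ : Q ≃* R, (W Q).map φ.toMonoidHom = W R)
    (hcent : ¬ centralizerIn S F.core ≤ F.core)
    (P : Subgroup Ω) (φ : P →* Ω) (hφ : φ ∈ F.Hom P) (x : P) (hxO : (x : Ω) ∈ F.core) : (x : Ω)⁻¹ * φ x ∈ Φ := by
  have hO : F.IsNormal F.core := Cfsg.Agent.S5145.result F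
  obtain ⟨O, hOe⟩ : ∃ O : Subgroup Ω, O = F.core := ⟨_, rfl⟩
  rw [← hOe] at hO hcent hxO
  have hOS : O ≤ S := hO.1
  have hsc := isNormal_stronglyClosed F hO
  have hOn : S ≤ Subgroup.normalizer (O : Set Ω) := sc_le_normalizer F hsc
  obtain ⟨U, hU⟩ : ∃ U : Subgroup Ω, U = centralizerIn S O := ⟨_, rfl⟩
  have hUS : U ≤ S := hU ▸ inf_le_left
  have hUn : S ≤ Subgroup.normalizer (U : Set Ω) := hU ▸ inf_centralizer_normalizer hOn
  have hUO : ¬ U ≤ F.core := by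
    rw [← hOe, hU]
    exact hcent
  have hgood := good_of_normal hS hF hIH hUS hUn hUO hN hW2
  -- the automorphism of `O`
  have hzle : Subgroup.zpowers (x : Ω) ≤ P := Subgroup.zpowers_le.2 x.2
  have hφ₀ := restrict_mem F hzle hφ
  obtain ⟨ψ, hψ, hψ1, hψ2⟩ := hO.2 _ _ hφ₀
  have hψ₀ := restrict_mem F (le_sup_right : O ≤ Subgroup.zpowers (x : Ω) ⊔ O) hψ
  have hr : (ψ.comp (Subgroup.inclusion (le_sup_right : O ≤ Subgroup.zpowers (x : Ω) ⊔ O))).range = O := by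
    apply le_antisymm
    · rintro _ ⟨y, rfl⟩
      exact hψ2.le ⟨_, y.2, rfl⟩
    · intro y hy
      obtain ⟨z, hz, rfl⟩ := hψ2.ge hy
      exact ⟨⟨z, hz⟩, rfl⟩
  obtain ⟨α, hα, hαv⟩ := exists_aut_of_range F hψ₀ hr
  have hOfn : F.IsFullyNormalized O := isFullyNormalized_of_normal hOS hOn
  obtain ⟨β, hβ, hβv⟩ := Cfsg.Agent.Lib.FusionExt.PrimeIndex.exists_ext_centralizer
    (isReceptive_of_isFullyNormalized F hS hF hOfn) hα
  have hTe : normalizerIn S U = S := inf_eq_left.2 hUn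
  have hRS : O ⊔ centralizerIn S O ≤ S := sup_le hOS inf_le_left
  have hpres : ∀ y : ↥(O ⊔ centralizerIn S O), (y : Ω) ∈ U → ((β y : ↥(O ⊔ centralizerIn S O)) : Ω) ∈ U := by
    intro y hy
    rw [hU] at hy ⊢
    refine ⟨hRS (β y).2, Subgroup.mem_centralizer_iff.2 fun w hw => ?_⟩
    obtain ⟨w₀, hw₀⟩ := α.surjective ⟨w, hw⟩
    have h1 := Subgroup.mem_centralizer_iff.1 hy.2 _ w₀.2
    have h2 : Subgroup.inclusion (le_sup_left : O ≤ O ⊔ centralizerIn S O) w₀ * y =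
        y * Subgroup.inclusion (le_sup_left : O ≤ O ⊔ centralizerIn S O) w₀ := Subtype.ext h1
    have h3 := congrArg β h2
    rw [map_mul, map_mul, hβv, hw₀] at h3
    exact congrArg Subtype.val h3
  have hUR : U ≤ O ⊔ centralizerIn S O := hU ▸ le_sup_right
  have hRN : O ⊔ centralizerIn S O ≤ normalizerIn S U := by
    rw [hTe]
    exact hRS
  have h := hgood _ β hUR hRN hβ hpres (Subgroup.inclusion le_sup_left ⟨x, hxO⟩)
  have e1 : ((β (Subgroup.inclusion le_sup_left ⟨x, hxO⟩) : ↥(O ⊔ centralizerIn S O)) : Ω) = ((α ⟨x, hxO⟩ : O) : Ω) := by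
    rw [hβv]
    rfl
  have e2 : ((α ⟨x, hxO⟩ : O) : Ω) = φ x := by
    rw [hαv]
    show ψ (Subgroup.inclusion le_sup_right ⟨x, hxO⟩) = φ x
    have h4 := hψ1 ⟨x, Subgroup.mem_zpowers _⟩
    exact h4
  rw [e1, e2] at h
  exact h

end stable

end Cfsg.Agent.Lib.Fusion.FocalControl2
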