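import Cfsg.Agent.Lib.Fusion.FocalControl2
import Cfsg.Agent.Lib.TransferCtl.LocalGlobal
import Cfsg.Agent.Lib.FusionExt.Constrained

/-!
# Local control of transfer: the constrained case
-/

set_option autoImplicit false

namespace Cfsg.Agent.Lib.Fusion.FocalControl3

open Cfsg Cfsg.FusionSystem Cfsg.Agent.Lib.Fusion.Basic Cfsg.Agent.Lib.Fusion.Saturation
  Cfsg.Agent.Lib.Fusion.Saturation2 Cfsg.Agent.Lib.Fusion.LocalGlobal Cfsg.Agent.Lib.Fusion.Center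
  Cfsg.Agent.Lib.Fusion.Model Cfsg.Agent.Lib.Fusion.ModelNormalizer Cfsg.Agent.Lib.Fusion.NormSystem
  Cfsg.Agent.Lib.Core.Basic Cfsg.Agent.Lib.FusionExt.Basic Cfsg.Agent.Lib.Fusion.KSystem
  Cfsg.Agent.Lib.Fusion.WeakClosure Cfsg.Agent.Lib.Fusion.FrobThompson2 Cfsg.Agent.Lib.Core.SylowFacts
  Cfsg.Agent.Lib.Fusion.Generation Cfsg.Agent.Lib.Fusion.Generation3 Cfsg.Agent.Lib.FusionExt.Normal
  Cfsg.Agent.Lib.Fusion.FocalControl Cfsg.Agent.Lib.Fusion.FocalControl2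
open scoped commutatorElement

universe u

section aut

variable {Ω : Type u} [Group Ω] {S : Subgroup Ω} [Finite S] {F : FusionSystem S} {p : ℕ} [hp : Fact p.Prime]

/-- From automorphisms to all maps of `N_F(U)`. -/
theorem good_of_goodA_normalizer (hS : IsPGroup p S) (hF : F.IsSaturated p) {U Φ : Subgroup Ω} (hU : F.IsFullyNormalized U)
    (hc : ∀ g ∈ S, ∀ x ∈ S, x⁻¹ * (g * x * g⁻¹) ∈ Φ) (hA : GoodA F U Φ) (P : Subgroup Ω) (φ : P →* Ω)
    (hφ : φ ∈ F.normalizerHom U P) (x : P) : (x : Ω)⁻¹ * φ x ∈ Φ := by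
  have hUS : U ≤ S := hU.1
  obtain ⟨G, hG⟩ := exists_normalizerSystem F hUS
  have hGsat := isSaturated_normalizerSystem hS F hF hU G hG
  have hTS : normalizerIn S U ≤ S := inf_le_left
  haveI hTf : Finite ↥(normalizerIn S U) := finite_of_le hTS
  have hTp : IsPGroup p ↥(normalizerIn S U) := hS.to_le hTS
  have hc' : ∀ g ∈ normalizerIn S U, ∀ x ∈ normalizerIn S U, x⁻¹ * (g * x * g⁻¹) ∈ Φ :=
    fun g hg x hx => hc g (hTS hg) x (hTS hx)
  have h := hom_of_aut (F := G) (E := stabSys G Φ hc') (n := 0) hTp hGsat (fun P φ h => h.1) (by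
    intro R hRT _ γ hγ
    refine ⟨autHom_mem G hRT hγ, fun y => ?_⟩
    have h1 := autHom_mem G hRT hγ
    rw [hG] at h1
    obtain ⟨-, hRN, -, ψ, hψ, hψ1, hψ2⟩ := h1
    have hsup : R ⊔ U ≤ S := sup_le (hRN.trans hTS) hUS
    haveI : Finite ↥(R ⊔ U) := finite_of_le hsup
    have hU2 : ∀ y : ↥(R ⊔ U), (y : Ω) ∈ U → ψ y ∈ U := fun y hy => hψ2.le ⟨y, hy, rfl⟩
    have hr : ψ.range = R ⊔ U := by
      refine Subgroup.eq_of_le_of_card_ge ?_ (by rw [card_range F hψ])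
      rintro _ ⟨z, rfl⟩
      refine mem_of_sup ψ (fun a ha => ?_) (fun b hb => ?_) z
      · have h3 := hψ1 ⟨a, ha⟩
        have h4 : ψ ⟨a, Subgroup.mem_sup_left ha⟩ = ((γ ⟨a, ha⟩ : R) : Ω) := h3
        rw [h4]
        exact Subgroup.mem_sup_left (γ ⟨a, ha⟩).2
      · exact Subgroup.mem_sup_right (hU2 ⟨b, Subgroup.mem_sup_right hb⟩ hb)
    obtain ⟨β, hβ, hβv⟩ := exists_aut_of_range F hψ hr
    have h5 := hA _ β le_sup_right (sup_le hRN (le_normalizerIn hUS)) hβ (fun z hz => by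
      rw [hβv]
      exact hU2 z hz) (Subgroup.inclusion le_sup_left y)
    rw [hβv, hψ1 y] at h5
    exact h5) P (by
      have h0 : P ≤ S := Basic.le_of_mem F hφ.1
      have := finite_of_le h0
      exact Nat.card_pos)
  have hφG : φ ∈ G.Hom P := by
    rw [hG]
    exact hφ
  exact (h hφG).2 x

end aut

section model

variable {Ω : Type u} [Group Ω] {S : Subgroup Ω} [Finite S] {F : FusionSystem S} {p : ℕ} [hp : Fact p.Prime]
  {L : Type u} [Group L] {ι : S →* L}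

/-- The focal subgroup goes to the commutator subgroup of a model. -/
theorem focal_le_model (hG : F.IsModel p L ι) : F.focalSubgroup ≤ ((commutator L).comap ι).map S.subtype := by
  apply (Subgroup.closure_le _).2
  rintro y ⟨P, φ, a, hφ, rfl⟩
  have hPS := Basic.le_of_mem F hφ
  have hφS := val_mem F hφ
  obtain ⟨g, hg⟩ := (model_realized hG P hPS φ hφS).1 hφ
  refine ⟨(⟨a, hPS a.2⟩ : S)⁻¹ * ⟨φ a, hφS a⟩, ?_, rfl⟩
  show ι ((⟨a, hPS a.2⟩ : S)⁻¹ * ⟨φ a, hφS a⟩) ∈ commutator L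
  rw [map_mul, map_inv, hg a]
  have e : (ι ⟨a, hPS a.2⟩)⁻¹ * (g * ι ⟨a, hPS a.2⟩ * g⁻¹) = ⁅(ι ⟨a, hPS a.2⟩)⁻¹, g⁆ := by
    rw [commutatorElement_def]
    group
  rw [e]
  exact Subgroup.commutator_mem_commutator (Subgroup.mem_top _) (Subgroup.mem_top _)

variable {W : ∀ (Q : Type u) [Group Q], Subgroup Q}

/-- The centric case: `O_p(F) ∩ foc(F)` lies in `Φ`, by the hypothesis on models. -/
theorem core_inf_focal_le (hS : IsPGroup p S) (hF : F.IsSaturated p) {Φ : Subgroup Ω} (hN : GoodA F (UU W S) Φ)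
    (hc : ∀ g ∈ S, ∀ x ∈ S, x⁻¹ * (g * x * g⁻¹) ∈ Φ)
    (hW2 : ∀ (Q R : Type u) [Group Q] [Group R] [Finite Q], IsPGroup p Q → ∀ φ : Q ≃* R, (W Q).map φ.toMonoidHom = W R)
    (hT : ∀ (G : Type u) [Group G] [Finite G] (P : Sylow p G),
      Subgroup.centralizer ((Cfsg.pCore p G : Subgroup G) : Set G) ≤ Cfsg.pCore p G →
      Cfsg.pCore p G ⊓ commutator G = Cfsg.pCore p G ⊓ (commutator ↥(Subgroup.normalizer
        (((W ↥(P : Subgroup G)).map (P : Subgroup G).subtype : Subgroup G) : Set G))).map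
          (Subgroup.normalizer (((W ↥(P : Subgroup G)).map (P : Subgroup G).subtype : Subgroup G) : Set G)).subtype)
    (hcent : centralizerIn S F.core ≤ F.core) : F.core ⊓ F.focalSubgroup ≤ Φ := by
  have hO : F.IsNormal F.core := Cfsg.Agent.S5145.result F
  obtain ⟨O, hOe⟩ : ∃ O : Subgroup Ω, O = F.core := ⟨_, rfl⟩
  rw [← hOe] at hO hcent ⊢
  have hOS : O ≤ S := hO.1
  have hcon : F.IsConstrained p := ⟨hF, O, hO, hOS, fun Q hQ => by
    rw [Cfsg.Agent.Lib.FusionExt.Constrained.isConj_eq_of_isNormal F hO hQ]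
    exact hcent⟩
  obtain ⟨L₁, iL, ι₁, hG⟩ := Cfsg.Agent.S5090.result p hS F hcon
  haveI hLf := model_finite hG
  have hinj := model_injective hG
  obtain ⟨P₀, hP₀⟩ := hG.2.2.1
  have hTL := hT L₁ P₀ hG.2.2.2
  let e₁ : S ≃* ι₁.range := MonoidHom.ofInjective hinj
  let e : S ≃* (P₀ : Subgroup L₁) := e₁.trans (MulEquiv.subgroupCongr hP₀.symm)
  have he : ∀ s : S, ((e s : (P₀ : Subgroup L₁)) : L₁) = ι₁ s := fun s => rfl
  have hWe := hW2 S (P₀ : Subgroup L₁) hS e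
  have hWmem : ∀ s : S, ι₁ s ∈ UU W (P₀ : Subgroup L₁) ↔ (s : Ω) ∈ UU W S := by
    intro s
    constructor
    · rintro ⟨t, ht, hts⟩
      have ht' : t ∈ W (P₀ : Subgroup L₁) := ht
      rw [← hWe] at ht'
      obtain ⟨s', hs', rfl⟩ := ht'
      have h1 : s' = s := hinj (by
        have := hts
        rw [← he s']
        exact this)
      rw [← h1]
      exact ⟨s', hs', rfl⟩
    · rintro ⟨t, ht, hts⟩
      have h1 : t = s := Subtype.ext hts
      subst h1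
      refine ⟨e t, ?_, rfl⟩
      show e t ∈ W (P₀ : Subgroup L₁)
      rw [← hWe]
      exact ⟨t, ht, rfl⟩
  obtain ⟨U, hU⟩ : ∃ U : Subgroup Ω, U = UU W S := ⟨_, rfl⟩
  have hUS : U ≤ S := hU ▸ UU_le W S
  have hSN : S ≤ Subgroup.normalizer (U : Set Ω) := by
    have h1 := normalizerIn_le_UU W hW2 hS (le_refl S)
    have h2 : normalizerIn S S = S := inf_eq_left.2 (fun t ht => Subgroup.le_normalizer ht)
    rw [h2] at h1
    rw [hU]
    exact fun s hs => (h1 hs).2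
  have hfn : F.IsFullyNormalized U := isFullyNormalized_of_normal hUS hSN
  have hNU : GoodA F U Φ := hU ▸ hN
  have hmap := good_of_goodA_normalizer hS hF hfn hc hNU
  have hP₀N : (P₀ : Subgroup L₁) ≤ Subgroup.normalizer ((UU W (P₀ : Subgroup L₁) : Subgroup L₁) : Set L₁) := by
    have h1 := normalizerIn_le_UU W hW2 P₀.isPGroup' (le_refl (P₀ : Subgroup L₁))
    have h2 : normalizerIn (P₀ : Subgroup L₁) (P₀ : Subgroup L₁) = P₀ :=
      inf_eq_left.2 (fun t ht => Subgroup.le_normalizer ht)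
    rw [h2] at h1
    exact fun s hs => (h1 hs).2
  have hidx : ¬ p ∣ (P₀ : Subgroup L₁).relIndex
      (Subgroup.normalizer ((UU W (P₀ : Subgroup L₁) : Subgroup L₁) : Set L₁)) := by
    intro h
    apply P₀.not_dvd_index
    rw [← Subgroup.relIndex_mul_index hP₀N]
    exact h.mul_right _
  have hfoc := Cfsg.Agent.Lib.TransferCtl.LocalGlobal.inf_commutator_le_of_focal
    (Y := (Φ.subgroupOf S).map ι₁) P₀.isPGroup' hidx (by
      intro y hy u hu huy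
      have hyr : y ∈ ι₁.range := hP₀ ▸ hy
      obtain ⟨a, rfl⟩ := hyr
      obtain ⟨D, hD⟩ : ∃ D : Subgroup Ω, D = U ⊔ Subgroup.zpowers (a : Ω) := ⟨_, rfl⟩
      have hDS : D ≤ S := hD ▸ sup_le hUS (Subgroup.zpowers_le.2 a.2)
      have hUD : U ≤ D := hD ▸ le_sup_left
      have hUval : ∀ d ∈ U, ∀ hd : d ∈ S, u * ι₁ ⟨d, hd⟩ * u⁻¹ ∈ UU W (P₀ : Subgroup L₁) := by
        intro d hd hdS
        have h1 : ι₁ ⟨d, hdS⟩ ∈ UU W (P₀ : Subgroup L₁) := (hWmem ⟨d, hdS⟩).2 (hU ▸ hd)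
        exact (Subgroup.mem_normalizer_iff.1 hu _).1 h1
      obtain ⟨K, hK⟩ : ∃ K : Subgroup S, K = ((P₀ : Subgroup L₁).comap (MulAut.conj u).toMonoidHom).comap ι₁ := ⟨_, rfl⟩
      have hDK : D ≤ K.map S.subtype := by
        rw [hD]
        refine sup_le (fun d hd => ?_) (Subgroup.zpowers_le.2 ?_)
        · refine ⟨⟨d, hUS hd⟩, ?_, rfl⟩
          rw [hK]
          exact UU_le W (P₀ : Subgroup L₁) (hUval d hd (hUS hd))
        · refine ⟨a, ?_, rfl⟩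
          rw [hK]
          exact huy
      have hconj : ∀ x : D, ∃ s : S, ι₁ s = u * ι₁ ⟨x, hDS x.2⟩ * u⁻¹ := by
        intro x
        obtain ⟨s₀, hs₀, hs₀x⟩ := hDK x.2
        have e₀ : s₀ = ⟨x, hDS x.2⟩ := Subtype.ext hs₀x
        rw [hK] at hs₀
        have h1 : u * ι₁ s₀ * u⁻¹ ∈ (P₀ : Subgroup L₁) := hs₀
        rw [hP₀] at h1
        obtain ⟨s, hs⟩ := h1
        refine ⟨s, ?_⟩
        rw [hs, e₀]
      obtain ⟨φ, hφS, hφv⟩ := exists_conj_hom hinj hDS u hconj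
      have hφF : φ ∈ F.Hom D := (model_realized hG D hDS φ hφS).2 ⟨u, hφv⟩
      have hφU : ∀ d : D, (d : Ω) ∈ U → φ d ∈ U := by
        intro d hd
        have h1 := hUval d hd (hDS d.2)
        rw [← hφv d] at h1
        have h2 := (hWmem ⟨φ d, hφS d⟩).1 h1
        rw [hU]
        exact h2
      have hle : D ⊔ U ≤ D := sup_le le_rfl hUD
      have hTe : normalizerIn S U = S := inf_eq_left.2 hSN
      have hnorm : φ ∈ F.normalizerHom U D := by
        refine ⟨hφF, fun d hd => ⟨hDS hd, hSN (hDS hd)⟩, fun x => ⟨hφS x, hSN (hφS x)⟩, φ.comp (Subgroup.inclusion hle), restrict_mem F hle hφF,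
          fun x => rfl, ?_⟩
        haveI : Finite U := finite_of_le hUS
        refine Subgroup.eq_of_le_of_card_ge ?_ ?_
        · rintro _ ⟨y, hy, rfl⟩
          exact hφU (Subgroup.inclusion hle y) hy
        · have hinj' : Function.Injective (φ.comp (Subgroup.inclusion hle)) :=
            F.injective_of_mem (restrict_mem F hle hφF)
          rw [Subgroup.card_map_of_injective hinj']
          exact le_of_eq (Nat.card_congr (Subgroup.subgroupOfEquivOfLe (le_sup_right : U ≤ D ⊔ U)).toEquiv).symm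
      have haD : (a : Ω) ∈ D := hD ▸ Subgroup.mem_sup_right (Subgroup.mem_zpowers _)
      have hgood := hmap D φ hnorm ⟨a, haD⟩
      have hcS : (a : Ω)⁻¹ * φ ⟨a, haD⟩ ∈ S := S.mul_mem (S.inv_mem a.2) (hφS _)
      have hconjΦ := Φ.mul_mem hgood (hc a a.2 _ hcS)
      have e1 : (a : Ω)⁻¹ * φ ⟨a, haD⟩ * (((a : Ω)⁻¹ * φ ⟨a, haD⟩)⁻¹ * ((a : Ω) * ((a : Ω)⁻¹ * φ ⟨a, haD⟩) * (a : Ω)⁻¹)) =
          φ ⟨a, haD⟩ * (a : Ω)⁻¹ := by group
      rw [e1] at hconjΦ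
      refine ⟨⟨φ ⟨a, haD⟩, hφS _⟩ * a⁻¹, hconjΦ, ?_⟩
      rw [map_mul, map_inv, hφv ⟨a, haD⟩])
  rintro x ⟨hxO, hxf⟩
  have hxS : x ∈ S := hOS hxO
  have hxp : ι₁ ⟨x, hxS⟩ ∈ pCore p L₁ := by
    refine le_pCore (img_normal hG hO) ?_ ⟨⟨x, hxS⟩, hxO, rfl⟩
    have hp1 : IsPGroup p (O.subgroupOf S) := isPGroup_subgroupOf _ (hS.to_le hOS)
    exact hp1.map ι₁
  have hxc : ι₁ ⟨x, hxS⟩ ∈ commutator L₁ := by
    obtain ⟨s, hs, hsx⟩ := focal_le_model hG hxf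
    have e₀ : s = ⟨x, hxS⟩ := Subtype.ext hsx
    rw [← e₀]
    exact hs
  have h3 : ι₁ ⟨x, hxS⟩ ∈ Cfsg.pCore p L₁ ⊓ commutator L₁ := ⟨hxp, hxc⟩
  rw [hTL] at h3
  have h4 := h3.2
  have h5 : ι₁ ⟨x, hxS⟩ ∈ (P₀ : Subgroup L₁) ⊓ ⁅Subgroup.normalizer ((UU W (P₀ : Subgroup L₁) : Subgroup L₁) : Set L₁),
      Subgroup.normalizer ((UU W (P₀ : Subgroup L₁) : Subgroup L₁) : Set L₁)⁆ := by
    refine ⟨?_, ?_⟩
    · rw [hP₀]
      exact ⟨_, rfl⟩
    · rw [← Subgroup.map_subtype_commutator]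
      exact h4
  obtain ⟨s, hs, hsx⟩ := hfoc h5
  have e₀ : s = ⟨x, hxS⟩ := hinj hsx
  rw [e₀] at hs
  exact hs

end model

end Cfsg.Agent.Lib.Fusion.FocalControl3
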