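import Cfsg.Agent.Lib.Fusion.FocalControl3
import Cfsg.Agent.Lib.FusionExt.FactorSat
import Cfsg.Agent.Lib.FusionExt.FactorExt

/-!
# Local control of transfer: passing to the factor system, and the main theorem
-/

set_option autoImplicit false

namespace Cfsg.Agent.Lib.Fusion.FocalControl4

open Cfsg Cfsg.FusionSystem Cfsg.Agent.Lib.Fusion.Basic Cfsg.Agent.Lib.Fusion.Saturation
  Cfsg.Agent.Lib.Fusion.Saturation2 Cfsg.Agent.Lib.Fusion.LocalGlobal Cfsg.Agent.Lib.Fusion.Center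
  Cfsg.Agent.Lib.Fusion.Model Cfsg.Agent.Lib.Fusion.ModelNormalizer Cfsg.Agent.Lib.Fusion.NormSystem
  Cfsg.Agent.Lib.Core.Basic Cfsg.Agent.Lib.FusionExt.Basic Cfsg.Agent.Lib.Fusion.KSystem
  Cfsg.Agent.Lib.Fusion.WeakClosure Cfsg.Agent.Lib.Fusion.FrobThompson2 Cfsg.Agent.Lib.Core.SylowFacts
  Cfsg.Agent.Lib.Fusion.Generation Cfsg.Agent.Lib.Fusion.Generation3 Cfsg.Agent.Lib.FusionExt.Normal
  Cfsg.Agent.Lib.Fusion.FocalControl Cfsg.Agent.Lib.Fusion.FocalControl2 Cfsg.Agent.Lib.Fusion.FocalControl3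
  Cfsg.Agent.Lib.FusionExt.Factor Cfsg.Agent.Lib.FusionExt.FactorExt Cfsg.Agent.Lib.FusionExt.FactorSat

universe u

section main

variable {Ω : Type u} [Group Ω] {S : Subgroup Ω} [Finite S] {F : FusionSystem S} {p : ℕ} [hp : Fact p.Prime]
  {W : ∀ (Q : Type u) [Group Q], Subgroup Q}

theorem UU_normal (hS : IsPGroup p S)
    (hW2 : ∀ (Q R : Type u) [Group Q] [Group R] [Finite Q], IsPGroup p Q → ∀ φ : Q ≃* R, (W Q).map φ.toMonoidHom = W R) :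
    S ≤ normalizerIn S (UU W S) := by
  have h1 := normalizerIn_le_UU W hW2 hS (le_refl S)
  have h2 : normalizerIn S S = S := inf_eq_left.2 (fun t ht => Subgroup.le_normalizer ht)
  rwa [h2] at h1

theorem aut_pres (hS : IsPGroup p S)
    (hW2 : ∀ (Q R : Type u) [Group Q] [Group R] [Finite Q], IsPGroup p Q → ∀ φ : Q ≃* R, (W Q).map φ.toMonoidHom = W R)
    (γ : MulAut S) (y : S) (hy : (y : Ω) ∈ UU W S) : ((γ y : S) : Ω) ∈ UU W S := by
  have h1 := hW2 S S hS γ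
  obtain ⟨t, ht, e⟩ := hy
  have e' : t = y := Subtype.ext e
  subst e'
  refine ⟨γ t, ?_, rfl⟩
  show γ t ∈ W S
  rw [← h1]
  exact ⟨t, ht, rfl⟩

theorem cong_of_goodA (hS : IsPGroup p S) {Φ : Subgroup Ω} (hN : GoodA F (UU W S) Φ)
    (hW2 : ∀ (Q R : Type u) [Group Q] [Group R] [Finite Q], IsPGroup p Q → ∀ φ : Q ≃* R, (W Q).map φ.toMonoidHom = W R) :
    ∀ g ∈ S, ∀ x ∈ S, x⁻¹ * (g * x * g⁻¹) ∈ Φ := by
  intro g hg x hx
  let α : MulAut S := MulAut.conj (⟨g, hg⟩ : S)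
  have hα : α ∈ F.autGroup S := (mem_autGroup_iff F le_rfl α).2 (conj_mem' F le_rfl hg (autHom α) (fun _ => rfl))
  exact hN S α (UU_le W S) (UU_normal hS hW2) hα (aut_pres hS hW2 α) ⟨x, hx⟩

/-- **Modulo `O_p(F)`.** -/
theorem good_mod_core (hS : IsPGroup p S) (hF : F.IsSaturated p) (hIH : IH p W F) {Φ : Subgroup Ω}
    (hN : GoodA F (UU W S) Φ)
    (hW1 : ∀ (Q : Type u) [Group Q] [Finite Q], IsPGroup p Q → Nontrivial Q → W Q ≠ ⊥)
    (hW2 : ∀ (Q R : Type u) [Group Q] [Group R] [Finite Q], IsPGroup p Q → ∀ φ : Q ≃* R, (W Q).map φ.toMonoidHom = W R)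
    (hcore : F.core ≠ ⊥) (P : Subgroup Ω) (φ : P →* Ω) (hφ : φ ∈ F.Hom P) (x : P) :
    (x : Ω)⁻¹ * φ x ∈ Φ ⊓ S ⊔ F.core := by
  have hO : F.IsNormal F.core := Cfsg.Agent.S5145.result F
  obtain ⟨O, hOe⟩ : ∃ O : Subgroup Ω, O = F.core := ⟨_, rfl⟩
  rw [← hOe] at hO hcore ⊢
  have hOS : O ≤ S := hO.1
  have hsc := isNormal_stronglyClosed F hO
  have hOn : S ≤ Subgroup.normalizer (O : Set Ω) := sc_le_normalizer F hsc
  have hPS : P ≤ S := Basic.le_of_mem F hφ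
  by_cases hSO : S ≤ O
  · exact Subgroup.mem_sup_right (hSO (S.mul_mem (S.inv_mem (hPS x.2)) (val_mem F hφ x)))
  haveI hO'n : (O.subgroupOf S).Normal := by
    refine ⟨fun n hn g => ?_⟩
    rw [Subgroup.mem_subgroupOf] at hn ⊢
    exact (Subgroup.mem_normalizer_iff.1 (hOn g.2) n).1 hn
  let θ : S →* (S ⧸ O.subgroupOf S) := QuotientGroup.mk' (O.subgroupOf S)
  have hθ : ∀ s : S, θ s = 1 ↔ (s : Ω) ∈ O := fun s => by
    rw [← Subgroup.mem_subgroupOf]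
    exact QuotientGroup.eq_one_iff s
  obtain ⟨E, hE⟩ := exists_isFactorSystem F θ hsc hθ (S' := θ.range) rfl
  have hα := isSurjectiveMorphism_of_isFactorSystem F θ hS hF hsc hE
  have hEsat := image_isSaturated θ F E hS hF hα
  have hSbp : IsPGroup p ↥θ.range := hS.of_surjective θ.rangeRestrict θ.rangeRestrict_surjective
  haveI hSbf : Finite ↥θ.range := Finite.of_surjective θ.rangeRestrict θ.rangeRestrict_surjective
  obtain ⟨Wh, hWh⟩ : ∃ Wh : Subgroup Ω, Wh = preimageAlong θ (UU W θ.range) := ⟨_, rfl⟩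
  have hWhS : Wh ≤ S := hWh ▸ preimageAlong_le θ _
  have hSbN := UU_normal hSbp hW2
  have hfwd : ∀ s ∈ S, ∀ y ∈ Wh, s * y * s⁻¹ ∈ Wh := by
    intro s hs y hy
    rw [hWh] at hy ⊢
    obtain ⟨hyS, hyU⟩ := mem_preimageAlong.1 hy
    refine mem_preimageAlong.2 ⟨S.mul_mem (S.mul_mem hs hyS) (S.inv_mem hs), ?_⟩
    have h1 : θ ⟨s * y * s⁻¹, S.mul_mem (S.mul_mem hs hyS) (S.inv_mem hs)⟩ = θ ⟨s, hs⟩ * θ ⟨y, hyS⟩ * (θ ⟨s, hs⟩)⁻¹ := by
      rw [← map_inv, ← map_mul, ← map_mul]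
      rfl
    rw [h1]
    exact (Subgroup.mem_normalizer_iff.1 (hSbN ⟨_, rfl⟩).2 _).1 hyU
  have hWhn : S ≤ Subgroup.normalizer (Wh : Set Ω) := by
    intro s hs
    refine Subgroup.mem_normalizer_iff.2 fun y => ⟨fun hy => hfwd s hs y hy, fun hy => ?_⟩
    have h1 := hfwd s⁻¹ (S.inv_mem hs) _ hy
    have e : s⁻¹ * (s * y * s⁻¹) * s⁻¹⁻¹ = y := by group
    rwa [e] at h1
  have hWhO : ¬ Wh ≤ F.core := by
    rw [← hOe]
    intro hle
    obtain ⟨s₀, hs₀, hs₀O⟩ := SetLike.not_le_iff_exists.1 hSO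
    have hnt : Nontrivial ↥θ.range := by
      refine ⟨⟨⟨θ ⟨s₀, hs₀⟩, ⟨_, rfl⟩⟩, 1, fun e => hs₀O ?_⟩⟩
      exact (hθ ⟨s₀, hs₀⟩).1 (congrArg Subtype.val e)
    have hne := hW1 ↥θ.range hSbp hnt
    obtain ⟨⟨t, ht⟩, ht1⟩ := (Subgroup.ne_bot_iff_exists_ne_one).1 hne
    obtain ⟨s, hs⟩ := t.2
    have hmem : (s : Ω) ∈ Wh := by
      rw [hWh]
      refine mem_preimageAlong.2 ⟨s.2, ?_⟩
      exact ⟨t, ht, hs.symm⟩
    apply ht1
    apply Subtype.ext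
    apply Subtype.ext
    show (t : (S ⧸ O.subgroupOf S)) = 1
    rw [← hs]
    exact (hθ s).2 (hle hmem)
  have hgood := good_of_normal hS hF hIH hWhS hWhn hWhO hN hW2
  obtain ⟨Φb, hΦb⟩ : ∃ Φb : Subgroup (S ⧸ O.subgroupOf S), Φb = imageAlong θ Φ := ⟨_, rfl⟩
  have hGA : GoodA E (UU W θ.range) Φb := by
    intro Rb gb hURb hRbN hgb hpres xb
    have hRbS : Rb ≤ θ.range := hRbN.trans inf_le_left
    have hgbE := autHom_mem E hRbS hgb
    obtain ⟨-, φ₁, hφ₁, hind⟩ := (hE.2.2.2 Rb _).1 hgbE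
    have hrange := range_eq_preimage F θ hsc hθ hRbS hφ₁ hind
    have hr : φ₁.range = preimageAlong θ Rb := by
      rw [hrange, autHom_range]
    obtain ⟨β, hβ, hβv⟩ := exists_aut_of_range F hφ₁ hr
    have hRS : preimageAlong θ Rb ≤ S := preimageAlong_le θ _
    have hWhR : Wh ≤ preimageAlong θ Rb := by
      rw [hWh]
      intro y hy
      obtain ⟨hyS, hyU⟩ := mem_preimageAlong.1 hy
      exact mem_preimageAlong.2 ⟨hyS, hURb hyU⟩
    have hRN : preimageAlong θ Rb ≤ normalizerIn S Wh := fun y hy => ⟨hRS hy, hWhn (hRS hy)⟩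
    obtain ⟨hP, hφS, hPP', hform⟩ := hind
    have hpres' : ∀ y : ↥(preimageAlong θ Rb), (y : Ω) ∈ Wh → ((β y : ↥(preimageAlong θ Rb)) : Ω) ∈ Wh := by
      intro y hy
      rw [hβv, hWh]
      refine mem_preimageAlong.2 ⟨hφS y, ?_⟩
      rw [← hform y]
      rw [hWh] at hy
      obtain ⟨hyS, hyU⟩ := mem_preimageAlong.1 hy
      exact hpres _ hyU
    obtain ⟨y, hy⟩ := exists_preimage θ hRbS xb.2
    have h := hgood _ β hWhR hRN hβ hpres' y
    rw [hβv] at h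
    rw [hΦb]
    refine mem_imageAlong.2 ⟨(⟨y, hP y.2⟩ : S)⁻¹ * ⟨φ₁ y, hφS y⟩, h, ?_⟩
    rw [map_mul, map_inv, ← hform y]
    have e : (⟨θ ⟨y, hP y.2⟩, hPP' y⟩ : Rb) = xb := Subtype.ext hy
    rw [e, hy]
    rfl
  have hμ : Mu E < Mu F := by
    have hcoreE : E.core ≤ θ.range := (Cfsg.Agent.S5145.result E).1
    haveI : Finite E.core := finite_of_le hcoreE
    have hc : 0 < Nat.card E.core := Nat.card_pos
    haveI hOf : Finite O := finite_of_le hOS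
    have h1 : Nat.card O * Nat.card θ.range = Nat.card S := by
      have h2 := Subgroup.card_mul_index (O.subgroupOf S)
      have h3 : (O.subgroupOf S).index = Nat.card θ.range := by
        rw [← Subgroup.index_ker, QuotientGroup.ker_mk']
      have h4 : Nat.card (O.subgroupOf S) = Nat.card O :=
        Nat.card_congr (Subgroup.subgroupOfEquivOfLe hOS).toEquiv
      rw [h3, h4] at h2
      exact h2
    have h5 : 1 < Nat.card O := (Subgroup.one_lt_card_iff_ne_bot O).2 hcore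
    have h6 : 0 < Nat.card θ.range := Nat.card_pos
    have h7 : 2 * Nat.card θ.range ≤ Nat.card S := by
      rw [← h1]
      exact Nat.mul_le_mul_right _ h5
    have h8 : Nat.card O ≤ Nat.card S := by
      rw [← h1]
      exact Nat.le_mul_of_pos_right _ h6
    unfold Mu
    rw [← hOe]
    omega
  have hgoodE := hIH _ θ.range hSbp E hEsat hμ Φb hGA
  obtain ⟨φ', hφ', hind'⟩ := hα.1.2 P φ hφ
  obtain ⟨hP, hφS, hPP', hform⟩ := hind'
  have h := hgoodE _ φ' hφ' ⟨θ ⟨x, hP x.2⟩, hPP' x⟩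
  rw [hform x, hΦb] at h
  obtain ⟨s, hs, hsv⟩ := mem_imageAlong.1 h
  have h1 : θ s = θ ((⟨x, hP x.2⟩ : S)⁻¹ * ⟨φ x, hφS x⟩) := by
    rw [hsv, map_mul, map_inv]
  have h2 := (theta_eq_iff θ hθ s _).1 h1
  have e : (x : Ω)⁻¹ * φ x = (s : Ω) * ((s : Ω)⁻¹ * (((⟨x, hP x.2⟩ : S)⁻¹ * ⟨φ x, hφS x⟩ : S) : Ω)) := by
    rw [mul_inv_cancel_left]
    rfl
  rw [e]
  exact Subgroup.mul_mem _ (Subgroup.mem_sup_left ⟨hs, s.2⟩) (Subgroup.mem_sup_right h2)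

/-- The inductive step. -/
theorem good_step (hS : IsPGroup p S) (hF : F.IsSaturated p) (hIH : IH p W F) {Φ : Subgroup Ω}
    (hN : GoodA F (UU W S) Φ)
    (hW1 : ∀ (Q : Type u) [Group Q] [Finite Q], IsPGroup p Q → Nontrivial Q → W Q ≠ ⊥)
    (hW2 : ∀ (Q R : Type u) [Group Q] [Group R] [Finite Q], IsPGroup p Q → ∀ φ : Q ≃* R, (W Q).map φ.toMonoidHom = W R)
    (hT : ∀ (G : Type u) [Group G] [Finite G] (P : Sylow p G),
      Subgroup.centralizer ((Cfsg.pCore p G : Subgroup G) : Set G) ≤ Cfsg.pCore p G →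
      Cfsg.pCore p G ⊓ commutator G = Cfsg.pCore p G ⊓ (commutator ↥(Subgroup.normalizer
        (((W ↥(P : Subgroup G)).map (P : Subgroup G).subtype : Subgroup G) : Set G))).map
          (Subgroup.normalizer (((W ↥(P : Subgroup G)).map (P : Subgroup G).subtype : Subgroup G) : Set G)).subtype) :
    Good F Φ := by
  have hc := cong_of_goodA hS hN hW2
  by_cases hcore : F.core = ⊥
  · exact good_of_core_bot hS hF hIH hcore hN hW1 hW2 hc
  have hO : F.IsNormal F.core := Cfsg.Agent.S5145.result F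
  have hOS : F.core ≤ S := hO.1
  have hsc := isNormal_stronglyClosed F hO
  have hOn : S ≤ Subgroup.normalizer (F.core : Set Ω) := sc_le_normalizer F hsc
  obtain ⟨Φ₀, hΦ₀⟩ : ∃ Φ₀ : Subgroup Ω, Φ₀ = Φ ⊓ F.focalSubgroup := ⟨_, rfl⟩
  have hΦ₀le : Φ₀ ≤ Φ := hΦ₀ ▸ inf_le_left
  have hΦ₀f : Φ₀ ≤ F.focalSubgroup := hΦ₀ ▸ inf_le_right
  have hN₀ : GoodA F (UU W S) Φ₀ := by
    intro R γ hUR hRN hγ hp' x
    rw [hΦ₀]
    refine ⟨hN R γ hUR hRN hγ hp' x, ?_⟩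
    exact Subgroup.subset_closure ⟨R, autHom γ, x, autHom_mem F (hRN.trans inf_le_left) hγ, rfl⟩
  have hc₀ := cong_of_goodA hS hN₀ hW2
  have h4 : F.core ⊓ F.focalSubgroup ≤ Φ₀ := by
    by_cases hcent : centralizerIn S F.core ≤ F.core
    · exact core_inf_focal_le hS hF hN₀ hc₀ hW2 hT hcent
    · exact inf_focal_le_of_stable F hS hF hOS hc₀
        (fun P φ hφ x hx => stable_on_core hS hF hIH hN₀ hW2 hcent P φ hφ x hx)
  intro P φ hφ x
  apply hΦ₀le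
  have h3 := good_mod_core hS hF hIH hN₀ hW1 hW2 hcore P φ hφ x
  have hA : Φ₀ ⊓ S ≤ Subgroup.normalizer (F.core : Set Ω) := inf_le_right.trans hOn
  obtain ⟨c, hc', o, ho, e⟩ := exists_mul_of_mem_sup' hA h3
  have hf : (x : Ω)⁻¹ * φ x ∈ F.focalSubgroup := Subgroup.subset_closure ⟨P, φ, x, hφ, rfl⟩
  have hoF : o ∈ F.focalSubgroup := by
    have h5 := F.focalSubgroup.mul_mem (F.focalSubgroup.inv_mem (hΦ₀f hc'.1)) hf
    rw [e, inv_mul_cancel_left] at h5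
    exact h5
  rw [e]
  exact Φ₀.mul_mem hc'.1 (h4 ⟨ho, hoF⟩)

/-- **The main theorem.** -/
theorem main_good
    (hW1 : ∀ (Q : Type u) [Group Q] [Finite Q], IsPGroup p Q → Nontrivial Q → W Q ≠ ⊥)
    (hW2 : ∀ (Q R : Type u) [Group Q] [Group R] [Finite Q], IsPGroup p Q → ∀ φ : Q ≃* R, (W Q).map φ.toMonoidHom = W R)
    (hT : ∀ (G : Type u) [Group G] [Finite G] (P : Sylow p G),
      Subgroup.centralizer ((Cfsg.pCore p G : Subgroup G) : Set G) ≤ Cfsg.pCore p G →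
      Cfsg.pCore p G ⊓ commutator G = Cfsg.pCore p G ⊓ (commutator ↥(Subgroup.normalizer
        (((W ↥(P : Subgroup G)).map (P : Subgroup G).subtype : Subgroup G) : Set G))).map
          (Subgroup.normalizer (((W ↥(P : Subgroup G)).map (P : Subgroup G).subtype : Subgroup G) : Set G)).subtype) :
    ∀ (m : ℕ) (Ω₂ : Type u) [Group Ω₂] (S₂ : Subgroup Ω₂) [Finite S₂], IsPGroup p S₂ → ∀ F₂ : FusionSystem S₂, F₂.IsSaturated p →
      Mu F₂ = m → ∀ Φ₂ : Subgroup Ω₂, GoodA F₂ (UU W S₂) Φ₂ → Good F₂ Φ₂ := by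
  intro m
  induction m using Nat.strong_induction_on with
  | _ m ih =>
    intro Ω₂ _ S₂ _ hS₂ F₂ hF₂ hm Φ₂ hN₂
    refine good_step hS₂ hF₂ (fun Ω₃ _ S₃ _ hS₃ F₃ hF₃ hμ Φ₃ hN₃ => ?_) hN₂ hW1 hW2 hT
    exact ih _ (hm ▸ hμ) Ω₃ S₃ hS₃ F₃ hF₃ rfl Φ₃ hN₃

end main

end Cfsg.Agent.Lib.Fusion.FocalControl4
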