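import Cfsg.Agent.Lib.Fusion.TwistTransfer
import Cfsg.Agent.Lib.Fusion.TateFocal
import Cfsg.Agent.Lib.FusionExt.Hyperfocal
import Cfsg.Agent.Lib.FusionTheory.CoprimeAut
import Cfsg.Agent.Lib.FusionTheory.Hyperfocal

/-!
# Tate's theorem for fusion systems: the hyperfocal subgroup
-/

set_option autoImplicit false

namespace Cfsg.Agent.Lib.Fusion.TateHyp

open Cfsg Cfsg.FusionSystem Cfsg.Agent.Lib.Fusion.Basic Cfsg.Agent.Lib.Fusion.Saturation
  Cfsg.Agent.Lib.Fusion.Saturation2 Cfsg.Agent.Lib.Fusion.Alperin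
  Cfsg.Agent.Lib.Fusion.Biset Cfsg.Agent.Lib.Fusion.CharBiset Cfsg.Agent.Lib.Fusion.CharBiset3
  Cfsg.Agent.Lib.Fusion.BisetTransfer
  Cfsg.Agent.Lib.Fusion.ModelGroup Cfsg.Agent.Lib.Fusion.TwistTransfer Cfsg.Agent.Lib.Fusion.TateFocal
  Cfsg.Agent.Lib.FusionExt.Hyperfocal Cfsg.Agent.Lib.Core.Residual

open scoped commutatorElement

universe u

variable {Ω : Type u} [Group Ω] {S : Subgroup Ω} (F : FusionSystem S) {p : ℕ} [Fact p.Prime]

section inner

variable [Finite S] {T : Subgroup Ω}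

/-- Modulo a normal subgroup containing the hyperfocal subgroup, maps of the system are conjugations. -/
theorem exists_conj_mod (hS : IsPGroup p S) (hF : F.IsSaturated p) (hTn : ∀ g ∈ S, ∀ x ∈ T, g * x * g⁻¹ ∈ T)
    (hT : F.hyperfocalSubgroup p ≤ T) :
    ∀ (P : Subgroup Ω) (φ : P →* Ω), φ ∈ F.Hom P → ∃ g ∈ S, ∀ x : P, (g * (x : Ω) * g⁻¹)⁻¹ * φ x ∈ T := by
  have hinv : ∀ {g y x : Ω}, g ∈ S → (g * y * g⁻¹)⁻¹ * x ∈ T → (g⁻¹ * x * g⁻¹⁻¹)⁻¹ * y ∈ T := by
    intro g y x hg h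
    have h1 := hTn g⁻¹ (S.inv_mem hg) _ (T.inv_mem h)
    have e : g⁻¹ * ((g * y * g⁻¹)⁻¹ * x)⁻¹ * g⁻¹⁻¹ = (g⁻¹ * x * g⁻¹⁻¹)⁻¹ * y := by group
    rwa [e] at h1
  have hcomp : ∀ {g h x y z : Ω}, g ∈ S → h ∈ S → (g * x * g⁻¹)⁻¹ * y ∈ T → (h * y * h⁻¹)⁻¹ * z ∈ T →
      ((h * g) * x * (h * g)⁻¹)⁻¹ * z ∈ T := by
    intro g h x y z hg hh h1 h2
    have h3 := T.mul_mem (hTn h hh _ h1) h2
    have e : h * ((g * x * g⁻¹)⁻¹ * y) * h⁻¹ * ((h * y * h⁻¹)⁻¹ * z) = ((h * g) * x * (h * g)⁻¹)⁻¹ * z := by group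
    rwa [e] at h3
  refine alperin_induction F hS hF (fun P φ => ∃ g ∈ S, ∀ x : P, (g * (x : Ω) * g⁻¹)⁻¹ * φ x ∈ T) ?_ ?_ ?_ ?_
  · intro P hP α hα
    have hfn : F.IsFullyNormalized P := by
      rcases hP with rfl | hP
      · exact isFullyNormalized_top F hS
      · exact hP.2.1
    have hA := isFullyAutomized_of_isFullyNormalized F hS hF hfn
    let K : Subgroup (MulAut P) :=
      { carrier := {β | ∃ g ∈ S, ∀ x : P, (g * (x : Ω) * g⁻¹)⁻¹ * ((β x : P) : Ω) ∈ T}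
        mul_mem' := by
          rintro a b ⟨g, hg, ha⟩ ⟨h, hh, hb⟩
          exact ⟨g * h, S.mul_mem hg hh, fun x => hcomp hh hg (hb x) (ha (b x))⟩
        one_mem' := ⟨1, S.one_mem, fun x => by simp⟩
        inv_mem' := by
          rintro a ⟨g, hg, ha⟩
          refine ⟨g⁻¹, S.inv_mem hg, fun x => hinv hg ?_⟩
          have := ha (a⁻¹ x)
          rwa [MulAut.apply_inv_self] at this }
    have := aut_le_of_isFullyAutomized F hA K ?_ ?_ hα
    · exact this
    · rintro _ ⟨β, hβ, rfl⟩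
      refine ⟨1, S.one_mem, fun x => ?_⟩
      have := hT (hyperfocal_gen F hfn.1 β hβ x)
      simpa using this
    · apply (Subgroup.closure_le _).2
      rintro β ⟨g, hg, hβ⟩
      refine ⟨g, hg, fun x => ?_⟩
      rw [hβ x, inv_mul_cancel]
      exact T.one_mem
  · rintro P Q h φ _ ⟨g, hg, hφ⟩
    exact ⟨g, hg, fun x => hφ (Subgroup.inclusion h x)⟩
  · rintro P Q R e e' _ _ ⟨g, hg, h1⟩ ⟨h, hh, h2⟩
    exact ⟨h * g, S.mul_mem hh hg, fun x => hcomp hg hh (h1 x) (h2 (e x))⟩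
  · rintro P Q e _ ⟨g, hg, h1⟩
    refine ⟨g⁻¹, S.inv_mem hg, fun y => hinv hg ?_⟩
    have := h1 (e.symm y)
    simp only [isoHom_apply, MulEquiv.apply_symm_apply] at this
    exact this

end inner

section bimap

variable [Finite S] {X : Type u} [MulAction (Bi S) X] [Finite X]

/-- A biequivariant map from a characteristic biset to `S / T`. -/
theorem exists_bimap (hX : IsChar F p X) (T : Subgroup S) [hTn : T.Normal]
    (hT : ∀ (P : Subgroup Ω) (φ : P →* Ω), φ ∈ F.Hom P → ∃ g ∈ S, ∀ x : P, (g * (x : Ω) * g⁻¹)⁻¹ * φ x ∈ T.map S.subtype) :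
    ∃ b : X → S ⧸ T, ∀ (s u : S) (x : X), b (((s, u) : Bi S) • x) = (s : S ⧸ T) * b x * (u : S ⧸ T)⁻¹ := by
  letI i₂ : MulAction (Bi S) (S ⧸ T) :=
    { smul := fun g a => (g.1 : S ⧸ T) * a * (g.2 : S ⧸ T)⁻¹
      one_smul := fun a => by
        show ((1 : S) : S ⧸ T) * a * ((1 : S) : S ⧸ T)⁻¹ = a
        simp
      mul_smul := fun g g' a => by
        show ((g.1 * g'.1 : S) : S ⧸ T) * a * ((g.2 * g'.2 : S) : S ⧸ T)⁻¹ =
          (g.1 : S ⧸ T) * ((g'.1 : S ⧸ T) * a * (g'.2 : S ⧸ T)⁻¹) * (g.2 : S ⧸ T)⁻¹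
        simp only [QuotientGroup.mk_mul, mul_inv_rev]
        group }
  obtain ⟨b, hb, -⟩ := exists_equivariant (G₀ := Bi S) (X := X) (Y := S ⧸ T) (fun _ _ => True)
    (fun _ _ _ _ => trivial) (fun x => by
      obtain ⟨D, hD, φ, hφ, h1, h2⟩ := exists_stab_hom hX.free_right x S le_rfl
      have hφF := hX.gen x D hD φ hφ h1
      obtain ⟨g, hg, hgφ⟩ := hT D φ hφF
      refine ⟨((⟨g, hg⟩ : S)⁻¹ : S), trivial, fun w hw => ?_⟩
      obtain ⟨s, u⟩ := w
      obtain ⟨hsD, hsu⟩ := h2 s s.2 u hw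
      have h3 := hgφ ⟨s, hsD⟩
      rw [hsu] at h3
      obtain ⟨t, ht, hte⟩ := h3
      have h4 : (u : S) = (⟨g, hg⟩ : S) * s * (⟨g, hg⟩ : S)⁻¹ * t := by
        apply Subtype.ext
        have e : ((t : S) : Ω) = (g * (s : Ω) * g⁻¹)⁻¹ * u := hte
        show (u : Ω) = g * s * g⁻¹ * t
        rw [e]
        group
      show (s : S ⧸ T) * (((⟨g, hg⟩ : S)⁻¹ : S) : S ⧸ T) * (u : S ⧸ T)⁻¹ = (((⟨g, hg⟩ : S)⁻¹ : S) : S ⧸ T)
      have h5 : (t : S ⧸ T) = 1 := (QuotientGroup.eq_one_iff t).2 ht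
      rw [h4, QuotientGroup.mk_mul, h5, mul_one]
      simp only [QuotientGroup.mk_mul, QuotientGroup.mk_inv]
      group)
  exact ⟨b, fun s u x => hb (s, u) x⟩

end bimap

section gen

variable [Finite S]

/-- The hyperfocal subgroup is generated by commutators of `p'`-automorphisms with its own elements. -/
theorem hyp_le_of_gen (hS : IsPGroup p S) (W : Subgroup Ω)
    (h : ∀ P : Subgroup Ω, P ≤ S → ∀ α : MulAut P, α ∈ F.autGroup P → (orderOf α).Coprime p → ∀ x : P,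
      (x : Ω) ∈ F.hyperfocalSubgroup p → ((α x : P) : Ω) ∈ F.hyperfocalSubgroup p →
      (x : Ω)⁻¹ * ((α x : P) : Ω) ∈ W) : F.hyperfocalSubgroup p ≤ W := by
  apply (Subgroup.closure_le _).2
  rintro _ ⟨P, α, x, hPS, hα, rfl⟩
  have := finite_of_le hPS
  have hPp : IsPGroup p P := hS.of_injective (Subgroup.inclusion hPS) (Subgroup.inclusion_injective hPS)
  let K : Subgroup (F.autGroup P) :=
    { carrier := {β | ∀ x : P, (x : Ω)⁻¹ * (((β : MulAut P) x : P) : Ω) ∈ W}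
      mul_mem' := by
        rintro a b ha hb x
        have h1 := W.mul_mem (hb x) (ha ((b : MulAut P) x))
        have e : (x : Ω)⁻¹ * (((b : MulAut P) x : P) : Ω) * ((((b : MulAut P) x : P) : Ω)⁻¹ *
            (((a : MulAut P) ((b : MulAut P) x) : P) : Ω)) = (x : Ω)⁻¹ * (((a : MulAut P) ((b : MulAut P) x) : P) : Ω) := by
          group
        rw [e] at h1
        exact h1
      one_mem' := fun x => by simp
      inv_mem' := by
        rintro a ha x
        have h1 := W.inv_mem (ha (((a⁻¹ : F.autGroup P) : MulAut P) x))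
        have e : ((a : MulAut P) (((a⁻¹ : F.autGroup P) : MulAut P) x)) = x := by
          show ((a : MulAut P) * ((a : MulAut P))⁻¹) x = x
          simp
        rw [e] at h1
        have e2 : ((((((a⁻¹ : F.autGroup P) : MulAut P) x : P)) : Ω)⁻¹ * (x : Ω))⁻¹ =
            (x : Ω)⁻¹ * ((((a⁻¹ : F.autGroup P) : MulAut P) x : P) : Ω) := by group
        rw [e2] at h1
        exact h1 }
  have hK : pResidual p (F.autGroup P) ≤ K := by
    apply (Subgroup.closure_le _).2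
    rintro β hβ x
    have hco : (orderOf (β : MulAut P)).Coprime p := by
      rwa [Subgroup.orderOf_coe]
    let A : Subgroup (MulAut P) := Subgroup.zpowers (β : MulAut P)
    have hAF : A ≤ F.autGroup P := by
      rw [Subgroup.zpowers_le]
      exact β.2
    have hAco : ∀ γ ∈ A, (orderOf γ).Coprime p := by
      intro γ hγ
      exact Nat.Coprime.coprime_dvd_left (orderOf_dvd_of_mem_zpowers hγ) hco
    have := Cfsg.Agent.Lib.Fusion.Basic.finite_mulAut_of_finite (A := P)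
    have hcop : (Nat.card A).Coprime (Nat.card (⊤ : Subgroup P)) := by
      obtain ⟨k, hk⟩ := IsPGroup.iff_card.1 hPp
      rw [Nat.card_zpowers, Nat.card_congr Subgroup.topEquiv.toEquiv, hk]
      exact Nat.Coprime.pow_right k hco
    have hsolv : Group.IsSolvable (⊤ : Subgroup P) := by
      have hP' : IsPGroup p (⊤ : Subgroup P) := hPp.of_injective (⊤ : Subgroup P).subtype (Subgroup.subtype_injective _)
      have := hP'.isNilpotent
      infer_instance
    have hcc := Cfsg.Agent.Lib.FusionTheory.CoprimeAut.commAut_commAut A ⊤ (fun _ _ _ _ => Subgroup.mem_top _) hcop hsolv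
    set C := Cfsg.Agent.Lib.FusionTheory.CoprimeAut.commAut A (⊤ : Subgroup P) with hC
    have hChyp : C ≤ (F.hyperfocalSubgroup p).comap P.subtype := by
      refine Cfsg.Agent.Lib.FusionTheory.CoprimeAut.commAut_le (fun γ hγ u _ => ?_)
      have h1 := Cfsg.Agent.Lib.FusionTheory.Hyperfocal.mem_hyp_of_coprime F hPS (hAF hγ) (hAco γ hγ) u
      rw [Subgroup.mem_comap]
      simpa using h1
    have hCW : Cfsg.Agent.Lib.FusionTheory.CoprimeAut.commAut A C ≤ W.comap P.subtype := by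
      refine Cfsg.Agent.Lib.FusionTheory.CoprimeAut.commAut_le (fun γ hγ u hu => ?_)
      have h2 : γ u ∈ C := Cfsg.Agent.Lib.FusionTheory.CoprimeAut.commAut_invariant
        (fun _ _ _ _ => Subgroup.mem_top _) hγ hu
      have h3 := h P hPS γ (hAF hγ) (hAco γ hγ) u (hChyp hu) (hChyp h2)
      rw [Subgroup.mem_comap]
      simpa using h3
    rw [hcc] at hCW
    have h4 : x⁻¹ * (β : MulAut P) x ∈ C :=
      Cfsg.Agent.Lib.FusionTheory.CoprimeAut.mem_commAut (Subgroup.mem_zpowers _) (Subgroup.mem_top x)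
    have h5 := hCW h4
    have h6 : ((x⁻¹ * (β : MulAut P) x : P) : Ω) ∈ W := h5
    simpa using h6
  exact hK hα x

end gen

section main

variable [Finite S]

theorem hyp_mono {H : FusionSystem S} (hHF : H.IsSubsystemOf F) : H.hyperfocalSubgroup p ≤ F.hyperfocalSubgroup p := by
  apply (Subgroup.closure_le _).2
  rintro _ ⟨P, α, x, hPS, hα, rfl⟩
  have hle : H.autGroup P ≤ F.autGroup P := Subgroup.closure_mono (fun a ha => hHF P ha)
  let f : H.autGroup P →* F.autGroup P := Subgroup.inclusion hle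
  have h1 := map_pResidual_le f ⟨α, hα, rfl⟩
  exact hyperfocal_gen F hPS (f α) h1 x

theorem focal_mono {H : FusionSystem S} (hHF : H.IsSubsystemOf F) : H.focalSubgroup ≤ F.focalSubgroup := by
  apply (Subgroup.closure_le _).2
  rintro _ ⟨P, φ, x, hφ, rfl⟩
  exact focal_gen F (hHF P hφ) x

theorem focal_le_self : F.focalSubgroup ≤ S := by
  apply (Subgroup.closure_le _).2
  rintro _ ⟨P, φ, x, hφ, rfl⟩
  exact S.mul_mem (S.inv_mem (le_of_mem F hφ x.2)) (val_mem F hφ x)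

/-- A power equal to one for two coprime exponents. -/
theorem eq_one_of_pow_of_pow {G : Type*} [Group G] {c : G} {n k : ℕ} (hn : ¬ p ∣ n) (h1 : c ^ n = 1)
    (h2 : c ^ (p ^ k) = 1) : c = 1 := by
  have hcop : Nat.Coprime n (p ^ k) :=
    Nat.Coprime.pow_right k (((Fact.out : p.Prime).coprime_iff_not_dvd.2 hn).symm)
  have h4 := orderOf_dvd_of_pow_eq_one h1
  have h5 := orderOf_dvd_of_pow_eq_one h2
  have h6 := Nat.dvd_gcd h4 h5
  rw [hcop] at h6
  exact orderOf_eq_one_iff.1 (Nat.dvd_one.1 h6)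

/-- The permutation provided by stability, in convenient form. -/
theorem exists_sigma {X : Type u} [MulAction (Bi S) X] (hX : IsChar F p X) {P : Subgroup Ω} {α : P →* Ω}
    (hα : α ∈ F.Hom P) : ∃ σ : X ≃ X, (∀ (u : S) (ω : X), σ (((1, u) : Bi S) • ω) = ((1, u) : Bi S) • σ ω) ∧
      ∀ (x : P) (ω : X), σ (((⟨x, le_of_mem F hα x.2⟩, 1) : Bi S) • ω) =
        ((⟨α x, val_mem F hα x⟩, 1) : Bi S) • σ ω := by
  have hβ := subtype_mem F (le_refl S)
  obtain ⟨σ, hσ⟩ := hX.stable hα hβ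
  refine ⟨σ, fun u y => ?_, fun x y => hσ (x, 1) y⟩
  have h1 := hσ (1, u) y
  have e1 : inc F hα hβ (1, u) = (1, u) := rfl
  have e2 : bm F hα hβ (1, u) = (1, u) := by
    apply Prod.ext
    · exact Subtype.ext (map_one α)
    · rfl
  rwa [e1, e2] at h1

/-- The key step: the hyperfocal subgroup of `F` lies in any normal subgroup containing that of `H` and centralizing modulo it. -/
theorem hyp_step (hS : IsPGroup p S) (hF : F.IsSaturated p) (hF' : ∀ H : FusionSystem S, H.IsSaturated p →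
      H.focalSubgroup = H.hyperfocalSubgroup p ⊔ ⁅(S : Subgroup Ω), (S : Subgroup Ω)⁆)
    {H : FusionSystem S} (hH : H.IsSaturated p) (hHF : H.IsSubsystemOf F)
    (hfoc : F.focalSubgroup = H.focalSubgroup) (U : Subgroup S) [hU : U.Normal]
    (hT₀U : (H.hyperfocalSubgroup p).comap S.subtype ≤ U)
    (hUc : ∀ t ∈ (F.hyperfocalSubgroup p).comap S.subtype, ∀ g : S, g * t * g⁻¹ * t⁻¹ ∈ U) :
    F.hyperfocalSubgroup p ≤ U.map S.subtype := by
  obtain ⟨X, iX, fX, hX⟩ := exists_charBiset F hS hF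
  set T := (F.hyperfocalSubgroup p).comap S.subtype with hTdef
  haveI hTn : T.Normal := ⟨fun t ht g => hyperfocal_conj_mem F g.2 ht⟩
  let π : S →* S ⧸ U := QuotientGroup.mk' U
  have hπc : ∀ t ∈ T, π t ∈ Subgroup.center (S ⧸ U) := by
    intro t ht
    rw [Subgroup.mem_center_iff]
    intro q
    obtain ⟨g, rfl⟩ := QuotientGroup.mk'_surjective U q
    have h1 : (QuotientGroup.mk' U) (g * t * g⁻¹ * t⁻¹) = 1 := (QuotientGroup.eq_one_iff _).2 (hUc t ht g)
    rw [map_mul, map_mul, map_mul, map_inv, map_inv] at h1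
    have h2 := mul_inv_eq_one.1 h1
    rw [mul_inv_eq_iff_eq_mul] at h2
    exact h2
  have hmap : T.map S.subtype = F.hyperfocalSubgroup p := by
    rw [hTdef, Subgroup.map_comap_eq, Subgroup.range_subtype]
    exact inf_eq_right.2 (hyperfocal_le F)
  obtain ⟨b, hb⟩ := exists_bimap F hX T (by
    rw [hmap]
    exact exists_conj_mod F hS hF (fun g hg x hx => hyperfocal_conj_mem F hg hx) le_rfl)
  let v : X → S ⧸ U := fun x => π (b x).out
  have hv : ∀ (s u : S) (x : X), (v (((s, u) : Bi S) • x))⁻¹ * π s * v x * (π u)⁻¹ ∈ Subgroup.center (S ⧸ U) := by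
    intro s u x
    have h1 : (((b (((s, u) : Bi S) • x)).out : S) : S ⧸ T) = ((s * (b x).out * u⁻¹ : S) : S ⧸ T) := by
      rw [QuotientGroup.out_eq', hb, QuotientGroup.mk_mul, QuotientGroup.mk_mul, QuotientGroup.out_eq', QuotientGroup.mk_inv]
    have h2 := QuotientGroup.eq.1 h1
    have h3 := hπc _ h2
    have e : π ((b (((s, u) : Bi S) • x)).out⁻¹ * (s * (b x).out * u⁻¹)) =
        (v (((s, u) : Bi S) • x))⁻¹ * π s * v x * (π u)⁻¹ := by
      simp only [map_mul, map_inv, v]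
      group
    rwa [e] at h3
  set Λ := Lam π v hX.free_right hv with hΛ
  have hrel : ∀ {P : Subgroup Ω} {α : P →* Ω} (hα : α ∈ F.Hom P) (x : P) (h1 : π ⟨x, le_of_mem F hα x.2⟩ ∈ Subgroup.center (S ⧸ U))
      (h2 : π ⟨α x, val_mem F hα x⟩ ∈ Subgroup.center (S ⧸ U)),
      Λ ⟨x, le_of_mem F hα x.2⟩ * ((⟨_, h1⟩ : Subgroup.center (S ⧸ U)) ^ Nat.card (Xi S X))⁻¹ =
        Λ ⟨α x, val_mem F hα x⟩ * ((⟨_, h2⟩ : Subgroup.center (S ⧸ U)) ^ Nat.card (Xi S X))⁻¹ := by
    intro P α hα x h1 h2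
    obtain ⟨σ, hR, hL⟩ := exists_sigma F hX hα
    exact Lam_div_eq π v hX.free_right hv σ hR (hL x) h1 h2
  -- Step 1: the hyperfocal subgroup of `H` is in the kernel
  have h1 : H.hyperfocalSubgroup p ≤ Λ.ker.map S.subtype := by
    refine hyp_le_of_gen H hS _ (fun P hPS α hαH hco x hx hαx => ?_)
    have hαF : autHom α ∈ F.Hom P := hHF P (autHom_mem H hPS hαH)
    have hx₀ : π ⟨x, le_of_mem F hαF x.2⟩ = 1 := (QuotientGroup.eq_one_iff _).2 (hT₀U hx)
    have hy₀ : π ⟨autHom α x, val_mem F hαF x⟩ = 1 := (QuotientGroup.eq_one_iff _).2 (hT₀U hαx)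
    have hc1 : π ⟨x, le_of_mem F hαF x.2⟩ ∈ Subgroup.center (S ⧸ U) := by rw [hx₀]; exact one_mem _
    have hc2 : π ⟨autHom α x, val_mem F hαF x⟩ ∈ Subgroup.center (S ⧸ U) := by rw [hy₀]; exact one_mem _
    have h3 := hrel hαF x hc1 hc2
    have e1 : (⟨_, hc1⟩ : Subgroup.center (S ⧸ U)) = 1 := Subtype.ext hx₀
    have e2 : (⟨_, hc2⟩ : Subgroup.center (S ⧸ U)) = 1 := Subtype.ext hy₀
    rw [e1, e2, one_pow, inv_one, mul_one, mul_one] at h3
    refine ⟨(⟨x, le_of_mem F hαF x.2⟩ : S)⁻¹ * ⟨autHom α x, val_mem F hαF x⟩, MonoidHom.mem_ker.2 ?_, rfl⟩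
    rw [map_mul, map_inv, h3, inv_mul_cancel]
  -- Step 2: the commutator subgroup
  have h2 : ⁅(S : Subgroup Ω), (S : Subgroup Ω)⁆ ≤ Λ.ker.map S.subtype := by
    rw [← Subgroup.map_subtype_commutator]
    exact Subgroup.map_mono (Abelianization.commutator_subset_ker Λ)
  have h3 : F.focalSubgroup ≤ Λ.ker.map S.subtype := by
    rw [hfoc, hF' H hH]
    exact sup_le h1 h2
  have h4 : ∀ t ∈ T, Λ t = 1 := by
    intro t ht
    obtain ⟨y, hy, hyt⟩ := h3 (hyperfocal_le_focal F ht)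
    have e : y = t := Subtype.ext hyt
    rw [← e]
    exact hy
  -- Step 3: the hyperfocal subgroup of `F`
  refine hyp_le_of_gen F hS _ (fun P hPS α hαF hco x hx hαx => ?_)
  have hαF' : autHom α ∈ F.Hom P := autHom_mem F hPS hαF
  have hc1 : π ⟨x, le_of_mem F hαF' x.2⟩ ∈ Subgroup.center (S ⧸ U) := hπc _ hx
  have hc2 : π ⟨autHom α x, val_mem F hαF' x⟩ ∈ Subgroup.center (S ⧸ U) := hπc _ hαx
  have h5 := hrel hαF' x hc1 hc2
  rw [h4 _ hx, h4 _ hαx, one_mul, one_mul] at h5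
  have h6 := inv_injective h5
  set x₀ : S := ⟨x, le_of_mem F hαF' x.2⟩ with hx₀
  set y₀ : S := ⟨autHom α x, val_mem F hαF' x⟩ with hy₀
  obtain ⟨k, hk⟩ := hS (x₀⁻¹ * y₀)
  have hc : (⟨_, hc1⟩ : Subgroup.center (S ⧸ U))⁻¹ * ⟨_, hc2⟩ = 1 := by
    refine eq_one_of_pow_of_pow (p := p) (k := k) hX.count ?_ ?_
    · rw [mul_pow, inv_pow, h6, inv_mul_cancel]
    · apply Subtype.ext
      show ((π x₀)⁻¹ * π y₀) ^ (p ^ k) = 1
      rw [← map_inv, ← map_mul, ← map_pow, hk, map_one]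
  have hc' : π (x₀⁻¹ * y₀) = 1 := by
    rw [map_mul, map_inv]
    exact congrArg Subtype.val hc
  exact ⟨x₀⁻¹ * y₀, (QuotientGroup.eq_one_iff _).1 hc', rfl⟩

/-- A normal subgroup of a `p`-group contained in its commutator with the group modulo a normal subgroup lies in the latter. -/
theorem le_of_le_commutator_sup {G : Type*} [Group G] [Finite G] (hG : IsPGroup p G) {T T₀ : Subgroup G} [T₀.Normal]
    (h : T ≤ ⁅T, (⊤ : Subgroup G)⁆ ⊔ T₀) : T ≤ T₀ := by
  let f : G →* G ⧸ T₀ := QuotientGroup.mk' T₀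
  have hf : Function.Surjective f := QuotientGroup.mk'_surjective T₀
  set K := T.map f with hK
  have hKK : K ≤ ⁅K, (⊤ : Subgroup (G ⧸ T₀))⁆ := by
    have h1 := Subgroup.map_mono (f := f) h
    rw [Subgroup.map_sup, Subgroup.map_commutator, Subgroup.map_top_of_surjective f hf] at h1
    have h2 : T₀.map f = ⊥ := by
      rw [Subgroup.map_eq_bot_iff, QuotientGroup.ker_mk']
    rw [h2, sup_bot_eq] at h1
    exact h1
  have hnil : IsPGroup p (G ⧸ T₀) := hG.of_surjective f hf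
  have := hnil.isNilpotent
  obtain ⟨n, hn⟩ := Subgroup.nilpotent_iff_lowerCentralSeries.1 (inferInstance : Group.IsNilpotent (G ⧸ T₀))
  have hall : ∀ m, K ≤ (⊤ : Subgroup (G ⧸ T₀)).lowerCentralSeries m := by
    intro m
    induction m with
    | zero => exact le_top
    | succ m ih => exact hKK.trans (Subgroup.commutator_mono ih le_rfl)
  have hbot := hall n
  rw [hn] at hbot
  intro t ht
  have h3 : f t ∈ (⊥ : Subgroup (G ⧸ T₀)) := hbot ⟨t, ht, rfl⟩
  exact (QuotientGroup.eq_one_iff t).1 h3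

/-- **Tate's theorem, the hyperfocal form.** -/
theorem hyp_le_of_focal_eq (hS : IsPGroup p S) (hF : F.IsSaturated p)
    {H : FusionSystem S} (hH : H.IsSaturated p) (hHF : H.IsSubsystemOf F)
    (hfoc : F.focalSubgroup = H.focalSubgroup) : F.hyperfocalSubgroup p ≤ H.hyperfocalSubgroup p := by
  set T := (F.hyperfocalSubgroup p).comap S.subtype with hTdef
  set T₀ := (H.hyperfocalSubgroup p).comap S.subtype with hT₀def
  haveI hTn : T.Normal := ⟨fun t ht g => hyperfocal_conj_mem F g.2 ht⟩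
  haveI hT₀n : T₀.Normal := ⟨fun t ht g => hyperfocal_conj_mem H g.2 ht⟩
  have hstep := hyp_step F hS hF (fun E hE => focal_eq E hS hE) hH hHF hfoc (⁅T, (⊤ : Subgroup S)⁆ ⊔ T₀) le_sup_right
    (fun t ht g => by
      apply Subgroup.mem_sup_left
      have h3 := Subgroup.commutator_mem_commutator ht (Subgroup.mem_top g)
      have e : g * t * g⁻¹ * t⁻¹ = (⁅t, g⁆)⁻¹ := by
        rw [commutatorElement_def]
        group
      rw [e]
      exact Subgroup.inv_mem _ h3)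
  have h1 : T ≤ ⁅T, (⊤ : Subgroup S)⁆ ⊔ T₀ := by
    intro t ht
    obtain ⟨y, hy, hyt⟩ := hstep ht
    have e : y = t := Subtype.ext hyt
    rwa [← e]
  have h2 := le_of_le_commutator_sup hS h1
  intro x hx
  have hxS : x ∈ S := hyperfocal_le F hx
  exact h2 (show (⟨x, hxS⟩ : S) ∈ T from hx)

end main

end Cfsg.Agent.Lib.Fusion.TateHyp
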