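import Cfsg.Agent.Lib.Fusion.FrattiniFocal
import Cfsg.Agent.Lib.Fusion.NormSystem
import Cfsg.Agent.Lib.FusionTheory.Abelian
import Cfsg.Agent.S5224

/-!
# Strongly closed subgroups containing the commutator subgroup; systems with focal subgroup in the Frattini subgroup
-/

set_option autoImplicit false

namespace Cfsg.Agent.Lib.Fusion.FocalInner

open Cfsg Cfsg.FusionSystem Cfsg.Agent.Lib.Fusion.Basic Cfsg.Agent.Lib.Fusion.Saturation
  Cfsg.Agent.Lib.Fusion.Saturation2 Cfsg.Agent.Lib.FusionTheory.Weak Cfsg.Agent.Lib.Fusion.Alperin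
  Cfsg.Agent.Lib.FusionTheory.Abelian Cfsg.Agent.Lib.Fusion.FrattiniFocal

open scoped commutatorElement

universe u

variable {Ω : Type u} [Group Ω] {S : Subgroup Ω} (F : FusionSystem S) {p : ℕ} [Fact p.Prime] [Finite S]

/-- If `W` is strongly closed, contains all commutators and `Aut_F(S)` is inner, the focal subgroup lies in `W`. -/
theorem focal_gen_mem (hS : IsPGroup p S) (hF : F.IsSaturated p) (Φ₀ : Subgroup Ω)
    (hcm : ∀ {g x : Ω}, g ∈ S → x ∈ S → x⁻¹ * (g * x * g⁻¹) ∈ Φ₀)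
    (hA : ∀ φ ∈ F.Hom S, ∃ g ∈ S, ∀ x : S, φ x = g * (x : Ω) * g⁻¹)
    (hSC : F.StronglyClosed Φ₀) :
    ∀ (P : Subgroup Ω) (φ : P →* Ω), φ ∈ F.Hom P → ∀ x : P, (x : Ω)⁻¹ * φ x ∈ Φ₀ := by
  have main : ∀ (n : ℕ) (P : Subgroup Ω), Nat.card S - Nat.card P = n →
      ∀ φ : P →* Ω, φ ∈ F.Hom P → ∀ x : P, (x : Ω)⁻¹ * φ x ∈ Φ₀ := by
    intro n
    induction n using Nat.strong_induction_on with
    | _ n ih =>
    intro P hn φ hφ x
    have hPS : P ≤ S := le_of_mem F hφ
    by_cases hPe : P = S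
    · subst hPe
      obtain ⟨g, hg, h⟩ := hA φ hφ
      rw [h x]
      exact hcm hg x.2
    have hPlt : P < S := lt_of_le_of_ne hPS hPe
    have hPcard : Nat.card P < Nat.card S := card_lt_of_lt hPlt
    have hNcard : ∀ P' : Subgroup Ω, Nat.card P' = Nat.card P → P' ≤ S →
        Nat.card S - Nat.card (normalizerIn S P') < n := by
      intro P' hc hle
      have hlt' : P' < S := by
        refine lt_of_le_of_ne hle (fun e => ?_)
        rw [e] at hc
        omega
      haveI hfin : Finite ↥(normalizerIn S P') := finite_of_le (S := S) inf_le_left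
      have h1 := card_lt_of_lt (lt_normalizerIn hS hlt')
      have h2 : Nat.card (normalizerIn S P') ≤ Nat.card S := card_le_of_le_finite inf_le_left
      omega
    obtain ⟨R, hconj, hfn⟩ := exists_isFullyNormalized F hPS
    have hRS : R ≤ S := hfn.1
    have hRcard : Nat.card R = Nat.card P := by
      obtain ⟨χ, hχ, hr⟩ := hconj
      rw [← hr, card_range F hχ]
    have hauto := isFullyAutomized_of_isFullyNormalized F hS hF hfn
    have hrec := isReceptive_of_isFullyNormalized F hS hF hfn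
    -- extensions to normalizers
    have hext : ∀ P' : Subgroup Ω, Nat.card P' = Nat.card P → F.IsConj P' R →
        ∃ e : P' ≃* R, isoHom e ∈ F.Hom P' ∧ ∀ y : P', (y : Ω)⁻¹ * ((e y : R) : Ω) ∈ Φ₀ := by
      intro P' hc hc'
      obtain ⟨e, ψ, he, hψ, hv, -⟩ := exists_normalizer_ext F hS hauto hrec hc'
      refine ⟨e, he, fun y => ?_⟩
      have hle : P' ≤ S := le_of_mem F he
      have := ih _ (hNcard P' hc hle) (normalizerIn S P') rfl ψ hψ ⟨y, le_normalizerIn hle y.2⟩
      rw [hv] at this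
      exact this
    have hφr : F.IsConj φ.range R := Basic.IsConj.trans F (isConj_symm F ⟨φ, hφ, rfl⟩) hconj
    obtain ⟨e₁, he₁, h₁⟩ := hext P rfl hconj
    obtain ⟨e₂, he₂, h₂⟩ := hext φ.range (card_range F hφ) hφr
    -- the automorphisms of `R`
    have hK : ∀ α ∈ F.autGroup R, ∀ y : R, (y : Ω)⁻¹ * ((α y : R) : Ω) ∈ Φ₀ := by
      intro α hα
      let K : Subgroup (MulAut R) :=
        { carrier := {β | ∀ y : R, (y : Ω)⁻¹ * ((β y : R) : Ω) ∈ Φ₀}
          mul_mem' := by
            rintro a b ha hb y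
            have h1 := Φ₀.mul_mem (hb y) (ha (b y))
            have e : (y : Ω)⁻¹ * ((b y : R) : Ω) * (((b y : R) : Ω)⁻¹ * ((a (b y) : R) : Ω)) =
                (y : Ω)⁻¹ * ((a (b y) : R) : Ω) := by group
            rw [e] at h1
            exact h1
          one_mem' := fun y => by simp
          inv_mem' := by
            rintro a ha y
            have h1 := Φ₀.inv_mem (ha (a⁻¹ y))
            rw [MulAut.apply_inv_self] at h1
            have e2 : (((a⁻¹ y : R) : Ω)⁻¹ * (y : Ω))⁻¹ = (y : Ω)⁻¹ * ((a⁻¹ y : R) : Ω) := by group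
            rw [e2] at h1
            exact h1 }
      have hKn : ∀ a ∈ F.autGroup R, ∀ k ∈ K, a * k * a⁻¹ ∈ K := by
        intro a ha k hk y
        set z := a⁻¹ y with hz
        have hy : y = a z := by
          rw [hz, MulAut.apply_inv_self]
        have h0 : (a * k * a⁻¹) y = a (k z) := rfl
        rw [h0, hy]
        have h1 : (z : Ω)⁻¹ * ((k z : R) : Ω) ∈ Φ₀ := hk z
        let D : Subgroup Ω := R ⊓ Φ₀
        have hDR : D ≤ R := inf_le_left
        have haD := restrict_mem F hDR (autHom_mem F hRS ha)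
        let d : D := ⟨(z : Ω)⁻¹ * ((k z : R) : Ω), R.mul_mem (R.inv_mem z.2) (k z).2, h1⟩
        have h2 := hSC.2 D inf_le_right _ haD d
        have e : ((a z : R) : Ω)⁻¹ * ((a (k z) : R) : Ω) = ((autHom a).comp (Subgroup.inclusion hDR)) d := by
          have e1 : Subgroup.inclusion hDR d = z⁻¹ * k z := rfl
          show _ = autHom a (Subgroup.inclusion hDR d)
          rw [e1, map_mul, map_inv]
          rfl
        rw [e]
        exact h2
      have hT : autInducedBy S R ≤ K := by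
        apply (Subgroup.closure_le _).2
        rintro β ⟨g, hg, hβ⟩ y
        rw [hβ y]
        exact hcm hg (hRS y.2)
      obtain ⟨m, hm, hmn, k, hk, rfl⟩ := autGroup_frattini F hauto K hKn hT α hα
      obtain ⟨ψ, hψ, hψv⟩ := exists_ext_of_normalizes F hrec hm hmn
      have hmK : m ∈ K := by
        intro y
        have := ih _ (hNcard R hRcard hRS) (normalizerIn S R) rfl ψ hψ ⟨y, le_normalizerIn hRS y.2⟩
        rw [hψv] at this
        exact this
      exact K.mul_mem hmK hk
    let eφ : P ≃* φ.range := isoOf φ (F.injective_of_mem hφ) rfl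
    have heφ : isoHom eφ ∈ F.Hom P := isoHom_isoOf_mem F hφ rfl
    let α : R ≃* R := (e₁.symm.trans eφ).trans e₂
    have hαm : isoHom α ∈ F.Hom R :=
      isoHom_trans_mem F (isoHom_trans_mem F (isoHom_symm_mem F he₁) heφ) he₂
    have hαA : α ∈ F.autGroup R := (mem_autGroup_iff F hRS α).2 hαm
    have h3 := hK α hαA (e₁ x)
    have h4 := h₁ x
    have h5 := h₂ (eφ x)
    have h6 : α (e₁ x) = e₂ (eφ x) := by
      show e₂ (eφ (e₁.symm (e₁ x))) = _
      rw [MulEquiv.symm_apply_apply]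
    rw [h6] at h3
    have h7 := Φ₀.mul_mem (Φ₀.mul_mem h4 h3) (Φ₀.inv_mem h5)
    have e8 : (x : Ω)⁻¹ * ((e₁ x : R) : Ω) * (((e₁ x : R) : Ω)⁻¹ * ((e₂ (eφ x) : R) : Ω)) *
        (((eφ x : φ.range) : Ω)⁻¹ * ((e₂ (eφ x) : R) : Ω))⁻¹ = (x : Ω)⁻¹ * ((eφ x : φ.range) : Ω) := by group
    rw [e8] at h7
    exact h7
  intro P φ hφ
  exact main _ P rfl φ hφ

/-- **A saturated system whose focal subgroup lies in the Frattini subgroup is inner.** -/
theorem eq_inner_of_focal_le_frattini (hS : IsPGroup p S) (hF : F.IsSaturated p)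
    (hfF : F.focalSubgroup ≤ (frattini ↥S).map S.subtype) : ∀ P : Subgroup Ω, F.Hom P = (Cfsg.innerFusionSystem S).Hom P := by
  have hIsat := inner_isSaturated hS
  have hIF : (Cfsg.innerFusionSystem S).IsSubsystemOf F := inner_le F
  have hfI : (Cfsg.innerFusionSystem S).focalSubgroup ≤ (frattini ↥S).map S.subtype := by
    apply (Subgroup.closure_le _).2
    rintro _ ⟨P, φ, x, ⟨hP, g, hg, h⟩, rfl⟩
    rw [h x]
    exact Cfsg.Agent.Lib.Fusion.FrattiniFocal.conj_mem_frattini hS hg (hP x.2)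
  have hTate := Cfsg.Agent.S5224.result p hS F hF _ hIsat hIF
  have h1 : (frattini ↥S).map S.subtype ⊔ F.focalSubgroup =
      (frattini ↥S).map S.subtype ⊔ (Cfsg.innerFusionSystem S).focalSubgroup := by
    rw [sup_eq_left.2 hfF, sup_eq_left.2 hfI]
  have h2 := hTate.2.1 (hTate.1.1 h1)
  have hhypI : (Cfsg.innerFusionSystem S).hyperfocalSubgroup p = ⊥ := by
    rw [eq_bot_iff]
    apply (Subgroup.closure_le _).2
    rintro _ ⟨P, α, x, hPS, hα, rfl⟩
    have hres : pResidual p ↥((Cfsg.innerFusionSystem S).autGroup P) ≤ ⊥ := by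
      apply (Subgroup.closure_le _).2
      rintro β hβ
      have hm := autHom_mem _ hPS β.2
      obtain ⟨-, g, hg, h⟩ := hm
      have hβA : (β : MulAut P) ∈ autInducedBy S P := (mem_autInducedBy_iff S P _).2 ⟨g, hg, h⟩
      obtain ⟨k, hk⟩ := isPGroup_autInducedBy P hS ⟨_, hβA⟩
      have hk' : (β : MulAut P) ^ p ^ k = 1 := congrArg Subtype.val hk
      have hk'' : β ^ p ^ k = 1 := Subtype.ext hk'
      have h6 := Nat.dvd_gcd (orderOf_dvd_of_pow_eq_one hk'') (dvd_refl (orderOf β))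
      have h7 : Nat.gcd (p ^ k) (orderOf β) = 1 := Nat.Coprime.pow_left k (Nat.Coprime.symm hβ)
      rw [h7] at h6
      exact orderOf_eq_one_iff.1 (Nat.dvd_one.1 h6)
    have hα1 : α = 1 := hres hα
    subst hα1
    simp
  have hhypF : F.hyperfocalSubgroup p = ⊥ := h2.trans hhypI
  have hP : ∀ P : Subgroup Ω, P ≤ S → IsPGroup p (F.autGroup P) := by
    intro P hPS
    have := finite_of_le hPS
    refine Cfsg.Agent.Lib.FusionTheory.CoprimeAut.isPGroup_of_coprime_trivial (fun g hg => ?_)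
    have h3 : ∀ x : P, (x : Ω)⁻¹ * (((g : MulAut P) x : P) : Ω) = 1 := by
      intro x
      have h4 := Cfsg.Agent.Lib.FusionExt.Hyperfocal.hyperfocal_gen F hPS g
        (Cfsg.Agent.Lib.Core.Residual.mem_pResidual_of_coprime hg) x
      rw [hhypF] at h4
      exact Subgroup.mem_bot.1 h4
    apply Subtype.ext
    ext x
    have h5 := h3 x
    rw [inv_mul_eq_one] at h5
    exact h5.symm
  have hFin := eq_inner_of_isPGroup_aut F hS hF hP
  intro P
  exact congrFun (congrArg Cfsg.FusionSystem.Hom hFin) P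

/-- The normalizer of `S` being inner means `Aut_F(S)` is inner. -/
theorem aut_inner_of_normalizer (hN : ∀ N : FusionSystem (normalizerIn S S), F.IsNormalizerSystem S N →
    ∀ P : Subgroup Ω, N.Hom P = (Cfsg.innerFusionSystem (normalizerIn S S)).Hom P) :
    ∀ φ ∈ F.Hom S, ∃ g ∈ S, ∀ x : S, φ x = g * (x : Ω) * g⁻¹ := by
  obtain ⟨N, hNS⟩ := Cfsg.Agent.Lib.Fusion.NormSystem.exists_normalizerSystem F (le_refl S)
  have hI := hN N hNS
  intro φ hφ
  have hr : φ.range = S := Subgroup.eq_of_le_of_card_ge (range_le F hφ) (by rw [card_range F hφ])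
  have hle : S ≤ normalizerIn S S := le_normalizerIn le_rfl
  have hsup : S ⊔ S ≤ S := by simp
  have hmem : φ ∈ N.Hom S := by
    rw [hNS S]
    refine ⟨hφ, hle, fun x => hle (val_mem F hφ x), φ.comp (Subgroup.inclusion hsup), restrict_mem F hsup hφ,
      fun x => rfl, ?_⟩
    ext y
    constructor
    · rintro ⟨x, -, rfl⟩
      exact val_mem F hφ _
    · intro hy
      obtain ⟨x, rfl⟩ := hr.ge hy
      exact ⟨Subgroup.inclusion le_sup_left x, x.2, rfl⟩
  rw [hI S] at hmem
  obtain ⟨-, g, hg, h⟩ := hmem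
  exact ⟨g, hg.1, h⟩

end Cfsg.Agent.Lib.Fusion.FocalInner
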