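import Cfsg.Agent.Lib.Fusion.TateHyp
import Cfsg.Agent.Lib.FusionTheory.Weak
import Cfsg.Agent.Lib.PGroups.Basic

/-!
# When the Frattini subgroup is strongly closed and `Aut_F(S)` is inner
-/

set_option autoImplicit false

namespace Cfsg.Agent.Lib.Fusion.FrattiniFocal

open Cfsg Cfsg.FusionSystem Cfsg.Agent.Lib.Fusion.Basic Cfsg.Agent.Lib.Fusion.Saturation
  Cfsg.Agent.Lib.Fusion.Saturation2 Cfsg.Agent.Lib.FusionTheory.Weak

open scoped commutatorElement

universe u

variable {Ω : Type u} [Group Ω] {S : Subgroup Ω} (F : FusionSystem S) {p : ℕ} [Fact p.Prime] [Finite S]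

theorem card_lt_of_lt {A B : Subgroup Ω} (h : A < B) [Finite B] : Nat.card A < Nat.card B :=
  lt_of_le_of_ne (Subgroup.card_le_of_le h.le) (fun e => h.ne (Subgroup.eq_of_le_of_card_ge h.le e.ge))

/-- Conjugation by elements of `S` is trivial modulo `Φ(S)`. -/
theorem conj_mem_frattini (hS : IsPGroup p S) {g x : Ω} (hg : g ∈ S) (hx : x ∈ S) :
    x⁻¹ * (g * x * g⁻¹) ∈ (frattini S).map S.subtype := by
  refine ⟨(⟨x, hx⟩ : S)⁻¹ * (⟨g, hg⟩ * ⟨x, hx⟩ * (⟨g, hg⟩ : S)⁻¹), ?_, rfl⟩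
  apply Cfsg.Agent.Lib.PGroups.Basic.commutator_le_frattini hS
  have e : (⟨x, hx⟩ : S)⁻¹ * (⟨g, hg⟩ * ⟨x, hx⟩ * (⟨g, hg⟩ : S)⁻¹) = ⁅(⟨x, hx⟩ : S)⁻¹, (⟨g, hg⟩ : S)⁆ := by
    rw [commutatorElement_def]
    group
  rw [e]
  exact Subgroup.commutator_mem_commutator (Subgroup.mem_top _) (Subgroup.mem_top _)

/-- If `Φ(S)` is strongly closed and `Aut_F(S)` inner, the focal subgroup lies in `Φ(S)`. -/
theorem focal_gen_mem_frattini (hS : IsPGroup p S) (hF : F.IsSaturated p)
    (hA : ∀ φ ∈ F.Hom S, ∃ g ∈ S, ∀ x : S, φ x = g * (x : Ω) * g⁻¹)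
    (hSC : F.StronglyClosed ((frattini S).map S.subtype)) :
    ∀ (P : Subgroup Ω) (φ : P →* Ω), φ ∈ F.Hom P → ∀ x : P, (x : Ω)⁻¹ * φ x ∈ (frattini S).map S.subtype := by
  set Φ₀ := (frattini S).map S.subtype with hΦ₀
  have main : ∀ (n : ℕ) (P : Subgroup Ω), Nat.card S - Nat.card P = n →
      ∀ φ : P →* Ω, φ ∈ F.Hom P → ∀ x : P, (x : Ω)⁻¹ * φ x ∈ Φ₀ := by
    intro n
    induction n using Nat.strong_induction_on with
    | _ n ih =>
    intro P hn φ hφ x
    have hPS : P ≤ S := le_of_mem F hφ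
    by_cases hPe : P = S
    · subst hPe
      obtain ⟨g, hg, h⟩ := hA φ hφ
      rw [h x]
      exact conj_mem_frattini hS hg x.2
    have hPlt : P < S := lt_of_le_of_ne hPS hPe
    have hPcard : Nat.card P < Nat.card S := card_lt_of_lt hPlt
    have hNcard : ∀ P' : Subgroup Ω, Nat.card P' = Nat.card P → P' ≤ S →
        Nat.card S - Nat.card (normalizerIn S P') < n := by
      intro P' hc hle
      have hlt' : P' < S := by
        refine lt_of_le_of_ne hle (fun e => ?_)
        rw [e] at hc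
        omega
      haveI hfin : Finite ↥(normalizerIn S P') := finite_of_le (S := S) inf_le_left
      have h1 := card_lt_of_lt (lt_normalizerIn hS hlt')
      have h2 : Nat.card (normalizerIn S P') ≤ Nat.card S := card_le_of_le_finite inf_le_left
      omega
    obtain ⟨R, hconj, hfn⟩ := exists_isFullyNormalized F hPS
    have hRS : R ≤ S := hfn.1
    have hRcard : Nat.card R = Nat.card P := by
      obtain ⟨χ, hχ, hr⟩ := hconj
      rw [← hr, card_range F hχ]
    have hauto := isFullyAutomized_of_isFullyNormalized F hS hF hfn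
    have hrec := isReceptive_of_isFullyNormalized F hS hF hfn
    -- extensions to normalizers
    have hext : ∀ P' : Subgroup Ω, Nat.card P' = Nat.card P → F.IsConj P' R →
        ∃ e : P' ≃* R, isoHom e ∈ F.Hom P' ∧ ∀ y : P', (y : Ω)⁻¹ * ((e y : R) : Ω) ∈ Φ₀ := by
      intro P' hc hc'
      obtain ⟨e, ψ, he, hψ, hv, -⟩ := exists_normalizer_ext F hS hauto hrec hc'
      refine ⟨e, he, fun y => ?_⟩
      have hle : P' ≤ S := le_of_mem F he
      have := ih _ (hNcard P' hc hle) (normalizerIn S P') rfl ψ hψ ⟨y, le_normalizerIn hle y.2⟩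
      rw [hv] at this
      exact this
    have hφr : F.IsConj φ.range R := Basic.IsConj.trans F (isConj_symm F ⟨φ, hφ, rfl⟩) hconj
    obtain ⟨e₁, he₁, h₁⟩ := hext P rfl hconj
    obtain ⟨e₂, he₂, h₂⟩ := hext φ.range (card_range F hφ) hφr
    -- the automorphisms of `R`
    have hK : ∀ α ∈ F.autGroup R, ∀ y : R, (y : Ω)⁻¹ * ((α y : R) : Ω) ∈ Φ₀ := by
      intro α hα
      let K : Subgroup (MulAut R) :=
        { carrier := {β | ∀ y : R, (y : Ω)⁻¹ * ((β y : R) : Ω) ∈ Φ₀}
          mul_mem' := by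
            rintro a b ha hb y
            have h1 := Φ₀.mul_mem (hb y) (ha (b y))
            have e : (y : Ω)⁻¹ * ((b y : R) : Ω) * (((b y : R) : Ω)⁻¹ * ((a (b y) : R) : Ω)) =
                (y : Ω)⁻¹ * ((a (b y) : R) : Ω) := by group
            rw [e] at h1
            exact h1
          one_mem' := fun y => by simp
          inv_mem' := by
            rintro a ha y
            have h1 := Φ₀.inv_mem (ha (a⁻¹ y))
            rw [MulAut.apply_inv_self] at h1
            have e2 : (((a⁻¹ y : R) : Ω)⁻¹ * (y : Ω))⁻¹ = (y : Ω)⁻¹ * ((a⁻¹ y : R) : Ω) := by group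
            rw [e2] at h1
            exact h1 }
      have hKn : ∀ a ∈ F.autGroup R, ∀ k ∈ K, a * k * a⁻¹ ∈ K := by
        intro a ha k hk y
        set z := a⁻¹ y with hz
        have hy : y = a z := by
          rw [hz, MulAut.apply_inv_self]
        have h0 : (a * k * a⁻¹) y = a (k z) := rfl
        rw [h0, hy]
        have h1 : (z : Ω)⁻¹ * ((k z : R) : Ω) ∈ Φ₀ := hk z
        let D : Subgroup Ω := R ⊓ Φ₀
        have hDR : D ≤ R := inf_le_left
        have haD := restrict_mem F hDR (autHom_mem F hRS ha)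
        let d : D := ⟨(z : Ω)⁻¹ * ((k z : R) : Ω), R.mul_mem (R.inv_mem z.2) (k z).2, h1⟩
        have h2 := hSC.2 D inf_le_right _ haD d
        have e : ((a z : R) : Ω)⁻¹ * ((a (k z) : R) : Ω) = ((autHom a).comp (Subgroup.inclusion hDR)) d := by
          have e1 : Subgroup.inclusion hDR d = z⁻¹ * k z := rfl
          show _ = autHom a (Subgroup.inclusion hDR d)
          rw [e1, map_mul, map_inv]
          rfl
        rw [e]
        exact h2
      have hT : autInducedBy S R ≤ K := by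
        apply (Subgroup.closure_le _).2
        rintro β ⟨g, hg, hβ⟩ y
        rw [hβ y]
        exact conj_mem_frattini hS hg (hRS y.2)
      obtain ⟨m, hm, hmn, k, hk, rfl⟩ := autGroup_frattini F hauto K hKn hT α hα
      obtain ⟨ψ, hψ, hψv⟩ := exists_ext_of_normalizes F hrec hm hmn
      have hmK : m ∈ K := by
        intro y
        have := ih _ (hNcard R hRcard hRS) (normalizerIn S R) rfl ψ hψ ⟨y, le_normalizerIn hRS y.2⟩
        rw [hψv] at this
        exact this
      exact K.mul_mem hmK hk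
    let eφ : P ≃* φ.range := isoOf φ (F.injective_of_mem hφ) rfl
    have heφ : isoHom eφ ∈ F.Hom P := isoHom_isoOf_mem F hφ rfl
    let α : R ≃* R := (e₁.symm.trans eφ).trans e₂
    have hαm : isoHom α ∈ F.Hom R :=
      isoHom_trans_mem F (isoHom_trans_mem F (isoHom_symm_mem F he₁) heφ) he₂
    have hαA : α ∈ F.autGroup R := (mem_autGroup_iff F hRS α).2 hαm
    have h3 := hK α hαA (e₁ x)
    have h4 := h₁ x
    have h5 := h₂ (eφ x)
    have h6 : α (e₁ x) = e₂ (eφ x) := by
      show e₂ (eφ (e₁.symm (e₁ x))) = _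
      rw [MulEquiv.symm_apply_apply]
    rw [h6] at h3
    have h7 := Φ₀.mul_mem (Φ₀.mul_mem h4 h3) (Φ₀.inv_mem h5)
    have e8 : (x : Ω)⁻¹ * ((e₁ x : R) : Ω) * (((e₁ x : R) : Ω)⁻¹ * ((e₂ (eφ x) : R) : Ω)) *
        (((eφ x : φ.range) : Ω)⁻¹ * ((e₂ (eφ x) : R) : Ω))⁻¹ = (x : Ω)⁻¹ * ((eφ x : φ.range) : Ω) := by group
    rw [e8] at h7
    exact h7
  intro P φ hφ
  exact main _ P rfl φ hφ

end Cfsg.Agent.Lib.Fusion.FrattiniFocal
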