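import Cfsg.Agent.Lib.Fusion.FrobThompson2
import Cfsg.Agent.Lib.PLocal.ThompsonFunctor

/-!
# Glauberman-Thompson for fusion systems, `p` odd
-/

set_option autoImplicit false

namespace Cfsg.Agent.Lib.Fusion.FrobThompson3

open Cfsg Cfsg.FusionSystem Cfsg.Agent.Lib.Fusion.Basic Cfsg.Agent.Lib.Fusion.Saturation
  Cfsg.Agent.Lib.Fusion.Saturation2 Cfsg.Agent.Lib.Fusion.Center
  Cfsg.Agent.Lib.Fusion.Model Cfsg.Agent.Lib.Fusion.ModelNormalizer Cfsg.Agent.Lib.Fusion.NormSystem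
  Cfsg.Agent.Lib.Core.Basic Cfsg.Agent.Lib.FusionExt.Basic Cfsg.Agent.Lib.Fusion.KSystem
  Cfsg.Agent.Lib.FusionExt.Normal Cfsg.Agent.Lib.FusionExt.Normal2 Cfsg.Agent.Lib.Fusion.Alperin
  Cfsg.Agent.Lib.Fusion.WeakClosure Cfsg.Agent.Lib.Fusion.FrobThompson Cfsg.Agent.Lib.Fusion.FrobThompson2
  Cfsg.Agent.Lib.PLocal.Thompson Cfsg.Agent.Lib.PLocal.ZJ Cfsg.Agent.Lib.PLocal.ZJConstrained
  Cfsg.Agent.Lib.PLocal.ThompsonFunctor

universe u

section group

variable {p : ℕ} [hp : Fact p.Prime]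

/-- A finite `p`-group has a normal `p`-complement. -/
theorem hasNormalPComplement_of_isPGroup {X : Type*} [Group X] [Finite X] (h : IsPGroup p X) :
    HasNormalPComplement p X := by
  obtain ⟨Q, hQ⟩ := IsPGroup.exists_le_sylow (P := (⊤ : Subgroup X)) (h.to_subgroup _)
  have e : (Q : Subgroup X) = ⊤ := top_le_iff.1 hQ
  refine ⟨Q, ⊥, inferInstance, ?_⟩
  rw [e]
  exact Subgroup.isComplement'_bot_top

/-- A group with a normal `p`-complement with `C(O_p) ≤ O_p` is a `p`-group. -/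
theorem isPGroup_of_hasNormalPComplement {X : Type*} [Group X] [Finite X] (h : HasNormalPComplement p X)
    (hc : Subgroup.centralizer ((pCore p X : Subgroup X) : Set X) ≤ pCore p X) : IsPGroup p X := by
  obtain ⟨P, N, hN, hcomp⟩ := h
  have hOP : pCore p X ≤ P := pCore_le_sylow P
  have hdis : N ⊓ P = ⊥ := hcomp.disjoint.eq_bot
  have hNO : N ≤ Subgroup.centralizer ((pCore p X : Subgroup X) : Set X) := by
    intro n hn
    refine Subgroup.mem_centralizer_iff.2 fun o ho => ?_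
    have h1 : o * n * o⁻¹ * n⁻¹ ∈ N := N.mul_mem (hN.conj_mem n hn o) (N.inv_mem hn)
    have h2 : o * n * o⁻¹ * n⁻¹ ∈ (pCore p X : Subgroup X) := by
      have h3 : n * o⁻¹ * n⁻¹ ∈ (pCore p X : Subgroup X) :=
        (inferInstance : (pCore p X).Normal).conj_mem _ (Subgroup.inv_mem _ ho) n
      have e : o * n * o⁻¹ * n⁻¹ = o * (n * o⁻¹ * n⁻¹) := by group
      rw [e]
      exact Subgroup.mul_mem _ ho h3
    have h4 : o * n * o⁻¹ * n⁻¹ ∈ N ⊓ P := ⟨h1, hOP h2⟩
    rw [hdis] at h4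
    have h5 : o * n * o⁻¹ * n⁻¹ = 1 := Subgroup.mem_bot.1 h4
    have h6 : o * n * o⁻¹ = n := by
      rw [mul_inv_eq_one] at h5
      exact h5
    rw [mul_inv_eq_iff_eq_mul] at h6
    exact h6
  have hNb : N = ⊥ := by
    rw [eq_bot_iff, ← hdis]
    exact le_inf le_rfl ((hNO.trans hc).trans hOP)
  have hPt : (P : Subgroup X) = ⊤ := by
    have h1 := hcomp.sup_eq_top
    rwa [hNb, bot_sup_eq] at h1
  intro g
  have hg : g ∈ (P : Subgroup X) := by
    rw [hPt]
    trivial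
  obtain ⟨k, hk⟩ := P.isPGroup' ⟨g, hg⟩
  exact ⟨k, congrArg Subtype.val hk⟩

end group

section functor

/-- The functor `Z(J)`. -/
def WZJ (Q : Type u) [Group Q] : Subgroup Q := zjOf 0 (⊤ : Subgroup Q)

theorem UU_WZJ {Ω : Type u} [Group Ω] (T : Subgroup Ω) : UU WZJ T = centerThompsonAOf T := by
  rw [centerThompsonAOf_eq]
  have h := jOf_map_subtype (e := 0) T
  ext x
  rw [mem_zjOf_iff, ← h]
  constructor
  · rintro ⟨s, hs, rfl⟩
    have hs' := mem_zjOf_iff.1 hs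
    refine ⟨⟨s, hs'.1, rfl⟩, ?_⟩
    rintro _ ⟨t, ht, rfl⟩
    exact congrArg Subtype.val (hs'.2 t ht)
  · rintro ⟨⟨s, hs, rfl⟩, h2⟩
    refine ⟨s, mem_zjOf_iff.2 ⟨hs, fun y hy => Subtype.ext (h2 _ ⟨y, hy, rfl⟩)⟩, rfl⟩

variable {p : ℕ} [hp : Fact p.Prime]

theorem WZJ_map (Q R : Type u) [Group Q] [Group R] [Finite Q] (_ : IsPGroup p Q) (φ : Q ≃* R) :
    (WZJ Q).map φ.toMonoidHom = WZJ R := by
  rw [WZJ, zjOf_map_equiv, WZJ]
  congr 1
  exact Subgroup.map_top_of_surjective _ φ.surjective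

theorem WZJ_ne_bot (Q : Type u) [Group Q] [Finite Q] (hQ : IsPGroup p Q) (hn : Nontrivial Q) : WZJ Q ≠ ⊥ := by
  rw [WZJ, ← Z₀_zero_eq]
  exact Z₀_ne_bot (p := p) (hQ.to_subgroup _) top_ne_bot 0 (Or.inl rfl)

theorem WZJ_group (hp2 : p ≠ 2) (L : Type u) [Group L] [Finite L] (P₀ : Sylow p L)
    (hc : Subgroup.centralizer ((pCore p L : Subgroup L) : Set L) ≤ pCore p L)
    (h : IsPGroup p (Subgroup.normalizer (((WZJ ↥(P₀ : Subgroup L)).map (P₀ : Subgroup L).subtype : Subgroup L) : Set L))) :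
    IsPGroup p L := by
  have e : (WZJ ↥(P₀ : Subgroup L)).map (P₀ : Subgroup L).subtype = Z₀ 0 (P₀ : Subgroup L) := by
    exact (UU_WZJ _).trans (by rw [centerThompsonAOf_eq, Z₀_zero_eq])
  rw [e] at h
  exact isPGroup_of_hasNormalPComplement
    (pc_of_normalizer_Z₀ hp2 P₀ (hasNormalPComplement_of_isPGroup h)) hc

/-- **The Glauberman-Thompson normal `p`-complement theorem for fusion systems**, as a bad automorphism. -/
theorem bad_of_not_inner_zj (hp2 : p ≠ 2) {Ω : Type u} [Group Ω] {S : Subgroup Ω} [Finite S] (hS : IsPGroup p S)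
    (F : FusionSystem S) (hF : F.IsSaturated p) (h : ¬ IsInner F) : Bad F p (centerThompsonAOf S) := by
  rw [← UU_WZJ]
  exact bad_of_not_inner WZJ (fun Q R _ _ _ h φ => WZJ_map (p := p) Q R h φ) (fun Q _ _ h n => WZJ_ne_bot (p := p) Q h n)
    (fun L _ _ P₀ hc h => WZJ_group hp2 L P₀ hc h) hS F hF h

end functor

section general

variable {Ω : Type u} [Group Ω] {S : Subgroup Ω} [Finite S] {p : ℕ} [hp : Fact p.Prime]

/-- Statement form for a normal subgroup of `S`: the system is inner iff `N_F(Q)` is, given the `Bad` criterion. -/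
theorem inner_iff_of_bad (hS : IsPGroup p S) (F : FusionSystem S) (hF : F.IsSaturated p) {Q : Subgroup Ω} (hQS : Q ≤ S)
    (hSN : S ≤ Subgroup.normalizer (Q : Set Ω)) (hb : ¬ IsInner F → Bad F p Q) :
    IsInner F ↔ ∀ N : FusionSystem (normalizerIn S Q), F.IsNormalizerSystem Q N → IsInner N := by
  have hT : normalizerIn S Q = S := inf_eq_left.2 hSN
  have hfn : F.IsFullyNormalized Q := by
    refine ⟨hQS, fun Q' _ => ?_⟩
    rw [hT]
    exact card_le_of_le_finite inf_le_left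
  constructor
  · intro hin N hN
    by_contra hni
    obtain ⟨P, α, -, hPN, hα, h1, hc, -⟩ := bad_of_not_inner_normalizer hS hF hfn hN hni
    exact h1 (aut_eq_one_of_inner hS hin (hPN.trans inf_le_left) hα hc)
  · intro hN
    by_contra hni
    obtain ⟨N, hN'⟩ := exists_normalizerSystem F hQS
    exact not_inner_of_bad hS hQS hN' (hb hni) (hN N hN')

end general

end Cfsg.Agent.Lib.Fusion.FrobThompson3
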