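import Cfsg.Agent.Lib.Fusion.LiftX2

/-!
# The `p'`-residual subsystem of a weakly normal subsystem is normal (helper20)
-/

set_option autoImplicit false

namespace Cfsg.Agent.Lib.Fusion.LiftX

open Cfsg Cfsg.FusionSystem Cfsg.Agent.Lib.Fusion.Basic Cfsg.Agent.Lib.Fusion.GroupSystem
open Cfsg.Agent.Lib.FusionExt.MapApi Cfsg.Agent.Lib.FusionExt.Basic Cfsg.Agent.Lib.FusionExt.Normal
open Cfsg.Agent.Lib.FusionExt.PowerSys Cfsg.Agent.Lib.FusionExt.PowerGen Cfsg.Agent.Lib.FusionExt.PrimeRes1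
open Cfsg.Agent.Lib.FusionExt.PrimeRes2 Cfsg.Agent.Lib.Fusion.Saturation Cfsg.Agent.Lib.Fusion.Saturation2
open Cfsg.Agent.Lib.FusionExt.SatCrit1 Cfsg.Agent.Lib.FusionExt.Invariant Cfsg.Agent.Lib.FusionExt.PowerE
open Cfsg.Agent.Lib.FusionExt.LowPi Cfsg.Agent.Lib.FusionExt.CentSys
open Cfsg.Agent.Lib.FusionExt.FixQ Cfsg.Agent.Lib.FusionExt.PPrimeMin

variable {Ω : Type*} [Group Ω] {S T : Subgroup Ω} {F : FusionSystem S} {E : FusionSystem T} {p : ℕ}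
variable {Q L R U X Y : Subgroup Ω} {f g h θ b : Ω → Ω}

/-- Fusion systems with the same maps are equal. -/
theorem sys_ext {D₁ D₂ : FusionSystem T} (h : ∀ P, D₁.Hom P = D₂.Hom P) : D₁ = D₂ := by
  cases D₁
  cases D₂
  congr
  funext P
  exact h P

/-- `a` extends to `T C_S(T)`, moving `C_S(T)` by elements of `T`. -/
def ExtX (F : FusionSystem S) (T : Subgroup Ω) (a : MulAut T) : Prop :=
  ∃ β ∈ F.autGroup (T ⊔ centralizerIn S T), (∀ x ∈ T, autFun β x = autFun a x) ∧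
    ∀ c ∈ centralizerIn S T, c⁻¹ * autFun β c ∈ T

theorem extX_one : ExtX F T 1 := by
  refine ⟨1, Subgroup.one_mem _, fun x _ => ?_, fun c _ => ?_⟩
  · rw [autFun_one_apply, autFun_one_apply]
  · rw [autFun_one_apply, inv_mul_cancel]
    exact T.one_mem

theorem ExtX.mul {a c : MulAut T} (h₁ : ExtX F T a) (h₂ : ExtX F T c) : ExtX F T (a * c) := by
  obtain ⟨β₁, h1, h2, h3⟩ := h₁
  obtain ⟨β₂, h4, h5, h6⟩ := h₂
  refine ⟨β₁ * β₂, Subgroup.mul_mem _ h1 h4, fun x hx => ?_, fun d hd => ?_⟩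
  · rw [autFun_mul_apply, autFun_mul_apply, h5 x hx, h2 _ (autFun_mem c hx)]
  · rw [autFun_mul_apply]
    obtain ⟨w, hw, e⟩ : ∃ w ∈ T, autFun β₂ d = d * w := ⟨_, h6 d hd, by group⟩
    rw [e, autFun_mul β₁ (Subgroup.mem_sup_right hd) (Subgroup.mem_sup_left hw), h2 w hw, ← mul_assoc]
    exact T.mul_mem (h3 d hd) (autFun_mem a hw)

theorem ExtX.inv (hTS : T ≤ S) {a : MulAut T} (h₁ : ExtX F T a) : ExtX F T a⁻¹ := by
  obtain ⟨β, h1, h2, h3⟩ := h₁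
  have hinv : ∀ x ∈ T, autFun β⁻¹ x = autFun a⁻¹ x := by
    intro x hx
    have hy : autFun a⁻¹ x ∈ T := autFun_mem a⁻¹ hx
    have e : autFun β (autFun a⁻¹ x) = x := by
      rw [h2 _ hy, autFun_apply_inv]
    have := autFun_inv_apply β (autFun a⁻¹ x)
    rwa [e] at this
  refine ⟨β⁻¹, Subgroup.inv_mem _ h1, hinv, fun c hc => ?_⟩
  have hcL : c ∈ T ⊔ centralizerIn S T := Subgroup.mem_sup_right hc
  have hc₁ : autFun β⁻¹ c ∈ centralizerIn S T := by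
    have hL : T ⊔ centralizerIn S T ≤ S := sup_le hTS inf_le_left
    refine mem_cent.2 ⟨hL (autFun_mem β⁻¹ hcL), fun y hy => ?_⟩
    have ht : autFun a y ∈ T := autFun_mem a hy
    have e1 : autFun β⁻¹ (autFun a y) = y := by
      rw [← h2 y hy, autFun_inv_apply]
    have htL : autFun a y ∈ T ⊔ centralizerIn S T := Subgroup.mem_sup_left ht
    have e2 : autFun a y * c = c * autFun a y := (mem_cent.1 hc).2 _ ht
    have e3 := congrArg (autFun β⁻¹) e2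
    rw [autFun_mul β⁻¹ htL hcL, autFun_mul β⁻¹ hcL htL, e1] at e3
    exact e3
  have h4 := h3 _ hc₁
  rw [autFun_apply_inv] at h4
  have e : c⁻¹ * autFun β⁻¹ c = ((autFun β⁻¹ c)⁻¹ * c)⁻¹ := by group
  rw [e]
  exact T.inv_mem h4

section main

variable [Finite S] [Fact p.Prime]

/-- A `p`-element of `Aut_E(T)` is inner. -/
theorem p_elt_inner (hTS : T ≤ S) (hTp : IsPGroup p T) (hEs : E.IsSaturated p) {c : MulAut T} (hc : c ∈ E.autGroup T)
    (hk : ∃ k : ℕ, c ^ p ^ k = 1) : ∃ t ∈ T, ∀ x ∈ T, autFun c x = t * x * t⁻¹ := by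
  haveI : Finite T := finite_of_le hTS
  haveI : Finite (MulAut T) := Cfsg.Agent.Lib.Fusion.Basic.finite_mulAut_of_finite (A := T)
  have hfnE : E.IsFullyNormalized T := by
    refine ⟨le_rfl, fun Q hQ => ?_⟩
    have e : normalizerIn T T = T := le_antisymm (normalizerIn_le_left T T) (le_normalizerIn le_rfl)
    rw [e]
    exact Subgroup.card_le_of_le (normalizerIn_le_left T Q)
  have hFA := isFullyAutomized_of_isFullyNormalized E hTp hEs hfnE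
  have hsyl : IsSylowIn p (autInducedBy T T) (E.autGroup T) := hFA.2
  obtain ⟨k, hk⟩ := hk
  have hZp : IsPGroup p (Subgroup.zpowers c) := by
    rintro ⟨g, n, rfl⟩
    refine ⟨k, Subtype.ext ?_⟩
    show (c ^ n) ^ p ^ k = 1
    rw [← zpow_natCast, ← zpow_mul, mul_comm, zpow_mul, zpow_natCast, hk, one_zpow]
  obtain ⟨δ, hδ, hδe⟩ := hsyl.exists_conj ((Subgroup.zpowers_le).2 hc) hZp
  obtain ⟨t₀, ht₀, he⟩ := (mem_autInducedBy_iff T T _).1 (hδe c (Subgroup.mem_zpowers c))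
  refine ⟨(δ⁻¹ ⟨t₀, ht₀⟩ : T), (δ⁻¹ ⟨t₀, ht₀⟩ : T).2, fun x hx => ?_⟩
  have h1 : (δ * c * δ⁻¹) (δ ⟨x, hx⟩) = ⟨t₀, ht₀⟩ * δ ⟨x, hx⟩ * (⟨t₀, ht₀⟩ : T)⁻¹ := Subtype.ext (he (δ ⟨x, hx⟩))
  have h2 : (δ * c * δ⁻¹) (δ ⟨x, hx⟩) = δ (c ⟨x, hx⟩) := by
    show δ (c (δ⁻¹ (δ ⟨x, hx⟩))) = _
    rw [MulAut.inv_apply_self]
  rw [h2] at h1
  have h3 : c ⟨x, hx⟩ = δ⁻¹ ⟨t₀, ht₀⟩ * ⟨x, hx⟩ * (δ⁻¹ ⟨t₀, ht₀⟩)⁻¹ := by
    apply δ.injective
    rw [h1, map_mul, map_mul, map_inv, MulAut.apply_inv_self]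
  rw [autFun_of_mem c hx, h3]
  rfl

/-- The `p'`-part of an automorphism, with a power congruent to `1`. -/
theorem pp_part (hU : U ≤ S) (hb : Mp F U b) (hi : Img U b U) {m₀ : ℕ} (hm₀ : m₀.Coprime p) :
    ∃ f' m, Pp F p U f' ∧ (∀ x ∈ U, f' x = b^[m] x) ∧ m ≡ 1 [MOD m₀] := by
  obtain ⟨a, haF, ha⟩ := hb.toAut hi
  haveI : Finite U := finite_of_le hU
  haveI : Finite (MulAut U) := Cfsg.Agent.Lib.Fusion.Basic.finite_mulAut_of_finite (A := U)
  have hp : p.Prime := Fact.out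
  obtain ⟨k, q, hq, hN⟩ := Nat.exists_eq_pow_mul_and_not_dvd (orderOf_pos a).ne' p hp.ne_one
  have hqp : q.Coprime p := (hp.coprime_iff_not_dvd.2 hq).symm
  have hco : (m₀ * q).Coprime (p ^ k) := Nat.Coprime.pow_right k (Nat.Coprime.mul_left hm₀ hqp)
  obtain ⟨m, hm1, hm2⟩ := Nat.chineseRemainder hco 1 0
  obtain ⟨d, hd⟩ := (Nat.modEq_zero_iff_dvd).1 hm2
  have ha' : a ^ m ∈ F.autGroup U := Subgroup.pow_mem _ haF m
  have h1 : (a ^ m) ^ q = 1 := by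
    rw [← pow_mul, hd]
    have : p ^ k * d * q = orderOf a * d := by rw [hN]; ring
    rw [this, pow_mul, pow_orderOf_eq_one, one_pow]
  have hco2 : (orderOf (a ^ m)).Coprime p := by
    have h2 : orderOf (a ^ m) ∣ q := orderOf_dvd_of_pow_eq_one h1
    exact Nat.Coprime.coprime_dvd_left h2 hqp
  have hU0 : ∀ x ∈ U, autFun (a ^ m) x = b^[m] x := by
    intro x hU'
    rw [autFun_of_mem _ hU']
    have h3 := iterate_autFun (a := a) m ⟨x, hU'⟩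
    rw [← h3]
    have hagree : ∀ y ∈ U, autFun a y = b y := by
      intro y hy
      rw [autFun_of_mem a hy, ha ⟨y, hy⟩]
    exact iterate_congr (fun y hy => by rw [hagree y hy]; exact hi.1 y hy) hagree m hU'
  exact ⟨autFun (a ^ m), m, Pp.of_aut hU ha' hco2, hU0, Nat.ModEq.of_mul_right q hm1⟩

/-- The generators of the automorphism group of the `p'`-residual subsystem extend. -/
theorem extX_gen (hS : IsPGroup p S) (hF : F.IsSaturated p) (hEs : E.IsSaturated p) (hsub : E.IsSubsystemOf F)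
    (hT : F.StronglyClosed T) (hSI : StrongInv F E)
    (hFr : ∀ (P : Subgroup Ω), P ≤ T → ∀ (φ : P →* Ω), φ ∈ F.Hom P →
      ∃ α ∈ F.autGroup T, ∃ φ₀ ∈ E.Hom P, ∀ (x : P) (hx : φ₀ x ∈ T), φ x = ((α ⟨φ₀ x, hx⟩ : T) : Ω))
    {a : MulAut T} (ha : a ∈ E.autGroup T) (hQ : E.IsCentric Q) (hm : Mp (e0 E p) Q (autFun a)) : ExtX F T a := by
  classical
  have hTS : T ≤ S := hT.1
  have hTp : IsPGroup p T := hS.to_le hTS
  haveI : Finite T := finite_of_le hTS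
  haveI : Finite (MulAut T) := Cfsg.Agent.Lib.Fusion.Basic.finite_mulAut_of_finite (A := T)
  have hQT : Q ≤ T := hQ.1
  have hc : ∀ Q', F.IsConj Q Q' → zz T Q' ≤ Q' := fun Q₂ h => hc_of_centric hFr hQ h
  obtain ⟨g, g1, g2, g3⟩ := e0_lift hS hF hEs hsub hT hSI hm hc
  obtain ⟨u, v, hae, hk, q₀, hq₀, hq₀e⟩ := exists_parts (p := p) a
  obtain ⟨t, ht, hte⟩ := p_elt_inner hTS hTp hEs (Subgroup.pow_mem _ ha u) hk
  have htS : t ∈ S := hTS ht
  obtain ⟨C, hCdef⟩ : ∃ C, C = centralizerIn S T := ⟨_, rfl⟩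
  have hCS : C ≤ S := hCdef ▸ inf_le_left
  have hLS : T ⊔ C ≤ S := sup_le hTS hCS
  haveI : Finite (T ⊔ C : Subgroup Ω) := finite_of_le hLS
  have hCc : ∀ c ∈ C, ∀ y ∈ T, y * c = c * y := fun c hc' y hy => (mem_cent.1 (hCdef ▸ hc')).2 y hy
  -- the inner part
  have hinner : ExtX F T (a ^ u) := by
    have hm₁ : Mp F (T ⊔ C) (fun x => t * x * t⁻¹) := Mp.conj hLS htS
    have htL : t ∈ T ⊔ C := Subgroup.mem_sup_left ht
    have hi₁ : Img (T ⊔ C) (fun x => t * x * t⁻¹) (T ⊔ C) :=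
      Cfsg.Agent.Lib.FusionExt.LowPi.img_self hm₁ (fun x hx => Subgroup.mul_mem _ (Subgroup.mul_mem _ htL hx) (Subgroup.inv_mem _ htL))
    subst hCdef
    obtain ⟨β, hβ, hβe⟩ := hm₁.toAut hi₁
    have hβf : ∀ x ∈ T ⊔ centralizerIn S T, autFun β x = t * x * t⁻¹ := fun x hx => by
      rw [autFun_of_mem β hx]
      exact hβe ⟨x, hx⟩
    refine ⟨β, hβ, fun x hx => ?_, fun c hc' => ?_⟩
    · rw [hβf x (Subgroup.mem_sup_left hx), hte x hx]
    · rw [hβf c (Subgroup.mem_sup_right hc')]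
      have e : t * c = c * t := hCc c hc' t ht
      have e2 : c⁻¹ * (t * c * t⁻¹) = 1 := by
        rw [e]
        group
      rw [e2]
      exact T.one_mem
  have hvF : a ^ v ∈ F.autGroup T := (mem_autGroup_iff F hTS _).2 (hsub T (autHom_mem E le_rfl (Subgroup.pow_mem _ ha v)))
  have hvo : (orderOf (a ^ v)).Coprime p := Nat.Coprime.coprime_dvd_left (orderOf_dvd_of_pow_eq_one hq₀e) hq₀
  have hppT : Pp F p T (autFun (a ^ v)) := Pp.of_aut hTS hvF hvo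
  have hrT : F.IsReceptive T :=
    isReceptive_of_isFullyNormalized F hS hF (Cfsg.Agent.Lib.FusionExt.PPowerNormal.isFullyNormalized_of_stronglyClosed hT)
  obtain ⟨b₀, hb₀, hb₀e⟩ := ext_cent hrT hppT.1 hppT.2.1
  rw [← hCdef] at hb₀ g1 g3
  have hcC : ∀ {b₁ : Ω → Ω}, Mp F (T ⊔ C) b₁ → (∀ x ∈ T, b₁ x = autFun (a ^ v) x) → ∀ c ∈ C, b₁ c ∈ C := by
    intro b₁ hb₁ hb₁e c hc'
    have h1 : b₁ c ∈ centralizerIn S T := by
      refine map_cent (X := T) (Q := T) (by rwa [← hCdef]) (fun y hy => ?_) (hCdef ▸ hc')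
      obtain ⟨x, hx, rfl⟩ := hppT.2.1.2 y hy
      exact ⟨x, hx, hb₁e x hx⟩
    exact hCdef ▸ h1
  have hb₀L : ∀ x ∈ T ⊔ C, b₀ x ∈ T ⊔ C := by
    refine maps_sup hb₀ (fun y hy => ?_) (fun c hc' => Subgroup.mem_sup_right (hcC hb₀ hb₀e c hc'))
    rw [hb₀e y hy]
    exact Subgroup.mem_sup_left (hppT.2.1.1 y hy)
  have hb₀i := Cfsg.Agent.Lib.FusionExt.LowPi.img_self hb₀ hb₀L
  obtain ⟨b', m, hb', hb'T, -⟩ := pp_extend' hLS hb₀ hb₀i le_sup_left hppT hb₀e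
  have hb'C := hcC hb'.1 hb'T
  obtain ⟨-, hb'i, m₀, hm₀, hm₀e⟩ := id hb'
  -- the lift of `a ^ v` on `Q`
  have hg₂ : Mp F (Q ⊔ C) (fun x => t⁻¹ * g x * t) := by
    have := g1.comp (Y := S) (fun x hx => g1.mem_S hx) (Mp.conj le_rfl (S.inv_mem htS))
    exact this.congr (fun x _ => by simp)
  have hg₂Q : ∀ x ∈ Q, t⁻¹ * g x * t = autFun (a ^ v) x := by
    intro x hx
    have e1 : autFun a x = autFun (a ^ u) (autFun (a ^ v) x) := by
      conv_lhs => rw [hae]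
      rw [autFun_mul_apply]
    rw [g2 x hx, e1, hte _ (autFun_mem _ (hQT hx))]
    group
  have hg₂C : ∀ c ∈ C, c⁻¹ * (t⁻¹ * g c * t) ∈ T := by
    intro c hc'
    have e : t * c = c * t := hCc c hc' t ht
    have e1 : c⁻¹ * t⁻¹ = t⁻¹ * c⁻¹ := by
      have := (Commute.inv_inv (show Commute t c from e)).eq
      exact this.symm
    have e2 : c⁻¹ * (t⁻¹ * g c * t) = t⁻¹ * (c⁻¹ * g c) * t := by
      calc c⁻¹ * (t⁻¹ * g c * t) = (c⁻¹ * t⁻¹) * g c * t := by group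
        _ = (t⁻¹ * c⁻¹) * g c * t := by rw [e1]
        _ = _ := by group
    rw [e2]
    exact T.mul_mem (T.mul_mem (T.inv_mem ht) (g3 c hc')) ht
  subst hCdef
  obtain ⟨Q₂, hQ₂⟩ := (hppT.1.restrict hQT).exists_img
  have hQ₂T : Q₂ ≤ T := by
    intro y hy
    obtain ⟨x, hx, rfl⟩ := hQ₂.2 y hy
    exact autFun_mem _ (hQT hx)
  have hcQ₂ : zz T Q₂ ≤ Q₂ := hc Q₂ ((hppT.1.restrict hQT).isConj hQ₂)
  have himg₂ := lift_img hQT hQ₂T hQ₂ hg₂ hg₂Q hg₂C hcQ₂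
  obtain ⟨k₂, hk₂, d1, d2, d3⟩ := hg₂.inverse himg₂
  have hLQ : Q ⊔ centralizerIn S T ≤ T ⊔ centralizerIn S T := sup_le_sup_right hQT _
  have hLQS : Q ⊔ centralizerIn S T ≤ S := hLQ.trans hLS
  have hb'm : Mp F (T ⊔ centralizerIn S T) b' := hb'.1
  have hb'L : ∀ x ∈ Q ⊔ centralizerIn S T, b' x ∈ Q₂ ⊔ centralizerIn S T := by
    refine maps_sup (hb'm.restrict hLQ) (fun q hq => ?_) (fun c hc' => Subgroup.mem_sup_right (hb'C c hc'))
    rw [hb'T q (hQT hq)]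
    exact Subgroup.mem_sup_left (hQ₂.1 q hq)
  have hθ₀ : Mp F (Q ⊔ centralizerIn S T) (fun x => k₂ (b' x)) := (hb'm.restrict hLQ).comp hb'L hk₂
  have hθ₀L : ∀ x ∈ Q ⊔ centralizerIn S T, k₂ (b' x) ∈ Q ⊔ centralizerIn S T := fun x hx => d3.1 _ (hb'L x hx)
  have hθ₀i := Cfsg.Agent.Lib.FusionExt.LowPi.img_self hθ₀ hθ₀L
  have hθ₀Q : ∀ q ∈ Q, k₂ (b' q) = q := by
    intro q hq
    rw [hb'T q (hQT hq), ← hg₂Q q hq]
    exact d1 q (Subgroup.mem_sup_left hq)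
  have hθ₀C : ∀ c ∈ centralizerIn S T, ∃ q₁ ∈ Q, k₂ (b' c) = b' c * q₁ := by
    intro c hc'
    have hc₁ := hb'C c hc'
    have hw := hcQ₂ (comm_lift hQT hQ₂T hQ₂ hg₂ hg₂Q hc₁ (hg₂C _ hc₁))
    obtain ⟨q, hq, e⟩ := hQ₂.2 _ hw
    have hqL : q ∈ Q ⊔ centralizerIn S T := Subgroup.mem_sup_left hq
    have hcL : b' c ∈ Q ⊔ centralizerIn S T := Subgroup.mem_sup_right hc₁
    have e5 : t⁻¹ * g (b' c * q⁻¹) * t = b' c := by
      have h1 := hg₂.map_mul hcL (Subgroup.inv_mem _ hqL)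
      have h2 := hg₂.map_inv hqL
      rw [h1, h2, hg₂Q q hq, e]
      group
    have e6 := d1 _ (Subgroup.mul_mem _ hcL (Subgroup.inv_mem _ hqL))
    rw [e5] at e6
    exact ⟨q⁻¹, Q.inv_mem hq, e6⟩
  obtain ⟨θ', j, hθ', hθ'e, hj⟩ := pp_part (b := fun x => k₂ (b' x)) hLQS hθ₀ hθ₀i hm₀
  have hit : ∀ (i : ℕ), ∀ c ∈ centralizerIn S T, ∃ q₁ ∈ Q, (fun x => k₂ (b' x))^[i] c = b'^[i] c * q₁ := by
    intro i
    induction i with
    | zero => exact fun c _ => ⟨1, Q.one_mem, by simp⟩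
    | succ i ih =>
      intro c hc'
      obtain ⟨q₁, hq₁, e⟩ := ih c hc'
      have hci := iterate_mem hb'C i hc'
      obtain ⟨q₂, hq₂, e₂⟩ := hθ₀C _ hci
      refine ⟨q₂ * q₁, Q.mul_mem hq₂ hq₁, ?_⟩
      rw [Function.iterate_succ_apply', e, Function.iterate_succ_apply']
      have h1 := hθ₀.map_mul (Subgroup.mem_sup_right hci) (Subgroup.mem_sup_left hq₁)
      rw [h1, e₂, hθ₀Q q₁ hq₁, mul_assoc]
  have hθ'C : ∀ c ∈ centralizerIn S T, ∃ q₁ ∈ Q, θ' c = b' c * q₁ := by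
    intro c hc'
    obtain ⟨q₁, hq₁, e⟩ := hit j c hc'
    refine ⟨q₁, hq₁, ?_⟩
    rw [hθ'e c (Subgroup.mem_sup_right hc'), e, iterate_modEq hb'i.1 hm₀e hj (Subgroup.mem_sup_right hc')]
    rfl
  have hθ'Q : ∀ q ∈ Q, θ' q = q := by
    intro q hq
    rw [hθ'e q (Subgroup.mem_sup_left hq)]
    exact Function.iterate_fixed (hθ₀Q q hq) j
  obtain ⟨θ₁, h1, h2, h3⟩ := key_main hS hF hT _ Q rfl hQT hc θ' hθ' hθ'Q
  obtain ⟨κ, hκ, e1, e2, e3⟩ := h1.1.inverse h1.2.1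
  have hβ₀ : Mp F (T ⊔ centralizerIn S T) (fun x => b' (κ x)) := hκ.comp e3.1 hb'm
  obtain ⟨β, hβ, hβe⟩ := hβ₀.toAut (e3.comp hb'i)
  have hβf : ∀ x ∈ T ⊔ centralizerIn S T, autFun β x = b' (κ x) := fun x hx => by
    rw [autFun_of_mem β hx]
    exact hβe ⟨x, hx⟩
  have hv : ExtX F T (a ^ v) := by
    refine ⟨β, hβ, fun x hx => ?_, fun c hc' => ?_⟩
    · have hxL : x ∈ T ⊔ centralizerIn S T := Subgroup.mem_sup_left hx
      have e4 := e1 x hxL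
      rw [h2 x hx] at e4
      rw [hβf x hxL, e4, hb'T x hx]
    · have hcL : c ∈ T ⊔ centralizerIn S T := Subgroup.mem_sup_right hc'
      have hκc : κ c ∈ centralizerIn S T := by
        refine mem_cent.2 ⟨hLS (e3.1 c hcL), fun y hy => ?_⟩
        have hyL : y ∈ T ⊔ centralizerIn S T := Subgroup.mem_sup_left hy
        have hκL := e3.1 c hcL
        have e4 : θ₁ (y * κ c) = θ₁ (κ c * y) := by
          rw [h1.1.map_mul hyL hκL, h1.1.map_mul hκL hyL, e2 c hcL, h2 y hy]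
          exact (mem_cent.1 hc').2 y hy
        exact h1.1.inj (Subgroup.mul_mem _ hyL hκL) (Subgroup.mul_mem _ hκL hyL) e4
      obtain ⟨q₁, hq₁, e⟩ := hθ'C _ hκc
      have e5 : θ₁ (κ c) = θ' (κ c) := by
        rw [h3 _ (Subgroup.mem_sup_right hκc)]
      rw [e2 c hcL, e] at e5
      have e6 : b' (κ c) = c * q₁⁻¹ := by
        rw [eq_mul_inv_iff_mul_eq]
        exact e5.symm
      rw [hβf c hcL, e6]
      have e7 : c⁻¹ * (c * q₁⁻¹) = q₁⁻¹ := by group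
      rw [e7]
      exact T.inv_mem (hQT hq₁)
  have := hinner.mul hv
  rwa [← hae] at this

/-- All of `HH` extends. -/
theorem extX_HH (hS : IsPGroup p S) (hF : F.IsSaturated p) (hEs : E.IsSaturated p) (hsub : E.IsSubsystemOf F)
    (hT : F.StronglyClosed T) (hSI : StrongInv F E)
    (hFr : ∀ (P : Subgroup Ω), P ≤ T → ∀ (φ : P →* Ω), φ ∈ F.Hom P →
      ∃ α ∈ F.autGroup T, ∃ φ₀ ∈ E.Hom P, ∀ (x : P) (hx : φ₀ x ∈ T), φ x = ((α ⟨φ₀ x, hx⟩ : T) : Ω))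
    {a : MulAut T} (ha : a ∈ HH E p) : ExtX F T a := by
  induction ha using Subgroup.closure_induction with
  | mem a ha =>
    obtain ⟨h1, Q, hQ, hm⟩ := ha
    exact extX_gen hS hF hEs hsub hT hSI hFr h1 hQ hm
  | one => exact extX_one
  | mul a b _ _ h₁ h₂ => exact h₁.mul h₂
  | inv a _ h₁ => exact h₁.inv hT.1

/-- Maps of `e1` on `T` extend. -/
theorem extX_e1 (hS : IsPGroup p S) (hF : F.IsSaturated p) (hEs : E.IsSaturated p) (hsub : E.IsSubsystemOf F)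
    (hT : F.StronglyClosed T) (hSI : StrongInv F E)
    (hFr : ∀ (P : Subgroup Ω), P ≤ T → ∀ (φ : P →* Ω), φ ∈ F.Hom P →
      ∃ α ∈ F.autGroup T, ∃ φ₀ ∈ E.Hom P, ∀ (x : P) (hx : φ₀ x ∈ T), φ x = ((α ⟨φ₀ x, hx⟩ : T) : Ω))
    {a : MulAut T} (ha : a ∈ (e1 E p).autGroup T) : ExtX F T a := by
  have hTS : T ≤ S := hT.1
  haveI : Finite T := finite_of_le hTS
  obtain ⟨c, hc, u, hu, eu⟩ := mp_e1.1 (mp_autFun le_rfl ha)
  have hui : Img T u T := by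
    refine ⟨fun x hx => hu.mem_S hx, fun y hy => ?_⟩
    have hy' : autFun c y ∈ T := autFun_mem c hy
    obtain ⟨x, hx, e⟩ := (img_autFun a).2 _ hy'
    refine ⟨x, hx, ?_⟩
    rw [eu x hx] at e
    exact autFun_inj c e
  obtain ⟨u', hu', hue⟩ := hu.toAut hui
  have hcT : ∀ Q', F.IsConj T Q' → zz T Q' ≤ Q' := by
    intro Q' hQ'
    obtain ⟨φ, hφ, hr⟩ := hQ'
    have hle : Q' ≤ T := by
      rw [← hr]
      rintro _ ⟨x, rfl⟩
      exact hT.2 T le_rfl φ hφ x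
    have hcard : Nat.card Q' = Nat.card T := by
      rw [← hr]
      exact (Nat.card_congr (MonoidHom.ofInjective (F.injective_of_mem hφ)).toEquiv).symm
    have e : Q' = T := Subgroup.eq_of_le_of_card_ge hle hcard.ge
    rw [e]
    exact inf_le_left
  obtain ⟨g, g1, g2, g3⟩ := e0_lift hS hF hEs hsub hT hSI hu hcT
  have hTT : zz T T ≤ T := inf_le_left
  have himg := lift_img le_rfl le_rfl hui g1 g2 g3 hTT
  obtain ⟨β, hβ, hβe⟩ := g1.toAut himg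
  have hβf : ∀ x ∈ T ⊔ centralizerIn S T, autFun β x = g x := fun x hx => by
    rw [autFun_of_mem β hx]
    exact hβe ⟨x, hx⟩
  have hE1 : ExtX F T u' := by
    refine ⟨β, hβ, fun x hx => ?_, fun d hd => ?_⟩
    · rw [hβf x (Subgroup.mem_sup_left hx), g2 x hx, autFun_of_mem u' hx]
      exact (hue ⟨x, hx⟩).symm
    · rw [hβf d (Subgroup.mem_sup_right hd)]
      exact g3 d hd
  have hE2 := (extX_HH hS hF hEs hsub hT hSI hFr hc).mul hE1
  have e : a = c * u' := by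
    ext x
    have h1 := eu x x.2
    rw [autFun_coe] at h1
    show ((a x : T) : Ω) = ((c (u' x) : T) : Ω)
    rw [h1]
    have h2 : ((u' x : T) : Ω) = u x := hue x
    rw [← h2, autFun_coe]
  rw [e]
  exact hE2

/-! ### Invariance of `e0` and `e1` under `Aut_F(T)` -/

theorem cjB_inv_cjB (a : MulAut T) (hX : X ≤ T) : cjB a⁻¹ (cjB a X) = X := by
  ext y
  constructor
  · rintro ⟨h1, h2⟩
    have := h2.2
    rwa [autFun_apply_inv] at this
  · intro hy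
    exact ⟨hX hy, autFun_mem _ (hX hy), by rwa [autFun_apply_inv]⟩

theorem twB_inv_twB (a : MulAut T) (f : Ω → Ω) (y : Ω) : twB a⁻¹ (twB a f) y = f y := by
  show autFun a⁻¹⁻¹ (twB a f (autFun a⁻¹ y)) = f y
  rw [inv_inv, apply_twB, autFun_apply_inv]

theorem mp_of_tw (hTS : T ≤ S) (hSI : StrongInv F E) {a : MulAut T} (ha : a ∈ F.autGroup T) (hX : X ≤ T)
    (h : Mp E (cjB a X) (twB a f)) : Mp E X f := by
  have h1 := tw_sI hTS hSI (Subgroup.inv_mem _ ha) h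
  rw [cjB_inv_cjB a hX] at h1
  exact h1.congr (fun y _ => twB_inv_twB a f y)

theorem pq_tw (hTS : T ≤ S) (hSI : StrongInv F E) {a : MulAut T} (hQ : Q ≤ T) (h : Pq E p Q f) (ha : a ∈ F.autGroup T) :
    Pq E p (cjB a Q) (twB a f) := by
  obtain ⟨h1, h2, m, h3⟩ := h
  have hm := tw_sI hTS hSI ha h1
  refine ⟨hm, ⟨fun y hy => ⟨hm.mem_S hy, ?_⟩, fun z hz => ?_⟩, m, fun y hy => ?_⟩
  · rw [apply_twB]
    exact h2.1 _ hy.2
  · obtain ⟨x, hx, e⟩ := h2.2 _ hz.2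
    refine ⟨_, mem_cjB_of a hQ hx, ?_⟩
    rw [twB_inv, e, autFun_inv_apply]
  · rw [iterate_twB, h3 _ hy.2, autFun_inv_apply]

theorem inFam_conjF (hTS : T ≤ S) (hSI : StrongInv F E) {D : FusionSystem T} (hD : InFamQ E p D) {a : MulAut T}
    (ha : a ∈ F.autGroup T) : InFamQ E p (conjSysB D a) := by
  refine ⟨fun P φ hφ => ?_, fun Q hQ f hf => ?_⟩
  · obtain ⟨h0, h1⟩ := mp_conjSysB.1 (mp_of_hom hφ)
    exact hom_of_mp (mp_of_tw hTS hSI ha h0 (mp_sub hD.1 h1))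
  · exact mp_conjSysB.2 ⟨hQ, hD.2 (cjB a Q) (fun y hy => hy.1) _ (pq_tw hTS hSI hQ hf ha)⟩

theorem e0_tw (hTS : T ≤ S) (hSI : StrongInv F E) {a : MulAut T} (ha : a ∈ F.autGroup T) (h : Mp (e0 E p) X f) :
    Mp (e0 E p) (cjB a X) (twB a f) :=
  (mp_conjSysB.1 (e0_min (inFam_conjF hTS hSI e0_inFam ha) h)).2

theorem HH_conj (hTS : T ≤ S) (hSI : StrongInv F E) {a : MulAut T} (ha : a ∈ F.autGroup T) {c : MulAut T}
    (hc : c ∈ HH E p) : a * c * a⁻¹ ∈ HH E p := by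
  haveI : Finite T := finite_of_le hTS
  have hai : a⁻¹ ∈ F.autGroup T := Subgroup.inv_mem _ ha
  induction hc using Subgroup.closure_induction with
  | mem c hc =>
    obtain ⟨h1, Q, hQ, hm⟩ := hc
    refine Subgroup.subset_closure ⟨aut_conj hTS le_rfl hSI ha h1, cjB a⁻¹ Q, ?_, ?_⟩
    · refine ⟨fun y hy => hy.1, fun Q₂ hQ₂ => ?_⟩
      obtain ⟨φ, hφ, hr⟩ := hQ₂
      have hm₁ : Mp E (cjB a⁻¹ Q) (extOf φ) := mp_of_hom hφ
      have hi : Img (cjB a⁻¹ Q) (extOf φ) Q₂ := by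
        refine ⟨fun x hx => ?_, fun y hy => ?_⟩
        · rw [extOf_of_mem φ hx, ← hr]
          exact ⟨_, rfl⟩
        · rw [← hr] at hy
          obtain ⟨x, rfl⟩ := hy
          exact ⟨x, x.2, extOf_coe φ x⟩
      have hQ₂T : Q₂ ≤ T := hm₁.img_le hi
      have htw := tw_sI hTS hSI ha hm₁
      have hQe : cjB a (cjB a⁻¹ Q) = Q := by
        have := cjB_inv_cjB a⁻¹ hQ.1
        rwa [inv_inv] at this
      rw [hQe] at htw
      have hti : Img Q (twB a (extOf φ)) (cjB a Q₂) := by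
        refine ⟨fun x hx => ⟨htw.mem_S hx, ?_⟩, fun y hy => ?_⟩
        · rw [apply_twB]
          refine hi.1 _ ⟨autFun_mem _ (hQ.1 hx), ?_⟩
          rwa [autFun_inv_apply]
        · obtain ⟨x, hx, e⟩ := hi.2 _ hy.2
          refine ⟨autFun a⁻¹ x, hx.2, ?_⟩
          show autFun a⁻¹ (extOf φ (autFun a (autFun a⁻¹ x))) = y
          rw [autFun_apply_inv, e, autFun_inv_apply]
      have hconj : E.IsConj Q (cjB a Q₂) := htw.isConj hti
      intro z hz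
      have hzT : z ∈ T := hz.1
      have hz' : autFun a⁻¹ z ∈ centralizerIn T (cjB a Q₂) := by
        refine mem_cent.2 ⟨autFun_mem _ hzT, fun y hy => ?_⟩
        apply autFun_inj a
        rw [autFun_mul a hy.1 (autFun_mem _ hzT), autFun_mul a (autFun_mem _ hzT) hy.1, autFun_apply_inv]
        exact (mem_cent.1 hz).2 _ hy.2
      have h2 := hQ.2 _ hconj hz'
      have h3 := h2.2
      rwa [autFun_apply_inv] at h3
    · refine (e0_tw hTS hSI hai hm).congr (fun y hy => ?_)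
      show autFun a⁻¹⁻¹ (autFun c (autFun a⁻¹ y)) = autFun (a * c * a⁻¹) y
      rw [inv_inv, autFun_mul_apply, autFun_mul_apply]
  | one =>
    have e : a * 1 * a⁻¹ = 1 := by group
    rw [e]
    exact Subgroup.one_mem _
  | mul x y _ _ h₁ h₂ =>
    have e : a * (x * y) * a⁻¹ = (a * x * a⁻¹) * (a * y * a⁻¹) := by group
    rw [e]
    exact Subgroup.mul_mem _ h₁ h₂
  | inv x _ h₁ =>
    have e : a * x⁻¹ * a⁻¹ = (a * x * a⁻¹)⁻¹ := by group
    rw [e]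
    exact Subgroup.inv_mem _ h₁

theorem e1_tw (hTS : T ≤ S) (hSI : StrongInv F E) {a : MulAut T} (ha : a ∈ F.autGroup T) (h : Mp (e1 E p) X f) :
    Mp (e1 E p) (cjB a X) (twB a f) := by
  obtain ⟨c, hc, u, hu, eu⟩ := mp_e1.1 h
  refine mp_e1.2 ⟨a⁻¹ * c * a⁻¹⁻¹, HH_conj hTS hSI (Subgroup.inv_mem _ ha) hc, twB a u, e0_tw hTS hSI ha hu, fun y hy => ?_⟩
  show autFun a⁻¹ (f (autFun a y)) = autFun (a⁻¹ * c * a⁻¹⁻¹) (autFun a⁻¹ (u (autFun a y)))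
  rw [eu _ hy.2, autFun_mul_apply, autFun_mul_apply, inv_inv, autFun_apply_inv]

/-- **The `p'`-residual subsystem of a weakly normal subsystem is normal.** -/
theorem e1_isNormalIn (hS : IsPGroup p S) (hE : E.IsWeaklyNormalIn F p) : (e1 E p).IsNormalIn F p := by
  obtain ⟨hEs, hF, hsub, hT, hInv, hFr⟩ := hE
  have hTS : T ≤ S := hT.1
  have hTp : IsPGroup p T := hS.to_le hTS
  haveI : Finite T := finite_of_le hTS
  have hSI : StrongInv F E := strong_of_inv hInv hFr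
  have hsub' : (e1 E p).IsSubsystemOf F := fun P φ hφ => hsub P (e1_sub P hφ)
  refine ⟨⟨e1_saturated hTp hEs, hF, hsub', hT, ?_, ?_⟩, ?_⟩
  · intro P hPT φ hφ α hα
    have h1 := e1_tw hTS hSI (Subgroup.inv_mem _ hα) (mp_of_hom hφ)
    have hU : cjB α⁻¹ P = (P.subgroupOf T).map (T.subtype.comp α.toMonoidHom) := by
      ext y
      constructor
      · rintro ⟨h2, h3⟩
        refine ⟨α⁻¹ ⟨y, h2⟩, ?_, ?_⟩
        · show ((α⁻¹ ⟨y, h2⟩ : T) : Ω) ∈ P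
          rwa [autFun_of_mem _ h2] at h3
        · show ((α (α⁻¹ ⟨y, h2⟩) : T) : Ω) = y
          simp
      · rintro ⟨x, hx, rfl⟩
        refine ⟨(α x).2, ?_⟩
        show autFun α⁻¹ ((α x : T) : Ω) ∈ P
        rw [autFun_coe, MulAut.inv_apply_self]
        exact hx
    rw [hU] at h1
    obtain ⟨χ, hχ, e⟩ := h1
    refine ⟨χ, hχ, fun x hφx hαx => ?_⟩
    rw [e]
    show autFun α⁻¹⁻¹ (extOf φ (autFun α⁻¹ ((α ⟨x, hPT x.2⟩ : T) : Ω))) = _
    rw [autFun_coe]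
    have e1 : α⁻¹ (α ⟨x, hPT x.2⟩) = ⟨x, hPT x.2⟩ := MulAut.inv_apply_self _ _ _
    rw [e1, inv_inv]
    show autFun α (extOf φ (x : Ω)) = _
    rw [extOf_coe]
    exact autFun_of_mem α hφx
  · intro P hPT φ hφ
    obtain ⟨α₀, hα₀, φ₁, hφ₁, e₁⟩ := hFr P hPT φ hφ
    obtain ⟨a, ha, u, hu, eu⟩ := frat hTp hEs P (extOf φ₁) (mp_of_hom hφ₁)
    have haF : a ∈ F.autGroup T := (mem_autGroup_iff F hTS _).2 (hsub T (autHom_mem E le_rfl ha))
    obtain ⟨ψ, hψ, eψ⟩ := e0_mp_e1 hu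
    refine ⟨α₀ * a, Subgroup.mul_mem _ hα₀ haF, ψ, hψ, fun x hx => ?_⟩
    have hφ₁x : φ₁ x ∈ T := val_mem E hφ₁ x
    rw [e₁ x hφ₁x]
    have e3 : φ₁ x = autFun a (u x) := by
      have := eu x x.2
      rwa [extOf_coe] at this
    have e4 : ((⟨φ₁ x, hφ₁x⟩ : T)) = a ⟨ψ x, hx⟩ := by
      apply Subtype.ext
      show φ₁ x = ((a ⟨ψ x, hx⟩ : T) : Ω)
      rw [e3, ← eψ x]
      exact autFun_coe a ⟨ψ x, hx⟩
    rw [e4]
    rfl
  · intro a ha
    obtain ⟨β, hβ, hβT, hβC⟩ := extX_e1 hS hF hEs hsub hT hSI hFr ha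
    refine ⟨β, hβ, fun x => ?_, fun c hc => ?_⟩
    · have := hβT x x.2
      rw [autFun_coe] at this
      rw [← this, ← autFun_coe]
      rfl
    · have h1 := hβC c hc
      rw [autFun_coe] at h1
      have h2 := comm_lift (F := F) (T := T) (S := S) (Q := T) (R := T) le_rfl le_rfl (img_autFun a) (g := autFun β)
        (mp_autFun (sup_le hTS inf_le_left) hβ) hβT hc (by rw [autFun_coe]; exact h1)
      rw [autFun_coe] at h2
      exact h2

/-- **S5141.** -/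
theorem residual_isNormalIn (hS : IsPGroup p S) (hE : E.IsWeaklyNormalIn F p) {D : FusionSystem T} (hD : E.IsPPrimeResidual p D) :
    D.IsNormalIn F p := by
  have hTS : T ≤ S := hE.2.2.2.1.1
  have hTp : IsPGroup p T := hS.to_le hTS
  haveI : Finite T := finite_of_le hTS
  have h1 := e1_min hTp hD.1 hD.2.1
  have h2 := hD.2.2 _ (e1_saturated hTp hE.1) e1_index
  have e : D = e1 E p := sys_ext (fun P => Set.Subset.antisymm (h2 P) (h1 P))
  rw [e]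
  exact e1_isNormalIn hS hE

end main

end Cfsg.Agent.Lib.Fusion.LiftX
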