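import Cfsg.Agent.Lib.FusionExt.CProd5
import Cfsg.Agent.Lib.FusionExt.CentE4
import Cfsg.Agent.Lib.FusionExt.Constr1
import Cfsg.Agent.Lib.Fusion.WeakClosure
import Cfsg.Agent.S5145
import Cfsg.Prelude.Def_FusionFitting

/-!
# Central products of normal subsystems and the generalized Fitting subsystem (helper20)
-/

set_option autoImplicit false

namespace Cfsg.Agent.Lib.Fusion.GenFit

open Cfsg Cfsg.FusionSystem Cfsg.Agent.Lib.Fusion.Basic Cfsg.Agent.Lib.Fusion.GroupSystem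
open Cfsg.Agent.Lib.FusionExt.MapApi Cfsg.Agent.Lib.FusionExt.Basic Cfsg.Agent.Lib.FusionExt.Normal
open Cfsg.Agent.Lib.FusionExt.PowerE Cfsg.Agent.Lib.FusionExt.LowPi
open Cfsg.Agent.Lib.FusionExt.Product Cfsg.Agent.Lib.FusionExt.ProductSat Cfsg.Agent.Lib.FusionExt.CProd3 Cfsg.Agent.Lib.FusionExt.CProd4
open Cfsg.Agent.Lib.FusionExt.Comp1 Cfsg.Agent.Lib.FusionExt.Comp2 Cfsg.Agent.Lib.FusionExt.Constr1
open Cfsg.Agent.Lib.FusionExt.Factor Cfsg.Agent.Lib.Fusion.Center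

universe u

variable {Ω : Type u} [Group Ω] {S T T₁ T₂ : Subgroup Ω} {F : FusionSystem S} {p : ℕ}
variable {E₁ : FusionSystem T₁} {E₂ : FusionSystem T₂} {D : FusionSystem T}

theorem sys_ext {U : Subgroup Ω} {A B : FusionSystem U} (h : ∀ P, A.Hom P = B.Hom P) : A = B := by
  cases A
  cases B
  simp only [FusionSystem.mk.injEq]
  funext P
  exact h P

/-- The two factors of a central product commute. -/
theorem cp_comm (h : IsCentralProductOf E₁ E₂ D) : ∀ a ∈ T₁, ∀ b ∈ T₂, a * b = b * a := by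
  obtain ⟨D₀, -, Z, θ, -, -, -, h1, h2, -⟩ := h
  intro a ha b hb
  have hA : ((a, 1) : Ω × Ω) ∈ T₁.prod T₂ := ⟨ha, T₂.one_mem⟩
  have hB : ((1, b) : Ω × Ω) ∈ T₁.prod T₂ := ⟨T₁.one_mem, hb⟩
  have e : (⟨(a, 1), hA⟩ * ⟨(1, b), hB⟩ : ↥(T₁.prod T₂)) = ⟨(1, b), hB⟩ * ⟨(a, 1), hA⟩ := by
    apply Subtype.ext
    show ((a, 1) * (1, b) : Ω × Ω) = (1, b) * (a, 1)
    simp
  have := congrArg θ e
  rwa [map_mul, map_mul, h1, h2] at this

/-- The unpacking of a central product. -/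
theorem cp_factor (h : IsCentralProductOf E₁ E₂ D) :
    ∃ hc : (∀ a ∈ T₁, ∀ b ∈ T₂, a * b = b * a), T = T₁ ⊔ T₂ ∧ antiZ hc ≤ (productSystem E₁ E₂).center ∧
      (productSystem E₁ E₂).IsFactorSystem (antiZ hc) (mulMap hc) D := by
  have hc := cp_comm h
  obtain ⟨D₀, hD₀, Z, θ, hZ, -, -, h1, h2, hfac⟩ := h
  have eD₀ : D₀ = productSystem E₁ E₂ := by
    refine sys_ext (fun P => Set.ext (fun φ => ?_))
    rw [hD₀ P φ]
    exact (isProductSystem_productSystem E₁ E₂ P φ).symm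
  subst eD₀
  have eθ : θ = mulMap hc := by
    ext s
    obtain ⟨⟨a, b⟩, ha, hb⟩ := s
    have hA : ((a, 1) : Ω × Ω) ∈ T₁.prod T₂ := ⟨ha, T₂.one_mem⟩
    have hB : ((1, b) : Ω × Ω) ∈ T₁.prod T₂ := ⟨T₁.one_mem, hb⟩
    have hAB : ((a, b) : Ω × Ω) ∈ T₁.prod T₂ := ⟨ha, hb⟩
    have e : (⟨(a, b), hAB⟩ : ↥(T₁.prod T₂)) = ⟨(a, 1), hA⟩ * ⟨(1, b), hB⟩ := by
      apply Subtype.ext
      show ((a, b) : Ω × Ω) = (a, 1) * (1, b)
      simp
    have e2 : θ ⟨(a, b), hAB⟩ = a * b := by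
      rw [e, map_mul, h1, h2]
    exact e2
  subst eθ
  have eZ : Z = antiZ hc := by
    ext x
    constructor
    · intro hx
      have hxP := hfac.1 hx
      exact mem_antiZ.2 ⟨hxP.1, hxP.2, (hfac.2.1 ⟨x, hxP⟩).2 hx⟩
    · intro hx
      obtain ⟨h1', h2', h3⟩ := mem_antiZ.1 hx
      exact (hfac.2.1 ⟨x, h1', h2'⟩).1 h3
  subst eZ
  refine ⟨hc, ?_, hZ, hfac⟩
  rw [← hfac.2.2.1, mulMap_range]

theorem prod_finite [Finite T₁] [Finite T₂] : Finite ↥(T₁.prod T₂) := isFin_prod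

/-- The intersection of the factors is central in the right factor. -/
theorem cp_center_right [Finite T₁] [Finite T₂] (h : IsCentralProductOf E₁ E₂ D) : T₁ ⊓ T₂ ≤ E₂.center := by
  obtain ⟨hc, -, hZ, -⟩ := cp_factor h
  haveI := prod_finite (T₁ := T₁) (T₂ := T₂)
  have hE := isProductSystem_productSystem E₁ E₂
  have hcen := isCentral_center (productSystem E₁ E₂)
  have hcentral : E₂.IsCentral (T₁ ⊓ T₂) := by
    refine ⟨inf_le_right, fun P φ hφ => ?_⟩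
    have hm := mp_of_hom hφ
    have hPT : P ≤ T₂ := hm.le
    have hP' : ((⊥ : Subgroup Ω).prod P) ≤ T₁.prod T₂ := Subgroup.prod_mono bot_le hPT
    have h₁ : Mp E₁ (((⊥ : Subgroup Ω).prod P).map (MonoidHom.fst Ω Ω)) (fun x => x) :=
      Mp.refl (map_fst_le hP')
    have h₂ : Mp E₂ (((⊥ : Subgroup Ω).prod P).map (MonoidHom.snd Ω Ω)) (extOf φ) := by
      rw [map_snd_prod]
      exact hm
    obtain ⟨φ₀, hφ₀, e₀⟩ := mp_prod hE hP' h₁ h₂
    obtain ⟨ψ, hψ, he1, he2⟩ := hcen.2 _ φ₀ hφ₀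
    obtain ⟨hP₀, f₁, f₂, hf₁, hf₂, hdec⟩ := mp_decomp hE (mp_of_hom hψ)
    have hsupP : P ⊔ (T₁ ⊓ T₂) ≤ ((((⊥ : Subgroup Ω).prod P) ⊔ (productSystem E₁ E₂).center).map (MonoidHom.snd Ω Ω)) := by
      refine sup_le (fun x hx => ?_) (fun z hz => ?_)
      · exact ⟨(1, x), Subgroup.mem_sup_left ⟨Subgroup.one_mem _, hx⟩, rfl⟩
      · have hzz : ((z⁻¹, z) : Ω × Ω) ∈ antiZ hc := mem_antiZ.2 ⟨T₁.inv_mem hz.1, hz.2, by simp⟩
        exact ⟨(z⁻¹, z), Subgroup.mem_sup_right (hZ hzz), rfl⟩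
    obtain ⟨ψ', hψ', e'⟩ := hf₂.restrict hsupP
    refine ⟨ψ', hψ', fun x => ?_, fun z => ?_⟩
    · refine (e' _).trans ?_
      show f₂ x = φ x
      have hmem : ((1, (x : Ω)) : Ω × Ω) ∈ (⊥ : Subgroup Ω).prod P := ⟨Subgroup.one_mem _, x.2⟩
      have hmem' : ((1, (x : Ω)) : Ω × Ω) ∈ ((⊥ : Subgroup Ω).prod P) ⊔ (productSystem E₁ E₂).center := Subgroup.mem_sup_left hmem
      have h3 := hdec _ hmem'
      rw [extOf_of_mem ψ hmem'] at h3
      have h4 := he1 ⟨_, hmem⟩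
      have h5 := e₀ ⟨_, hmem⟩
      have e6 : (Subgroup.inclusion le_sup_left (⟨(1, (x : Ω)), hmem⟩ : ↥((⊥ : Subgroup Ω).prod P)) : ↥(((⊥ : Subgroup Ω).prod P) ⊔ (productSystem E₁ E₂).center)) = ⟨_, hmem'⟩ := rfl
      rw [e6, h3, h5] at h4
      have h7 := congrArg Prod.snd h4
      simp only at h7
      rw [h7, extOf_coe]
    · refine (e' _).trans ?_
      show f₂ z = z
      have hzz : (((z : Ω)⁻¹, (z : Ω)) : Ω × Ω) ∈ antiZ hc := mem_antiZ.2 ⟨T₁.inv_mem z.2.1, z.2.2, by simp⟩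
      have hmem' : (((z : Ω)⁻¹, (z : Ω)) : Ω × Ω) ∈ ((⊥ : Subgroup Ω).prod P) ⊔ (productSystem E₁ E₂).center := Subgroup.mem_sup_right (hZ hzz)
      have h3 := hdec _ hmem'
      rw [extOf_of_mem ψ hmem'] at h3
      have h4 := he2 ⟨_, hZ hzz⟩
      have e6 : (Subgroup.inclusion le_sup_right (⟨((z : Ω)⁻¹, (z : Ω)), hZ hzz⟩ : ↥((productSystem E₁ E₂).center)) : ↥(((⊥ : Subgroup Ω).prod P) ⊔ (productSystem E₁ E₂).center)) = ⟨_, hmem'⟩ := rfl
      rw [e6, h3] at h4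
      exact congrArg Prod.snd h4
  exact le_sSup hcentral

/-- The intersection of the factors is central in the left factor. -/
theorem cp_center_left [Finite T₁] [Finite T₂] (h : IsCentralProductOf E₁ E₂ D) : T₁ ⊓ T₂ ≤ E₁.center := by
  obtain ⟨hc, -, hZ, -⟩ := cp_factor h
  haveI := prod_finite (T₁ := T₁) (T₂ := T₂)
  have hE := isProductSystem_productSystem E₁ E₂
  have hcen := isCentral_center (productSystem E₁ E₂)
  have hcentral : E₁.IsCentral (T₁ ⊓ T₂) := by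
    refine ⟨inf_le_left, fun P φ hφ => ?_⟩
    have hm := mp_of_hom hφ
    have hPT : P ≤ T₁ := hm.le
    have hP' : (P.prod (⊥ : Subgroup Ω)) ≤ T₁.prod T₂ := Subgroup.prod_mono hPT bot_le
    have h₂ : Mp E₂ ((P.prod (⊥ : Subgroup Ω)).map (MonoidHom.snd Ω Ω)) (fun x => x) :=
      Mp.refl (map_snd_le hP')
    have h₁ : Mp E₁ ((P.prod (⊥ : Subgroup Ω)).map (MonoidHom.fst Ω Ω)) (extOf φ) := by
      rw [map_fst_prod]
      exact hm
    obtain ⟨φ₀, hφ₀, e₀⟩ := mp_prod hE hP' h₁ h₂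
    obtain ⟨ψ, hψ, he1, he2⟩ := hcen.2 _ φ₀ hφ₀
    obtain ⟨hP₀, f₁, f₂, hf₁, hf₂, hdec⟩ := mp_decomp hE (mp_of_hom hψ)
    have hsupP : P ⊔ (T₁ ⊓ T₂) ≤ (((P.prod (⊥ : Subgroup Ω)) ⊔ (productSystem E₁ E₂).center).map (MonoidHom.fst Ω Ω)) := by
      refine sup_le (fun x hx => ?_) (fun z hz => ?_)
      · exact ⟨(x, 1), Subgroup.mem_sup_left ⟨hx, Subgroup.one_mem _⟩, rfl⟩
      · have hzz : ((z, z⁻¹) : Ω × Ω) ∈ antiZ hc := mem_antiZ.2 ⟨hz.1, T₂.inv_mem hz.2, by simp⟩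
        exact ⟨(z, z⁻¹), Subgroup.mem_sup_right (hZ hzz), rfl⟩
    obtain ⟨ψ', hψ', e'⟩ := hf₁.restrict hsupP
    refine ⟨ψ', hψ', fun x => ?_, fun z => ?_⟩
    · refine (e' _).trans ?_
      show f₁ x = φ x
      have hmem : (((x : Ω), 1) : Ω × Ω) ∈ P.prod (⊥ : Subgroup Ω) := ⟨x.2, Subgroup.one_mem _⟩
      have hmem' : (((x : Ω), 1) : Ω × Ω) ∈ (P.prod (⊥ : Subgroup Ω)) ⊔ (productSystem E₁ E₂).center := Subgroup.mem_sup_left hmem
      have h3 := hdec _ hmem'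
      rw [extOf_of_mem ψ hmem'] at h3
      have h4 := he1 ⟨_, hmem⟩
      have h5 := e₀ ⟨_, hmem⟩
      have e6 : (Subgroup.inclusion le_sup_left (⟨((x : Ω), 1), hmem⟩ : ↥(P.prod (⊥ : Subgroup Ω))) : ↥((P.prod (⊥ : Subgroup Ω)) ⊔ (productSystem E₁ E₂).center)) = ⟨_, hmem'⟩ := rfl
      rw [e6, h3, h5] at h4
      have h7 := congrArg Prod.fst h4
      simp only at h7
      rw [h7, extOf_coe]
    · refine (e' _).trans ?_
      show f₁ z = z
      have hzz : (((z : Ω), (z : Ω)⁻¹) : Ω × Ω) ∈ antiZ hc := mem_antiZ.2 ⟨z.2.1, T₂.inv_mem z.2.2, by simp⟩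
      have hmem' : (((z : Ω), (z : Ω)⁻¹) : Ω × Ω) ∈ (P.prod (⊥ : Subgroup Ω)) ⊔ (productSystem E₁ E₂).center := Subgroup.mem_sup_right (hZ hzz)
      have h3 := hdec _ hmem'
      rw [extOf_of_mem ψ hmem'] at h3
      have h4 := he2 ⟨_, hZ hzz⟩
      have e6 : (Subgroup.inclusion le_sup_right (⟨((z : Ω), (z : Ω)⁻¹), hZ hzz⟩ : ↥((productSystem E₁ E₂).center)) : ↥((P.prod (⊥ : Subgroup Ω)) ⊔ (productSystem E₁ E₂).center)) = ⟨_, hmem'⟩ := rfl
      rw [e6, h3] at h4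
      exact congrArg Prod.fst h4
  exact le_sSup hcentral

/-- The central product of normal subsystems is normal. -/
theorem cp_normal [Finite S] [Fact p.Prime] (hS : IsPGroup p S) (hF : F.IsSaturated p) (hE₁ : E₁.IsNormalIn F p) (hE₂ : E₂.IsNormalIn F p)
    (h : IsCentralProductOf E₁ E₂ D) : D.IsNormalIn F p := by
  have hT₁S : T₁ ≤ S := hE₁.1.2.2.2.1.1
  have hT₂S : T₂ ≤ S := hE₂.1.2.2.2.1.1
  haveI : Finite T₁ := finite_of_le hT₁S
  haveI : Finite T₂ := finite_of_le hT₂S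
  have hZ₁ := cp_center_left h
  have hZ₂ := cp_center_right h
  obtain ⟨hc, hT, -, hfac⟩ := cp_factor h
  subst hT
  obtain ⟨D', hn, hcp⟩ := main_central hS hF hE₁ hE₂ hc hZ₁ hZ₂
  obtain ⟨hc', -, -, hfac'⟩ := cp_factor hcp
  have : D = D' := by
    refine sys_ext (fun P => Set.ext (fun φ => ?_))
    rw [hfac.2.2.2 P φ]
    exact (hfac'.2.2.2 P φ).symm
  rw [this]
  exact hn

/-- The right factor is a subsystem of the central product. -/
theorem cp_right_le [Finite T₁] [Finite T₂] (h : IsCentralProductOf E₁ E₂ D) : E₂.IsSubsystemOf D := by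
  have hZ₂ := cp_center_right h
  obtain ⟨hc, hT, hZ, hfac⟩ := cp_factor h
  subst hT
  haveI := prod_finite (T₁ := T₁) (T₂ := T₂)
  have hsc : (productSystem E₁ E₂).StronglyClosed (antiZ hc) := by
    refine ⟨hfac.1, fun P hP φ hφ x => ?_⟩
    rw [map_of_mem_center _ hφ x.2 (hZ (hP x.2))]
    exact hP x.2
  intro P φ hφ
  apply hom_of_mp
  obtain ⟨-, hcen⟩ := cen_of_le_center (C := E₂) hZ₂
  obtain ⟨g₂, hg₂, hg₂e, hg₂q⟩ := hcen _ _ (mp_of_hom hφ)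
  have h₁ : Mp E₁ (T₁ ⊓ T₂) (fun x => x) := Mp.refl inf_le_left
  obtain ⟨f, hf, hfe⟩ := exists_mp_D (X := P) hfac hsc (inf_le_left : T₁ ⊓ T₂ ≤ T₁) (hg₂.le) le_rfl le_sup_right
    (le_sup_left.trans le_sup_right) h₁ hg₂
  refine hf.congr (fun x hx => ?_)
  have := hfe 1 (Subgroup.one_mem _) x (Subgroup.mem_sup_left hx) (by simpa using hx)
  rw [one_mul, one_mul] at this
  rw [this, hg₂e x hx]

/-- A component with only identity maps does not exist. -/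
theorem false_of_identity {U : Subgroup Ω} {C : FusionSystem U} [Finite U] [Fact p.Prime] (hC : C.Quasisimple p)
    (hid : ∀ (X : Subgroup Ω) (f : Ω → Ω), Mp C X f → ∀ x ∈ X, f x = x) : False := by
  obtain ⟨hCs, hyp, hsimple⟩ := hC
  have hZU : C.center ≤ U := center_le C
  have hZsc : C.StronglyClosed C.center := by
    refine ⟨hZU, fun P hP φ hφ x => ?_⟩
    rw [map_of_mem_center C hφ x.2 (hP x.2)]
    exact hP x.2
  let θ : U →* (U ⧸ C.center.subgroupOf U) := QuotientGroup.mk' (C.center.subgroupOf U)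
  have hθ : ∀ s : U, θ s = 1 ↔ (s : Ω) ∈ C.center := fun s => by
    show ((s : U) : U ⧸ C.center.subgroupOf U) = 1 ↔ _
    rw [QuotientGroup.eq_one_iff, Subgroup.mem_subgroupOf]
  have hr : θ.range = ⊤ := MonoidHom.range_eq_top.2 (QuotientGroup.mk'_surjective _)
  obtain ⟨E, hE⟩ := exists_isFactorSystem C θ hZsc hθ hr
  obtain ⟨hEs, hne, -⟩ := hsimple E hE
  have hle : C.hyperfocalSubgroup p ≤ ⊥ := by
    refine hyperfocal_le_of_gen (fun P hP f hf x hx => ?_)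
    rw [hid P f hf.1 x hx]
    simp
  apply hne
  rw [eq_bot_iff]
  intro y _
  obtain ⟨s, rfl⟩ := QuotientGroup.mk'_surjective _ y
  apply (hθ s).2
  have : (s : Ω) ∈ (⊥ : Subgroup Ω) := by
    apply hle
    rw [hyp]
    exact s.2
  rw [Subgroup.mem_bot.1 this]
  exact Subgroup.one_mem _

end Cfsg.Agent.Lib.Fusion.GenFit
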