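import Cfsg.Agent.Lib.Fusion.Trans3

/-!
# Images of components and the layer under automorphisms (helper20)
-/

set_option autoImplicit false

namespace Cfsg.Agent.Lib.Fusion.Trans4

open Cfsg Cfsg.FusionSystem Cfsg.Agent.Lib.Fusion.Basic Cfsg.Agent.Lib.Fusion.GroupSystem
open Cfsg.Agent.Lib.FusionExt.MapApi Cfsg.Agent.Lib.FusionExt.Basic Cfsg.Agent.Lib.FusionExt.Normal
open Cfsg.Agent.Lib.FusionExt.PowerSys Cfsg.Agent.Lib.FusionExt.PowerGen Cfsg.Agent.Lib.FusionExt.PrimeRes1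
open Cfsg.Agent.Lib.FusionExt.SatCrit1 Cfsg.Agent.Lib.FusionExt.Invariant Cfsg.Agent.Lib.FusionExt.PowerE
open Cfsg.Agent.Lib.FusionExt.LowPi Cfsg.Agent.Lib.FusionExt.CentSys
open Cfsg.Agent.Lib.FusionExt.Factor Cfsg.Agent.Lib.FusionExt.FactorExt Cfsg.Agent.Lib.FusionExt.FactorSat
open Cfsg.Agent.Lib.Fusion.Center Cfsg.Agent.Lib.Fusion.Trans Cfsg.Agent.Lib.Fusion.Trans2 Cfsg.Agent.Lib.Fusion.Trans3

universe u

variable {Ω : Type u} [Group Ω]

/-- An isomorphism from a map. -/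
theorem iso_of_mp {S X Y : Subgroup Ω} {F : FusionSystem S} {f : Ω → Ω} (hf : Mp F X f) (hi : Img X f Y) :
    ∃ g, Iso X Y f g ∧ Mp F Y g := by
  obtain ⟨g, hg, h1, h2, h3⟩ := hf.inverse hi
  exact ⟨g, ⟨fun x hx y hy => hf.map_mul hx hy, hi.1, h3.1, h1, h2⟩, hg⟩

section trans

variable {V₁ V₂ V₃ : Subgroup Ω} {a c : Ω → Ω} {b d : Ω → Ω}

theorem Iso_trans (h₁ : Iso V₁ V₂ a b) (h₂ : Iso V₂ V₃ c d) : Iso V₁ V₃ (fun x => c (a x)) (fun z => b (d z)) := by
  refine ⟨fun x hx y hy => ?_, fun x hx => h₂.mem _ (h₁.mem x hx), fun z hz => h₁.mem' _ (h₂.mem' z hz), fun x hx => ?_, fun z hz => ?_⟩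
  · show c (a (x * y)) = c (a x) * c (a y)
    rw [h₁.mul x hx y hy, h₂.mul _ (h₁.mem x hx) _ (h₁.mem y hy)]
  · show b (d (c (a x))) = x
    rw [h₂.ba _ (h₁.mem x hx), h₁.ba x hx]
  · show c (a (b (d z))) = z
    rw [h₁.ab _ (h₂.mem' z hz), h₂.ab z hz]

variable {h₁ : Iso V₁ V₂ a b} {h₂ : Iso V₂ V₃ c d} {T₁ T₂ T₃ : Subgroup Ω}
  {C₁ : FusionSystem T₁} {C₂ : FusionSystem T₂} {C₃ : FusionSystem T₃}

theorem Corr_trans (hc₁ : Corr h₁ C₁ C₂) (hc₂ : Corr h₂ C₂ C₃) : Corr (Iso_trans h₁ h₂) C₁ C₃ := by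
  refine ⟨hc₁.le, ?_, fun X f hf => ?_, fun X' f' hf' => ?_⟩
  · rw [hc₂.eq, hc₁.eq]
    ext z
    constructor
    · rintro ⟨hz, -, h⟩
      exact ⟨hz, h⟩
    · rintro ⟨hz, h⟩
      exact ⟨hz, h₂.mem' z hz, h⟩
  · have h1 := hc₂.fwd _ _ (hc₁.fwd X f hf)
    have e : h₂.im (h₁.im X) = (Iso_trans h₁ h₂).im X := by
      ext z
      constructor
      · rintro ⟨hz, -, h⟩
        exact ⟨hz, h⟩
      · rintro ⟨hz, h⟩
        exact ⟨hz, h₂.mem' z hz, h⟩
    rw [e] at h1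
    exact h1
  · have h1 := hc₁.bwd _ _ (hc₂.bwd X' f' hf')
    have e : h₁.symm.im (h₂.symm.im X') = (Iso_trans h₁ h₂).symm.im X' := by
      ext z
      constructor
      · rintro ⟨hz, -, h⟩
        exact ⟨hz, h⟩
      · rintro ⟨hz, h⟩
        exact ⟨hz, h₁.mem z hz, h⟩
    rw [e] at h1
    exact h1

end trans

/-- Two isomorphisms agreeing on the underlying group give the same correspondence. -/
theorem Corr_congr {V V' W W' T T' : Subgroup Ω} {a b c d : Ω → Ω} (h : Iso V V' a b) {h' : Iso W W' c d}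
    {C : FusionSystem T} {C' : FusionSystem T'} (hTV : T ≤ V) (hac : ∀ x ∈ T, a x = c x) (hc : Corr h' C C') :
    Corr h C C' := by
  have hTW := hc.le
  have him : ∀ {X : Subgroup Ω}, X ≤ T → h.im X = h'.im X := by
    intro X hX
    ext y
    constructor
    · intro hy
      obtain ⟨x, hx, rfl⟩ := h.exists_of_mem_im hy
      rw [hac x (hX hx)]
      exact h'.map_mem_im (hX.trans hTW) hx
    · intro hy
      obtain ⟨x, hx, rfl⟩ := h'.exists_of_mem_im hy
      rw [← hac x (hX hx)]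
      exact h.map_mem_im (hX.trans hTV) hx
  have hba : ∀ y ∈ T', b y = d y := by
    intro y hy
    rw [hc.eq] at hy
    obtain ⟨x, hx, rfl⟩ := h'.exists_of_mem_im hy
    rw [h'.ba _ (hTW hx), ← hac x hx, h.ba _ (hTV hx)]
  refine ⟨hTV, by rw [him le_rfl]; exact hc.eq, fun X f hf => ?_, fun X' f' hf' => ?_⟩
  · have hXT := hf.le
    rw [him hXT]
    refine (hc.fwd X f hf).congr (fun y hy => ?_)
    obtain ⟨x, hx, rfl⟩ := h'.exists_of_mem_im hy
    show c (f (d (c x))) = a (f (b (c x)))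
    rw [← hac x (hXT hx), h.ba _ (hTV (hXT hx)), hac x (hXT hx), h'.ba _ (hTW (hXT hx))]
    exact (hac _ (hf.mem_S hx)).symm
  · have hXT := hf'.le
    have e : h.symm.im X' = h'.symm.im X' := by
      ext x
      constructor
      · intro hx
        obtain ⟨y, hy, rfl⟩ := h.symm.exists_of_mem_im hx
        rw [hba y (hXT hy)]
        exact h'.symm.map_mem_im (hXT.trans hc.le') hy
      · intro hx
        obtain ⟨y, hy, rfl⟩ := h'.symm.exists_of_mem_im hx
        rw [← hba y (hXT hy)]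
        exact h.symm.map_mem_im (hXT.trans (hc.eq ▸ (him le_rfl) ▸ h.im_le)) hy
    rw [e]
    refine (hc.bwd X' f' hf').congr (fun x hx => ?_)
    obtain ⟨y, hy, rfl⟩ := h'.symm.exists_of_mem_im hx
    show d (f' (c (d y))) = b (f' (a (d y)))
    have hyT := hXT hy
    have hdT : d y ∈ T := hc.inv_mem hyT
    rw [← hba y hyT, hac _ (by rw [hba y hyT]; exact hdT), hba y hyT]
    exact (hba _ (hf'.mem_S (by rw [h'.ab _ (hc.le' hyT)]; exact hy))).symm

/-- Correspondence of a system with itself under a map of an ambient system, via strong invariance. -/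
theorem corr_self_of_strong {S U : Subgroup Ω} {F : FusionSystem S} {D : FusionSystem U} {a b : Ω → Ω} (h : Iso U U a b)
    (hs : StrongInv F D) (ha : Mp F U a) (hb : Mp F U b) : Corr h D D := by
  have key : ∀ {a b : Ω → Ω} (h : Iso U U a b), Mp F U a → ∀ (X : Subgroup Ω) (f : Ω → Ω), Mp D X f → Mp D (h.im X) (tr a b f) := by
    intro a b h ha X f hf
    have hXU := hf.le
    have hi : Img X a (h.im X) := ⟨fun x hx => h.map_mem_im hXU hx, fun y hy => h.exists_of_mem_im hy⟩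
    obtain ⟨k, hk, ek⟩ := strong_mp hs hXU le_rfl hf (fun x hx => hf.mem_S hx) ha hi
    refine hk.congr (fun y hy => ?_)
    obtain ⟨x, hx, rfl⟩ := h.exists_of_mem_im hy
    show k (a x) = a (f (b (a x)))
    rw [ek x hx, h.ba _ (hXU hx)]
  refine ⟨le_rfl, ?_, key h ha, key h.symm hb⟩
  ext y
  exact ⟨fun hy => ⟨hy, h.mem' y hy⟩, fun hy => hy.1⟩

/-- An automorphism as an isomorphism. -/
theorem iso_aut {U : Subgroup Ω} (α : MulAut U) : Iso U U (autFun α) (autFun α⁻¹) := by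
  refine ⟨fun x hx y hy => autFun_mul α hx hy, (img_autFun α).1, (img_autFun α⁻¹).1, fun x _ => autFun_inv_apply α x, fun y _ => autFun_apply_inv α y⟩

theorem subnormal_le {T S : Subgroup Ω} {C : FusionSystem T} {F : FusionSystem S} {q : ℕ} (hs : C.IsSubnormalIn F q) :
    T ≤ S ∧ C.IsSubsystemOf F := by
  induction hs with
  | refl F p₀ => exact ⟨le_rfl, fun _ _ h => h⟩
  | @step U S₀ E₀ D F₀ p₀ hED hDF ih =>
    exact ⟨ih.1.trans hDF.1.2.2.2.1.1, fun P φ hφ => hDF.1.2.2.1 P (ih.2 P hφ)⟩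

theorem eq_of_corr_self {S S' : Subgroup Ω} {F : FusionSystem S} {E : FusionSystem S'} {a b : Ω → Ω} (h : Iso S S' a b)
    (hS' : S' = S) (ha : Mp F S a) (hb : Mp F S b) (hc : Corr h F E) (P : Subgroup Ω) : E.Hom P = F.Hom P := by
  subst hS'
  refine Set.Subset.antisymm (fun φ' hφ' => ?_) (fun φ hφ => ?_)
  · have hm := mp_of_hom hφ'
    have hP := hm.le
    have hB := hc.bwd P _ hm
    have h1 := (hb.restrict hP).comp (Y := h.symm.im P) (fun x hx => ⟨h.mem' x (hP hx), by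
      show a (b x) ∈ P
      rw [h.ab x (hP hx)]
      exact hx⟩) hB
    have h2 := h1.comp (fun x hx => h1.mem_S hx) ha
    refine hom_of_mp (h2.congr (fun x hx => ?_))
    show a (b (extOf φ' (a (b x)))) = extOf φ' x
    rw [h.ab x (hP hx), h.ab _ (hm.mem_S hx)]
  · have hm := mp_of_hom hφ
    have hP := hm.le
    have hXS : h.symm.im P ≤ S' := fun x hx => hx.1
    have h1 := (ha.restrict hXS).comp (fun x hx => hx.2) hm
    have h2 := h1.comp (fun x hx => h1.mem_S hx) hb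
    have h3 := hc.fwd _ _ h2
    rw [h.im_symm_im hP] at h3
    refine hom_of_mp (h3.congr (fun x hx => ?_))
    show a (b (extOf φ (a (b x)))) = extOf φ x
    rw [h.ab x (hP hx), h.ab _ (hm.mem_S hx)]

theorem img_range {T : Subgroup Ω} (γ : T →* Ω) : Img T (extOf γ) γ.range := by
  refine ⟨fun x hx => ⟨⟨x, hx⟩, (extOf_of_mem γ hx).symm⟩, ?_⟩
  rintro _ ⟨x, rfl⟩
  exact ⟨x, x.2, extOf_coe γ x⟩

/-- The image of a subnormal subsystem under a map of the ambient system is subnormal. -/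
theorem subnormal_image {T S : Subgroup Ω} {C : FusionSystem T} {F : FusionSystem S} {q : ℕ} (hs : C.IsSubnormalIn F q) :
    ∀ [Fact q.Prime], Finite S → IsPGroup q S → ∀ (γ : T →* Ω), γ ∈ F.Hom T → ∀ E : FusionSystem γ.range,
      C.IsFactorSystem ⊥ γ E → E.IsSubnormalIn F q := by
  induction hs with
  | refl F₀ p₀ =>
    intro _ hfin hS γ hγ E hE
    have hm := mp_of_hom hγ
    have hi := img_range γ
    obtain ⟨g, hg, hgm⟩ := iso_of_mp hm hi
    have hc : Corr hg F₀ E := Corr.corr_of_factor hg le_rfl (fun x => (extOf_coe γ x).symm) hE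
    have hle : γ.range ≤ T := hm.img_le hi
    have hcard : Nat.card γ.range = Nat.card T := hm.card_img hi
    have he := Subgroup.eq_of_le_of_card_ge hle (le_of_eq hcard.symm)
    have hgm' : Mp F₀ T g := by
      have := hgm
      rwa [he] at this
    exact subnormal_of_eq he (eq_of_corr_self hg he hm hgm' hc) _
  | @step U S₀ E₀ D F₀ p₀ hED hDF ih =>
    intro _ hfin hS γ hγ E hE
    have hUS : U ≤ S₀ := hDF.1.2.2.2.1.1
    have hTU : T ≤ U := (subnormal_le hED).1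
    haveI : Finite U := finite_of_le hUS
    haveI : Finite T := finite_of_le hTU
    have hUp : IsPGroup p₀ U := hS.to_le hUS
    obtain ⟨hsub, hsc, hinv, hfr⟩ := id hDF.1.2.2
    obtain ⟨α, hα, γ₀, hγ₀, hv⟩ := hfr T hTU γ hγ
    have hk : ∀ s : T, γ₀ s = 1 ↔ (s : Ω) ∈ (⊥ : Subgroup Ω) := by
      intro s
      rw [Subgroup.mem_bot]
      constructor
      · intro e
        have : s = 1 := D.injective_of_mem hγ₀ (by rw [e, _root_.map_one])
        rw [this]
        rfl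
      · intro e
        have : s = 1 := Subtype.ext e
        rw [this, _root_.map_one]
    obtain ⟨E₁, hE₁⟩ := exists_isFactorSystem E₀ γ₀ (sc_bot E₀) hk rfl
    have hE₁s := ih inferInstance hUp γ₀ hγ₀ E₁ hE₁
    obtain ⟨g₀, h₀, -⟩ := iso_of_mp (mp_of_hom hγ₀) (img_range γ₀)
    obtain ⟨g₁, h₁, -⟩ := iso_of_mp (mp_of_hom hγ) (img_range γ)
    have hc₀ : Corr h₀ E₀ E₁ := Corr.corr_of_factor h₀ le_rfl (fun x => (extOf_coe γ₀ x).symm) hE₁
    have hc₁ : Corr h₁ E₀ E := Corr.corr_of_factor h₁ le_rfl (fun x => (extOf_coe γ x).symm) hE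
    have hc := Corr_trans hc₀.symm hc₁
    have hR : γ₀.range ≤ U := by
      rintro _ ⟨x, rfl⟩
      exact (mp_of_hom hγ₀).mem_S x.2 |> fun h => by rwa [extOf_coe] at h
    have hcα : Corr (iso_aut α) E₁ E := by
      refine Corr_congr (iso_aut α) hR (fun x hx => ?_) hc
      have ht : g₀ x ∈ T := h₀.mem' x hx
      have e0 : extOf γ₀ (g₀ x) = x := h₀.ab x hx
      show autFun α x = extOf γ (g₀ x)
      have e1 : γ₀ ⟨g₀ x, ht⟩ = x := by rw [← extOf_of_mem γ₀ ht]; exact e0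
      have hxU : γ₀ ⟨g₀ x, ht⟩ ∈ U := by rw [e1]; exact hR hx
      have e2 := hv ⟨g₀ x, ht⟩ hxU
      rw [extOf_of_mem γ ht, e2, ← autFun_of_mem α hxU, e1]
    have hss := (isInvariantIn_iff hS hDF.1.2.1 hsub hsc).1 hDF.1.2.2
    have hD : Corr (iso_aut α) D D := corr_self_of_strong (iso_aut α) hss (mp_autFun hUS hα) (mp_autFun hUS ((F₀.autGroup U).inv_mem hα))
    exact .step (subnormal hE₁s inferInstance hUp hcα hD) hDF

/-- The image of a component under a map is a component. -/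
theorem component_image {T S : Subgroup Ω} {C : FusionSystem T} {F : FusionSystem S} {p : ℕ} [Fact p.Prime] [Finite S]
    (hS : IsPGroup p S) (hC : C.IsComponentIn F p) (γ : T →* Ω) (hγ : γ ∈ F.Hom T) (E : FusionSystem γ.range)
    (hE : C.IsFactorSystem ⊥ γ E) : E.IsComponentIn F p := by
  refine ⟨subnormal_image hC.1 inferInstance hS γ hγ E hE, ?_⟩
  have hTS := (subnormal_le hC.1).1
  haveI : Finite T := finite_of_le hTS
  obtain ⟨g₁, h₁, -⟩ := iso_of_mp (mp_of_hom hγ) (img_range γ)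
  have hc₁ : Corr h₁ C E := Corr.corr_of_factor h₁ le_rfl (fun x => (extOf_coe γ x).symm) hE
  exact quasisimple (hS.to_le hTS) hc₁ hC.2

section layer

variable {S : Subgroup Ω} {F : FusionSystem S} {a b : Ω → Ω} {p : ℕ}

theorem imageAlong_eq (h : Iso S S a b) (A : S →* Ω) (ha : ∀ x : S, A x = a x) {X : Subgroup Ω} :
    imageAlong A X = h.im X := by
  ext y
  constructor
  · rintro ⟨x, hx, rfl⟩
    rw [ha]
    exact h.map_mem_im (X := X ⊓ S) inf_le_right ⟨hx, x.2⟩ |> fun e => ⟨e.1, e.2.1⟩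
  · rintro ⟨hy, hb⟩
    refine ⟨⟨b y, h.mem' y hy⟩, hb, ?_⟩
    rw [ha]
    exact h.ab y hy

theorem fwd_of_morph (h : Iso S S a b) (A : S →* Ω) (ha : ∀ x : S, A x = a x) (hm : F.IsMorphism F A)
    (X : Subgroup Ω) (f : Ω → Ω) (hf : Mp F X f) : Mp F (h.im X) (tr a b f) := by
  obtain ⟨φ, hφ, e⟩ := hf
  obtain ⟨φ', hφ', hP, hφS, hP', ind⟩ := hm.2 X φ hφ
  have he := imageAlong_eq (X := X) h A ha
  have h1 : Mp F (h.im X) (extOf φ') := by
    rw [← he]
    exact mp_of_hom hφ'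
  refine h1.congr (fun y hy => ?_)
  have hbX : b y ∈ X := hy.2
  have e0 : A ⟨b y, hP hbX⟩ = y := by
    rw [ha]
    exact h.ab y hy.1
  have hy' : y ∈ imageAlong A X := by
    rw [he]
    exact hy
  rw [extOf_of_mem φ' hy']
  have e1 := ind ⟨b y, hbX⟩
  have e2 : (⟨A ⟨b y, hP hbX⟩, hP' ⟨b y, hbX⟩⟩ : imageAlong A X) = ⟨y, hy'⟩ := Subtype.ext e0
  rw [e2] at e1
  rw [e1, ha]
  show a (φ ⟨b y, hbX⟩) = a (f (b y))
  rw [e ⟨b y, hbX⟩]

theorem component_transport [Fact p.Prime] [Finite S] (hS : IsPGroup p S) {h : Iso S S a b} (hFF : Corr h F F)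
    {U U' : Subgroup Ω} {C : FusionSystem U} {C' : FusionSystem U'} (hC : C.IsComponentIn F p) (hc : Corr h C C') :
    C'.IsComponentIn F p := by
  have hTS := (subnormal_le hC.1).1
  haveI : Finite U := finite_of_le hTS
  exact ⟨subnormal hC.1 inferInstance hS hc hFF, quasisimple (hS.to_le hTS) hc hC.2⟩

/-- The layer is preserved by an automorphism of the ambient system. -/
theorem layer_corr [Fact p.Prime] [Finite S] (hS : IsPGroup p S) {h : Iso S S a b} (hFF : Corr h F F)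
    {T : Subgroup Ω} {E : FusionSystem T} (hE : E.IsLayerOf F p) {T₁ : Subgroup Ω} {E₁ : FusionSystem T₁} (hE₁ : Corr h E E₁) :
    E₁.IsSubsystemOf E ∧ E.IsSubsystemOf E₁ := by
  have hTS : T ≤ S := hE.1.1.2.2.2.1.1
  haveI : Finite T := finite_of_le hTS
  obtain ⟨E₂, hE₂⟩ := exists_corr h.symm hTS E
  have hn₁ := normal hS hFF hE₁ hE.1
  have hn₂ := normal hS hFF.symm hE₂ hE.1
  have hle₁ : E.IsSubsystemOf E₁ := by
    refine hE.2.2 _ E₁ hn₁ (fun U C hC => ?_)
    have hUS := (subnormal_le hC.1).1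
    haveI : Finite U := finite_of_le hUS
    obtain ⟨C₂, hC₂⟩ := exists_corr h.symm hUS C
    have hC₂c := component_transport hS hFF.symm hC hC₂
    exact Corr.sub hE₁ hC₂.symm (hE.2.1 _ _ hC₂c)
  have hle₂ : E.IsSubsystemOf E₂ := by
    refine hE.2.2 _ E₂ hn₂ (fun U C hC => ?_)
    have hUS := (subnormal_le hC.1).1
    haveI : Finite U := finite_of_le hUS
    obtain ⟨C₂, hC₂⟩ := exists_corr h hUS C
    have hC₂c := component_transport hS hFF hC hC₂
    exact Corr.sub hE₂ hC₂.symm (hE.2.1 _ _ hC₂c)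
  exact ⟨Corr.sub hE₂.symm hE₁ hle₂, hle₁⟩

/-- The main theorem on the layer. -/
theorem layer_char [Fact p.Prime] [Finite S] (hS : IsPGroup p S)
    (α : S ≃* S) (hα : F.IsMorphism F (S.subtype.comp α.toMonoidHom))
    (hα' : F.IsMorphism F (S.subtype.comp α.symm.toMonoidHom))
    {T : Subgroup Ω} (E : FusionSystem T) (hE : E.IsLayerOf F p) :
    imageAlong (S.subtype.comp α.toMonoidHom) T = T ∧
      ∀ (P : Subgroup Ω) (φ : P →* Ω), φ ∈ E.Hom P →
        ∀ φ' : ↥(imageAlong (S.subtype.comp α.toMonoidHom) P) →* Ω,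
          InducedAlong (S.subtype.comp α.toMonoidHom) φ φ' →
            φ' ∈ E.Hom (imageAlong (S.subtype.comp α.toMonoidHom) P) := by
  set A : S →* Ω := S.subtype.comp α.toMonoidHom with hA
  set B : S →* Ω := S.subtype.comp α.symm.toMonoidHom with hB
  have hAv : ∀ x : S, A x = extOf A x := fun x => (extOf_coe A x).symm
  have hBv : ∀ x : S, B x = extOf B x := fun x => (extOf_coe B x).symm
  have h : Iso S S (extOf A) (extOf B) := by
    refine ⟨fun x hx y hy => ?_, fun x hx => ?_, fun x hx => ?_, fun x hx => ?_, fun x hx => ?_⟩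
    · rw [extOf_of_mem A hx, extOf_of_mem A hy, extOf_of_mem A (S.mul_mem hx hy), ← _root_.map_mul]
      rfl
    · rw [extOf_of_mem A hx]
      exact (α ⟨x, hx⟩).2
    · rw [extOf_of_mem B hx]
      exact (α.symm ⟨x, hx⟩).2
    · rw [extOf_of_mem A hx, extOf_of_mem B (by exact (α ⟨x, hx⟩).2)]
      show (((α.symm (α ⟨x, hx⟩) : S)) : Ω) = x
      rw [α.symm_apply_apply]
    · rw [extOf_of_mem B hx, extOf_of_mem A (by exact (α.symm ⟨x, hx⟩).2)]
      show ((α (α.symm ⟨x, hx⟩) : S) : Ω) = x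
      rw [α.apply_symm_apply]
  have hFF : Corr h F F := by
    refine ⟨le_rfl, ?_, fwd_of_morph h A hAv hα, fwd_of_morph h.symm B hBv hα'⟩
    ext y
    exact ⟨fun hy => ⟨hy, h.mem' y hy⟩, fun hy => hy.1⟩
  have hTS : T ≤ S := hE.1.1.2.2.2.1.1
  haveI : Finite T := finite_of_le hTS
  obtain ⟨E₁, hE₁⟩ := exists_corr h hTS E
  obtain ⟨h1, h2⟩ := layer_corr hS hFF hE hE₁
  have hT₁ : h.im T = T := by
    apply le_antisymm
    · exact le_of_mem E (h1 _ (subtype_mem E₁ le_rfl))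
    · exact le_of_mem E₁ (h2 _ (subtype_mem E le_rfl))
  refine ⟨by rw [imageAlong_eq h A hAv, hT₁], fun P φ hφ φ' hind => ?_⟩
  obtain ⟨hP, hφS, hP', ind⟩ := hind
  have hm := mp_sub h1 (hE₁.fwd P _ (mp_of_hom hφ))
  have he := imageAlong_eq (X := P) h A hAv
  rw [← he] at hm
  refine hom_of_mp (hm.congr (fun y hy => ?_))
  have hy' := hy
  rw [he] at hy'
  have hbP : extOf B y ∈ P := hy'.2
  have e0 : A ⟨extOf B y, hP hbP⟩ = y := by
    rw [hAv]
    exact h.ab y hy'.1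
  rw [extOf_of_mem φ' hy]
  have e1 := ind ⟨extOf B y, hbP⟩
  have e2 : (⟨A ⟨extOf B y, hP hbP⟩, hP' ⟨extOf B y, hbP⟩⟩ : imageAlong A P) = ⟨y, hy⟩ := Subtype.ext e0
  rw [e2] at e1
  rw [e1, hAv]
  show extOf A (extOf φ (extOf B y)) = extOf A (φ ⟨extOf B y, hbP⟩)
  rw [extOf_of_mem φ hbP]

end layer

end Cfsg.Agent.Lib.Fusion.Trans4
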