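import Cfsg.Agent.Lib.Fusion.GenFit
import Cfsg.Agent.Lib.Fusion.Trans4

/-!
# The generalized Fitting subsystem: normality, self-centralizing, the constrained case (helper20)
-/

set_option autoImplicit false

namespace Cfsg.Agent.Lib.Fusion.GenFit2

open Cfsg Cfsg.FusionSystem Cfsg.Agent.Lib.Fusion.Basic Cfsg.Agent.Lib.Fusion.GroupSystem
open Cfsg.Agent.Lib.FusionExt.MapApi Cfsg.Agent.Lib.FusionExt.Basic Cfsg.Agent.Lib.FusionExt.Normal
open Cfsg.Agent.Lib.FusionExt.PowerE Cfsg.Agent.Lib.FusionExt.LowPi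
open Cfsg.Agent.Lib.FusionExt.Product Cfsg.Agent.Lib.FusionExt.ProductSat Cfsg.Agent.Lib.FusionExt.CProd3 Cfsg.Agent.Lib.FusionExt.CProd4
open Cfsg.Agent.Lib.FusionExt.Comp1 Cfsg.Agent.Lib.FusionExt.Comp2 Cfsg.Agent.Lib.FusionExt.Constr1
open Cfsg.Agent.Lib.FusionExt.Factor Cfsg.Agent.Lib.Fusion.Center Cfsg.Agent.Lib.Fusion.GenFit
open Cfsg.Agent.Lib.FusionExt.CentE Cfsg.Agent.Lib.FusionExt.CentE2

universe u

variable {Ω : Type u} [Group Ω] {S : Subgroup Ω} {F : FusionSystem S} {p : ℕ}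
variable [Finite S] [Fact p.Prime]

/-- Every generalized Fitting subsystem is normal. -/
theorem genfit_normal (hS : IsPGroup p S) (hF : F.IsSaturated p) {U : Subgroup Ω} {D : FusionSystem U}
    (hD : D.IsGeneralizedFittingOf F p) : D.IsNormalIn F p := by
  obtain ⟨T, E, hE, hcp⟩ := hD
  exact cp_normal hS hF (inner_isNormalIn hS hF (Cfsg.Agent.S5145.result F)) hE.1 hcp

/-- The generalized Fitting subsystem contains its centralizer. -/
theorem selfcent (hS : IsPGroup p S) (hF : F.IsSaturated p) {U : Subgroup Ω} {D : FusionSystem U}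
    (hD : D.IsGeneralizedFittingOf F p) :
    (D.center ≤ centralizerIn S U ∧ ∀ P : Subgroup Ω, D.Hom P ⊆ F.centralizerHom D.center P) ∧
      ∀ Y : Subgroup Ω, Y ≤ centralizerIn S U →
        (∀ P : Subgroup Ω, D.Hom P ⊆ F.centralizerHom Y P) → Y ≤ D.center := by
  have hDn := genfit_normal hS hF hD
  obtain ⟨T, E, hE, hcp⟩ := hD
  have hcore := Cfsg.Agent.S5145.result F
  obtain ⟨hDs, -, hsub, hsc, -, -⟩ := hDn.1
  have hUS : U ≤ S := hsc.1
  haveI : Finite U := finite_of_le hUS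
  have hUp : IsPGroup p U := hS.to_le hUS
  obtain ⟨hc, hUe, -, hfac⟩ := cp_factor hcp
  have hcoreU : F.core ≤ U := by rw [hUe]; exact le_sup_left
  have hTU : T ≤ U := by rw [hUe]; exact le_sup_right
  have hTS : T ≤ S := hE.1.1.2.2.2.1.1
  haveI : Finite T := finite_of_le hTS
  haveI : Finite F.core := finite_of_le hcore.1
  have hEU : E.IsSubsystemOf D := cp_right_le hcp
  have hcZ : ∀ u ∈ U, u ∈ centralizerIn S D.center := fun u hu =>
    mem_cent.2 ⟨hUS hu, fun z hz => (Subgroup.mem_centralizer_iff.1 (D.center_le_centralizer hz) u hu).symm⟩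
  refine ⟨⟨?_, fun P φ hφ => ?_⟩, fun Y hY hYc => ?_⟩
  · intro z hz
    exact mem_cent.2 ⟨hUS (center_le D hz), fun u hu => Subgroup.mem_centralizer_iff.1 (D.center_le_centralizer hz) u hu⟩
  · have hm := mp_of_hom hφ
    have hPU : P ≤ U := hm.le
    obtain ⟨ψ, hψ, h1, h2⟩ := (isCentral_center D).2 P φ hφ
    exact ⟨hsub P hφ, fun x hx => hcZ x (hPU hx), fun x => hcZ _ (val_mem D hφ x), ψ, hsub _ hψ, h1, h2⟩
  · obtain ⟨hXc, hXcen, hmax, hXsc⟩ := main' hS hDn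
    obtain ⟨W, hWn, hWcen⟩ := Cfsg.Agent.Lib.FusionExt.CentE4.main hS hDn
    have hXS : CC F D ≤ S := hXc.trans inf_le_left
    haveI : Finite (CC F D) := finite_of_le hXS
    have hXp : IsPGroup p (CC F D) := hS.to_le hXS
    have hfixX : ∀ (X : Subgroup Ω) (f : Ω → Ω), Mp D X f → ∀ x ∈ X, x ∈ CC F D → f x = x := by
      rintro X f ⟨φ, hφ, e⟩ x hx hxC
      obtain ⟨-, -, -, ψ, -, h1, h2⟩ := hXcen X hφ
      have h3 := h1 ⟨x, hx⟩
      have h4 := h2 ⟨x, hxC⟩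
      have e' : Subgroup.inclusion (le_sup_left : X ≤ X ⊔ CC F D) ⟨x, hx⟩ = Subgroup.inclusion (le_sup_right : CC F D ≤ X ⊔ CC F D) ⟨x, hxC⟩ := rfl
      rw [e', h4] at h3
      rw [← e ⟨x, hx⟩]
      exact h3.symm
    have hno : ¬∃ (V : Subgroup Ω) (C : FusionSystem V), C.IsComponentIn W p := by
      rintro ⟨V, C, hC⟩
      have hCF : C.IsComponentIn F p := ⟨.step hC.1 hWn, hC.2⟩
      have hCE := hE.2.1 V C hCF
      have hVX : V ≤ CC F D := (Cfsg.Agent.Lib.Fusion.Trans4.subnormal_le hC.1).1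
      haveI : Finite V := finite_of_le hVX
      refine false_of_identity hC.2 (fun X f hf x hx => ?_)
      exact hfixX X f (mp_sub hEU (mp_sub hCE hf)) x hx (hVX (hf.le hx))
    have hWc : W.IsConstrained p := by
      by_contra hn
      exact hno (by
        by_contra hn2
        exact hn ((Cfsg.Agent.Lib.FusionExt.Constr1.main hXp W hWn.1.1).2 hn2))
    have hXcore : CC F D ≤ F.core := sub1 hS hWc hWn (fun t ht => Subgroup.mem_centralizer_iff.2 (fun y hy => (mem_cent.1 (hXc ht)).2 y (hcoreU hy)))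
    intro y hy
    have hyX := hmax Y hY hYc hy
    refine Cfsg.Agent.Lib.Fusion.WeakClosure.mem_center_of_fixed D hUp hDs (hcoreU (hXcore hyX)) (fun P φ hφ hyP => ?_)
    have := hfixX P _ (mp_of_hom hφ) y hyP hyX
    rwa [extOf_of_mem φ hyP] at this

section triv

theorem triv_normal (hS : IsPGroup p S) (hF : F.IsSaturated p) : (innerFusionSystem (⊥ : Subgroup Ω)).IsNormalIn F p := by
  refine inner_isNormalIn hS hF (Cfsg.Agent.Lib.FusionExt.Normal2.isNormal_of_abelian F hS hF (Cfsg.Agent.Lib.Fusion.Trans2.sc_bot F) ?_)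
  intro a ha b hb
  rw [Subgroup.mem_bot.1 ha, Subgroup.mem_bot.1 hb]

theorem triv_layer (hS : IsPGroup p S) (hF : F.IsSaturated p)
    (hno : ¬ ∃ (T : Subgroup Ω) (C : FusionSystem T), C.IsComponentIn F p) :
    (innerFusionSystem (⊥ : Subgroup Ω)).IsLayerOf F p := by
  refine ⟨triv_normal hS hF, fun U C hC => (hno ⟨U, C, hC⟩).elim, fun R D _ _ => ?_⟩
  rintro P φ ⟨hP, g, hg, h⟩
  have e : φ = P.subtype := by
    ext x
    rw [h x, Subgroup.mem_bot.1 hg]
    simp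
  rw [e]
  exact subtype_mem D (hP.trans bot_le)

theorem triv_cp (Q : Subgroup Ω) : IsCentralProductOf (innerFusionSystem Q) (innerFusionSystem (⊥ : Subgroup Ω)) (innerFusionSystem Q) := by
  have hc : ∀ a ∈ Q, ∀ b ∈ (⊥ : Subgroup Ω), a * b = b * a := by
    intro a _ b hb
    rw [Subgroup.mem_bot.1 hb, mul_one, one_mul]
  have hz : ∀ x : Ω × Ω, x ∈ antiZ hc → x = 1 := by
    intro x hx
    obtain ⟨-, h2, h3⟩ := mem_antiZ.1 hx
    have h2' : x.2 = 1 := Subgroup.mem_bot.1 h2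
    rw [h2', mul_one] at h3
    exact Prod.ext h3 h2'
  have hbot : ∀ W : Subgroup (Ω × Ω), antiZ hc ⊓ W = ⊥ := by
    intro W
    rw [eq_bot_iff]
    intro x hx
    exact Subgroup.mem_bot.2 (hz x hx.1)
  refine ⟨productSystem _ _, isProductSystem_productSystem _ _, antiZ hc, mulMap hc, ?_, hbot _, hbot _, ?_, ?_, ?_, antiZ_theta hc, ?_, ?_⟩
  · intro x hx
    rw [hz x hx]
    exact Subgroup.one_mem _
  · intro x hx
    exact mul_one x
  · intro y hy
    exact one_mul y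
  · intro x hx
    obtain ⟨h1, h2, -⟩ := mem_antiZ.1 hx
    exact ⟨h1, h2⟩
  · rw [mulMap_range, sup_bot_eq]
  · intro P' φ'
    constructor
    · rintro ⟨hP', g, hg, hv⟩
      have hgp : ((g, 1) : Ω × Ω) ∈ Q.prod (⊥ : Subgroup Ω) := ⟨hg, Subgroup.one_mem _⟩
      have hpre := preimageAlong_le (mulMap hc) P'
      have hφ₀ := (productSystem (innerFusionSystem Q) (innerFusionSystem (⊥ : Subgroup Ω))).conj_mem hpre hgp
      have hval := val_mem _ hφ₀
      have hPr : ∀ x : preimageAlong (mulMap hc) P', mulMap hc ⟨x, hpre x.2⟩ ∈ P' := fun x => (mem_pre.1 x.2).2.2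
      refine ⟨hP', _, hφ₀, hpre, hval, hPr, fun x => ?_⟩
      rw [hv ⟨mulMap hc ⟨x, hpre x.2⟩, hPr x⟩]
      have hx2 : (x : Ω × Ω).2 = 1 := Subgroup.mem_bot.1 (hpre x.2).2
      show g * ((x : Ω × Ω).1 * (x : Ω × Ω).2) * g⁻¹ = (g * (x : Ω × Ω).1 * g⁻¹) * (1 * (x : Ω × Ω).2 * 1⁻¹)
      rw [hx2]
      simp
    · rintro ⟨hP', φ₀, ⟨hpre, φ₁, ⟨-, g, hg, hv₁⟩, φ₂, ⟨-, g₂, hg₂, hv₂⟩, hv⟩, hpp, hφS, hPP', hform⟩
      refine ⟨hP', g, hg, fun y => ?_⟩
      have hy : ((y : Ω), (1 : Ω)) ∈ preimageAlong (mulMap hc) P' := mem_pre.2 ⟨hP' y.2, Subgroup.one_mem _, by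
        show (y : Ω) * 1 ∈ P'
        rw [mul_one]
        exact y.2⟩
      have h1 := hform ⟨_, hy⟩
      have e1 : (⟨mulMap hc ⟨_, hpp hy⟩, hPP' ⟨_, hy⟩⟩ : P') = y := Subtype.ext (mul_one _)
      rw [e1] at h1
      rw [h1, mulMap_apply]
      show ((φ₀ ⟨_, hy⟩ : Ω × Ω)).1 * ((φ₀ ⟨_, hy⟩ : Ω × Ω)).2 = _
      rw [hv ⟨_, hy⟩ (fst_mem _) (snd_mem _), hv₁, hv₂]
      have hg2 : g₂ = 1 := Subgroup.mem_bot.1 hg₂
      rw [hg2]
      simp

/-- A system is constrained iff its generalized Fitting subsystem is `O_p`. -/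
theorem constrained_iff (hS : IsPGroup p S) (hF : F.IsSaturated p) :
    F.IsConstrained p ↔ (innerFusionSystem F.core).IsGeneralizedFittingOf F p := by
  have hcore := Cfsg.Agent.S5145.result F
  constructor
  · intro hc
    exact ⟨⊥, _, triv_layer hS hF (no_comp hS hF hc), triv_cp _⟩
  · rintro ⟨T, E, hE, hcp⟩
    rw [Cfsg.Agent.Lib.FusionExt.Constr1.main hS F hF]
    rintro ⟨V, C, hC⟩
    obtain ⟨hc, hUe, -, -⟩ := cp_factor hcp
    have hTcore : T ≤ F.core := by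
      rw [hUe]
      exact le_sup_right
    have hVT : V ≤ T := le_of_mem E (hE.2.1 V C hC V (subtype_mem C le_rfl))
    obtain ⟨h1, h2⟩ := comp_cen hS hF hC hcore
    haveI : Finite V := finite_of_le (Cfsg.Agent.Lib.Fusion.Trans4.subnormal_le hC.1).1
    refine false_of_identity hC.2 (fun X f hf x hx => ?_)
    obtain ⟨g, -, hg1, hg2⟩ := h2 X f hf
    rw [← hg1 x hx, hg2 x (hTcore (hVT (hf.le hx)))]

end triv

end Cfsg.Agent.Lib.Fusion.GenFit2
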