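import Cfsg.Agent.Lib.Fusion.FrobThompson2
import Cfsg.Agent.Lib.Core.SylowFacts

/-!
# Generation of a saturated system: the descending machine and the local Frattini argument
-/

set_option autoImplicit false

namespace Cfsg.Agent.Lib.Fusion.Generation

open Cfsg Cfsg.FusionSystem Cfsg.Agent.Lib.Fusion.Basic Cfsg.Agent.Lib.Fusion.Saturation
  Cfsg.Agent.Lib.Fusion.Saturation2 Cfsg.Agent.Lib.Fusion.LocalGlobal Cfsg.Agent.Lib.Fusion.Center
  Cfsg.Agent.Lib.Fusion.Model Cfsg.Agent.Lib.Fusion.ModelNormalizer Cfsg.Agent.Lib.Fusion.NormSystem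
  Cfsg.Agent.Lib.Core.Basic Cfsg.Agent.Lib.FusionExt.Basic Cfsg.Agent.Lib.Fusion.KSystem
  Cfsg.Agent.Lib.Fusion.WeakClosure Cfsg.Agent.Lib.Fusion.FrobThompson2 Cfsg.Agent.Lib.Core.SylowFacts

universe u

section machine

variable {Ω : Type*} [Group Ω] {S : Subgroup Ω} {F E : FusionSystem S} {p : ℕ} [Fact p.Prime] [Finite S]

/-- `step_all`, also recording the order of the source. -/
theorem step_all2 (hS : IsPGroup p S) (hF : F.IsSaturated p) {n : ℕ}
    (hbig : ∀ P : Subgroup Ω, n < Nat.card P → F.Hom P ⊆ E.Hom P) {U : Subgroup Ω} (hUS : U ≤ S)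
    {γ : MulAut U} (hγ : γ ∈ F.autGroup U) (hbad : autHom γ ∉ E.Hom U)
    (hn : n < Nat.card (normalizerIn S U)) (hEF : ∀ P, E.Hom P ⊆ F.Hom P) :
    ∃ (R : Subgroup Ω) (γ' : MulAut R), F.IsFullyNormalized R ∧ F.IsCentric R ∧ γ' ∈ F.autGroup R ∧
      autHom γ' ∉ E.Hom R ∧ Nat.card (normalizerIn S U) ≤ Nat.card (normalizerIn S R) ∧
      Nat.card U ≤ Nat.card R := by
  obtain ⟨R₁, γ₁, hR₁, hcU, hγ₁, hb₁, hc₁⟩ := step_fn hS hF hbig hUS hγ hbad hn hEF
  obtain ⟨β, hβ, hb₂⟩ := step_centric hS hF hR₁ hγ₁ hb₁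
  have hYS : R₁ ⊔ centralizerIn S R₁ ≤ S := sup_le hR₁.1 inf_le_left
  have hYc : F.IsCentric (R₁ ⊔ centralizerIn S R₁) :=
    Cfsg.Agent.Lib.FusionTheory.PStable.isCentric_sup_centralizer F
      (isFullyCentralized_of_isFullyNormalized F hS hF hR₁)
  have hle : Nat.card (normalizerIn S R₁) ≤ Nat.card (normalizerIn S (R₁ ⊔ centralizerIn S R₁)) := by
    have := finite_of_le (normalizerIn_le_left S (R₁ ⊔ centralizerIn S R₁))
    exact Subgroup.card_le_of_le (normalizerIn_le_sup_centralizer R₁)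
  obtain ⟨R₂, γ₂, hR₂, hc₂, hγ₂, hb₃, hc₃⟩ := step_fn hS hF hbig hYS hβ hb₂ (by omega) hEF
  refine ⟨R₂, γ₂, hR₂, isCentric_of_conj F hYc hc₂, hγ₂, hb₃, by omega, ?_⟩
  have h1 : Nat.card U = Nat.card R₁ := isConj_card_eq F hcU
  have h2 : Nat.card (R₁ ⊔ centralizerIn S R₁ : Subgroup Ω) = Nat.card R₂ := isConj_card_eq F hc₂
  have h3 : Nat.card R₁ ≤ Nat.card (R₁ ⊔ centralizerIn S R₁ : Subgroup Ω) := by
    have := finite_of_le hYS
    exact Subgroup.card_le_of_le le_sup_left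
  omega

/-- A fully normalized centric bad automorphism with `(|N_S Q|, |Q|)` lexicographically maximal. -/
theorem exists_max_bad (hS : IsPGroup p S) (hF : F.IsSaturated p) {n : ℕ}
    (hbig : ∀ P : Subgroup Ω, n < Nat.card P → F.Hom P ⊆ E.Hom P) {U : Subgroup Ω} (hUS : U ≤ S)
    {γ : MulAut U} (hγ : γ ∈ F.autGroup U) (hbad : autHom γ ∉ E.Hom U)
    (hn : n < Nat.card (normalizerIn S U)) (hEF : ∀ P, E.Hom P ⊆ F.Hom P) :
    ∃ (Q : Subgroup Ω) (γ' : MulAut Q), F.IsFullyNormalized Q ∧ F.IsCentric Q ∧ γ' ∈ F.autGroup Q ∧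
      autHom γ' ∉ E.Hom Q ∧ n < Nat.card (normalizerIn S Q) ∧
      ∀ Q₂ : Subgroup Ω, Q₂ ≤ S → Q < Q₂ → normalizerIn S Q ≤ normalizerIn S Q₂ →
        ∀ β ∈ F.autGroup Q₂, autHom β ∈ E.Hom Q₂ := by
  classical
  let N := Nat.card S + 1
  let M : Subgroup Ω → ℕ := fun Q => Nat.card (normalizerIn S Q) * N + Nat.card Q
  let s : Set ℕ := {m | ∃ (Q : Subgroup Ω) (γ' : MulAut Q), F.IsFullyNormalized Q ∧ F.IsCentric Q ∧ γ' ∈ F.autGroup Q ∧
    autHom γ' ∉ E.Hom Q ∧ n < Nat.card (normalizerIn S Q) ∧ m = M Q}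
  have hbd : BddAbove s := by
    refine ⟨Nat.card S * N + Nat.card S, ?_⟩
    rintro _ ⟨Q, γ', hQ, -, -, -, -, rfl⟩
    have h1 : Nat.card (normalizerIn S Q) ≤ Nat.card S := card_le_of_le_finite inf_le_left
    have h2 : Nat.card Q ≤ Nat.card S := card_le_of_le_finite hQ.1
    show Nat.card (normalizerIn S Q) * N + Nat.card Q ≤ _
    exact add_le_add (Nat.mul_le_mul_right _ h1) h2
  obtain ⟨R₀, γ₀, hR₀, hR₀c, hγ₀, hγ₀b, hle₀, -⟩ := step_all2 hS hF hbig hUS hγ hbad hn hEF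
  have hne : s.Nonempty := ⟨_, R₀, γ₀, hR₀, hR₀c, hγ₀, hγ₀b, by omega, rfl⟩
  obtain ⟨Q, γ', hQ, hQc, hγ', hγ'b, hQn, hQe⟩ := Nat.sSup_mem hne hbd
  refine ⟨Q, γ', hQ, hQc, hγ', hγ'b, hQn, fun Q₂ hQ₂ hlt hNN β hβ => ?_⟩
  by_contra hb
  have hfinN : Finite (normalizerIn S Q₂) := finite_of_le inf_le_left
  have hfinN' : Finite (normalizerIn S Q) := finite_of_le inf_le_left
  have hfinQ₂ : Finite Q₂ := finite_of_le hQ₂
  have h1 : Nat.card (normalizerIn S Q) ≤ Nat.card (normalizerIn S Q₂) := Subgroup.card_le_of_le hNN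
  have h2 : Nat.card Q < Nat.card Q₂ := card_lt_of_lt hlt
  obtain ⟨R, γ₃, hR, hRc, hγ₃, hγ₃b, h3, h4⟩ := step_all2 hS hF hbig hQ₂ hβ hb (by omega) hEF
  have hm : M R ≤ sSup s := le_csSup hbd ⟨R, γ₃, hR, hRc, hγ₃, hγ₃b, by omega, rfl⟩
  rw [hQe] at hm
  have h5 : Nat.card (normalizerIn S Q) * N ≤ Nat.card (normalizerIn S R) * N :=
    Nat.mul_le_mul_right _ (by omega)
  have h6 : M Q < M R := by
    show Nat.card (normalizerIn S Q) * N + Nat.card Q < Nat.card (normalizerIn S R) * N + Nat.card R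
    omega
  omega

/-- All automorphisms of large subgroups good implies all maps on large subgroups good. -/
theorem hom_of_aut (hS : IsPGroup p S) (hF : F.IsSaturated p) (hEF : ∀ P, E.Hom P ⊆ F.Hom P) {n : ℕ}
    (h : ∀ R : Subgroup Ω, R ≤ S → n < Nat.card R → ∀ γ ∈ F.autGroup R, autHom γ ∈ E.Hom R) :
    ∀ P : Subgroup Ω, n < Nat.card P → F.Hom P ⊆ E.Hom P := by
  have main : ∀ k : ℕ, ∀ P : Subgroup Ω, Nat.card S - k < Nat.card P → n < Nat.card P → F.Hom P ⊆ E.Hom P := by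
    intro k
    induction k with
    | zero =>
      intro P hP _ φ hφ
      have := card_le_of_le_finite (le_of_mem F hφ)
      omega
    | succ k ih =>
      intro P hP hnP φ hφ
      by_cases hk : Nat.card S - k < Nat.card P
      · exact ih P hk hnP hφ
      have hcard : Nat.card P = Nat.card S - k := by
        have := card_le_of_le_finite (le_of_mem F hφ)
        omega
      have hPS : P ≤ S := le_of_mem F hφ
      by_cases hPe : P = S
      · subst hPe
        have hr : φ.range = P := Subgroup.eq_of_le_of_card_ge (range_le F hφ) (by rw [card_range F hφ])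
        obtain ⟨α, hα, hαv⟩ := exists_aut_of_range F hφ hr
        have h1 := h P le_rfl hnP α hα
        have e : autHom α = φ := by
          ext x
          exact hαv x
        rwa [e] at h1
      have hPlt : P < S := lt_of_le_of_ne hPS hPe
      have hbig : ∀ P' : Subgroup Ω, Nat.card P < Nat.card P' → F.Hom P' ⊆ E.Hom P' := by
        intro P' hlt ψ hψ
        exact ih P' (by omega) (by omega) hψ
      have hNgt : ∀ P' : Subgroup Ω, P' ≤ S → Nat.card P' = Nat.card P →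
          Nat.card P < Nat.card (normalizerIn S P') := by
        intro P' hle hc
        have hlt' : P' < S := by
          refine lt_of_le_of_ne hle (fun e => ?_)
          rw [e] at hc
          have h1 : Nat.card P < Nat.card S := card_lt_of_lt hPlt
          omega
        have := finite_of_le (normalizerIn_le_left S P')
        have h1 := card_lt_of_lt (lt_normalizerIn hS hlt')
        omega
      obtain ⟨R, hconj, hfn⟩ := exists_isFullyNormalized F hPS
      have hRS : R ≤ S := hfn.1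
      have hRcard : Nat.card R = Nat.card P := (isConj_card_eq F hconj).symm
      have hφr : F.IsConj φ.range R := Basic.IsConj.trans F (isConj_symm F ⟨φ, hφ, rfl⟩) hconj
      have hφc : Nat.card φ.range = Nat.card P := card_range F hφ
      obtain ⟨e₁, he₁⟩ := exists_good_fn hS hF hbig hfn hconj (hNgt P hPS rfl)
      obtain ⟨e₂, he₂⟩ := exists_good_fn hS hF hbig hfn hφr (hNgt _ (range_le F hφ) hφc)
      let eφ : P ≃* φ.range := isoOf φ (F.injective_of_mem hφ) rfl
      have heφ : isoHom eφ ∈ F.Hom P := isoHom_isoOf_mem F hφ rfl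
      let α : R ≃* R := (e₁.symm.trans eφ).trans e₂
      have hαm : isoHom α ∈ F.Hom R :=
        isoHom_trans_mem F (isoHom_trans_mem F (isoHom_symm_mem F (hEF _ he₁)) heφ) (hEF _ he₂)
      have hαA : α ∈ F.autGroup R := (mem_autGroup_iff F hRS α).2 hαm
      have h1 := isoHom_trans_mem E (isoHom_trans_mem E he₁ (h R hRS (by omega) α hαA)) (isoHom_symm_mem E he₂)
      have e : φ = isoHom ((e₁.trans α).trans e₂.symm) := by
        ext x
        show φ x = _
        simp [α, isoHom, eφ]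
      rw [e]
      exact h1
  intro P hnP φ hφ
  have h1 := card_le_of_le_finite (le_of_mem F hφ)
  refine main (Nat.card S) P ?_ hnP hφ
  have h2 : 0 < Nat.card P := by
    have := finite_of_le (le_of_mem F hφ)
    exact Nat.card_pos
  omega

/-- **The machine.** If all automorphisms of `S` are good, and a maximal bad automorphism (at a level `n`, with all
maps on subgroups of order `> n` good) of a fully normalized centric subgroup is impossible, then all maps are good. -/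
theorem global_of_local (hS : IsPGroup p S) (hF : F.IsSaturated p) (hEF : ∀ P, E.Hom P ⊆ F.Hom P)
    (hTop : ∀ γ ∈ F.autGroup S, autHom γ ∈ E.Hom S)
    (hL : ∀ n : ℕ, (∀ P : Subgroup Ω, n < Nat.card P → F.Hom P ⊆ E.Hom P) →
      ∀ (Q : Subgroup Ω) (γ : MulAut Q), F.IsFullyNormalized Q → F.IsCentric Q → γ ∈ F.autGroup Q →
      autHom γ ∉ E.Hom Q → n < Nat.card (normalizerIn S Q) →
      (∀ Q₂ : Subgroup Ω, Q₂ ≤ S → Q < Q₂ → normalizerIn S Q ≤ normalizerIn S Q₂ →
        ∀ β ∈ F.autGroup Q₂, autHom β ∈ E.Hom Q₂) → False) :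
    ∀ P, F.Hom P ⊆ E.Hom P := by
  have main : ∀ k : ℕ, ∀ P : Subgroup Ω, Nat.card S - k < Nat.card P → F.Hom P ⊆ E.Hom P := by
    intro k
    induction k with
    | zero =>
      intro P hP φ hφ
      have := card_le_of_le_finite (le_of_mem F hφ)
      omega
    | succ k ih =>
      intro P hP
      by_cases hm : Nat.card S - k = 0
      · exact ih P (by omega)
      refine hom_of_aut (n := Nat.card S - (k + 1)) hS hF hEF (fun R hRS hR γ hγ => ?_) P hP
      by_cases hlt : Nat.card S - k < Nat.card R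
      · exact ih R hlt (autHom_mem F hRS hγ)
      by_contra hb
      have hRe : R ≠ S := by
        rintro rfl
        exact hb (hTop γ hγ)
      have hRlt : R < S := lt_of_le_of_ne hRS hRe
      have hcard : Nat.card R = Nat.card S - k := by omega
      have hnN : Nat.card S - k < Nat.card (normalizerIn S R) := by
        have := finite_of_le (normalizerIn_le_left S R)
        have h1 := card_lt_of_lt (lt_normalizerIn hS hRlt)
        omega
      obtain ⟨Q, γ', hQ, hQc, hγ', hb', hn', hmax⟩ := exists_max_bad hS hF ih hRS hγ hb hnN hEF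
      exact hL _ ih Q γ' hQ hQc hγ' hb' hn' hmax
  intro P φ hφ
  have h1 := card_le_of_le_finite (le_of_mem F hφ)
  refine main (Nat.card S) P ?_ hφ
  have h2 : 0 < Nat.card P := by
    have := finite_of_le (le_of_mem F hφ)
    exact Nat.card_pos
  omega

end machine

section localpart

variable {Ω : Type*} [Group Ω] {S : Subgroup Ω} {F E : FusionSystem S} {p : ℕ} [hp : Fact p.Prime] [Finite S]
  {Q : Subgroup Ω} {E₀ : FusionSystem (normalizerIn S Q)} {L : Type*} [Group L] {ι : ↥(normalizerIn S Q) →* L}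

/-- A subgroup of a model of `N_F(Q)` properly containing the image of `Q`, normalized by the Sylow subgroup: all its
normalizer acts well on `Q`. -/
theorem lift_good (hS : IsPGroup p S) (hQS : Q ≤ S) (hE₀ : F.IsNormalizerSystem Q E₀) (hG : E₀.IsModel p L ι)
    (P₀ : Sylow p L) (hP₀ : (P₀ : Subgroup L) = ι.range)
    (hmax : ∀ Q₂ : Subgroup Ω, Q₂ ≤ S → Q < Q₂ → normalizerIn S Q ≤ normalizerIn S Q₂ →
        ∀ β ∈ F.autGroup Q₂, autHom β ∈ E.Hom Q₂)
    (R : Subgroup L) (hRP : R ≤ P₀) (hQR : Q ≤ pre ι R) (hlt : ¬ pre ι R ≤ Q)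
    (hPR : (P₀ : Subgroup L) ≤ Subgroup.normalizer (R : Set L)) {g : L} (hg : g ∈ Subgroup.normalizer (R : Set L)) :
    autHom (rho hG (normalizerSystem_isNormal F hQS hE₀) g) ∈ E.Hom Q := by
  have hNQ := normalizerSystem_isNormal F hQS hE₀
  haveI hTf : Finite ↥(normalizerIn S Q) := finite_of_le inf_le_left
  obtain ⟨β, hβ, hβv⟩ := conjAut hG (hP₀ ▸ hRP) hg
  have hpreS : pre ι R ≤ S := (pre_le R).trans inf_le_left
  have hβF : β ∈ F.autGroup (pre ι R) := by
    rw [mem_autGroup_iff F hpreS]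
    have h1 := autHom_mem E₀ (pre_le R) hβ
    rw [hE₀] at h1
    exact h1.1
  have hfwd : ∀ s ∈ normalizerIn S Q, ∀ x ∈ pre ι R, s * x * s⁻¹ ∈ pre ι R := by
    intro s hs x hx
    obtain ⟨t, ht, rfl⟩ := hx
    have hsL : ι ⟨s, hs⟩ ∈ (P₀ : Subgroup L) := by
      rw [hP₀]
      exact ⟨_, rfl⟩
    have h1 := (Subgroup.mem_normalizer_iff.1 (hPR hsL) _).1 ht
    refine ⟨⟨s, hs⟩ * t * ⟨s, hs⟩⁻¹, ?_, rfl⟩
    show ι (⟨s, hs⟩ * t * ⟨s, hs⟩⁻¹) ∈ R
    simpa using h1
  have hNN : normalizerIn S Q ≤ normalizerIn S (pre ι R) := by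
    intro s hs
    refine ⟨hs.1, Subgroup.mem_normalizer_iff.2 fun x => ⟨fun hx => hfwd s hs x hx, fun hx => ?_⟩⟩
    have h1 := hfwd s⁻¹ ((normalizerIn S Q).inv_mem hs) _ hx
    have e : s⁻¹ * (s * x * s⁻¹) * s⁻¹⁻¹ = x := by group
    rwa [e] at h1
  have hgood := hmax (pre ι R) hpreS (lt_of_le_not_ge hQR hlt) hNN β hβF
  refine restrict_mem' E hQR hgood _ (fun x => ?_)
  have h1 := rho_spec hG hNQ g x
  have h2 := hβv ⟨x, hQR x.2⟩
  have h3 := h1.trans h2.symm
  exact model_val_eq hG h3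

/-- **The local Frattini argument.** At a maximal bad automorphism of `Q`, in a model `L` of `N_F(Q)`: the image of `Q` is
`O_p(L)`, and the elements of the Sylow subgroup in a normal subgroup of `L` all of whose elements act well lie in `Q`. -/
theorem local_core (hS : IsPGroup p S) (hQS : Q ≤ S) (hE₀ : F.IsNormalizerSystem Q E₀) (hG : E₀.IsModel p L ι)
    (P₀ : Sylow p L) (hP₀ : (P₀ : Subgroup L) = ι.range)
    (hmax : ∀ Q₂ : Subgroup Ω, Q₂ ≤ S → Q < Q₂ → normalizerIn S Q ≤ normalizerIn S Q₂ →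
        ∀ β ∈ F.autGroup Q₂, autHom β ∈ E.Hom Q₂)
    {γ : MulAut Q} (hγ : γ ∈ F.autGroup Q) (hb : autHom γ ∉ E.Hom Q) :
    (∀ t : ↥(normalizerIn S Q), ι t ∈ pCore p L → (t : Ω) ∈ Q) ∧
    (∀ K : Subgroup L, K.Normal →
      (∀ k ∈ K, autHom (rho hG (normalizerSystem_isNormal F hQS hE₀) k) ∈ E.Hom Q) →
      ∀ t : ↥(normalizerIn S Q), ι t ∈ K → (t : Ω) ∈ Q) := by
  haveI hLf : Finite L := model_finite hG
  have hNQ := normalizerSystem_isNormal F hQS hE₀
  have hTS : normalizerIn S Q ≤ S := inf_le_left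
  haveI hTf : Finite ↥(normalizerIn S Q) := finite_of_le hTS
  have hγE : γ ∈ E₀.autGroup Q := by
    rw [normalizerSystem_autGroup F hQS hE₀]
    exact hγ
  obtain ⟨g₀, hg₀⟩ := rho_surj hG hNQ hγE
  have hQO : ∀ x : Q, ι ⟨x, le_normalizerIn hQS x.2⟩ ∈ pCore p L := by
    intro x
    refine le_pCore (img_normal hG hNQ) ?_ ⟨⟨x, le_normalizerIn hQS x.2⟩, x.2, rfl⟩
    have hp1 : IsPGroup p (Q.subgroupOf (normalizerIn S Q)) := isPGroup_subgroupOf _ (hS.to_le hQS)
    exact hp1.map ι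
  constructor
  · intro t ht
    by_contra htQ
    have hR : pCore p L ≤ (P₀ : Subgroup L) := pCore_le_sylow P₀
    have hQR : Q ≤ pre ι (pCore p L) := fun x hx => mem_pre (s := ⟨x, le_normalizerIn hQS hx⟩) (hQO ⟨x, hx⟩)
    have hlt : ¬ pre ι (pCore p L) ≤ Q := fun h => htQ (h (mem_pre ht))
    have hn : ∀ g : L, g ∈ Subgroup.normalizer ((pCore p L : Subgroup L) : Set L) := fun g => by
      rw [Subgroup.normalizer_eq_top]
      trivial
    apply hb
    rw [← hg₀]
    exact lift_good hS hQS hE₀ hG P₀ hP₀ hmax _ hR hQR hlt (fun x _ => hn x) (hn g₀)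
  · intro K hK hgood t ht
    by_contra htQ
    haveI := hK
    let T₁ : Sylow p K := sylowOfNormal P₀ K
    have hmap : (T₁ : Subgroup K).map K.subtype = (P₀ : Subgroup L) ⊓ K := map_sylowOfNormal P₀ K
    obtain ⟨A, hA⟩ : ∃ A : Subgroup L, A = (P₀ : Subgroup L) ⊓ K := ⟨_, rfl⟩
    obtain ⟨M, hM⟩ : ∃ M : Subgroup L, M = Subgroup.normalizer (A : Set L) := ⟨_, rfl⟩
    have hfrat : M ⊔ K = ⊤ := by
      have := Sylow.normalizer_sup_eq_top T₁
      rw [hmap] at this
      rw [hM, hA]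
      exact this
    have hP₀M : (P₀ : Subgroup L) ≤ M := by
      intro s hs
      rw [hM, Subgroup.mem_normalizer_iff]
      intro x
      rw [hA]
      constructor
      · rintro ⟨h1, h2⟩
        exact ⟨(P₀ : Subgroup L).mul_mem ((P₀ : Subgroup L).mul_mem hs h1) ((P₀ : Subgroup L).inv_mem hs),
          hK.conj_mem x h2 s⟩
      · rintro ⟨h1, h2⟩
        have h3 : s⁻¹ * (s * x * s⁻¹) * s⁻¹⁻¹ = x := by group
        refine ⟨?_, ?_⟩
        · rw [← h3]
          exact (P₀ : Subgroup L).mul_mem ((P₀ : Subgroup L).mul_mem ((P₀ : Subgroup L).inv_mem hs) h1)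
            ((P₀ : Subgroup L).inv_mem ((P₀ : Subgroup L).inv_mem hs))
        · rw [← h3]
          exact hK.conj_mem _ h2 s⁻¹
    let PM : Sylow p M := P₀.subtype hP₀M
    have hPMv : ∀ x : M, x ∈ (PM : Subgroup M) ↔ (x : L) ∈ (P₀ : Subgroup L) := fun x => by
      show x ∈ ((P₀ : Subgroup L).subgroupOf M) ↔ _
      rfl
    obtain ⟨R, hR⟩ : ∃ R : Subgroup L, R = (pCore p M).map M.subtype := ⟨_, rfl⟩
    have hRP : R ≤ (P₀ : Subgroup L) := by
      rw [hR]
      rintro _ ⟨x, hx, rfl⟩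
      exact (hPMv x).1 (pCore_le_sylow PM hx)
    have hnorm : ∀ n ∈ M, n ∈ Subgroup.normalizer (R : Set L) := by
      intro n hn
      rw [hR]
      have hfw : ∀ n : M, ∀ y ∈ pCore p M, (n : L) * y * (n : L)⁻¹ ∈ (pCore p M).map M.subtype := by
        intro n y hy
        exact ⟨n * y * n⁻¹, (inferInstance : (pCore p M).Normal).conj_mem y hy n, rfl⟩
      refine Subgroup.mem_normalizer_iff.2 fun x => ?_
      constructor
      · rintro ⟨y, hy, rfl⟩
        exact hfw ⟨n, hn⟩ y hy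
      · rintro ⟨y, hy, hye⟩
        have h1 := hfw (⟨n, hn⟩ : M)⁻¹ y hy
        have h2 : (y : L) = n * x * n⁻¹ := hye
        have h3 : (((⟨n, hn⟩ : M)⁻¹ : M) : L) * y * (((⟨n, hn⟩ : M)⁻¹ : M) : L)⁻¹ = x := by
          show n⁻¹ * y * n⁻¹⁻¹ = x
          rw [h2]
          group
        rwa [h3] at h1
    have hXR : ∀ X : Subgroup L, X ≤ M → (X.subgroupOf M).Normal → IsPGroup p X → X ≤ R := by
      intro X hXM hn hXp
      have h5 := le_pCore hn (isPGroup_subgroupOf _ hXp)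
      intro x hx
      rw [hR]
      exact ⟨⟨x, hXM hx⟩, h5 hx, rfl⟩
    have hOR : pCore p L ≤ R :=
      hXR _ ((pCore_le_sylow P₀).trans hP₀M) Subgroup.normal_subgroupOf pCore_isPGroup
    have hAle : A ≤ (P₀ : Subgroup L) := by
      rw [hA]
      exact inf_le_left
    have hAR : A ≤ R := by
      refine hXR _ (hAle.trans hP₀M) ?_ (P₀.isPGroup'.to_le hAle)
      rw [hM]
      exact Subgroup.normal_in_normalizer
    have htA : ι t ∈ A := by
      rw [hA]
      refine ⟨?_, ht⟩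
      rw [hP₀]
      exact ⟨t, rfl⟩
    have hQR : Q ≤ pre ι R := fun x hx => mem_pre (s := ⟨x, le_normalizerIn hQS hx⟩) (hOR (hQO ⟨x, hx⟩))
    have hlt : ¬ pre ι R ≤ Q := fun h => htQ (h (mem_pre (hAR htA)))
    have hg₀top : g₀ ∈ M ⊔ K := by
      rw [hfrat]
      trivial
    have hKn : M ≤ Subgroup.normalizer (K : Set L) := fun x _ => by
      rw [Subgroup.normalizer_eq_top]
      trivial
    obtain ⟨n, hn, k, hk, hnk⟩ := Cfsg.Agent.Lib.FusionExt.Normal.exists_mul_of_mem_sup' hKn hg₀top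
    have h1 : autHom (rho hG hNQ n) ∈ E.Hom Q :=
      lift_good hS hQS hE₀ hG P₀ hP₀ hmax R hRP hQR hlt (fun x hx => hnorm x (hP₀M hx)) (hnorm n hn)
    have h2 := hgood k hk
    apply hb
    rw [← hg₀, hnk, map_mul, ← mem_autGroup_iff E hQS] at *
    exact Subgroup.mul_mem _ h1 h2

end localpart

end Cfsg.Agent.Lib.Fusion.Generation
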