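import Cfsg.Agent.Lib.Core.Basic
import Cfsg.Agent.Lib.Core.SylowFacts

/-!
# `p`-th powers of central elements of a Sylow subgroup, in a constrained group with a quadratic element
-/

set_option autoImplicit false

namespace Cfsg.Agent.Lib.Fusion.QuadPower

open Cfsg Cfsg.Agent.Lib.Core.Basic Cfsg.Agent.Lib.Core.SylowFacts

open scoped commutatorElement

universe u

section elementary

variable {G : Type*} [Group G]

/-- The conjugation formula for an element acting quadratically. -/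
theorem pow_conj_eq {V : Subgroup G} (hVc : ∀ a ∈ V, ∀ b ∈ V, a * b = b * a) {g v : G} (hv : v ∈ V)
    (hw : g * v * g⁻¹ * v⁻¹ ∈ V) (hwg : g * (g * v * g⁻¹ * v⁻¹) = (g * v * g⁻¹ * v⁻¹) * g) (n : ℕ) :
    g ^ n * v * (g ^ n)⁻¹ = v * (g * v * g⁻¹ * v⁻¹) ^ n := by
  set w := g * v * g⁻¹ * v⁻¹ with hwdef
  have hwg' : ∀ k : ℕ, g * w ^ k * g⁻¹ = w ^ k := by
    intro k
    have : Commute g w := hwg
    have h2 : Commute g (w ^ k) := this.pow_right k
    calc g * w ^ k * g⁻¹ = w ^ k * g * g⁻¹ := by rw [h2.eq]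
      _ = w ^ k := by group
  induction n with
  | zero => simp
  | succ k ih =>
    have e1 : g ^ (k + 1) * v * (g ^ (k + 1))⁻¹ = g * (g ^ k * v * (g ^ k)⁻¹) * g⁻¹ := by
      rw [pow_succ']
      group
    rw [e1, ih]
    have e2 : g * (v * w ^ k) * g⁻¹ = (g * v * g⁻¹) * (g * w ^ k * g⁻¹) := by group
    rw [e2, hwg']
    have e3 : g * v * g⁻¹ = w * v := by
      rw [hwdef]
      group
    rw [e3, pow_succ]
    have e4 : w * v = v * w := hVc _ hw _ hv
    rw [e4]
    have e5 : w ^ k * w = w * w ^ k := (pow_succ w k).symm.trans (pow_succ' w k)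
    rw [mul_assoc v w, ← e5]

/-- A power `h = g ^ N` acting on `V` with `h ^ p` acting trivially commutes with `p`-th powers in `V`. -/
theorem commute_pow_of_quadratic {V : Subgroup G} (hVc : ∀ a ∈ V, ∀ b ∈ V, a * b = b * a) {g v : G} (hv : v ∈ V)
    (hw : g * v * g⁻¹ * v⁻¹ ∈ V) (hwg : g * (g * v * g⁻¹ * v⁻¹) = (g * v * g⁻¹ * v⁻¹) * g) (N p : ℕ)
    (htriv : (g ^ N) ^ p * v = v * (g ^ N) ^ p) :
    g ^ N * v ^ p * (g ^ N)⁻¹ = v ^ p := by
  set w := g * v * g⁻¹ * v⁻¹ with hwdef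
  have h1 := pow_conj_eq hVc hv hw hwg (N * p)
  rw [← hwdef] at h1
  have h2 : (g ^ N) ^ p = g ^ (N * p) := (pow_mul g N p).symm
  rw [h2] at htriv
  have h3 : g ^ (N * p) * v * (g ^ (N * p))⁻¹ = v := by
    rw [htriv]
    group
  rw [h3] at h1
  have h4 : w ^ (N * p) = 1 := by
    have : v * 1 = v * w ^ (N * p) := by rw [mul_one]; exact h1
    exact (mul_left_cancel this).symm
  have h5 := pow_conj_eq hVc hv hw hwg N
  rw [← hwdef] at h5
  have h6 : g ^ N * v ^ p * (g ^ N)⁻¹ = (g ^ N * v * (g ^ N)⁻¹) ^ p := by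
    rw [conj_pow]
  rw [h6, h5]
  have hwN : w ^ N ∈ V := V.pow_mem hw N
  have hc : Commute v (w ^ N) := hVc _ hv _ hwN
  rw [hc.mul_pow, ← pow_mul, h4, mul_one]

end elementary

section main

variable {p : ℕ} [hp : Fact p.Prime] (W : ∀ (Q : Type u) [Group Q], Subgroup Q)
  (hW2 : ∀ (Q R : Type u) [Group Q] [Group R] [Finite Q], IsPGroup p Q → ∀ φ : Q ≃* R, (W Q).map φ.toMonoidHom = W R)
  (hq : ∀ (G : Type u) [Group G] [Finite G] (P : Sylow p G),
    ¬ (((W ↥(P : Subgroup G)).map (P : Subgroup G).subtype : Subgroup G)).Normal →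
    ∃ g : G, g ∈ (P : Subgroup G) ∧ g ∉ pCore p G ∧
      ⁅⁅(Subgroup.center ↥(pCore p G)).map (pCore p G).subtype, Subgroup.zpowers g⁆, Subgroup.zpowers g⁆ = ⊥)

/-- The subgroup centralizing all conjugates of `y`. -/
def conjCentralizer {G : Type*} [Group G] (y : G) : Subgroup G where
  carrier := {c | ∀ t : G, c * (t * y * t⁻¹) = (t * y * t⁻¹) * c}
  mul_mem' := by
    intro a b ha hb t
    rw [mul_assoc, hb t, ← mul_assoc, ha t, mul_assoc]
  one_mem' := by
    intro t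
    simp
  inv_mem' := by
    intro a ha t
    have h := ha t
    calc a⁻¹ * (t * y * t⁻¹) = a⁻¹ * ((t * y * t⁻¹) * a) * a⁻¹ := by group
      _ = a⁻¹ * (a * (t * y * t⁻¹)) * a⁻¹ := by rw [h]
      _ = (t * y * t⁻¹) * a⁻¹ := by group

instance conjCentralizer_normal {G : Type*} [Group G] (y : G) : (conjCentralizer y).Normal := by
  constructor
  intro c hc a t
  have h := hc (a⁻¹ * t)
  have e : a⁻¹ * t * y * (a⁻¹ * t)⁻¹ = a⁻¹ * (t * y * t⁻¹) * a := by group
  rw [e] at h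
  calc a * c * a⁻¹ * (t * y * t⁻¹) = a * (c * (a⁻¹ * (t * y * t⁻¹) * a)) * a⁻¹ := by group
    _ = a * ((a⁻¹ * (t * y * t⁻¹) * a) * c) * a⁻¹ := by rw [h]
    _ = (t * y * t⁻¹) * (a * c * a⁻¹) := by group

include hW2 hq in
/-- **`y = z ^ p`, `z ∈ Z(P)`, commuting with `N_G(W(P))`, is central in `G`.** -/
theorem central_power_of_quadratic :
    ∀ (n : ℕ) (G : Type u) [Group G] [Finite G], Nat.card G = n → ∀ P : Sylow p G,
      Subgroup.centralizer ((pCore p G : Subgroup G) : Set G) ≤ pCore p G →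
      ∀ z ∈ (P : Subgroup G), (∀ t ∈ (P : Subgroup G), t * z = z * t) →
      (∀ g ∈ Subgroup.normalizer (((W ↥(P : Subgroup G)).map (P : Subgroup G).subtype : Subgroup G) : Set G),
        g * z ^ p * g⁻¹ = z ^ p) → z ^ p ∈ Subgroup.center G := by
  intro n
  induction n using Nat.strong_induction_on with
  | _ n ih =>
  intro G _ _ hn P hcen z hzP hzc hzN
  by_cases hnorm : (((W ↥(P : Subgroup G)).map (P : Subgroup G).subtype : Subgroup G)).Normal
  · refine Subgroup.mem_center_iff.2 fun g => ?_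
    have h1 := hzN g (by
      rw [Subgroup.normalizer_eq_top_iff.2 hnorm]
      trivial)
    calc g * z ^ p = g * z ^ p * g⁻¹ * g := by group
      _ = z ^ p * g := by rw [h1]
  obtain ⟨g, hgP, hgO, hquad⟩ := hq G P hnorm
  set O := pCore p G with hOdef
  have hOn : O.Normal := pCore_normal p G
  have hOP : O ≤ (P : Subgroup G) := pCore_le_sylow P
  -- `V = Z(O)`
  let V : Subgroup G := (Subgroup.center ↥O).map O.subtype
  have hVO : V ≤ O := Subgroup.map_subtype_le _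
  have hVc : ∀ a ∈ V, ∀ b ∈ V, a * b = b * a := by
    rintro _ ⟨a, ha, rfl⟩ _ ⟨b, hb, rfl⟩
    exact congrArg Subtype.val (Subgroup.mem_center_iff.1 ha b).symm
  have hmemV : ∀ a ∈ O, (∀ b ∈ O, b * a = a * b) → a ∈ V := by
    intro a ha h
    exact ⟨⟨a, ha⟩, Subgroup.mem_center_iff.2 fun b => Subtype.ext (h b b.2), rfl⟩
  have hVcomm : ∀ a ∈ V, ∀ b ∈ O, b * a = a * b := by
    rintro _ ⟨a, ha, rfl⟩ b hb
    exact congrArg Subtype.val (Subgroup.mem_center_iff.1 ha ⟨b, hb⟩)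
  have hVn : V.Normal := by
    constructor
    intro a ha t
    refine hmemV _ (hOn.conj_mem a (hVO ha) t) (fun b hb => ?_)
    have hb' : t⁻¹ * b * t ∈ O := by
      have := hOn.conj_mem b hb t⁻¹
      rwa [inv_inv] at this
    have h1 := hVcomm a ha _ hb'
    calc b * (t * a * t⁻¹) = t * ((t⁻¹ * b * t) * a) * t⁻¹ := by group
      _ = t * (a * (t⁻¹ * b * t)) * t⁻¹ := by rw [h1]
      _ = t * a * t⁻¹ * b := by group
  have hzO : z ∈ O := hcen (Subgroup.mem_centralizer_iff.2 fun t ht => hzc t (hOP ht))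
  have hzV : z ∈ V := hmemV z hzO (fun b hb => hzc b (hOP hb))
  -- the element `h`
  have hgfin : ∃ k : ℕ, g ^ p ^ k ∈ O := by
    obtain ⟨k, hk⟩ := P.isPGroup' ⟨g, hgP⟩
    refine ⟨k, ?_⟩
    have : g ^ p ^ k = 1 := congrArg Subtype.val hk
    rw [this]
    exact O.one_mem
  classical
  let k₀ := Nat.find hgfin
  have hk₀ : g ^ p ^ k₀ ∈ O := Nat.find_spec hgfin
  have hk₀ne : k₀ ≠ 0 := by
    intro h0
    apply hgO
    have h1 : g ^ p ^ k₀ ∈ O := hk₀
    rw [h0] at h1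
    simpa using h1
  obtain ⟨j, hj⟩ := Nat.exists_eq_succ_of_ne_zero hk₀ne
  have hgj : g ^ p ^ j ∉ O := Nat.find_min hgfin (m := j) (by omega)
  have hgjp : (g ^ p ^ j) ^ p ∈ O := by
    rw [← pow_mul, ← pow_succ]
    rw [hj] at hk₀
    exact hk₀
  -- commutes with `p`-th powers of `V`
  have hcomm : ∀ v ∈ V, g ^ p ^ j * v ^ p * (g ^ p ^ j)⁻¹ = v ^ p := by
    intro v hv
    have hw : g * v * g⁻¹ * v⁻¹ ∈ V := V.mul_mem (hVn.conj_mem v hv g) (V.inv_mem hv)
    have hwg : g * (g * v * g⁻¹ * v⁻¹) = (g * v * g⁻¹ * v⁻¹) * g := by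
      have h1 : ⁅⁅v, g⁆⁻¹, g⁆ = 1 := by
        have h2 : ⁅⁅v, g⁆⁻¹, g⁆ ∈ ⁅⁅V, Subgroup.zpowers g⁆, Subgroup.zpowers g⁆ :=
          Subgroup.commutator_mem_commutator
            ((Subgroup.commutator_mem_commutator hv (Subgroup.mem_zpowers g)) |> Subgroup.inv_mem _)
            (Subgroup.mem_zpowers g)
        rw [hquad] at h2
        exact Subgroup.mem_bot.1 h2
      have h3 : ⁅v, g⁆⁻¹ = g * v * g⁻¹ * v⁻¹ := by
        rw [commutatorElement_inv]
        rfl
      rw [h3, commutatorElement_eq_one_iff_mul_comm] at h1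
      exact h1.symm
    exact commute_pow_of_quadratic hVc hv hw hwg _ p (hVcomm v hv _ hgjp)
  -- the normal subgroup `C`
  let C : Subgroup G := conjCentralizer (z ^ p)
  have hCn : C.Normal := conjCentralizer_normal _
  have hhC : g ^ p ^ j ∈ C := by
    intro t
    have h1 := hcomm (t * z * t⁻¹) (hVn.conj_mem z hzV t)
    have e : t * z ^ p * t⁻¹ = (t * z * t⁻¹) ^ p := by rw [conj_pow]
    rw [e]
    calc g ^ p ^ j * (t * z * t⁻¹) ^ p = g ^ p ^ j * (t * z * t⁻¹) ^ p * (g ^ p ^ j)⁻¹ * g ^ p ^ j := by group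
      _ = (t * z * t⁻¹) ^ p * g ^ p ^ j := by rw [h1]
  have hyC : ∀ c ∈ C, c * z ^ p = z ^ p * c := by
    intro c hc
    have h1 := hc 1
    simpa using h1
  have hgjP : g ^ p ^ j ∈ (P : Subgroup G) := (P : Subgroup G).pow_mem hgP _
  -- `P₁ = P ∩ C`
  let T₁ : Sylow p C := sylowOfNormal P C
  let P₁ : Subgroup G := (T₁ : Subgroup C).map C.subtype
  have hP₁ : P₁ = (P : Subgroup G) ⊓ C := map_sylowOfNormal P C
  let N₁ : Subgroup G := Subgroup.normalizer (P₁ : Set G)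
  have hfr : N₁ ⊔ C = ⊤ := Sylow.normalizer_sup_eq_top T₁
  have hPN₁ : (P : Subgroup G) ≤ N₁ := by
    intro t ht
    refine Subgroup.mem_normalizer_iff.2 fun x => ?_
    rw [hP₁]
    constructor
    · rintro ⟨h1, h2⟩
      exact ⟨(P : Subgroup G).mul_mem ((P : Subgroup G).mul_mem ht h1) ((P : Subgroup G).inv_mem ht),
        hCn.conj_mem x h2 t⟩
    · rintro ⟨h1, h2⟩
      have e : x = t⁻¹ * (t * x * t⁻¹) * t⁻¹⁻¹ := by group
      rw [e]
      exact ⟨(P : Subgroup G).mul_mem ((P : Subgroup G).mul_mem ((P : Subgroup G).inv_mem ht) h1)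
        ((P : Subgroup G).inv_mem ((P : Subgroup G).inv_mem ht)), hCn.conj_mem _ h2 t⁻¹⟩
  have hN₁ne : N₁ ≠ ⊤ := by
    intro htop
    apply hgj
    have hP₁n : P₁.Normal := Subgroup.normalizer_eq_top_iff.1 htop
    have hP₁p : IsPGroup p P₁ := T₁.isPGroup'.map _
    refine le_pCore hP₁n hP₁p ?_
    rw [hP₁]
    exact ⟨hgjP, hhC⟩
  have hcard : Nat.card N₁ < n := by
    rw [← hn]
    have h1 : N₁ < ⊤ := lt_top_iff_ne_top.2 hN₁ne
    have h2 := Subgroup.card_le_of_le h1.le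
    rw [Subgroup.card_top] at h2
    refine lt_of_le_of_ne h2 fun e => hN₁ne ?_
    exact Subgroup.eq_top_of_card_eq _ e
  let P' : Sylow p N₁ := P.subtype hPN₁
  have hP' : (P' : Subgroup N₁) = (P : Subgroup G).subgroupOf N₁ := P.coe_subtype hPN₁
  have hzN₁ : z ∈ N₁ := hPN₁ hzP
  -- the functor
  let κ : (P' : Subgroup N₁) ≃* (P : Subgroup G) :=
    (MulEquiv.subgroupCongr hP').trans (Subgroup.subgroupOfEquivOfLe hPN₁)
  have hκ : ∀ u : (P' : Subgroup N₁), ((κ u : (P : Subgroup G)) : G) = ((u : N₁) : G) := fun u => rfl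
  have hW := hW2 (P' : Subgroup N₁) (P : Subgroup G) P'.isPGroup' κ
  have hmap : ∀ u : N₁, (u ∈ (W ↥(P' : Subgroup N₁)).map (P' : Subgroup N₁).subtype) ↔
      (u : G) ∈ (W ↥(P : Subgroup G)).map (P : Subgroup G).subtype := by
    intro u
    constructor
    · rintro ⟨v, hv, rfl⟩
      refine ⟨κ v, ?_, rfl⟩
      rw [← hW]
      exact ⟨v, hv, rfl⟩
    · rintro ⟨v, hv, e⟩
      rw [← hW] at hv
      obtain ⟨v', hv', rfl⟩ := hv
      refine ⟨v', hv', Subtype.ext ?_⟩
      exact e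
  have hcen' : Subgroup.centralizer ((pCore p N₁ : Subgroup N₁) : Set N₁) ≤ pCore p N₁ := by
    have hO' : O.subgroupOf N₁ ≤ pCore p N₁ := by
      refine le_pCore (Subgroup.Normal.subgroupOf hOn N₁) ?_
      exact (pCore_isPGroup (p := p) (G := G)).comap_subtype
    intro c hc
    apply hO'
    refine Subgroup.mem_subgroupOf.2 (hcen (Subgroup.mem_centralizer_iff.2 fun t ht => ?_))
    have h2 : (⟨t, hPN₁ (hOP ht)⟩ : N₁) ∈ pCore p N₁ := hO' (Subgroup.mem_subgroupOf.2 ht)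
    have h3 := Subgroup.mem_centralizer_iff.1 hc _ h2
    exact congrArg Subtype.val h3
  have hres := ih _ hcard N₁ rfl P' hcen' ⟨z, hzN₁⟩ (by
      rw [hP']
      exact Subgroup.mem_subgroupOf.2 hzP) (fun t ht => by
      rw [hP'] at ht
      exact Subtype.ext (hzc t (Subgroup.mem_subgroupOf.1 ht))) (fun u hu => by
      apply Subtype.ext
      have key : ∀ u : N₁, u ∈ Subgroup.normalizer (((W ↥(P' : Subgroup N₁)).map (P' : Subgroup N₁).subtype : Subgroup N₁) : Set N₁) →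
          ∀ x ∈ (W ↥(P : Subgroup G)).map (P : Subgroup G).subtype,
            (u : G) * x * (u : G)⁻¹ ∈ (W ↥(P : Subgroup G)).map (P : Subgroup G).subtype := by
        intro u hu x hx
        have hxP : x ∈ (P : Subgroup G) := Subgroup.map_subtype_le _ hx
        have h1 : (⟨x, hPN₁ hxP⟩ : N₁) ∈ (W ↥(P' : Subgroup N₁)).map (P' : Subgroup N₁).subtype :=
          (hmap _).2 hx
        have h2 := (Subgroup.mem_normalizer_iff.1 hu _).1 h1
        exact (hmap _).1 h2
      have hg' : (u : G) ∈ Subgroup.normalizer (((W ↥(P : Subgroup G)).map (P : Subgroup G).subtype : Subgroup G) : Set G) := by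
        refine Subgroup.mem_normalizer_iff.2 fun x => ⟨fun hx => key u hu x hx, fun hx => ?_⟩
        have := key u⁻¹ (Subgroup.inv_mem _ hu) _ hx
        have e : ((u⁻¹ : N₁) : G) * ((u : G) * x * (u : G)⁻¹) * ((u⁻¹ : N₁) : G)⁻¹ = x := by
          simp only [InvMemClass.coe_inv]
          group
        rwa [e] at this
      exact hzN (u : G) hg')
  -- conclusion
  refine Subgroup.mem_center_iff.2 fun g' => ?_
  have hmem : g' ∈ N₁ ⊔ C := by
    rw [hfr]
    trivial
  have hcent : N₁ ⊔ C ≤ Subgroup.centralizer {z ^ p} := by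
    refine sup_le (fun c hc => ?_) (fun c hc => ?_)
    · refine Subgroup.mem_centralizer_iff.2 ?_
      rintro _ rfl
      have := Subgroup.mem_center_iff.1 hres ⟨c, hc⟩
      exact (congrArg Subtype.val this).symm
    · refine Subgroup.mem_centralizer_iff.2 ?_
      rintro _ rfl
      exact (hyC c hc).symm
  have := Subgroup.mem_centralizer_iff.1 (hcent hmem) (z ^ p) rfl
  exact this.symm

end main

end Cfsg.Agent.Lib.Fusion.QuadPower
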