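import Cfsg.Agent.Lib.Fusion.Thompson2

/-!
# The strengthened Frobenius criterion
-/

set_option autoImplicit false

namespace Cfsg.Agent.Lib.Fusion.Thompson3

open Cfsg Cfsg.FusionSystem Cfsg.Agent.Lib.Fusion.Basic Cfsg.Agent.Lib.Fusion.Saturation
  Cfsg.Agent.Lib.Fusion.Saturation2 Cfsg.Agent.Lib.Fusion.Center
  Cfsg.Agent.Lib.Fusion.Model Cfsg.Agent.Lib.Fusion.ModelNormalizer Cfsg.Agent.Lib.Fusion.NormSystem
  Cfsg.Agent.Lib.Core.Basic Cfsg.Agent.Lib.FusionExt.Basic Cfsg.Agent.Lib.Fusion.KSystem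
  Cfsg.Agent.Lib.FusionExt.Normal Cfsg.Agent.Lib.FusionExt.Normal2 Cfsg.Agent.Lib.Fusion.Alperin
  Cfsg.Agent.Lib.FusionExt.Constrained Cfsg.Agent.Lib.FusionExt.Factor Cfsg.Agent.Lib.FusionExt.FactorExt
  Cfsg.Agent.Lib.FusionExt.FactorSat
  Cfsg.Agent.Lib.Fusion.WeakClosure Cfsg.Agent.Lib.Fusion.FrobThompson Cfsg.Agent.Lib.Fusion.FrobThompson2
  Cfsg.Agent.Lib.Fusion.FrobThompson3 Cfsg.Agent.Lib.Fusion.ModelEmbed2 Cfsg.Agent.Lib.Fusion.SectionFree
  Cfsg.Agent.Lib.Fusion.SectionFree2 Cfsg.Agent.Lib.Fusion.Thompson Cfsg.Agent.Lib.Fusion.Thompson2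
  Cfsg.Agent.Lib.PLocal.Thompson

universe u

variable {p : ℕ} [hp : Fact p.Prime]

section lemmas

variable {Ω : Type*} [Group Ω]

/-- An automorphism of order prime to `p`, trivial on `O` and modulo `O`, is trivial. -/
theorem eq_one_of_trivial_mod {P O : Subgroup Ω} [Finite P] (hP : IsPGroup p P) {β : MulAut P} (hc : (orderOf β).Coprime p)
    (h1 : ∀ z : P, (z : Ω) ∈ O → β z = z) (h2 : ∀ x : P, (x : Ω)⁻¹ * ((β x : P) : Ω) ∈ O) : β = 1 := by
  have h4 : ∃ k : ℕ, ∀ z : P, (z : Ω) ∈ (⊤ : Subgroup Ω) → (β ^ p ^ k) z = z := by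
    refine pow_fix_step hP β (le_top : O ≤ ⊤) (fun x _ => h2 x) ⟨0, fun z hz => ?_⟩
    rw [pow_zero, pow_one]
    exact h1 z hz
  obtain ⟨k, hk⟩ := h4
  apply eq_one_of_pow_eq_one hc (a := k)
  ext z
  rw [hk z trivial]
  rfl

/-- `J(S)` contains its centralizer in `S`. -/
theorem centralizer_thompson_le {S : Subgroup Ω} [Finite S] :
    centralizerIn S (thompsonSubgroupAOf S) ≤ thompsonSubgroupAOf S := by
  intro x hx
  obtain ⟨A, hA⟩ := exists_isMaxIn (G := S) 0 ⊤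
  have hAJ : ∀ a : S, a ∈ A → (a : Ω) ∈ thompsonSubgroupAOf S := fun a ha =>
    ⟨a, (thompsonSubgroupA_eq S).symm ▸ hA.le_jOf ha, rfl⟩
  have h1 : (⟨x, hx.1⟩ : S) ∈ A := by
    refine hA.mem_of_commute trivial (pow_zero _) (fun a ha => ?_)
    apply Subtype.ext
    exact Subgroup.mem_centralizer_iff.1 hx.2 _ (hAJ a ha)
  exact hAJ _ h1

/-- A self-centralizing normal subgroup with `Aut_F` a `p`-group cannot be bad. -/
theorem false_of_bad_of_self_centralizing {S : Subgroup Ω} {F : FusionSystem S} [Finite S] (hS : IsPGroup p S)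
    {J : Subgroup Ω} (hJn : S ≤ Subgroup.normalizer (J : Set Ω)) (hJc : centralizerIn S J ≤ J)
    (hA : IsPGroup p (F.autGroup J)) (hb : Bad F p J) : False := by
  obtain ⟨P, α, hJP, hPN, hα, h1, hco, hpr⟩ := hb
  have hPS : P ≤ S := hPN.trans inf_le_left
  haveI : Finite P := finite_of_le hPS
  haveI : Finite J := finite_of_le (hJP.trans hPS)
  let φ : J →* Ω := (autHom α).comp (Subgroup.inclusion hJP)
  have hφ : φ ∈ F.Hom J := restrict_mem F hJP (autHom_mem F hPS hα)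
  have hr : φ.range = J := by
    refine Subgroup.eq_of_le_of_card_ge ?_ (by rw [card_range F hφ])
    rintro _ ⟨j, rfl⟩
    exact hpr ⟨j, hJP j.2⟩ j.2
  obtain ⟨γ, hγ, hγv⟩ := exists_aut_of_range F hφ hr
  obtain ⟨k, hk⟩ := hA ⟨γ, hγ⟩
  have hk' : γ ^ p ^ k = 1 := congrArg Subtype.val hk
  have hpow : ∀ (n : ℕ) (j : J), (((α ^ n) (Subgroup.inclusion hJP j) : P) : Ω) = (((γ ^ n) j : J) : Ω) := by
    intro n
    induction n with
    | zero => intro j; rfl
    | succ m ih =>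
      intro j
      rw [pow_succ', pow_succ', MulAut.mul_apply, MulAut.mul_apply]
      have e : (α ^ m) (Subgroup.inclusion hJP j) = Subgroup.inclusion hJP ((γ ^ m) j) := Subtype.ext (ih j)
      rw [e, hγv]
      rfl
  have hβc : (orderOf (α ^ p ^ k)).Coprime p := Nat.Coprime.coprime_dvd_left (orderOf_pow_dvd _) hco
  have hfx : ∀ z : P, (z : Ω) ∈ J → (α ^ p ^ k) z = z := by
    intro z hz
    have h2 := hpow (p ^ k) ⟨z, hz⟩
    rw [hk'] at h2
    exact Subtype.ext h2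
  have hβ1 : α ^ p ^ k = 1 := by
    refine eq_one_of_trivial_mod (hS.to_le hPS) hβc hfx (fun x => ?_)
    apply hJc
    refine ⟨S.mul_mem (S.inv_mem (hPS x.2)) (hPS ((α ^ p ^ k) x).2), Subgroup.mem_centralizer_iff.2 fun j hj => ?_⟩
    have hj' : (j : Ω) ∈ J := hj
    have hxN := hJn (hPS x.2)
    have hm : (x : Ω) * j * (x : Ω)⁻¹ ∈ J := (Subgroup.mem_normalizer_iff.1 hxN j).1 hj'
    let jP : P := ⟨j, hJP hj'⟩
    have h2 := hfx (x * jP * x⁻¹) hm
    rw [map_mul, map_mul, map_inv, hfx jP hj'] at h2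
    have h3 : (((α ^ p ^ k) x : P) : Ω) * j * (((α ^ p ^ k) x : P) : Ω)⁻¹ = (x : Ω) * j * (x : Ω)⁻¹ :=
      congrArg Subtype.val h2
    generalize (((α ^ p ^ k) x : P) : Ω) = b at h3 ⊢
    have h4 : b * j = (x : Ω) * j * (x : Ω)⁻¹ * b := by
      rw [← h3]
      group
    calc j * ((x : Ω)⁻¹ * b) = (x : Ω)⁻¹ * ((x : Ω) * j * (x : Ω)⁻¹ * b) := by group
      _ = (x : Ω)⁻¹ * (b * j) := by rw [h4]
      _ = (x : Ω)⁻¹ * b * j := by group
  exact h1 (eq_one_of_pow_eq_one hco hβ1)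

end lemmas

section central

variable {Ω : Type u} [Group Ω] {S : Subgroup Ω} [Finite S] {F : FusionSystem S}

/-- A subgroup centric in `C_F(Z(S))` is centric in `F`. -/
theorem isCentric_of_central (hS : IsPGroup p S) (hF : F.IsSaturated p) {Z : Subgroup Ω}
    (hZ : Z = S ⊓ Subgroup.centralizer (S : Set Ω)) {E : FusionSystem S} (hE : ∀ P, E.Hom P = F.centralizerHom Z P)
    {R : Subgroup Ω} (hRc : E.IsCentric R) : F.IsCentric R := by
  have hRS : R ≤ S := hRc.1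
  have hZS : Z ≤ S := hZ ▸ inf_le_left
  have hZcen : ∀ z ∈ Z, ∀ s ∈ S, s * z = z * s := fun z hz s hs => by
    rw [hZ] at hz
    exact Subgroup.mem_centralizer_iff.1 hz.2 s hs
  have hT : centralizerIn S Z = S := by
    refine inf_eq_left.2 fun s hs => Subgroup.mem_centralizer_iff.2 fun z hz => ?_
    exact (hZcen z hz s hs).symm
  have hSC : S ≤ Subgroup.centralizer (Z : Set Ω) := inf_eq_left.1 hT
  have hZR : Z ≤ R := by
    refine le_trans ?_ (hRc.2 R (isConj_refl E hRS))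
    intro z hz
    exact ⟨hZS hz, Subgroup.mem_centralizer_iff.2 fun r hr => hZcen z hz r (hRS hr)⟩
  have hZfn : F.IsFullyNormalized Z := by
    refine ⟨hZS, fun Q' _ => ?_⟩
    have hT' : normalizerIn S Z = S := inf_eq_left.2 (hSC.trans (Subgroup.centralizer_le_normalizer _))
    rw [hT']
    exact card_le_of_le_finite inf_le_left
  have hrec : F.IsReceptive Z := isReceptive_of_isFullyNormalized F hS hF hZfn
  refine ⟨hRS, ?_⟩
  rintro _ ⟨φ, hφ, rfl⟩ x hx
  obtain ⟨ψ, hψ, hψ1, hψ2, hψ3, hψ4⟩ := exists_inv F hφ rfl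
  obtain ⟨Z', hZ'⟩ : ∃ Z' : Subgroup Ω, Z' = (Z.subgroupOf R).map φ := ⟨_, rfl⟩
  have hZ'r : Z' ≤ φ.range := by
    rw [hZ']
    rintro _ ⟨z, -, rfl⟩
    exact ⟨z, rfl⟩
  let φ₀ : Z' →* Ω := ψ.comp (Subgroup.inclusion hZ'r)
  have hφ₀ : φ₀ ∈ F.Hom Z' := restrict_mem F hZ'r hψ
  have hφ₀v : ∀ (z : R) (h : φ z ∈ Z'), φ₀ ⟨φ z, h⟩ = z := fun z h => hψ2 z _
  have hZ'mem : ∀ z : R, (z : Ω) ∈ Z → φ z ∈ Z' := fun z hz => by
    rw [hZ']
    exact ⟨z, hz, rfl⟩
  have hφ₀r : φ₀.range = Z := by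
    ext y
    constructor
    · rintro ⟨⟨y, hy⟩, rfl⟩
      rw [hZ'] at hy
      obtain ⟨z, hz, rfl⟩ := hy
      have e := hφ₀v z (hZ' ▸ ⟨z, hz, rfl⟩)
      rw [e]
      exact hz
    · intro hy
      exact ⟨⟨φ ⟨y, hZR hy⟩, hZ'mem ⟨y, hZR hy⟩ hy⟩, hφ₀v ⟨y, hZR hy⟩ _⟩
  obtain ⟨T, hTe⟩ : ∃ T : Subgroup Ω, T = φ.range ⊔ centralizerIn S φ.range := ⟨_, rfl⟩
  have hrT : φ.range ≤ T := hTe ▸ le_sup_left
  have hcT : centralizerIn S φ.range ≤ T := hTe ▸ le_sup_right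
  have hTC : T ≤ centralizerIn S Z' := by
    rw [hTe]
    refine sup_le ?_ ?_
    · rintro _ ⟨r, rfl⟩
      refine ⟨val_mem F hφ r, Subgroup.mem_centralizer_iff.2 fun w hw => ?_⟩
      rw [hZ'] at hw
      obtain ⟨z, hz, rfl⟩ := hw
      rw [← map_mul, ← map_mul]
      congr 1
      exact Subtype.ext (hZcen z hz r (hRS r.2)).symm
    · rintro c ⟨hc1, hc2⟩
      exact ⟨hc1, Subgroup.centralizer_le hZ'r hc2⟩
  obtain ⟨χ, hχ, hχv⟩ := IsReceptive.exists_extension F hrec hφ₀ hφ₀r (hTC.trans (centralizerIn_le_extender _)) (hZ'r.trans hrT)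
  have hφT : ∀ r : R, φ r ∈ T := fun r => hrT ⟨r, rfl⟩
  let θ : R →* Ω := χ.comp (φ.codRestrict T hφT)
  have hθ : θ ∈ F.Hom R := F.comp_mem hφ hχ hφT
  have hθz : ∀ z : R, (z : Ω) ∈ Z → θ z = z := by
    intro z hz
    have h1 := hχv ⟨φ z, hZ'mem z hz⟩
    rw [hφ₀v] at h1
    exact h1
  have hθE : θ ∈ E.Hom R := by
    rw [hE]
    have hle : R ⊔ Z ≤ R := sup_le le_rfl hZR
    refine ⟨hθ, hRS.trans hT.ge, fun r => hT.ge (val_mem F hθ r), θ.comp (Subgroup.inclusion hle), restrict_mem F hle hθ,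
      fun r => rfl, fun z => hθz ⟨z, hZR z.2⟩ z.2⟩
  have hcen := hRc.2 θ.range ⟨θ, hθE, rfl⟩
  have hxT : x ∈ T := hcT hx
  have hχx : χ ⟨x, hxT⟩ ∈ centralizerIn S θ.range := by
    refine ⟨val_mem F hχ _, Subgroup.mem_centralizer_iff.2 fun t ht => ?_⟩
    obtain ⟨r, rfl⟩ := ht
    show χ ⟨φ r, hφT r⟩ * χ ⟨x, hxT⟩ = χ ⟨x, hxT⟩ * χ ⟨φ r, hφT r⟩
    rw [← map_mul, ← map_mul]
    congr 1
    exact Subtype.ext (Subgroup.mem_centralizer_iff.1 hx.2 (φ r) ⟨r, rfl⟩)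
  obtain ⟨r, hr⟩ := hcen hχx
  have h2 : φ.codRestrict T hφT r = ⟨x, hxT⟩ := F.injective_of_mem hχ hr
  exact ⟨r, congrArg Subtype.val h2⟩

/-- `C_F(Z(S))` inherits section-freeness. -/
theorem isSectionFree_central {H : Type*} [Group H] (hS : IsPGroup p S) (hF : F.IsSaturated p) {Z : Subgroup Ω}
    (hZ : Z = S ⊓ Subgroup.centralizer (S : Set Ω)) {E : FusionSystem S} (hE : ∀ P, E.Hom P = F.centralizerHom Z P)
    (hEs : E.IsSaturated p) (hfree : F.IsSectionFree p H) : E.IsSectionFree p H := by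
  intro R hRfn hRc N hN L _ ι hM
  have hRS := hRc.1
  have hEF : ∀ P, E.Hom P ⊆ F.Hom P := fun P φ h => by
    rw [hE] at h
    exact h.1
  have hNE : ∀ P, N.Hom P ⊆ E.Hom P := fun P φ h => by
    rw [hN] at h
    exact h.1
  exact not_involves_of_transport hS hF (isCentric_of_central hS hF hZ hE hRc)
    (fun Rs h1 h2 _ N' hN' L' _ ι' hM' => hfree Rs h1 h2 N' hN' L' ι' hM') le_rfl
    (fun P => (hNE P).trans (hEF P)) (isSaturated_normalizerSystem hS E hEs hRfn N hN)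
    (normalizerSystem_isNormal E hRS hN) hM

/-- `Z` is normal in `C_F(Z)`. -/
theorem isNormal_central {Z : Subgroup Ω} (hZ : Z = S ⊓ Subgroup.centralizer (S : Set Ω)) {E : FusionSystem S}
    (hE : ∀ P, E.Hom P = F.centralizerHom Z P) : E.IsNormal Z := by
  have hZS : Z ≤ S := hZ ▸ inf_le_left
  have hT : centralizerIn S Z = S := by
    refine inf_eq_left.2 fun s hs => Subgroup.mem_centralizer_iff.2 fun z hz => ?_
    rw [hZ] at hz
    exact (Subgroup.mem_centralizer_iff.1 hz.2 s hs).symm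
  refine ⟨hZS, fun R φ hφ => ?_⟩
  rw [hE] at hφ
  obtain ⟨h1, hRC, hval, ψ, hψ, hψ1, hψ2⟩ := hφ
  refine ⟨ψ, ?_, hψ1, ?_⟩
  · rw [hE]
    have hle : (R ⊔ Z) ⊔ Z ≤ R ⊔ Z := sup_le le_rfl le_sup_right
    refine ⟨hψ, sup_le hRC (hZS.trans hT.ge), fun x => hT.ge (val_mem F hψ x), ψ.comp (Subgroup.inclusion hle),
      restrict_mem F hle hψ, fun x => rfl, fun x => hψ2 x⟩
  · ext y
    constructor
    · rintro ⟨x, hx, rfl⟩
      have e := hψ2 ⟨x, hx⟩
      have e' : ψ x = x := e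
      rw [e']
      exact hx
    · intro hy
      exact ⟨⟨y, Subgroup.mem_sup_right hy⟩, hy, hψ2 ⟨y, hy⟩⟩

end central

section factor

variable {Ω : Type*} [Group Ω] {S : Subgroup Ω} [Finite S] {F : FusionSystem S} 
  {Ω' : Type*} [Group Ω'] {S' : Subgroup Ω'} {θ : S →* Ω'} {E : FusionSystem S'} {O : Subgroup Ω}

/-- Automorphism groups of a factor system are images. -/
theorem isPGroup_autGroup_factor (hsc : F.StronglyClosed O) (hE : F.IsFactorSystem O θ E) {U : Subgroup Ω'} (hU : U ≤ S')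
    (hA : IsPGroup p (F.autGroup (preimageAlong θ U))) : IsPGroup p (E.autGroup U) := by
  obtain ⟨hOS, hθ, hr, hiff⟩ := hE
  rintro ⟨α', hα'⟩
  have hUr : U ≤ θ.range := hr ▸ hU
  have hm := autHom_mem E hU hα'
  obtain ⟨-, φ, hφ, hind⟩ := (hiff U _).1 hm
  have hrange := range_eq_preimage F θ hsc hθ hUr hφ hind
  rw [autHom_range] at hrange
  obtain ⟨hP, hφS, hPP', hform⟩ := hind
  obtain ⟨β, hβ, hβv⟩ := exists_aut_of_range F hφ hrange
  obtain ⟨k, hk⟩ := hA ⟨β, hβ⟩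
  have hk' : β ^ p ^ k = 1 := congrArg Subtype.val hk
  have hmem : ∀ x : ↥(preimageAlong θ U), ((β x : ↥(preimageAlong θ U)) : Ω) ∈ S := fun x => hP (β x).2
  have hcomp : ∀ x : ↥(preimageAlong θ U), θ ⟨β x, hmem x⟩ = ((α' ⟨θ ⟨x, hP x.2⟩, hPP' x⟩ : U) : Ω') := by
    intro x
    have h2 := hform x
    have e : (⟨β x, hmem x⟩ : S) = ⟨φ x, hφS x⟩ := Subtype.ext (hβv x)
    rw [e]
    exact h2.symm
  have hpow : ∀ (n : ℕ) (x : ↥(preimageAlong θ U)), θ ⟨(β ^ n) x, hP ((β ^ n) x).2⟩ =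
      (((α' ^ n) ⟨θ ⟨x, hP x.2⟩, hPP' x⟩ : U) : Ω') := by
    intro n
    induction n with
    | zero => intro x; rfl
    | succ m ih =>
      intro x
      rw [pow_succ', pow_succ', MulAut.mul_apply, MulAut.mul_apply]
      have e1 := hcomp ((β ^ m) x)
      have e2 : (⟨θ ⟨(β ^ m) x, hP ((β ^ m) x).2⟩, hPP' ((β ^ m) x)⟩ : U) = (α' ^ m) ⟨θ ⟨x, hP x.2⟩, hPP' x⟩ :=
        Subtype.ext (ih x)
      rw [e2] at e1
      exact e1
  refine ⟨k, Subtype.ext ?_⟩
  show α' ^ p ^ k = 1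
  ext y
  obtain ⟨x, hx⟩ := exists_preimage θ hUr y.2
  have e1 : (⟨θ ⟨x, hP x.2⟩, hPP' x⟩ : U) = y := Subtype.ext hx
  have h2 := hpow (p ^ k) x
  rw [e1, hk'] at h2
  rw [← h2]
  exact hx

end factor

section char

/-- `UU W S` is characteristic in `S`. -/
theorem UU_subgroupOf_char {Ω : Type u} [Group Ω] {S : Subgroup Ω} [Finite S] (hS : IsPGroup p S) (W : ∀ (Q : Type u) [Group Q], Subgroup Q)
    (hW2 : ∀ (Q R : Type u) [Group Q] [Group R] [Finite Q], IsPGroup p Q → ∀ φ : Q ≃* R, (W Q).map φ.toMonoidHom = W R) :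
    ((UU W S).subgroupOf S).Characteristic := by
  have e : (UU W S).subgroupOf S = W S := Subgroup.comap_map_eq_self_of_injective S.subtype_injective _
  rw [e]
  refine ⟨fun ϕ => ?_⟩
  ext x
  constructor
  · intro hx
    have h1 := hW2 S S hS ϕ.symm
    have h2 : ϕ.symm (ϕ x) ∈ W S := by
      rw [← h1]
      exact ⟨ϕ x, hx, rfl⟩
    simpa using h2
  · intro hx
    have h1 := hW2 S S hS ϕ
    show ϕ x ∈ W S
    rw [← h1]
    exact ⟨x, hx, rfl⟩

variable {Ω : Type*} [Group Ω] {S : Subgroup Ω}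

/-- The preimage of a characteristic subgroup of `S/Z(S)` is characteristic in `S`. -/
theorem char_preimage {Z : Subgroup Ω} (hZ : Z = S ⊓ Subgroup.centralizer (S : Set Ω)) [hn : (Z.subgroupOf S).Normal]
    {U : Subgroup (↥S ⧸ Z.subgroupOf S)} (hU : (U.subgroupOf ⊤).Characteristic) :
    ((preimageAlong (QuotientGroup.mk' (Z.subgroupOf S)) U).subgroupOf S).Characteristic := by
  have hZc : Z.subgroupOf S = Subgroup.center S := by
    ext x
    rw [Subgroup.mem_subgroupOf, hZ, Subgroup.mem_center_iff]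
    constructor
    · rintro ⟨-, h2⟩ y
      exact Subtype.ext (Subgroup.mem_centralizer_iff.1 h2 y y.2)
    · intro h
      exact ⟨x.2, Subgroup.mem_centralizer_iff.2 fun y hy => congrArg Subtype.val (h ⟨y, hy⟩)⟩
  refine ⟨fun σ => ?_⟩
  have hσZ : (Z.subgroupOf S).map σ.toMonoidHom = Z.subgroupOf S := by
    rw [hZc]
    ext r
    constructor
    · rintro ⟨q, hq, rfl⟩
      refine Subgroup.mem_center_iff.2 fun y => ?_
      obtain ⟨y, rfl⟩ := σ.surjective y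
      have h := Subgroup.mem_center_iff.1 hq y
      show σ y * σ q = σ q * σ y
      rw [← map_mul, ← map_mul, h]
    · intro hr
      obtain ⟨q, rfl⟩ := σ.surjective r
      refine ⟨q, Subgroup.mem_center_iff.2 fun y => ?_, rfl⟩
      have h := Subgroup.mem_center_iff.1 hr (σ y)
      apply σ.injective
      rw [map_mul, map_mul]
      exact h
  let τ : (↥S ⧸ Z.subgroupOf S) ≃* (↥S ⧸ Z.subgroupOf S) := QuotientGroup.congr _ _ σ hσZ
  have hτ : ∀ x : S, τ (x : ↥S ⧸ Z.subgroupOf S) = ((σ x : S) : ↥S ⧸ Z.subgroupOf S) := fun x => rfl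
  have hUτ : ∀ y : ↥S ⧸ Z.subgroupOf S, τ y ∈ U ↔ y ∈ U := by
    intro y
    let ϕ : ↥(⊤ : Subgroup (↥S ⧸ Z.subgroupOf S)) ≃* ↥(⊤ : Subgroup (↥S ⧸ Z.subgroupOf S)) :=
      (Subgroup.topEquiv.trans τ).trans Subgroup.topEquiv.symm
    have h1 := hU.fixed ϕ
    have h2 : (⟨y, trivial⟩ : ↥(⊤ : Subgroup (↥S ⧸ Z.subgroupOf S))) ∈ (U.subgroupOf ⊤).comap ϕ.toMonoidHom ↔
        (⟨y, trivial⟩ : ↥(⊤ : Subgroup (↥S ⧸ Z.subgroupOf S))) ∈ U.subgroupOf ⊤ := by
      rw [h1]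
    exact h2
  ext x
  have e1 : ∀ s : S, s ∈ (preimageAlong (QuotientGroup.mk' (Z.subgroupOf S)) U).subgroupOf S ↔ (s : ↥S ⧸ Z.subgroupOf S) ∈ U := by
    intro s
    rw [Subgroup.mem_subgroupOf, mem_preimageAlong]
    constructor
    · rintro ⟨_, h⟩
      exact h
    · intro h
      exact ⟨s.2, h⟩
  show σ x ∈ (preimageAlong (QuotientGroup.mk' (Z.subgroupOf S)) U).subgroupOf S ↔
    x ∈ (preimageAlong (QuotientGroup.mk' (Z.subgroupOf S)) U).subgroupOf S
  rw [e1, e1, ← hτ, hUτ]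

end char

section main

/-- **The strengthened Frobenius criterion.** -/
theorem isInner_of_char_aut : ∀ (n : ℕ) (Ω : Type u) [Group Ω] (S : Subgroup Ω) [Finite S] (F : FusionSystem S),
    Nat.card S = n → IsPGroup p S → F.IsSaturated p → (p ≠ 2 ∨ F.IsSectionFree p (Equiv.Perm (Fin 4))) →
    (∀ Q : Subgroup Ω, Q ≤ S → Q ≠ ⊥ → (Q.subgroupOf S).Characteristic → IsPGroup p (F.autGroup Q)) → IsInner F := by
  intro n
  induction n using Nat.strong_induction_on with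
  | _ n ih =>
  intro Ω _ S _ F hn hS hF hC hA
  by_contra hni
  -- `S` is nontrivial
  have hTne : Nontrivial S := by
    obtain ⟨P, α, hPS, -, h1, -⟩ := exists_aut_of_not_inner hS hF hni
    by_contra hc
    rw [not_nontrivial_iff_subsingleton] at hc
    apply h1
    ext x
    have e' := Subsingleton.elim (⟨_, hPS (α x).2⟩ : S) ⟨_, hPS x.2⟩
    have e'' := congrArg Subtype.val e'
    exact e''
  have hNT : ∀ (W : ∀ (Q : Type u) [Group Q], Subgroup Q), W S ≠ ⊥ → UU W S ≠ ⊥ := by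
    intro W hW e
    apply hW
    rw [eq_bot_iff]
    intro x hx
    have h3 : (x : Ω) ∈ UU W S := ⟨x, hx, rfl⟩
    rw [e] at h3
    exact Subgroup.mem_bot.2 (Subtype.ext (Subgroup.mem_bot.1 h3))
  rcases hit_of_not_inner hS F hF hC hni with hb | hb
  · have hJS : UU WJ S ≤ S := UU_le WJ S
    refine false_of_bad_of_self_centralizing hS
      (fun s hs => normalizer_le_UU WJ (fun Q R _ _ _ h φ => WJ_map (p := p) Q R h φ) hS (Subgroup.le_normalizer hs))
      centralizer_thompson_le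
      (hA _ hJS (hNT WJ (WJ_ne_bot (p := p) S hS hTne))
        (UU_subgroupOf_char hS WJ (fun Q R _ _ _ h φ => WJ_map (p := p) Q R h φ))) hb
  · obtain ⟨Z, hZ⟩ : ∃ Z : Subgroup Ω, Z = S ⊓ Subgroup.centralizer (S : Set Ω) := ⟨_, rfl⟩
    rw [← hZ] at hb
    have hZU : Z = UU WC S := hZ.trans (UU_WC S).symm
    have hZS : Z ≤ S := hZ ▸ inf_le_left
    have hZne : Z ≠ ⊥ := hZU ▸ hNT WC (WC_ne_bot (p := p) S hS hTne)
    have hT : centralizerIn S Z = S := by
      refine inf_eq_left.2 fun s hs => Subgroup.mem_centralizer_iff.2 fun z hz => ?_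
      rw [hZ] at hz
      exact (Subgroup.mem_centralizer_iff.1 hz.2 s hs).symm
    have hZfc : F.IsFullyCentralized Z := by
      refine ⟨hZS, fun Q' _ => ?_⟩
      rw [hT]
      exact card_le_of_le_finite inf_le_left
    obtain ⟨E₀, hE₀⟩ := exists_centralizerSystem F hZS
    have hE₀s := isSaturated_centralizerSystem hS F hF hZfc E₀ hE₀
    obtain ⟨E, hE1, hE2, -⟩ := exists_cast_full (p := p) hT E₀
    have hEs := hE2 hE₀s
    have hEh : ∀ P, E.Hom P = F.centralizerHom Z P := fun P => (hE1 P).trans (hE₀ P)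
    have hEF : ∀ P, E.Hom P ⊆ F.Hom P := fun P φ h => by
      rw [hEh] at h
      exact h.1
    have hEC : p ≠ 2 ∨ E.IsSectionFree p (Equiv.Perm (Fin 4)) :=
      hC.imp id fun h => isSectionFree_central hS hF hZ hEh hEs h
    have hZn : E.IsNormal Z := isNormal_central hZ hEh
    have hsc := isNormal_stronglyClosed E hZn
    haveI hO'n : (Z.subgroupOf S).Normal :=
      (Subgroup.normal_subgroupOf_iff_le_normalizer hZS).2 (sc_le_normalizer E hsc)
    let θ : S →* (↥S ⧸ Z.subgroupOf S) := QuotientGroup.mk' (Z.subgroupOf S)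
    have hθ : ∀ s : S, θ s = 1 ↔ (s : Ω) ∈ Z := by
      intro s
      show ((s : ↥S ⧸ Z.subgroupOf S)) = 1 ↔ _
      rw [QuotientGroup.eq_one_iff]
      rfl
    have hθr : θ.range = ⊤ := MonoidHom.range_eq_top.2 (QuotientGroup.mk'_surjective _)
    obtain ⟨Ē, hĒ⟩ := exists_isFactorSystem E θ hsc hθ hθr
    have hĒs : Ē.IsSaturated p := image_isSaturated θ E Ē hS hEs
      (isSurjectiveMorphism_of_isFactorSystem E θ hS hEs hsc hĒ)
    have hĒC : p ≠ 2 ∨ Ē.IsSectionFree p (Equiv.Perm (Fin 4)) :=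
      hEC.imp id fun h => isSectionFree_factor hS hEs hZn h θ Ē hĒ
    have hS'p : IsPGroup p ↥(⊤ : Subgroup (↥S ⧸ Z.subgroupOf S)) :=
      IsPGroup.to_subgroup (hS.to_quotient _) _
    have hcard : Nat.card ↥(⊤ : Subgroup (↥S ⧸ Z.subgroupOf S)) < n := by
      have h7 := Subgroup.card_mul_index (Z.subgroupOf S)
      have h8 : Nat.card ↥(Z.subgroupOf S) = Nat.card Z :=
        Nat.card_congr (Subgroup.subgroupOfEquivOfLe hZS).toEquiv
      have h9 : (Z.subgroupOf S).index = Nat.card ↥(⊤ : Subgroup (↥S ⧸ Z.subgroupOf S)) := by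
        rw [Subgroup.card_top]
        rfl
      rw [h8, h9, hn] at h7
      have h10 : 2 ≤ Nat.card Z := by
        haveI := finite_of_le hZS
        have h11 : Nontrivial Z := (Subgroup.nontrivial_iff_ne_bot _).2 hZne
        exact Finite.one_lt_card
      have h11 : 0 < Nat.card ↥(⊤ : Subgroup (↥S ⧸ Z.subgroupOf S)) := Nat.card_pos
      calc Nat.card ↥(⊤ : Subgroup (↥S ⧸ Z.subgroupOf S))
          < 2 * Nat.card ↥(⊤ : Subgroup (↥S ⧸ Z.subgroupOf S)) := by omega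
        _ ≤ Nat.card Z * Nat.card ↥(⊤ : Subgroup (↥S ⧸ Z.subgroupOf S)) := Nat.mul_le_mul_right _ h10
        _ = n := h7
    have hĒi : IsInner Ē := by
      refine ih _ hcard _ ⊤ Ē rfl hS'p hĒs hĒC fun U _ hUne hUc => ?_
      have hYS : preimageAlong θ U ≤ S := preimageAlong_le θ U
      have hYne : preimageAlong θ U ≠ ⊥ := by
        intro e
        apply hZne
        rw [eq_bot_iff, ← e]
        exact le_preimageAlong θ hθ hZS U
      have hY := hA _ hYS hYne (char_preimage hZ hUc)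
      refine isPGroup_autGroup_factor hsc hĒ le_top ?_
      exact hY.to_le fun β hβ => (mem_autGroup_iff F hYS β).2 (hEF _ (autHom_mem E hYS hβ))
    obtain ⟨P, α, hZP, hPC, hα, h1, hco, hfx⟩ := hb
    have hPS : P ≤ S := hT ▸ hPC
    haveI : Finite P := finite_of_le hPS
    have hαE : α ∈ E.autGroup P := by
      rw [mem_autGroup_iff E hPS, hEh P]
      have hle : P ⊔ Z ≤ P := sup_le le_rfl hZP
      refine ⟨autHom_mem F hPS hα, hPC, fun x => hPC (α x).2, (autHom α).comp (Subgroup.inclusion hle),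
        restrict_mem F hle (autHom_mem F hPS hα), fun x => rfl, fun x => ?_⟩
      have e := hfx ⟨x, hZP x.2⟩ x.2
      have e' := congrArg Subtype.val e
      exact e'
    apply h1
    refine eq_one_of_trivial_mod (O := Z) (hS.to_le hPS) hco hfx fun x => ?_
    have hPe : P = preimageAlong θ (imageAlong θ P) :=
      (preimage_image_eq θ hPS (by
        rintro _ ⟨t, ht, rfl⟩
        exact hZP ((hθ t).1 ht))).symm
    revert α x
    generalize imageAlong θ P = P' at hPe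
    subst hPe
    intro α hα h1 hco hfx hαE x
    exact trivial_mod_of_inner hS hsc hĒ hĒi le_top hαE hco x

end main

end Cfsg.Agent.Lib.Fusion.Thompson3
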