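import Cfsg.Agent.Lib.Fusion.PowerCenter
import Cfsg.Agent.Lib.Fusion.QuadPower
import Cfsg.Agent.Lib.Fusion.Thompson3
import Cfsg.Agent.Lib.PGroups.MetabelianReplacement

/-!
# Thompson replacement relative to a subgroup, and the choice of the subgroup `W`
-/

set_option autoImplicit false

namespace Cfsg.Agent.Lib.Fusion.Generation2

open Cfsg Cfsg.FusionSystem Cfsg.Agent.Lib.Fusion.Basic Cfsg.Agent.Lib.Fusion.Saturation
  Cfsg.Agent.Lib.Fusion.Saturation2 Cfsg.Agent.Lib.Fusion.LocalGlobal Cfsg.Agent.Lib.Fusion.Center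
  Cfsg.Agent.Lib.Fusion.Model Cfsg.Agent.Lib.Fusion.ModelNormalizer Cfsg.Agent.Lib.Fusion.NormSystem
  Cfsg.Agent.Lib.Core.Basic Cfsg.Agent.Lib.FusionExt.Basic Cfsg.Agent.Lib.Fusion.KSystem
  Cfsg.Agent.Lib.Fusion.WeakClosure Cfsg.Agent.Lib.Fusion.FrobThompson2 Cfsg.Agent.Lib.Core.SylowFacts
  Cfsg.Agent.Lib.Fusion.Generation Cfsg.Agent.Lib.Fusion.PowerCenter

universe u

open scoped commutatorElement

section replacement

open Subgroup Cfsg.Agent.Lib.QuadAct.Replacement Cfsg.Agent.Lib.QuadAct.Basic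
  Cfsg.Agent.Lib.PGroups.DStar Cfsg.Agent.Lib.PGroups.MetabelianReplacement

variable {P : Type*} [Group P] [Finite P] {p : ℕ} [Fact p.Prime]

/-- **Thompson replacement relative to a subgroup.** Let `V` be an abelian normal subgroup of the `p`-group `P` contained in every
abelian subgroup of largest order inside `N`. If some abelian subgroup of largest order is not in `N`, then one of them, not
in `N`, is normalized by `V`. -/
theorem exists_normalized_not_le (hP : IsPGroup p P) (V N : Subgroup P) (hVn : V.Normal) (hVa : IsMulCommutative V)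
    (hVC : ∀ M ∈ Cfsg.maxAbelianSubgroups P, M ≤ N → V ≤ M) (A : Subgroup P)
    (hA : A ∈ Cfsg.maxAbelianSubgroups P) (hAN : ¬ A ≤ N) :
    ∃ D ∈ Cfsg.maxAbelianSubgroups P, ¬ D ≤ N ∧ ⁅V, D⁆ ≤ D ⊓ V := by
  obtain ⟨D, ⟨hD, hDN⟩, hmax⟩ := Set.exists_max_image
    {D : Subgroup P | D ∈ Cfsg.maxAbelianSubgroups P ∧ ¬ D ≤ N}
    (fun D => Nat.card (D ⊓ V : Subgroup P)) (Set.toFinite _) ⟨A, hA, hAN⟩
  refine ⟨D, hD, hDN, ?_⟩
  have hbest : IsBest V D := isBest_of_max hD hVa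
  have hAV : D ≤ normalizer (V : Set P) := by
    rw [normalizer_eq_top_iff.mpr hVn]
    exact le_top
  have hab : ⁅D, D⁆ ≤ centralizer (V : Set P) := by
    rw [commutator_self_eq_bot hD.1]
    exact bot_le
  obtain ⟨h1, h2⟩ := replacement_of_best hVa hAV hab hbest (U := V) le_rfl
  set B := D ⊓ centralizer ((⁅V, D⁆ : Subgroup P) : Set P) with hB
  set Y := V ⊓ centralizer (B : Set P) with hY
  have hE := inf_centralizer_eq hD hVa
  rw [hE] at h2
  have hBD : B ≤ D := inf_le_left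
  have hYV : Y ≤ V := inf_le_left
  have hcomm : ∀ b ∈ B, ∀ y ∈ Y, b * y = y * b := fun b hb y hy =>
    mem_centralizer_iff.mp hy.2 b hb
  have hBa : IsMulCommutative B :=
    ⟨⟨fun a b => Subtype.ext (comm_of hD.1 (hBD a.2) (hBD b.2))⟩⟩
  have hYa : IsMulCommutative Y :=
    ⟨⟨fun a b => Subtype.ext (comm_of hVa (hYV a.2) (hYV b.2))⟩⟩
  have hA'a := sup_comm_of hBa hYa hcomm
  have hcard := card_sup_of_comm hcomm
  have hoff : Nat.card B * Nat.card Y = Nat.card D * Nat.card (D ⊓ V : Subgroup P) := by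
    have := h1
    unfold offProd at this
    rw [hE] at this
    exact this
  have hinf : B ⊓ Y ≤ D ⊓ V := fun x hx => ⟨hBD hx.1, hYV hx.2⟩
  have hinfc := Nat.card_le_card_of_injective _ (inclusion_injective hinf)
  have hEpos : 0 < Nat.card (D ⊓ V : Subgroup P) := Nat.card_pos
  have hge : Nat.card D ≤ Nat.card (B ⊔ Y : Subgroup P) := by
    by_contra hlt
    push Not at hlt
    have h3 : Nat.card (B ⊔ Y : Subgroup P) * Nat.card (B ⊓ Y : Subgroup P) <
        Nat.card D * Nat.card (D ⊓ V : Subgroup P) :=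
      Nat.mul_lt_mul_of_lt_of_le hlt hinfc hEpos
    omega
  have hmem : (B ⊔ Y : Subgroup P) ∈ Cfsg.maxAbelianSubgroups P :=
    ⟨hA'a, fun B' hB' => (hD.2 B' hB').trans hge⟩
  have hEY : D ⊓ V ≤ Y := by
    rw [h2]
    exact le_sup_right
  by_cases hle : B ⊔ Y ≤ N
  · -- `V` lies in the replaced subgroup
    have hVle := hVC _ hmem hle
    have hVY : V ≤ Y := by
      intro v hv
      have hBY : B ≤ normalizer (Y : Set P) := by
        refine le_trans ?_ (centralizer_le_normalizer (Y : Set P))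
        intro b hb
        rw [mem_centralizer_iff]
        intro y hy
        exact (hcomm b hb y hy).symm
      obtain ⟨b, hb, y, hy, rfl⟩ := Cfsg.Agent.Lib.FusionExt.Normal.exists_mul_of_mem_sup' hBY (hVle hv)
      have hbV : b ∈ V := by
        have := V.mul_mem hv (V.inv_mem (hYV hy))
        simpa using this
      exact Y.mul_mem (hEY ⟨hBD hb, hbV⟩) hy
    set W := ⁅V, D⁆ with hW
    have hWV : W ≤ V := commutator_le_of_le_normalizer hAV
    have hsub : ⁅V, D⁆ ≤ ⁅W, D⁆ := by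
      let T : Subgroup P :=
        { carrier := {v | v ∈ V ∧ ∀ a ∈ D, ⁅v, a⁆ ∈ ⁅W, D⁆}
          one_mem' := ⟨V.one_mem, fun a _ => by simp [commutatorElement_def]⟩
          mul_mem' := by
            rintro x y ⟨hx, hx'⟩ ⟨hy, hy'⟩
            refine ⟨V.mul_mem hx hy, fun a ha => ?_⟩
            rw [comm_mul_left hVa (hAV ha) hx hy]
            exact Subgroup.mul_mem _ (hx' a ha) (hy' a ha)
          inv_mem' := by
            rintro x ⟨hx, hx'⟩
            refine ⟨V.inv_mem hx, fun a ha => ?_⟩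
            rw [comm_inv_left hVa (hAV ha) hx]
            exact Subgroup.inv_mem _ (hx' a ha) }
      have hT1 : W ≤ T := fun w hw => ⟨hWV hw, fun a ha => Subgroup.commutator_mem_commutator hw ha⟩
      have hT2 : D ⊓ V ≤ T := by
        rintro c ⟨hc', hc⟩
        refine ⟨hc, fun a ha => ?_⟩
        rw [commutatorElement_eq_one_iff_mul_comm.mpr (comm_of hD.1 hc' ha)]
        exact Subgroup.one_mem _
      have hVT : V ≤ T := by
        refine le_trans hVY ?_
        rw [h2]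
        exact sup_le hT1 hT2
      rw [Subgroup.commutator_le]
      intro v hv a ha
      exact (hVT hv).2 a ha
    have hVp : IsPGroup p V := hP.to_subgroup V
    have hbot := eq_bot_of_le_commutator hVp hAV
      (fun a _ => hP a |>.imp fun k hk => by rw [hk]; exact one_mem _) hWV hsub
    rw [hbot]
    exact bot_le
  · have hle2 := hmax (B ⊔ Y) ⟨hmem, hle⟩
    have hYle : Y ≤ (B ⊔ Y) ⊓ V := le_inf le_sup_right hYV
    have hYc := Nat.card_le_card_of_injective _ (inclusion_injective hYle)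
    have hYE : D ⊓ V = Y := Subgroup.eq_of_le_of_card_ge hEY (hYc.trans hle2)
    rw [hYE, h2]
    exact le_sup_left

end replacement

section quadratic

variable {Ω : Type*} [Group Ω] {S : Subgroup Ω} {p : ℕ} [hp : Fact p.Prime] [Finite S]

/-- **The `J`-replacement lemma.** If `O` is normal in the `p`-group `S` and `J(S)` is not contained in `O`, some element of `S`
outside `O` acts quadratically on `Z(O)`. -/
theorem exists_quadratic (hS : IsPGroup p S) {O : Subgroup Ω} (hOS : O ≤ S) (hOn : S ≤ Subgroup.normalizer (O : Set Ω))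
    (hJ : ¬ thompsonSubgroupAOf S ≤ O) :
    ∃ g ∈ S, g ∉ O ∧ ∀ v ∈ O ⊓ Subgroup.centralizer (O : Set Ω),
      g * v * g⁻¹ * v⁻¹ ∈ O ⊓ Subgroup.centralizer (O : Set Ω) ∧ g * (g * v * g⁻¹ * v⁻¹) = (g * v * g⁻¹ * v⁻¹) * g := by
  obtain ⟨V, hV⟩ : ∃ V : Subgroup S, V = (O ⊓ Subgroup.centralizer (O : Set Ω)).subgroupOf S := ⟨_, rfl⟩
  obtain ⟨N, hN⟩ : ∃ N : Subgroup S, N = O.subgroupOf S := ⟨_, rfl⟩
  have hconj : ∀ g ∈ S, ∀ v ∈ O ⊓ Subgroup.centralizer (O : Set Ω), g * v * g⁻¹ ∈ O ⊓ Subgroup.centralizer (O : Set Ω) := by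
    intro g hg v hv
    refine ⟨(Subgroup.mem_normalizer_iff.1 (hOn hg) _).1 hv.1, Subgroup.mem_centralizer_iff.2 fun o ho => ?_⟩
    have h1 : g⁻¹ * o * g⁻¹⁻¹ ∈ O := (Subgroup.mem_normalizer_iff.1 (Subgroup.inv_mem _ (hOn hg)) _).1 ho
    have h2 := Subgroup.mem_centralizer_iff.1 hv.2 _ h1
    rw [inv_inv] at h2
    calc o * (g * v * g⁻¹) = g * ((g⁻¹ * o * g) * v) * g⁻¹ := by group
      _ = g * (v * (g⁻¹ * o * g)) * g⁻¹ := by rw [h2]
      _ = g * v * g⁻¹ * o := by group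
  have hVmem : ∀ x : S, x ∈ V ↔ (x : Ω) ∈ O ⊓ Subgroup.centralizer (O : Set Ω) := by
    intro x
    rw [hV, Subgroup.mem_subgroupOf]
  have hVn : V.Normal := by
    refine ⟨fun v hv g => ?_⟩
    rw [hV, Subgroup.mem_subgroupOf] at hv ⊢
    exact hconj g g.2 v hv
  have hVa : IsMulCommutative V := by
    refine ⟨⟨fun a b => Subtype.ext (Subtype.ext ?_)⟩⟩
    have ha : ((a : S) : Ω) ∈ O ⊓ Subgroup.centralizer (O : Set Ω) := (hVmem _).1 a.2
    have hb : ((b : S) : Ω) ∈ O ⊓ Subgroup.centralizer (O : Set Ω) := (hVmem _).1 b.2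
    exact Subgroup.mem_centralizer_iff.1 hb.2 _ ha.1
  have hVC : ∀ M ∈ Cfsg.maxAbelianSubgroups S, M ≤ N → V ≤ M := by
    intro M hM hMN v hv
    refine Cfsg.Agent.Lib.PGroups.MetabelianReplacement.mem_of_mem_centralizer hM ?_
    refine Subgroup.mem_centralizer_iff.2 fun m hm => ?_
    have h1 := hMN hm
    rw [hV, Subgroup.mem_subgroupOf] at hv
    rw [hN, Subgroup.mem_subgroupOf] at h1
    exact Subtype.ext (Subgroup.mem_centralizer_iff.1 hv.2 _ h1)
  obtain ⟨A, hA, hAN⟩ : ∃ A ∈ Cfsg.maxAbelianSubgroups S, ¬ A ≤ N := by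
    by_contra hcon
    push Not at hcon
    apply hJ
    have h1 : thompsonSubgroupA S ≤ N := sSup_le hcon
    rintro _ ⟨x, hx, rfl⟩
    have h2 := h1 hx
    rw [hN, Subgroup.mem_subgroupOf] at h2
    exact h2
  obtain ⟨D, hD, hDN, hDc⟩ := exists_normalized_not_le (p := p) hS V N hVn hVa hVC A hA hAN
  obtain ⟨g, hgD, hgN⟩ := SetLike.not_le_iff_exists.1 hDN
  refine ⟨g, g.2, fun h => hgN ?_, fun v hv => ?_⟩
  · rw [hN, Subgroup.mem_subgroupOf]
    exact h
  · have hvS : v ∈ S := hOS hv.1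
    have hvV : (⟨v, hvS⟩ : S) ∈ V := by
      rw [hV, Subgroup.mem_subgroupOf]
      exact hv
    have h1 : ⁅(⟨v, hvS⟩ : S), g⁆ ∈ D ⊓ V := hDc (Subgroup.commutator_mem_commutator hvV hgD)
    have h2 : ⁅(⟨v, hvS⟩ : S), g⁆⁻¹ ∈ D ⊓ V := Subgroup.inv_mem _ h1
    have e : (⁅(⟨v, hvS⟩ : S), g⁆⁻¹ : S) = ⟨(g : Ω) * v * (g : Ω)⁻¹ * v⁻¹, S.mul_mem (S.mul_mem (S.mul_mem g.2 hvS) (S.inv_mem g.2)) (S.inv_mem hvS)⟩ := by
      apply Subtype.ext
      simp [commutatorElement_def]
      group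
    rw [e] at h2
    refine ⟨?_, ?_⟩
    · exact (hVmem _).1 h2.2
    · have h3 := Cfsg.Agent.Lib.PGroups.DStar.comm_of hD.1 hgD h2.1
      exact congrArg Subtype.val h3

end quadratic

section choice

variable {Ω : Type*} [Group Ω] {S : Subgroup Ω} {p : ℕ} [hp : Fact p.Prime] [Finite S]

/-- An automorphism preserves the powers of the centre. -/
theorem aut_powerClosure {T : Subgroup Ω} (n : ℕ) (γ : T ≃* T) {z : Ω}
    (hz : z ∈ powerClosure p n (T ⊓ Subgroup.centralizer (T : Set Ω))) (hzT : z ∈ T) :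
    ((γ ⟨z, hzT⟩ : T) : Ω) ∈ powerClosure p n (T ⊓ Subgroup.centralizer (T : Set Ω)) := by
  have hWZ := powerClosure_le_center (S := T) p n
  have key : ∀ z (hz : z ∈ powerClosure p n (T ⊓ Subgroup.centralizer (T : Set Ω))),
      ((γ ⟨z, (hWZ hz).1⟩ : T) : Ω) ∈ powerClosure p n (T ⊓ Subgroup.centralizer (T : Set Ω)) := by
    intro z hz
    induction hz using Subgroup.closure_induction with
    | mem z hz =>
      obtain ⟨x, hx, rfl⟩ := hz
      refine Subgroup.subset_closure ⟨((γ ⟨x, hx.1⟩ : T) : Ω), ⟨(γ _).2, ?_⟩, ?_⟩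
      · refine Subgroup.mem_centralizer_iff.2 fun s hs => ?_
        obtain ⟨s', hs'⟩ := γ.surjective ⟨s, hs⟩
        have h1 := Subgroup.mem_centralizer_iff.1 hx.2 _ s'.2
        have h2 : s' * ⟨x, hx.1⟩ = ⟨x, hx.1⟩ * s' := Subtype.ext h1
        have h3 := congrArg γ h2
        rw [map_mul, map_mul, hs'] at h3
        exact congrArg Subtype.val h3
      · have e : (⟨x ^ p ^ n, (hWZ (Subgroup.subset_closure ⟨x, hx, rfl⟩)).1⟩ : T) = ⟨x, hx.1⟩ ^ p ^ n := rfl
        rw [e, map_pow]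
        rfl
    | one =>
      have e : (⟨1, (hWZ (Subgroup.one_mem _)).1⟩ : T) = 1 := rfl
      rw [e, map_one]
      exact Subgroup.one_mem _
    | mul a b ha hb h1 h2 =>
      have e : (⟨a * b, (hWZ (Subgroup.mul_mem _ ha hb)).1⟩ : T) = ⟨a, (hWZ ha).1⟩ * ⟨b, (hWZ hb).1⟩ := rfl
      rw [e, map_mul]
      exact Subgroup.mul_mem _ h1 h2
    | inv a ha h1 =>
      have e : (⟨a⁻¹, (hWZ (Subgroup.inv_mem _ ha)).1⟩ : T) = (⟨a, (hWZ ha).1⟩ : T)⁻¹ := rfl
      rw [e, map_inv]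
      exact Subgroup.inv_mem _ h1
  exact key z hz

/-- The powers of the centre of `O` are characteristic in `O`. -/
theorem powerClosure_char (O : Subgroup Ω) (n : ℕ) :
    ((powerClosure p n (O ⊓ Subgroup.centralizer (O : Set Ω))).subgroupOf O).Characteristic := by
  refine Subgroup.characteristic_iff_le_comap.2 fun ϕ x hx => ?_
  rw [Subgroup.mem_subgroupOf] at hx
  show ϕ x ∈ (powerClosure p n (O ⊓ Subgroup.centralizer (O : Set Ω))).subgroupOf O
  rw [Subgroup.mem_subgroupOf]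
  exact aut_powerClosure n ϕ hx x.2

/-- **The choice of `W`.** Under the hypothesis of the second case, there is a subgroup normal in the system, between
`℧Z(S)` and `O`, whose centralizer in `S` is not in `O`. -/
theorem exists_W (hS : IsPGroup p S) (F : FusionSystem S) {O : Subgroup Ω} (hO : F.IsNormal O)
    (hJ : ¬ thompsonSubgroupAOf S ≤ O)
    (hVO : powerClosure p 1 (S ⊓ Subgroup.centralizer (S : Set Ω)) ≤ O) :
    ∃ W : Subgroup Ω, F.IsNormal W ∧ powerClosure p 1 (S ⊓ Subgroup.centralizer (S : Set Ω)) ≤ W ∧ W ≤ O ∧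
      ¬ S ⊓ Subgroup.centralizer (W : Set Ω) ≤ O := by
  have hOS : O ≤ S := hO.1
  have hOc := Cfsg.Agent.Lib.FusionExt.Normal.isNormal_stronglyClosed F hO
  have hOn : S ≤ Subgroup.normalizer (O : Set Ω) := Cfsg.Agent.Lib.FusionExt.Normal.sc_le_normalizer F hOc
  by_cases hC : S ⊓ Subgroup.centralizer (O : Set Ω) ≤ O
  · -- the powers of the centre of `O`
    refine ⟨powerClosure p 1 (O ⊓ Subgroup.centralizer (O : Set Ω)), ?_, ?_, ?_, ?_⟩
    · exact Cfsg.Agent.Lib.FusionExt.Normal.isNormal_of_characteristic F hO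
        ((powerClosure_le_center p 1).trans inf_le_left) (powerClosure_char O 1)
    · refine Subgroup.closure_mono ?_
      rintro _ ⟨x, hx, rfl⟩
      refine ⟨x, ⟨?_, ?_⟩, rfl⟩
      · exact hC ⟨hx.1, Subgroup.centralizer_le (show (O : Set Ω) ⊆ S from hOS) hx.2⟩
      · exact Subgroup.centralizer_le (show (O : Set Ω) ⊆ S from hOS) hx.2
    · exact (powerClosure_le_center p 1).trans inf_le_left
    · obtain ⟨g, hgS, hgO, hg⟩ := exists_quadratic hS hOS hOn hJ
      obtain ⟨j, hj1, hj2⟩ := exists_pow_not_mem (p := p) hgO (by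
        obtain ⟨k, hk⟩ := hS ⟨g, hgS⟩
        exact ⟨k, congrArg Subtype.val hk⟩)
      intro hle
      apply hj1
      refine hle ⟨S.pow_mem hgS _, ?_⟩
      suffices hs : powerClosure p 1 (O ⊓ Subgroup.centralizer (O : Set Ω)) ≤ Subgroup.centralizer ({g ^ p ^ j} : Set Ω) by
        refine Subgroup.mem_centralizer_iff.2 fun w hw => ?_
        exact (Subgroup.mem_centralizer_iff.1 (hs hw) _ rfl).symm
      refine (Subgroup.closure_le _).2 ?_
      rintro _ ⟨v, hv, rfl⟩
      refine Subgroup.mem_centralizer_iff.2 fun h hh => ?_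
      rw [Set.mem_singleton_iff] at hh
      subst hh
      obtain ⟨hw1, hw2⟩ := hg v hv
      have hVc : ∀ a ∈ O ⊓ Subgroup.centralizer (O : Set Ω), ∀ b ∈ O ⊓ Subgroup.centralizer (O : Set Ω), a * b = b * a :=
        fun a ha b hb => Subgroup.mem_centralizer_iff.1 hb.2 _ ha.1
      have htriv : (g ^ p ^ j) ^ p * v = v * (g ^ p ^ j) ^ p := Subgroup.mem_centralizer_iff.1 hv.2 _ hj2
      have h1 := Cfsg.Agent.Lib.Fusion.QuadPower.commute_pow_of_quadratic hVc hv hw1 hw2 (p ^ j) p htriv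
      rw [pow_one]
      exact mul_inv_eq_iff_eq_mul.1 h1
  · exact ⟨O, hO, hVO, le_rfl, hC⟩

end choice

end Cfsg.Agent.Lib.Fusion.Generation2
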