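import Cfsg.Agent.Lib.Fusion.Generation2
import Cfsg.Agent.S5145

/-!
# A saturated system is generated by `C_F(℧ Z(S))` and `N_F(J(S))`
-/

set_option autoImplicit false

namespace Cfsg.Agent.Lib.Fusion.Generation3

open Cfsg Cfsg.FusionSystem Cfsg.Agent.Lib.Fusion.Basic Cfsg.Agent.Lib.Fusion.Saturation
  Cfsg.Agent.Lib.Fusion.Saturation2 Cfsg.Agent.Lib.Fusion.LocalGlobal Cfsg.Agent.Lib.Fusion.Center
  Cfsg.Agent.Lib.Fusion.Model Cfsg.Agent.Lib.Fusion.ModelNormalizer Cfsg.Agent.Lib.Fusion.NormSystem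
  Cfsg.Agent.Lib.Core.Basic Cfsg.Agent.Lib.FusionExt.Basic Cfsg.Agent.Lib.Fusion.KSystem
  Cfsg.Agent.Lib.Fusion.WeakClosure Cfsg.Agent.Lib.Fusion.FrobThompson2 Cfsg.Agent.Lib.Core.SylowFacts
  Cfsg.Agent.Lib.Fusion.Generation Cfsg.Agent.Lib.Fusion.PowerCenter Cfsg.Agent.Lib.Fusion.Generation2
  Cfsg.Agent.Lib.Fusion.Thompson Cfsg.Agent.Lib.Fusion.Thompson3 Cfsg.Agent.Lib.PLocal.Thompson
  Cfsg.Agent.Lib.FusionExt.Normal

universe u

section inter

variable {Ω : Type*} [Group Ω]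

/-- The maps of `F` that lie in `E₀`. -/
def interSys {S S₀ : Subgroup Ω} (F : FusionSystem S) (E₀ : FusionSystem S₀) (h : S ≤ S₀) : FusionSystem S where
  Hom P := {φ | φ ∈ F.Hom P ∧ φ ∈ E₀.Hom P}
  le_of_mem := fun h' => F.le_of_mem h'.1
  injective_of_mem := fun h' => F.injective_of_mem h'.1
  conj_mem := fun hP hg => ⟨F.conj_mem hP hg, E₀.conj_mem (hP.trans h) (h hg)⟩
  comp_mem := fun h1 h2 hc => ⟨F.comp_mem h1.1 h2.1 hc, E₀.comp_mem h1.2 h2.2 hc⟩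
  inv_mem := by
    rintro P φ ⟨h1, h2⟩
    obtain ⟨ψ, hψ, hv⟩ := F.inv_mem h1
    obtain ⟨ψ', hψ', hv'⟩ := E₀.inv_mem h2
    have e : ψ = ψ' := by
      ext ⟨_, x, rfl⟩
      rw [hv, hv']
    exact ⟨ψ, ⟨hψ, e ▸ hψ'⟩, hv⟩

variable {S : Subgroup Ω} {F : FusionSystem S} [Finite S]

/-- Automorphisms extend over a subgroup normal in the system. -/
theorem exists_aut_sup {Q U : Subgroup Ω} (hU : F.IsNormal U) (hQS : Q ≤ S) {γ : MulAut Q} (hγ : γ ∈ F.autGroup Q) :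
    ∃ α ∈ F.autGroup (Q ⊔ U : Subgroup Ω), (∀ x : Q, ((α (Subgroup.inclusion le_sup_left x) : ↥(Q ⊔ U)) : Ω) = ((γ x : Q) : Ω)) ∧
      ∀ y : ↥(Q ⊔ U), (y : Ω) ∈ U → ((α y : ↥(Q ⊔ U)) : Ω) ∈ U := by
  obtain ⟨ψ, hψ, hψ1, hψ2⟩ := hU.2 Q (autHom γ) (autHom_mem F hQS hγ)
  have hsup : Q ⊔ U ≤ S := sup_le hQS hU.1
  haveI : Finite ↥(Q ⊔ U) := finite_of_le hsup
  have hU2 : ∀ y : ↥(Q ⊔ U), (y : Ω) ∈ U → ψ y ∈ U := fun y hy => hψ2.le ⟨y, hy, rfl⟩
  have hr : ψ.range = Q ⊔ U := by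
    refine Subgroup.eq_of_le_of_card_ge ?_ (by rw [card_range F hψ])
    rintro _ ⟨x, rfl⟩
    refine mem_of_sup ψ (fun a ha => ?_) (fun b hb => ?_) x
    · have h1 := hψ1 ⟨a, ha⟩
      have h2 : ψ ⟨a, Subgroup.mem_sup_left ha⟩ = ((γ ⟨a, ha⟩ : Q) : Ω) := h1
      rw [h2]
      exact Subgroup.mem_sup_left (γ ⟨a, ha⟩).2
    · exact Subgroup.mem_sup_right (hU2 ⟨b, Subgroup.mem_sup_right hb⟩ hb)
  obtain ⟨α, hα, hαv⟩ := exists_aut_of_range F hψ hr
  refine ⟨α, hα, fun x => ?_, fun y hy => ?_⟩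
  · rw [hαv]
    exact hψ1 x
  · rw [hαv]
    exact hU2 y hy

/-- An automorphism of `R` preserving `U ≤ R ≤ N_S(U)` is a map of `N_F(U)`. -/
theorem aut_mem_normalizerHom {U R : Subgroup Ω} (hRS : R ≤ S) (hUR : U ≤ R) (hRT : R ≤ normalizerIn S U) {γ : MulAut R}
    (hγ : γ ∈ F.autGroup R) (hpres : ∀ y : R, (y : Ω) ∈ U → ((γ y : R) : Ω) ∈ U) :
    autHom γ ∈ F.normalizerHom U R := by
  have hle : R ⊔ U ≤ R := sup_le le_rfl hUR
  have hUS : U ≤ S := hUR.trans hRS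
  haveI : Finite U := finite_of_le hUS
  refine ⟨autHom_mem F hRS hγ, hRT, fun x => hRT (γ x).2, (autHom γ).comp (Subgroup.inclusion hle),
    restrict_mem F hle (autHom_mem F hRS hγ), fun x => rfl, ?_⟩
  refine Subgroup.eq_of_le_of_card_ge ?_ ?_
  · rintro _ ⟨y, hy, rfl⟩
    exact hpres (Subgroup.inclusion hle y) hy
  · have hinj : Function.Injective ((autHom γ).comp (Subgroup.inclusion hle)) :=
      F.injective_of_mem (restrict_mem F hle (autHom_mem F hRS hγ))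
    rw [Subgroup.card_map_of_injective hinj]
    exact le_of_eq (Nat.card_congr (Subgroup.subgroupOfEquivOfLe (le_sup_right : U ≤ R ⊔ U)).toEquiv).symm

theorem normalizer_sup_forward {A B : Subgroup Ω} {s : Ω} (hA : s ∈ Subgroup.normalizer (A : Set Ω))
    (hB : s ∈ Subgroup.normalizer (B : Set Ω)) : A ⊔ B ≤ (A ⊔ B).comap (MulAut.conj s).toMonoidHom := by
  refine sup_le (fun t ht => ?_) (fun c hc => ?_)
  · exact Subgroup.mem_sup_left ((Subgroup.mem_normalizer_iff.1 hA t).1 ht)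
  · exact Subgroup.mem_sup_right ((Subgroup.mem_normalizer_iff.1 hB c).1 hc)

theorem mem_normalizer_sup {A B : Subgroup Ω} {s : Ω} (hA : s ∈ Subgroup.normalizer (A : Set Ω))
    (hB : s ∈ Subgroup.normalizer (B : Set Ω)) : s ∈ Subgroup.normalizer ((A ⊔ B : Subgroup Ω) : Set Ω) := by
  apply Subgroup.mem_normalizer_iff.2
  intro x
  constructor
  · intro hx
    exact normalizer_sup_forward hA hB hx
  · intro hx
    have := normalizer_sup_forward (Subgroup.inv_mem _ hA) (Subgroup.inv_mem _ hB) hx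
    have e : (MulAut.conj s⁻¹).toMonoidHom (s * x * s⁻¹) = x := by
      simp [MulAut.conj_apply]
      group
    rw [Subgroup.mem_comap, e] at this
    exact this

end inter

section Jfacts

variable {Ω : Type u} [Group Ω]

theorem J_le (T : Subgroup Ω) : thompsonSubgroupAOf T ≤ T := Subgroup.map_subtype_le _

variable {p : ℕ} [hp : Fact p.Prime]

/-- Automorphisms preserve `J`. -/
theorem J_aut {T : Subgroup Ω} [Finite T] (hT : IsPGroup p T) (γ : T ≃* T) (y : T)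
    (hy : (y : Ω) ∈ thompsonSubgroupAOf T) : ((γ y : T) : Ω) ∈ thompsonSubgroupAOf T := by
  have h1 := WJ_map (p := p) T T hT γ
  have h2 : y ∈ WJ T := by
    obtain ⟨z, hz, e⟩ := hy
    have e' : z = y := Subtype.ext e
    rw [← e']
    exact hz
  refine ⟨γ y, ?_, rfl⟩
  show γ y ∈ WJ T
  rw [← h1]
  exact ⟨y, h2, rfl⟩

/-- The centre lies in `J`. -/
theorem center_le_J {T : Subgroup Ω} [Finite T] : T ⊓ Subgroup.centralizer (T : Set Ω) ≤ thompsonSubgroupAOf T := by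
  intro x hx
  refine centralizer_thompson_le (S := T) ⟨hx.1, Subgroup.centralizer_le ?_ hx.2⟩
  exact J_le T

/-- `N_S(T) ≤ N_S(J(T))`. -/
theorem normalizerIn_le_J {S T : Subgroup Ω} [Finite S] (hS : IsPGroup p S) (hT : T ≤ S) :
    normalizerIn S T ≤ normalizerIn S (thompsonSubgroupAOf T) :=
  normalizerIn_le_UU WJ (fun Q R _ _ _ h φ => WJ_map (p := p) Q R h φ) hS hT

/-- `J(O) = J(S)` if `J(S) ≤ O ≤ S`. -/
theorem J_eq_of_le {S O : Subgroup Ω} [Finite S] (hOS : O ≤ S) (hJ : thompsonSubgroupAOf S ≤ O) :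
    thompsonSubgroupAOf O = thompsonSubgroupAOf S := by
  rw [thompsonSubgroupAOf_eq] at hJ ⊢
  rw [thompsonSubgroupAOf_eq]
  obtain ⟨A₀, hA₀⟩ := exists_isMaxIn (G := S) 0 ⊤
  have hA : IsMaxIn 0 S (A₀.map S.subtype) := isMaxIn_map_subtype.2 hA₀
  have hAU : A₀.map S.subtype ≤ O := hA.le_jOf.trans hJ
  apply le_antisymm
  · refine sSup_le ?_
    intro B hB
    exact (hA.of_le_of_exists hOS hAU hB).le_jOf
  · refine sSup_le ?_
    intro B hB
    exact (hB.of_le hOS (hB.le_jOf.trans hJ)).le_jOf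

/-- `J(S)` is normal in `F` if it is in a subgroup normal in `F`. -/
theorem isNormal_J {S O : Subgroup Ω} [Finite S] (hS : IsPGroup p S) {F : FusionSystem S} (hO : F.IsNormal O)
    (hJ : thompsonSubgroupAOf S ≤ O) : F.IsNormal (thompsonSubgroupAOf S) := by
  have hOS := hO.1
  haveI : Finite O := finite_of_le hOS
  have e := J_eq_of_le hOS hJ
  have hc := UU_subgroupOf_char (p := p) (hS.to_le hOS) WJ (fun Q R _ _ _ h φ => WJ_map (p := p) Q R h φ)
  rw [UU_WJ, e] at hc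
  exact isNormal_of_characteristic F hO hJ hc

end Jfacts

section main

variable {Ω : Type u} [Group Ω] {S₀ : Subgroup Ω} [Finite S₀] (E₀ : FusionSystem S₀) {p : ℕ} [hp : Fact p.Prime]

/-- `℧ Z(S)`. -/
abbrev VV (p : ℕ) (S : Subgroup Ω) : Subgroup Ω := powerClosure p 1 (S ⊓ Subgroup.centralizer (S : Set Ω))

/-- The hypothesis on automorphisms fixing `℧ Z(S)`. -/
def HC {S : Subgroup Ω} (F : FusionSystem S) : Prop :=
  ∀ R : Subgroup Ω, R ≤ S → VV p S ≤ R → ∀ γ ∈ F.autGroup R, (∀ y : R, (y : Ω) ∈ VV p S → γ y = y) →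
    autHom γ ∈ E₀.Hom R

/-- The hypothesis on automorphisms preserving `J(S)`. -/
def HN {S : Subgroup Ω} (F : FusionSystem S) : Prop :=
  ∀ R : Subgroup Ω, R ≤ S → thompsonSubgroupAOf S ≤ R → ∀ γ ∈ F.autGroup R,
    (∀ y : R, (y : Ω) ∈ thompsonSubgroupAOf S → ((γ y : R) : Ω) ∈ thompsonSubgroupAOf S) → autHom γ ∈ E₀.Hom R

/-- The measure of the induction. -/
noncomputable def Mu {S : Subgroup Ω} (F : FusionSystem S) : ℕ := 2 * Nat.card S - Nat.card F.core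

/-- The induction hypothesis. -/
def IH {S : Subgroup Ω} (F : FusionSystem S) : Prop :=
  ∀ (S' : Subgroup Ω) (_ : S' ≤ S₀) (F' : FusionSystem S'), F'.IsSaturated p → Mu F' < Mu F →
    HC (p := p) E₀ F' → HN E₀ F' → ∀ P, F'.Hom P ⊆ E₀.Hom P

variable {E₀} {S : Subgroup Ω} {F : FusionSystem S}

/-- `N_F(U)` for `U` not in `O_p(F)`: the good automorphisms. -/
theorem sub_good (hS₀ : IsPGroup p S₀) (hSS₀ : S ≤ S₀) (hF : F.IsSaturated p) (hIH : IH (p := p) E₀ F)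
    (hC : HC (p := p) E₀ F) {U : Subgroup Ω} (hU : F.IsFullyNormalized U) (hUO : ¬ U ≤ F.core)
    (hNJ : ∀ R : Subgroup Ω, R ≤ normalizerIn S U → thompsonSubgroupAOf (normalizerIn S U) ≤ R → ∀ γ ∈ F.autGroup R,
      (∀ y : R, (y : Ω) ∈ thompsonSubgroupAOf (normalizerIn S U) → ((γ y : R) : Ω) ∈ thompsonSubgroupAOf (normalizerIn S U)) →
      autHom γ ∈ E₀.Hom R)
    {R : Subgroup Ω} (hUR : U ≤ R) (hRT : R ≤ normalizerIn S U) {γ : MulAut R} (hγ : γ ∈ F.autGroup R)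
    (hpres : ∀ y : R, (y : Ω) ∈ U → ((γ y : R) : Ω) ∈ U) : autHom γ ∈ E₀.Hom R := by
  haveI hSf : Finite S := finite_of_le hSS₀
  have hS : IsPGroup p S := hS₀.to_le hSS₀
  have hUS : U ≤ S := hU.1
  obtain ⟨G, hG⟩ := exists_normalizerSystem F hUS
  have hGsat := isSaturated_normalizerSystem hS F hF hU G hG
  have hTS : normalizerIn S U ≤ S := inf_le_left
  haveI hTf : Finite ↥(normalizerIn S U) := finite_of_le hTS
  have hGF : ∀ R', R' ≤ normalizerIn S U → ∀ γ' ∈ G.autGroup R', γ' ∈ F.autGroup R' := by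
    intro R' hR' γ' hγ'
    rw [mem_autGroup_iff F (hR'.trans hTS)]
    have h1 := autHom_mem G hR' hγ'
    rw [hG] at h1
    exact h1.1
  have hμ : Mu G < Mu F := by
    have hO : F.IsNormal F.core := Cfsg.Agent.S5145.result F
    have hOS : F.core ≤ S := hO.1
    have hcoreG : G.core ≤ normalizerIn S U := (Cfsg.Agent.S5145.result G).1
    haveI : Finite G.core := finite_of_le (hcoreG.trans hTS)
    have hpos : 0 < Nat.card G.core := Nat.card_pos
    have h1 : Nat.card G.core ≤ Nat.card (normalizerIn S U) := card_le_of_le_finite hcoreG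
    have h2 : Nat.card F.core ≤ Nat.card S := card_le_of_le_finite hOS
    unfold Mu
    by_cases hTe : normalizerIn S U = S
    · have hSN : S ≤ Subgroup.normalizer (U : Set Ω) := by
        rw [← hTe]
        exact inf_le_right
      have hOG := Cfsg.Agent.Lib.Fusion.FrobThompson.isNormal_normalizerSystem hO hSN hG
      have hUG := normalizerSystem_isNormal F hUS hG
      have h3 : F.core ≤ G.core := le_sSup hOG
      have h4 : U ≤ G.core := le_sSup hUG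
      have h5 : F.core < G.core := lt_of_le_of_ne h3 (fun e => hUO (h4.trans e.ge))
      have h6 : Nat.card F.core < Nat.card G.core := card_lt_of_lt h5
      have h7 : Nat.card (normalizerIn S U) = Nat.card S := by rw [hTe]
      omega
    · have hlt : normalizerIn S U < S := lt_of_le_of_ne hTS hTe
      have h3 : Nat.card (normalizerIn S U) < Nat.card S := card_lt_of_lt hlt
      obtain ⟨k, hk⟩ := Subgroup.card_dvd_of_le hTS
      have hb : 0 < Nat.card S := Nat.card_pos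
      have h5 : 2 * Nat.card (normalizerIn S U) ≤ Nat.card S := by
        by_contra hcon
        have hk2 : k < 2 := by
          by_contra hk3
          apply hcon
          rw [hk, mul_comm 2]
          exact Nat.mul_le_mul_left _ (by omega)
        have hk0 : k = 0 ∨ k = 1 := by omega
        rcases hk0 with rfl | rfl
        · simp at hk
          omega
        · simp at hk
          omega
      omega
  have hCG : HC (p := p) E₀ G := by
    intro R' hR' hVR γ' hγ' hfix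
    have hVV : VV p S ≤ VV p (normalizerIn S U) := by
      refine Subgroup.closure_mono ?_
      rintro _ ⟨z, hz, rfl⟩
      refine ⟨z, ⟨?_, ?_⟩, rfl⟩
      · exact centralizerIn_le_normalizerIn S U ⟨hz.1, Subgroup.centralizer_le (show (U : Set Ω) ⊆ S from hUS) hz.2⟩
      · exact Subgroup.centralizer_le (show ((normalizerIn S U : Subgroup Ω) : Set Ω) ⊆ S from hTS) hz.2
    exact hC R' (hR'.trans hTS) (hVV.trans hVR) γ' (hGF R' hR' γ' hγ') (fun y hy => hfix y (hVV hy))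
  have hNG : HN E₀ G := fun R' hR' hJR γ' hγ' hp' => hNJ R' hR' hJR γ' (hGF R' hR' γ' hγ') hp'
  have h := hIH _ (hTS.trans hSS₀) G hGsat hμ hCG hNG R
  apply h
  rw [hG]
  exact aut_mem_normalizerHom (hRT.trans hTS) hUR hRT hγ hpres

theorem case_I (hS : IsPGroup p S) [Finite S] (hN : HN E₀ F) (hJ : thompsonSubgroupAOf S ≤ F.core) {Q : Subgroup Ω}
    (hQS : Q ≤ S) {γ : MulAut Q} (hγ : γ ∈ F.autGroup Q) : autHom γ ∈ E₀.Hom Q := by
  have hO := Cfsg.Agent.S5145.result F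
  have hJn := isNormal_J hS hO hJ
  obtain ⟨α, hα, h1, h2⟩ := exists_aut_sup hJn hQS hγ
  have h3 := hN (Q ⊔ thompsonSubgroupAOf S) (sup_le hQS (J_le S)) le_sup_right α hα h2
  exact restrict_mem' E₀ le_sup_left h3 _ (fun x => (h1 x).symm)

theorem centralizer_normal' {L : Type*} [Group L] {A : Subgroup L} (hA : A.Normal) :
    (Subgroup.centralizer (A : Set L)).Normal := by
  refine ⟨fun y hy g => ?_⟩
  refine Subgroup.mem_centralizer_iff.2 fun a ha => ?_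
  have h1 : g⁻¹ * a * g⁻¹⁻¹ ∈ A := hA.conj_mem _ ha g⁻¹
  have h2 := Subgroup.mem_centralizer_iff.1 hy _ h1
  rw [inv_inv] at h2
  calc a * (g * y * g⁻¹) = g * ((g⁻¹ * a * g) * y) * g⁻¹ := by group
    _ = g * (y * (g⁻¹ * a * g)) * g⁻¹ := by rw [h2]
    _ = g * y * g⁻¹ * a := by group

theorem inf_centralizer_normalizer {W : Subgroup Ω} (hWn : S ≤ Subgroup.normalizer (W : Set Ω)) :
    S ≤ Subgroup.normalizer ((S ⊓ Subgroup.centralizer (W : Set Ω) : Subgroup Ω) : Set Ω) := by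
  have hfwd : ∀ s ∈ S, ∀ x ∈ S ⊓ Subgroup.centralizer (W : Set Ω), s * x * s⁻¹ ∈ S ⊓ Subgroup.centralizer (W : Set Ω) := by
    intro s hs x hx
    refine ⟨S.mul_mem (S.mul_mem hs hx.1) (S.inv_mem hs), Subgroup.mem_centralizer_iff.2 fun w hw => ?_⟩
    have h1 : s⁻¹ * w * s⁻¹⁻¹ ∈ W := (Subgroup.mem_normalizer_iff.1 (hWn (S.inv_mem hs)) _).1 hw
    have h2 := Subgroup.mem_centralizer_iff.1 hx.2 _ h1
    rw [inv_inv] at h2
    calc w * (s * x * s⁻¹) = s * ((s⁻¹ * w * s) * x) * s⁻¹ := by group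
      _ = s * (x * (s⁻¹ * w * s)) * s⁻¹ := by rw [h2]
      _ = s * x * s⁻¹ * w := by group
  intro s hs
  refine Subgroup.mem_normalizer_iff.2 fun x => ⟨fun hx => hfwd s hs x hx, fun hx => ?_⟩
  have h1 := hfwd s⁻¹ (S.inv_mem hs) _ hx
  have e : s⁻¹ * (s * x * s⁻¹) * s⁻¹⁻¹ = x := by group
  rwa [e] at h1

/-- The case `℧Z(S) ≤ W`, with `W` normal in the system and `C_S(W)` not in `O_p(F)`. -/
theorem case_a (hS₀ : IsPGroup p S₀) (hSS₀ : S ≤ S₀) (hF : F.IsSaturated p) (hIH : IH (p := p) E₀ F)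
    (hC : HC (p := p) E₀ F) (hN : HN E₀ F) {W : Subgroup Ω} (hWn : F.IsNormal W) (hVW : VV p S ≤ W) (hWO : W ≤ F.core)
    (hSW : ¬ S ⊓ Subgroup.centralizer (W : Set Ω) ≤ F.core) {Q : Subgroup Ω} {γ : MulAut Q} (hQ : F.IsFullyNormalized Q)
    (hQc : F.IsCentric Q) (hγ : γ ∈ F.autGroup Q) (hb : autHom γ ∉ (interSys F E₀ hSS₀).Hom Q)
    (hmax : ∀ Q₂ : Subgroup Ω, Q₂ ≤ S → Q < Q₂ → normalizerIn S Q ≤ normalizerIn S Q₂ →
        ∀ β ∈ F.autGroup Q₂, autHom β ∈ (interSys F E₀ hSS₀).Hom Q₂) : False := by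
  haveI hSf : Finite S := finite_of_le hSS₀
  have hS : IsPGroup p S := hS₀.to_le hSS₀
  have hQS : Q ≤ S := hQ.1
  have hO := Cfsg.Agent.S5145.result F
  have hsc := isNormal_stronglyClosed F hO
  have hOn : S ≤ Subgroup.normalizer (F.core : Set Ω) := sc_le_normalizer F hsc
  -- `O_p(F) ≤ Q`
  have hOQ : F.core ≤ Q := by
    by_contra hn
    obtain ⟨α, hα, h1, -⟩ := exists_aut_sup hO hQS hγ
    have hlt : Q < Q ⊔ F.core := lt_of_le_of_ne le_sup_left (fun e => hn (e ▸ le_sup_right))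
    have hNN : normalizerIn S Q ≤ normalizerIn S (Q ⊔ F.core) := fun s hs =>
      ⟨hs.1, mem_normalizer_sup hs.2 (hOn hs.1)⟩
    have h2 := hmax _ (sup_le hQS hO.1) hlt hNN α hα
    exact hb (restrict_mem' _ le_sup_left h2 _ (fun x => (h1 x).symm))
  have hWQ : W ≤ Q := hWO.trans hOQ
  have hscW := isNormal_stronglyClosed F hWn
  have hWS : S ≤ Subgroup.normalizer (W : Set Ω) := sc_le_normalizer F hscW
  -- the model
  have hTS : normalizerIn S Q ≤ S := inf_le_left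
  haveI hTf : Finite ↥(normalizerIn S Q) := finite_of_le hTS
  have hTp : IsPGroup p ↥(normalizerIn S Q) := hS.to_le hTS
  obtain ⟨NQ, hNQ⟩ := exists_normalizerSystem F hQS
  have hNn := normalizerSystem_isNormal F hQS hNQ
  have hcon : NQ.IsConstrained p :=
    ⟨isSaturated_normalizerSystem hS F hF hQ NQ hNQ, Q, hNn, normalizerSystem_isCentric F hQc hNQ⟩
  obtain ⟨L, iL, ι, hG⟩ := Cfsg.Agent.S5090.result p hTp NQ hcon
  haveI hLf := model_finite hG
  obtain ⟨P₀, hP₀⟩ := hG.2.2.1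
  obtain ⟨-, hfrat⟩ := local_core hS hQS hNQ hG P₀ hP₀ hmax hγ hb
  have hρ : ∀ k, rho hG hNn k ∈ F.autGroup Q := fun k => by
    rw [← normalizerSystem_autGroup F hQS hNQ]
    exact rho_mem hG hNn k
  -- the normal subgroups
  obtain ⟨A, hA⟩ : ∃ A : Subgroup L, A = (W.subgroupOf (normalizerIn S Q)).map ι := ⟨_, rfl⟩
  have hAmem : ∀ t : ↥(normalizerIn S Q), (t : Ω) ∈ W → ι t ∈ A := fun t ht => by
    rw [hA]
    exact ⟨t, ht, rfl⟩
  have hAn : A.Normal := by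
    refine ⟨fun a ha g => ?_⟩
    rw [hA] at ha
    obtain ⟨t, ht, rfl⟩ := ha
    have ht' : (t : Ω) ∈ W := ht
    have h1 := rho_spec hG hNn g ⟨t, hWQ ht'⟩
    have e : (⟨(t : Ω), hNn.1 (hWQ ht')⟩ : ↥(normalizerIn S Q)) = t := rfl
    rw [e] at h1
    rw [← h1]
    exact hAmem _ (sc_aut_mem F hscW hQS (hρ g) ⟨t, hWQ ht'⟩ ht')
  obtain ⟨K, hK⟩ : ∃ K : Subgroup L, K = Subgroup.centralizer (A : Set L) := ⟨_, rfl⟩
  have hKn : K.Normal := hK ▸ centralizer_normal' hAn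
  have hgood : ∀ k ∈ K, autHom (rho hG (normalizerSystem_isNormal F hQS hNQ) k) ∈ (interSys F E₀ hSS₀).Hom Q := by
    intro k hk
    refine ⟨autHom_mem F hQS (hρ k), hC Q hQS (hVW.trans hWQ) _ (hρ k) (fun y hy => ?_)⟩
    apply Subtype.ext
    have hyW := hVW hy
    have h1 := rho_spec hG hNn k y
    have h2 := hAmem ⟨y, hNn.1 y.2⟩ hyW
    have h3 : k * ι ⟨y, hNn.1 y.2⟩ = ι ⟨y, hNn.1 y.2⟩ * k := by
      rw [hK] at hk
      exact (Subgroup.mem_centralizer_iff.1 hk _ h2).symm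
    have h4 : ι ⟨((rho hG hNn k) y : Q), hNn.1 ((rho hG hNn k) y).2⟩ = ι ⟨y, hNn.1 y.2⟩ := by
      rw [h1, h3]
      group
    exact model_val_eq hG h4
  have hT : ∀ t : ↥(normalizerIn S Q), (t : Ω) ∈ Subgroup.centralizer (W : Set Ω) → (t : Ω) ∈ Q := by
    intro t ht
    refine hfrat K hKn hgood t ?_
    rw [hK]
    refine Subgroup.mem_centralizer_iff.2 fun a ha => ?_
    rw [hA] at ha
    obtain ⟨s, hs, rfl⟩ := ha
    have hs' : (s : Ω) ∈ W := hs
    rw [← map_mul, ← map_mul]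
    congr 1
    exact Subtype.ext (Subgroup.mem_centralizer_iff.1 ht _ hs')
  -- the subgroup `S₁ = C_S(W)`
  obtain ⟨S₁, hS₁⟩ : ∃ S₁ : Subgroup Ω, S₁ = S ⊓ Subgroup.centralizer (W : Set Ω) := ⟨_, rfl⟩
  have hS₁S : S₁ ≤ S := hS₁ ▸ inf_le_left
  have hS₁n : S ≤ Subgroup.normalizer (S₁ : Set Ω) := hS₁ ▸ inf_centralizer_normalizer hWS
  have hS₁Q : S₁ ≤ Q := by
    refine le_of_forall_normalizer_le hS hS₁S hQS (fun x hx => hS₁n (hQS hx)) (fun x hx hxN => ?_)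
    rw [hS₁] at hx
    exact hT ⟨x, hx.1, hxN⟩ hx.2
  have hTe : normalizerIn S S₁ = S := inf_eq_left.2 hS₁n
  have hfn : F.IsFullyNormalized S₁ := by
    refine ⟨hS₁S, fun Q' _ => ?_⟩
    rw [hTe]
    exact card_le_of_le_finite inf_le_left
  have hS₁O : ¬ S₁ ≤ F.core := hS₁ ▸ hSW
  have key : ∀ T : Subgroup Ω, T = S → ∀ R : Subgroup Ω, R ≤ T → thompsonSubgroupAOf T ≤ R → ∀ γ ∈ F.autGroup R,
      (∀ y : R, (y : Ω) ∈ thompsonSubgroupAOf T → ((γ y : R) : Ω) ∈ thompsonSubgroupAOf T) → autHom γ ∈ E₀.Hom R := by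
    rintro T rfl R hR hJ γ₁ hγ₁ hp₁
    exact hN R hR hJ γ₁ hγ₁ hp₁
  have hQT : Q ≤ normalizerIn S S₁ := by
    rw [hTe]
    exact hQS
  have hpres : ∀ y : Q, (y : Ω) ∈ S₁ → ((γ y : Q) : Ω) ∈ S₁ := by
    intro y hy
    rw [hS₁] at hy ⊢
    refine ⟨hQS (γ y).2, Subgroup.mem_centralizer_iff.2 fun w hw => ?_⟩
    have hwW : w ∈ W := hw
    obtain ⟨w₀, hw₀⟩ : ∃ w₀ : Q, w₀ = ⟨w, hWQ hwW⟩ := ⟨_, rfl⟩
    have hw₀W : (w₀ : Ω) ∈ W := by
      rw [hw₀]
      exact hwW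
    have h1 : ((γ⁻¹ w₀ : Q) : Ω) ∈ W := sc_aut_mem F hscW hQS (Subgroup.inv_mem _ hγ) w₀ hw₀W
    have h2 := Subgroup.mem_centralizer_iff.1 hy.2 _ h1
    have h3 : (γ⁻¹ w₀) * y = y * (γ⁻¹ w₀) := Subtype.ext h2
    have h4 := congrArg γ h3
    rw [map_mul, map_mul] at h4
    have h5 : γ (γ⁻¹ w₀) = w₀ := γ.apply_symm_apply w₀
    rw [h5] at h4
    have h6 := congrArg Subtype.val h4
    rw [hw₀] at h6
    exact h6
  have h := sub_good hS₀ hSS₀ hF hIH hC hfn hS₁O (key _ hTe) hS₁Q hQT hγ hpres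
  exact hb ⟨autHom_mem F hQS hγ, h⟩

/-- A bad automorphism of a subgroup between `U` and `N_S(U)` preserving `U`. -/
def BadE (F E : FusionSystem S) (U : Subgroup Ω) : Prop :=
  ∃ (R : Subgroup Ω) (γ : MulAut R), U ≤ R ∧ R ≤ normalizerIn S U ∧ γ ∈ F.autGroup R ∧ autHom γ ∉ E.Hom R ∧
    ∀ y : R, (y : Ω) ∈ U → ((γ y : R) : Ω) ∈ U

theorem BadE.transport [Finite S] {E : FusionSystem S} (hS : IsPGroup p S) (hF : F.IsSaturated p)
    (hEF : ∀ P, E.Hom P ⊆ F.Hom P) {n : ℕ}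
    (hbig : ∀ P : Subgroup Ω, n < Nat.card P → F.Hom P ⊆ E.Hom P) {U U' : Subgroup Ω} (hfn : F.IsFullyNormalized U')
    (hc : F.IsConj U U') (hn : n < Nat.card (normalizerIn S U)) (h : BadE F E U) : BadE F E U' := by
  obtain ⟨e, ψ, he, hψ, hv, hval⟩ := exists_normalizer_ext F hS
    (isFullyAutomized_of_isFullyNormalized F hS hF hfn) (isReceptive_of_isFullyNormalized F hS hF hfn) hc
  have hψE := hbig _ hn hψ
  obtain ⟨R, γ, hUR, hRN, hγ, hb, hp⟩ := h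
  let φ : R →* Ω := ψ.comp (Subgroup.inclusion hRN)
  have hφE : φ ∈ E.Hom R := restrict_mem E hRN hψE
  let eR : R ≃* φ.range := isoOf φ (E.injective_of_mem hφE) rfl
  have heR : isoHom eR ∈ E.Hom R := isoHom_isoOf_mem E hφE rfl
  have heRv : ∀ x : R, ((eR x : φ.range) : Ω) = φ x := fun x => rfl
  have hφU : ∀ u : U, φ ⟨u, hUR u.2⟩ = ((e u : U') : Ω) := fun u => hv u
  refine ⟨φ.range, MulAut.congr eR γ, ?_, ?_, congr_mem_autGroup F (hEF _ heR) hγ, bad_congr E heR hb, ?_⟩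
  · intro y hy
    obtain ⟨u, hu⟩ := e.surjective ⟨y, hy⟩
    refine ⟨⟨u, hUR u.2⟩, ?_⟩
    rw [hφU, hu]
  · rintro _ ⟨x, rfl⟩
    exact hval _
  · intro y hy
    obtain ⟨u, hu⟩ := e.surjective ⟨y, hy⟩
    have e1 : y = eR ⟨u, hUR u.2⟩ := by
      apply Subtype.ext
      rw [heRv, hφU, hu]
    have e2 : (MulAut.congr eR γ) y = eR (γ ⟨u, hUR u.2⟩) := by
      rw [e1]
      simp [MulAut.congr]
    rw [e2, heRv]
    have h3 := hp ⟨u, hUR u.2⟩ u.2
    have h4 : φ (γ ⟨u, hUR u.2⟩) = φ ⟨((⟨_, h3⟩ : U) : Ω), hUR h3⟩ := rfl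
    rw [h4, hφU]
    exact (e _).2

/-- The case `℧Z(S) ≰ O_p(F)`. -/
theorem case_b (hS₀ : IsPGroup p S₀) (hSS₀ : S ≤ S₀) (hF : F.IsSaturated p) (hIH : IH (p := p) E₀ F)
    (hC : HC (p := p) E₀ F) (hN : HN E₀ F) (hVO : ¬ VV p S ≤ F.core) {n : ℕ}
    (hbig : ∀ P : Subgroup Ω, n < Nat.card P → F.Hom P ⊆ (interSys F E₀ hSS₀).Hom P)
    {Q : Subgroup Ω} {γ : MulAut Q} (hQ : F.IsFullyNormalized Q)
    (hQc : F.IsCentric Q) (hγ : γ ∈ F.autGroup Q) (hb : autHom γ ∉ (interSys F E₀ hSS₀).Hom Q)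
    (hn : n < Nat.card (normalizerIn S Q)) : False := by
  haveI hSf : Finite S := finite_of_le hSS₀
  have hS : IsPGroup p S := hS₀.to_le hSS₀
  have hQS : Q ≤ S := hQ.1
  have hO := Cfsg.Agent.S5145.result F
  have hsc := isNormal_stronglyClosed F hO
  have hEF : ∀ P, (interSys F E₀ hSS₀).Hom P ⊆ F.Hom P := fun P φ h => h.1
  have hVZ : VV p S ≤ S ⊓ Subgroup.centralizer (S : Set Ω) := powerClosure_le_center p 1
  have hQO : ¬ Q ≤ F.core := by
    intro h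
    apply hVO
    refine hVZ.trans (le_trans ?_ h)
    intro z hz
    exact hQc.2 Q (isConj_refl F hQS) ⟨hz.1, Subgroup.centralizer_le (show (Q : Set Ω) ⊆ S from hQS) hz.2⟩
  let s : Set ℕ := {m | ∃ U : Subgroup Ω, U ≤ S ∧ ¬ U ≤ F.core ∧ BadE F (interSys F E₀ hSS₀) U ∧
    n < Nat.card (normalizerIn S U) ∧ m = Nat.card (normalizerIn S U)}
  have hbd : BddAbove s := ⟨Nat.card S, by
    rintro _ ⟨U, -, -, -, -, rfl⟩
    exact card_le_of_le_finite inf_le_left⟩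
  have hne : s.Nonempty := ⟨_, Q, hQS, hQO, ⟨Q, γ, le_rfl, le_normalizerIn hQS, hγ, hb, fun y _ => (γ y).2⟩, hn, rfl⟩
  obtain ⟨U₁, hU₁S, hU₁O, hU₁b, hU₁n, hU₁e⟩ := Nat.sSup_mem hne hbd
  have hmaxs : ∀ m ∈ s, m ≤ Nat.card (normalizerIn S U₁) := by
    intro m hm
    rw [← hU₁e]
    exact le_csSup hbd hm
  obtain ⟨U', hc, hfn⟩ := exists_isFullyNormalized F hU₁S
  have hbad' := BadE.transport hS hF hEF hbig hfn hc hU₁n hU₁b
  have hcard : Nat.card (normalizerIn S U₁) ≤ Nat.card (normalizerIn S U') := hfn.2 U₁ (isConj_symm F hc)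
  have hU'O : ¬ U' ≤ F.core := by
    intro h
    apply hU₁O
    obtain ⟨φ, hφ, hr⟩ := isConj_symm F hc
    rw [← hr]
    rintro _ ⟨u, rfl⟩
    exact sc_map_mem' F hsc hφ u (h u.2)
  have hTS : normalizerIn S U' ≤ S := inf_le_left
  haveI hTf : Finite ↥(normalizerIn S U') := finite_of_le hTS
  have key : ∀ T : Subgroup Ω, T = S → ∀ R : Subgroup Ω, R ≤ T → thompsonSubgroupAOf T ≤ R → ∀ γ ∈ F.autGroup R,
      (∀ y : R, (y : Ω) ∈ thompsonSubgroupAOf T → ((γ y : R) : Ω) ∈ thompsonSubgroupAOf T) → autHom γ ∈ E₀.Hom R := by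
    rintro T rfl R hR hJ γ₁ hγ₁ hp₁
    exact hN R hR hJ γ₁ hγ₁ hp₁
  have hNJ : ∀ R : Subgroup Ω, R ≤ normalizerIn S U' → thompsonSubgroupAOf (normalizerIn S U') ≤ R → ∀ γ ∈ F.autGroup R,
      (∀ y : R, (y : Ω) ∈ thompsonSubgroupAOf (normalizerIn S U') → ((γ y : R) : Ω) ∈ thompsonSubgroupAOf (normalizerIn S U')) →
      autHom γ ∈ E₀.Hom R := by
    by_cases hTe : normalizerIn S U' = S
    · exact key _ hTe
    intro R hR hJR γ₁ hγ₁ hp₁
    by_contra hbad₁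
    have hlt : normalizerIn S U' < S := lt_of_le_of_ne hTS hTe
    have hJTS : thompsonSubgroupAOf (normalizerIn S U') ≤ S := (J_le _).trans hTS
    have hlt2 : normalizerIn S U' < normalizerIn S (thompsonSubgroupAOf (normalizerIn S U')) :=
      (lt_normalizerIn hS hlt).trans_le (normalizerIn_le_J hS hTS)
    have hB : BadE F (interSys F E₀ hSS₀) (thompsonSubgroupAOf (normalizerIn S U')) :=
      ⟨R, γ₁, hJR, hR.trans hlt2.le, hγ₁, fun h => hbad₁ h.2, hp₁⟩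
    have hZT : S ⊓ Subgroup.centralizer (S : Set Ω) ≤ thompsonSubgroupAOf (normalizerIn S U') := by
      refine le_trans ?_ center_le_J
      intro z hz
      refine ⟨?_, ?_⟩
      · exact centralizerIn_le_normalizerIn S U' ⟨hz.1, Subgroup.centralizer_le (show (U' : Set Ω) ⊆ S from hfn.1) hz.2⟩
      · exact Subgroup.centralizer_le (show ((normalizerIn S U' : Subgroup Ω) : Set Ω) ⊆ S from hTS) hz.2
    have hJO : ¬ thompsonSubgroupAOf (normalizerIn S U') ≤ F.core := fun h => hVO ((hVZ.trans hZT).trans h)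
    haveI : Finite ↥(normalizerIn S (thompsonSubgroupAOf (normalizerIn S U'))) := finite_of_le inf_le_left
    have hc3 := card_lt_of_lt hlt2
    have hm := hmaxs _ ⟨_, hJTS, hJO, hB, by omega, rfl⟩
    omega
  obtain ⟨R', γ', hUR, hRN, hγ', hb', hp'⟩ := hbad'
  have h := sub_good hS₀ hSS₀ hF hIH hC hfn hU'O hNJ hUR hRN hγ' hp'
  exact hb' ⟨autHom_mem F (hRN.trans inf_le_left) hγ', h⟩

/-- The inductive step. -/
theorem generation_step (hS₀ : IsPGroup p S₀) (hSS₀ : S ≤ S₀) (hF : F.IsSaturated p) (hIH : IH (p := p) E₀ F)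
    (hC : HC (p := p) E₀ F) (hN : HN E₀ F) : ∀ P, F.Hom P ⊆ E₀.Hom P := by
  haveI hSf : Finite S := finite_of_le hSS₀
  have hS : IsPGroup p S := hS₀.to_le hSS₀
  have hTop : ∀ γ ∈ F.autGroup S, autHom γ ∈ (interSys F E₀ hSS₀).Hom S := fun γ hγ =>
    ⟨autHom_mem F le_rfl hγ, hN S le_rfl (J_le S) γ hγ (fun y hy => J_aut hS γ y hy)⟩
  have hall := global_of_local (E := interSys F E₀ hSS₀) hS hF (fun P φ h => h.1) hTop (by
    intro n hbig Q γ hQ hQc hγ hb hn hmax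
    by_cases hJ : thompsonSubgroupAOf S ≤ F.core
    · exact hb ⟨autHom_mem F hQ.1 hγ, case_I hS hN hJ hQ.1 hγ⟩
    by_cases hV : VV p S ≤ F.core
    · obtain ⟨W, hW1, hW2, hW3, hW4⟩ := exists_W hS F (Cfsg.Agent.S5145.result F) hJ hV
      exact case_a hS₀ hSS₀ hF hIH hC hN hW1 hW2 hW3 hW4 hQ hQc hγ hb hmax
    · exact case_b hS₀ hSS₀ hF hIH hC hN hV hbig hQ hQc hγ hb hn)
  exact fun P φ hφ => (hall P hφ).2

variable (E₀) in
/-- **Generation.** -/
theorem generation (hS₀ : IsPGroup p S₀) : ∀ (m : ℕ) (S : Subgroup Ω) (_ : S ≤ S₀) (F : FusionSystem S),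
    F.IsSaturated p → Mu F = m → HC (p := p) E₀ F → HN E₀ F → ∀ P, F.Hom P ⊆ E₀.Hom P := by
  intro m
  induction m using Nat.strong_induction_on with
  | _ m ih =>
    intro S hSS₀ F hF hm hC hN
    refine generation_step hS₀ hSS₀ hF (fun S' hS' F' hF' hμ hC' hN' => ?_) hC hN
    exact ih (Mu F') (hm ▸ hμ) S' hS' F' hF' rfl hC' hN'

end main



end Cfsg.Agent.Lib.Fusion.Generation3
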