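import Cfsg.Agent.Lib.Fusion.HeisSpread
import Cfsg.Agent.Lib.Fusion.SmallEssential
import Cfsg.Agent.Lib.FusionTheory.NormalCrit
import Cfsg.Agent.Lib.FusionExt.Constrained
import Cfsg.Agent.S5090
import Cfsg.Agent.S5145

/-!
# Saturated fusion systems over Heisenberg-type groups

`S` has a central subgroup `Z` containing `[S, S]` with `|S| = |Z|³`, the commutator maps `[·, x] : S → Z`, `x ∉ Z`,
are onto, and the centralizers of the `x ∉ Z` are abelian.  If the system has a nontrivial normal subgroup, it is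
constrained.
-/

set_option autoImplicit false

namespace Cfsg.Agent.Lib.Fusion.HeisCore

open Cfsg Cfsg.FusionSystem Cfsg.Agent.Lib.Fusion.Basic Cfsg.Agent.Lib.Fusion.Saturation
  Cfsg.Agent.Lib.FusionTheory.Normal Cfsg.Agent.Lib.FusionTheory.Essential
  Cfsg.Agent.Lib.FusionTheory.NormalCrit Cfsg.Agent.Lib.Fusion.SmallEssential
  Cfsg.Agent.Lib.Fusion.HeisSpread

universe u

variable {Ω : Type u} [Group Ω] {S : Subgroup Ω}

/-- The Heisenberg-type hypotheses. -/
structure HeisHyp (S Z : Subgroup Ω) : Prop where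
  hZS : Z ≤ S
  hZne : Z ≠ ⊥
  hcen : ∀ z ∈ Z, ∀ s ∈ S, s * z = z * s
  hcomm : ∀ a ∈ S, ∀ b ∈ S, a * b * a⁻¹ * b⁻¹ ∈ Z
  hsurj : ∀ x ∈ S, x ∉ Z → ∀ z ∈ Z, ∃ s ∈ S, s * x * s⁻¹ * x⁻¹ = z
  hab : ∀ x ∈ S, x ∉ Z → ∀ a ∈ S, ∀ b ∈ S, a * x = x * a → b * x = x * b → a * b = b * a
  hcard : Nat.card S = Nat.card Z ^ 3

variable {Z : Subgroup Ω} {p : ℕ} [hp : Fact p.Prime] [Finite S]

theorem HeisHyp.le_of_isCentric {F : FusionSystem S} (hs : HeisHyp S Z) {E : Subgroup Ω} (hE : F.IsCentric E) : Z ≤ E := by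
  intro z hz
  refine hE.2 E (isConj_refl F hE.1) ⟨hs.hZS hz, Subgroup.mem_centralizer_iff.2 fun e he => ?_⟩
  exact hs.hcen z hz e (hE.1 he)

theorem HeisHyp.conj_mem (hs : HeisHyp S Z) {E : Subgroup Ω} (hES : E ≤ S) (hZE : Z ≤ E) {y e : Ω} (hy : y ∈ S) (he : e ∈ E) :
    y * e * y⁻¹ ∈ E := by
  have h1 := hZE (hs.hcomm y hy e (hES he))
  have h2 := E.mul_mem h1 he
  have e1 : y * e * y⁻¹ * e⁻¹ * e = y * e * y⁻¹ := by group
  rwa [e1] at h2

theorem HeisHyp.mem_normalizer (hs : HeisHyp S Z) {E : Subgroup Ω} (hES : E ≤ S) (hZE : Z ≤ E) {y : Ω} (hy : y ∈ S) :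
    y ∈ Subgroup.normalizer (E : Set Ω) := by
  rw [Subgroup.mem_normalizer_iff]
  intro e
  refine ⟨hs.conj_mem hES hZE hy, fun h => ?_⟩
  have := hs.conj_mem hES hZE (S.inv_mem hy) h
  have e1 : y⁻¹ * (y * e * y⁻¹) * y⁻¹⁻¹ = e := by group
  rwa [e1] at this

variable (F : FusionSystem S)

/-- If `Z` is invariant under `Aut_F(E)`, then `E` is not essential. -/
theorem HeisHyp.false_of_invariant (hs : HeisHyp S Z) (hS : IsPGroup p S) (hF : F.IsSaturated p) {E : Subgroup Ω}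
    (hE : F.IsEssential p E) (hinv : ∀ β ∈ F.autGroup E, ∀ z : E, (z : Ω) ∈ Z → ((β z : E) : Ω) ∈ Z) : False := by
  classical
  have hlt := IsEssential.lt F hS hF hE
  have hES := hlt.le
  have hfinE : Finite E := finite_of_le hES
  have hZE := hs.le_of_isCentric hE.1
  have hX := essAut_of_isEssential hS F hE
  let X := F.autGroup E
  -- the stability group
  let T : Subgroup (MulAut E) :=
    { carrier := {α | α ∈ X ∧ (∀ z : E, (z : Ω) ∈ Z → α z = z) ∧ ∀ e : E, ((e⁻¹ * α e : E) : Ω) ∈ Z}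
      one_mem' := ⟨X.one_mem, fun _ _ => rfl, fun e => by simp [Z.one_mem]⟩
      mul_mem' := by
        rintro α β ⟨hα, hα1, hα2⟩ ⟨hβ, hβ1, hβ2⟩
        refine ⟨X.mul_mem hα hβ, fun z hz => ?_, fun e => ?_⟩
        · show α (β z) = z
          rw [hβ1 z hz, hα1 z hz]
        · show ((e⁻¹ * α (β e) : E) : Ω) ∈ Z
          have e1 : β e = e * (e⁻¹ * β e) := by group
          rw [e1, map_mul, hα1 _ (hβ2 e)]
          have e2 : e⁻¹ * (α e * (e⁻¹ * β e)) = (e⁻¹ * α e) * (e⁻¹ * β e) := by group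
          rw [e2]
          exact Z.mul_mem (hα2 e) (hβ2 e)
      inv_mem' := by
        rintro α ⟨hα, hα1, hα2⟩
        have hinv' : ∀ x y : E, α y = x → α⁻¹ x = y := by
          intro x y hxy
          rw [← hxy]
          exact MulEquiv.symm_apply_apply α y
        refine ⟨X.inv_mem hα, fun z hz => hinv' _ _ (hα1 z hz), fun e => ?_⟩
        set e' := α⁻¹ e with he'
        have h1 : α e' = e := MulEquiv.apply_symm_apply α e
        have h2 := hα2 e'
        rw [h1] at h2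
        have e1 : e⁻¹ * e' = (e'⁻¹ * e)⁻¹ := by group
        rw [e1]
        exact Z.inv_mem h2 }
  have hTX : T ≤ X := fun α hα => hα.1
  have hTn : ∀ x ∈ X, ∀ t ∈ T, x * t * x⁻¹ ∈ T := by
    rintro β hβ α ⟨hα, hα1, hα2⟩
    refine ⟨X.mul_mem (X.mul_mem hβ hα) (X.inv_mem hβ), fun z hz => ?_, fun e => ?_⟩
    · show β (α (β⁻¹ z)) = z
      have h1 : (((β⁻¹ z : E)) : Ω) ∈ Z := hinv _ (X.inv_mem hβ) z hz
      rw [hα1 _ h1]
      exact MulEquiv.apply_symm_apply β z
    · show ((e⁻¹ * β (α (β⁻¹ e)) : E) : Ω) ∈ Z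
      set e' := β⁻¹ e with he'
      have h1 : β e' = e := MulEquiv.apply_symm_apply β e
      have e2 : α e' = e' * (e'⁻¹ * α e') := by group
      rw [e2, map_mul, h1]
      have e3 : e⁻¹ * (e * β (e'⁻¹ * α e')) = β (e'⁻¹ * α e') := by group
      rw [e3]
      exact hinv β hβ _ (hα2 e')
  have hTp : IsPGroup p T := by
    have hfin : Finite Z := finite_of_le hs.hZS
    obtain ⟨m, hm⟩ := (IsPGroup.iff_card.1 (hS.to_le hs.hZS))
    rintro ⟨α, hα, hα1, hα2⟩
    refine ⟨m, Subtype.ext ?_⟩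
    show α ^ p ^ m = 1
    ext e
    have hk : ∀ k : ℕ, (α ^ k) e = e * (e⁻¹ * α e) ^ k := by
      intro k
      induction k with
      | zero => simp
      | succ k ih =>
        rw [pow_succ', MulAut.mul_apply, ih, map_mul]
        rw [map_pow, hα1 _ (hα2 e), pow_succ', ← mul_assoc, mul_inv_cancel_left]
    rw [hk]
    have h1 : (e⁻¹ * α e) ^ p ^ m = 1 := by
      have h2 : ((⟨((e⁻¹ * α e : E) : Ω), hα2 e⟩ : Z)) ^ Nat.card Z = 1 := pow_card_eq_one'
      rw [hm] at h2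
      have h3 := congrArg Subtype.val h2
      apply Subtype.ext
      simpa using h3
    rw [h1]
    simp
  have hTI := hX.normal_le T hTX hTn hTp
  obtain ⟨-, s, hsS, hsE⟩ := SetLike.lt_iff_le_and_exists.1 hlt
  have hn := hs.mem_normalizer hES hZE hsS
  have hmem : normAct E hn ∈ T := by
    refine ⟨normAct_mem_autGroup F hES hsS hn, fun z hz => ?_, fun e => ?_⟩
    · apply Subtype.ext
      rw [normAct_apply, hs.hcen z hz s hsS]
      group
    · have h1 := hs.hcomm (e⁻¹ : E) (hES (e⁻¹ : E).2) s hsS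
      have e1 : ((e⁻¹ * normAct E hn e : E) : Ω) = ((e⁻¹ : E) : Ω) * s * ((e⁻¹ : E) : Ω)⁻¹ * s⁻¹ := by
        simp only [Subgroup.coe_mul, Subgroup.coe_inv, normAct_apply]
        group
      rw [e1]
      exact h1
  obtain ⟨y, hy⟩ := hTI hmem
  have hc : (y : Ω)⁻¹ * s ∈ centralizerIn S E := by
    refine ⟨S.mul_mem (S.inv_mem (hES y.2)) hsS, Subgroup.mem_centralizer_iff.2 fun x hx => ?_⟩
    have h1 := congrArg Subtype.val (congrArg (fun f : MulAut E => f ⟨x, hx⟩) hy)
    have h2 : (y : Ω) * x * (y : Ω)⁻¹ = s * x * s⁻¹ := h1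
    calc x * ((y : Ω)⁻¹ * s) = (y : Ω)⁻¹ * ((y : Ω) * x * (y : Ω)⁻¹) * s := by group
      _ = (y : Ω)⁻¹ * (s * x * s⁻¹) * s := by rw [h2]
      _ = _ := by group
  have h3 := hE.1.2 E (isConj_refl F hES) hc
  apply hsE
  have e2 : s = (y : Ω) * ((y : Ω)⁻¹ * s) := by group
  rw [e2]
  exact E.mul_mem y.2 h3


/-- Essential subgroups are abelian, and contain the centralizers of their elements outside `Z`. -/
theorem HeisHyp.essential_facts (hs : HeisHyp S Z) (hS : IsPGroup p S) (hF : F.IsSaturated p) {E : Subgroup Ω}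
    (hE : F.IsEssential p E) :
    (∀ a ∈ E, ∀ b ∈ E, a * b = b * a) ∧ ∀ e ∈ E, e ∉ Z → ∀ s ∈ S, s * e = e * s → s ∈ E := by
  classical
  have hlt := IsEssential.lt F hS hF hE
  have hES := hlt.le
  have hZE := hs.le_of_isCentric hE.1
  have hcent : ∀ s ∈ S, (∀ e ∈ E, s * e = e * s) → s ∈ E := by
    intro s hs' h
    refine hE.1.2 E (isConj_refl F hES) ⟨hs', Subgroup.mem_centralizer_iff.2 fun e he => ?_⟩
    exact (h e he).symm
  have hab : ∀ a ∈ E, ∀ b ∈ E, a * b = b * a := by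
    by_contra hcon
    push Not at hcon
    obtain ⟨a, ha, b, hb, hab⟩ := hcon
    -- the centre of `E` is `Z`
    have hZ : ∀ y : E, (∀ e : E, e * y = y * e) → (y : Ω) ∈ Z := by
      intro y hy
      by_contra hyZ
      apply hab
      refine hs.hab y (hES y.2) hyZ a (hES ha) b (hES hb) ?_ ?_
      · exact congrArg Subtype.val (hy ⟨a, ha⟩)
      · exact congrArg Subtype.val (hy ⟨b, hb⟩)
    refine hs.false_of_invariant F hS hF hE fun β _ z hz => ?_
    apply hZ
    intro e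
    have h1 : β.symm e * z = z * β.symm e := by
      apply Subtype.ext
      exact hs.hcen z hz _ (hES (β.symm e).2)
    have h2 := congrArg β h1
    simpa [map_mul] using h2
  refine ⟨hab, fun e he heZ s hsS hse => hcent s hsS fun e' he' => ?_⟩
  exact hs.hab e (hES he) heZ s hsS e' (hES he') hse (hab e' he' e he)

omit hp in
/-- The order of a centralizer. -/
theorem HeisHyp.card_eq {E : Subgroup Ω} (hs : HeisHyp S Z) (hES : E ≤ S) (e : E) (he : (e : Ω) ∉ Z)
    (h1 : ∀ a : E, (a : Ω) * e = e * a) (h2 : ∀ s ∈ S, s * (e : Ω) = e * s → s ∈ E) :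
    Nat.card E = Nat.card Z ^ 2 := by
  classical
  have hfinZ : Finite Z := finite_of_le hs.hZS
  have heS : (e : Ω) ∈ S := hES e.2
  let f : S →* Z :=
    { toFun := fun y => ⟨y * e * (y : Ω)⁻¹ * (e : Ω)⁻¹, hs.hcomm y y.2 e heS⟩
      map_one' := by ext; simp
      map_mul' := fun a b => by
        ext
        show ((a : Ω) * b) * e * ((a : Ω) * b)⁻¹ * (e : Ω)⁻¹ =
          ((a : Ω) * e * (a : Ω)⁻¹ * (e : Ω)⁻¹) * ((b : Ω) * e * (b : Ω)⁻¹ * (e : Ω)⁻¹)
        have hb := hs.hcomm b b.2 e heS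
        have e1 := hs.hcen _ hb a a.2
        have e2 := hs.hcen _ hb ((a : Ω) * e * (a : Ω)⁻¹ * (e : Ω)⁻¹) (hs.hZS (hs.hcomm a a.2 e heS))
        rw [e2]
        calc ((a : Ω) * b) * e * ((a : Ω) * b)⁻¹ * (e : Ω)⁻¹
            = (a : Ω) * ((b : Ω) * e * (b : Ω)⁻¹ * (e : Ω)⁻¹) * e * (a : Ω)⁻¹ * (e : Ω)⁻¹ := by group
          _ = ((b : Ω) * e * (b : Ω)⁻¹ * (e : Ω)⁻¹) * (a : Ω) * e * (a : Ω)⁻¹ * (e : Ω)⁻¹ := by rw [e1]
          _ = _ := by group }
  have hsurj : Function.Surjective f := by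
    rintro ⟨z, hz⟩
    obtain ⟨s, hsS, hsz⟩ := hs.hsurj e heS he z hz
    exact ⟨⟨s, hsS⟩, Subtype.ext hsz⟩
  have hker : f.ker = E.subgroupOf S := by
    ext y
    rw [MonoidHom.mem_ker, Subgroup.mem_subgroupOf]
    constructor
    · intro hy
      apply h2 _ y.2
      have h3 : (y : Ω) * e * (y : Ω)⁻¹ * (e : Ω)⁻¹ = 1 := congrArg Subtype.val hy
      have h4 : (y : Ω) * e * (y : Ω)⁻¹ = e := mul_inv_eq_one.1 h3
      exact mul_inv_eq_iff_eq_mul.1 h4
    · intro hy
      apply Subtype.ext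
      show (y : Ω) * e * (y : Ω)⁻¹ * (e : Ω)⁻¹ = 1
      rw [h1 ⟨y, hy⟩]
      group
  have h3 : Nat.card f.ker * Nat.card Z = Nat.card S := by
    have h4 := Subgroup.card_mul_index f.ker
    rw [Subgroup.index_ker, MonoidHom.range_eq_top.2 hsurj, Subgroup.card_top] at h4
    exact h4
  have h5 : Nat.card f.ker = Nat.card E := by
    rw [hker]
    exact Nat.card_congr (Subgroup.subgroupOfEquivOfLe hES).toEquiv
  rw [h5, hs.hcard] at h3
  have hpos : 0 < Nat.card Z := Nat.card_pos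
  apply Nat.eq_of_mul_eq_mul_right hpos
  rw [h3]
  ring

/-- **Main theorem**: a saturated system on a Heisenberg-type group with a nontrivial normal subgroup is constrained. -/
theorem HeisHyp.isConstrained (hs : HeisHyp S Z) (hS : IsPGroup p S) (hF : F.IsSaturated p) (hcore : F.core ≠ ⊥) :
    F.IsConstrained p := by
  classical
  have hO : F.IsNormal F.core := Cfsg.Agent.S5145.result F
  by_cases hess : ∃ E, F.IsEssential p E
  · obtain ⟨E, hE⟩ := hess
    obtain ⟨hab, hcen⟩ := hs.essential_facts F hS hF hE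
    have hlt := IsEssential.lt F hS hF hE
    have hES := hlt.le
    have hfinE : Finite E := finite_of_le hES
    have hZE := hs.le_of_isCentric hE.1
    have hOE : F.core ≤ E := IsNormal.le_essential F hS hF hO hE
    have hfinZ : Finite Z := finite_of_le hs.hZS
    -- the spread hypotheses
    let Z₀ : Subgroup E := Z.subgroupOf E
    have hZ₀ : ∀ z : E, z ∈ Z₀ ↔ (z : Ω) ∈ Z := fun z => Subgroup.mem_subgroupOf
    have hZ₀card : Nat.card Z₀ = Nat.card Z := Nat.card_congr (Subgroup.subgroupOfEquivOfLe hZE).toEquiv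
    have hsp : SpreadHyp p (F.autGroup E) (autInducedBy S E) Z₀ := by
      refine ⟨fun a b => Subtype.ext (hab a a.2 b b.2), autInducedBy_le_autGroup F hES, ?_, ?_, ?_, ?_⟩
      · exact (isFullyAutomized_of_isFullyNormalized F hS hF hE.2.1).2
      · intro r hr z hz
        obtain ⟨g, hg, hgr⟩ := (mem_autInducedBy_iff S E r).1 hr
        apply Subtype.ext
        rw [hgr, hs.hcen z ((hZ₀ z).1 hz) g hg]
        group
      · intro r hr e he hre
        obtain ⟨g, hg, hgr⟩ := (mem_autInducedBy_iff S E r).1 hr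
        have h1 : g * (e : Ω) = e * g := by
          have h2 := congrArg Subtype.val hre
          rw [hgr] at h2
          exact mul_inv_eq_iff_eq_mul.1 h2
        have hgE := hcen e e.2 (fun h => he ((hZ₀ e).2 h)) g hg h1
        ext x
        show ((r x : E) : Ω) = x
        rw [hgr]
        rw [hab g hgE x x.2]
        group
      · intro e he z hz
        obtain ⟨s, hsS, hsz⟩ := hs.hsurj e (hES e.2) (fun h => he ((hZ₀ e).2 h)) z ((hZ₀ z).1 hz)
        have hn := hs.mem_normalizer hES hZE hsS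
        refine ⟨normAct E hn, normAct_mem_autInducedBy S E hn hsS, ?_⟩
        apply Subtype.ext
        rw [normAct_apply]
        simp only [Subgroup.coe_mul]
        have e1 : s * (e : Ω) * s⁻¹ = (s * e * s⁻¹ * (e : Ω)⁻¹) * e := by group
        rw [e1, hsz]
        exact (hab z (hZE ((hZ₀ z).1 hz)) e e.2)
    -- an automorphism not preserving `Z`
    have hnot : ∃ t ∈ F.autGroup E, ∃ z : E, z ∈ Z₀ ∧ t z ∉ Z₀ := by
      by_contra hcon
      push Not at hcon
      exact hs.false_of_invariant F hS hF hE fun β hβ z hz =>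
        (hZ₀ _).1 (hcon β hβ z ((hZ₀ z).2 hz))
    obtain ⟨t, ht, z₀, hz₀, hz₀t⟩ := hnot
    -- the order of `E`
    have hcardE : Nat.card E = Nat.card Z₀ ^ 2 := by
      rw [hZ₀card]
      exact hs.card_eq hES (t z₀) (fun h => hz₀t ((hZ₀ _).2 h)) (fun a => hab a a.2 _ (t z₀).2)
        (hcen _ (t z₀).2 (fun h => hz₀t ((hZ₀ _).2 h)))
    -- invariance
    have hOsc := IsNormal.stronglyClosed F hO
    let O₀ : Subgroup E := F.core.subgroupOf E
    have hO₀ : O₀ ≠ ⊥ := by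
      intro h
      apply hcore
      rw [eq_bot_iff]
      intro x hx
      have h1 : (⟨x, hOE hx⟩ : E) ∈ O₀ := Subgroup.mem_subgroupOf.2 hx
      rw [h] at h1
      have h2 := congrArg Subtype.val (Subgroup.mem_bot.1 h1)
      exact Subgroup.mem_bot.2 h2
    have hO₀top := eq_top_of_invariant hsp ht hz₀ hz₀t hcardE hO₀ fun α hα o ho =>
      Subgroup.mem_subgroupOf.2 (StronglyClosed.aut_mem F hOsc hES hα (Subgroup.mem_subgroupOf.1 ho))
    have hOeq : F.core = E := by
      refine le_antisymm hOE fun x hx => ?_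
      have h1 : (⟨x, hx⟩ : E) ∈ O₀ := by rw [hO₀top]; trivial
      exact Subgroup.mem_subgroupOf.1 h1
    exact ⟨hF, F.core, hO, hOeq ▸ hE.1⟩
  · push Not at hess
    have hN : F.IsNormal S := isNormal_top_of_no_essential F hS hF fun P hP => (hess P hP).elim
    refine ⟨hF, S, hN, le_rfl, fun Q hQ => ?_⟩
    rw [Cfsg.Agent.Lib.FusionExt.Constrained.isConj_eq_of_isNormal F hN hQ]
    exact inf_le_left

/-- Exotic systems on Heisenberg-type groups have trivial `O_p`. -/
theorem HeisHyp.core_eq_bot (hs : HeisHyp S Z) (hS : IsPGroup p S) (hex : F.IsExotic p) : F.core = ⊥ := by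
  by_contra hcore
  obtain ⟨G, hG, ι, hm⟩ := Cfsg.Agent.S5090.result p hS F (hs.isConstrained F hS hex.1 hcore)
  exact hex.2 ⟨G, hG, hm.1, ι, hm.2.1, hm.2.2.1⟩

end Cfsg.Agent.Lib.Fusion.HeisCore
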