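import Cfsg.Agent.Lib.Fusion.HeisCore
import Cfsg.Agent.Lib.Classical.SLBasic

/-!
# Upper unitriangular matrices in `SL₃`

The unitriangular group of `SL₃(K)` is a Sylow subgroup of Heisenberg type.
-/

set_option autoImplicit false

namespace Cfsg.Agent.Lib.Fusion.HeisSL3

open Cfsg.Agent.Lib.Fusion.HeisCore
open Matrix

universe u v

section transfer

variable {Ω : Type u} [Group Ω] {Ω' : Type v} [Group Ω']

/-- Heisenberg hypotheses transfer along isomorphisms. -/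
theorem HeisHyp_of_mulEquiv {S : Subgroup Ω} {T Z : Subgroup Ω'} (e : S ≃* T) (h : HeisHyp T Z) :
    HeisHyp S (((Z.subgroupOf T).comap e.toMonoidHom).map S.subtype) := by
  classical
  have hmem : ∀ x (hx : x ∈ S), x ∈ (((Z.subgroupOf T).comap e.toMonoidHom).map S.subtype) ↔ ((e ⟨x, hx⟩ : T) : Ω') ∈ Z := by
    intro x hx
    constructor
    · rintro ⟨y, hy, rfl⟩
      exact Subgroup.mem_subgroupOf.1 (Subgroup.mem_comap.1 hy)
    · intro h1
      exact ⟨⟨x, hx⟩, Subgroup.mem_comap.2 (Subgroup.mem_subgroupOf.2 h1), rfl⟩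
  have hle : (((Z.subgroupOf T).comap e.toMonoidHom).map S.subtype) ≤ S := by
    rintro _ ⟨y, -, rfl⟩
    exact y.2
  have hmem' : ∀ z : T, (z : Ω') ∈ Z → ((e.symm z : S) : Ω) ∈ (((Z.subgroupOf T).comap e.toMonoidHom).map S.subtype) := by
    intro z hz
    rw [hmem _ (e.symm z).2]
    simpa using hz
  refine ⟨hle, ?_, ?_, ?_, ?_, ?_, ?_⟩
  · intro hbot
    apply h.hZne
    rw [eq_bot_iff]
    intro z hz
    have h1 := hmem' ⟨z, h.hZS hz⟩ hz
    rw [hbot] at h1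
    have h2 : e.symm ⟨z, h.hZS hz⟩ = 1 := Subtype.ext (Subgroup.mem_bot.1 h1)
    have h3 : (⟨z, h.hZS hz⟩ : T) = 1 := by simpa using h2
    exact Subgroup.mem_bot.2 (congrArg Subtype.val h3)
  · intro z hz s hs
    have h1 := (hmem z (hle hz)).1 hz
    have h2 := h.hcen _ h1 _ (e ⟨s, hs⟩).2
    have h3 : e ⟨s, hs⟩ * e ⟨z, hle hz⟩ = e ⟨z, hle hz⟩ * e ⟨s, hs⟩ := Subtype.ext h2
    rw [← map_mul, ← map_mul] at h3
    exact congrArg Subtype.val (e.injective h3)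
  · intro a ha b hb
    rw [hmem _ (S.mul_mem (S.mul_mem (S.mul_mem ha hb) (S.inv_mem ha)) (S.inv_mem hb))]
    have h1 := h.hcomm _ (e ⟨a, ha⟩).2 _ (e ⟨b, hb⟩).2
    have e1 : (⟨a * b * a⁻¹ * b⁻¹, S.mul_mem (S.mul_mem (S.mul_mem ha hb) (S.inv_mem ha)) (S.inv_mem hb)⟩ : S) =
        ⟨a, ha⟩ * ⟨b, hb⟩ * ⟨a, ha⟩⁻¹ * ⟨b, hb⟩⁻¹ := rfl
    rw [e1, map_mul, map_mul, map_mul, map_inv, map_inv]
    exact h1
  · intro x hx hxZ z hz
    have hxZ' : ((e ⟨x, hx⟩ : T) : Ω') ∉ Z := fun h1 => hxZ ((hmem x hx).2 h1)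
    obtain ⟨s, hs, hsz⟩ := h.hsurj _ (e ⟨x, hx⟩).2 hxZ' _ ((hmem z (hle hz)).1 hz)
    refine ⟨(e.symm ⟨s, hs⟩ : S), (e.symm ⟨s, hs⟩).2, ?_⟩
    have h1 : (⟨s, hs⟩ : T) * e ⟨x, hx⟩ * (⟨s, hs⟩ : T)⁻¹ * (e ⟨x, hx⟩)⁻¹ = e ⟨z, hle hz⟩ := Subtype.ext hsz
    have h2 := congrArg e.symm h1
    simp only [map_mul, map_inv, MulEquiv.symm_apply_apply] at h2
    exact congrArg Subtype.val h2
  · intro x hx hxZ a ha b hb hax hbx
    have hxZ' : ((e ⟨x, hx⟩ : T) : Ω') ∉ Z := fun h1 => hxZ ((hmem x hx).2 h1)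
    have hc : ∀ a (ha : a ∈ S), a * x = x * a →
        ((e ⟨a, ha⟩ : T) : Ω') * (e ⟨x, hx⟩ : T) = (e ⟨x, hx⟩ : T) * (e ⟨a, ha⟩ : T) := by
      intro a ha h1
      have h2 : (⟨a, ha⟩ : S) * ⟨x, hx⟩ = ⟨x, hx⟩ * ⟨a, ha⟩ := Subtype.ext h1
      have h3 := congrArg e h2
      rw [map_mul, map_mul] at h3
      exact congrArg Subtype.val h3
    have h1 := h.hab _ (e ⟨x, hx⟩).2 hxZ' _ (e ⟨a, ha⟩).2 _ (e ⟨b, hb⟩).2 (hc a ha hax) (hc b hb hbx)
    have h2 : e ⟨a, ha⟩ * e ⟨b, hb⟩ = e ⟨b, hb⟩ * e ⟨a, ha⟩ := Subtype.ext h1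
    rw [← map_mul, ← map_mul] at h2
    exact congrArg Subtype.val (e.injective h2)
  · have h1 : Nat.card S = Nat.card T := Nat.card_congr e.toEquiv
    rw [h1, h.hcard]
    congr 1
    -- the subgroup has the same order as `Z`
    have h2 : Nat.card ↥(((Z.subgroupOf T).comap e.toMonoidHom).map S.subtype) = Nat.card ((Z.subgroupOf T).comap e.toMonoidHom) :=
      Nat.card_congr (Subgroup.equivMapOfInjective _ S.subtype Subtype.val_injective).toEquiv.symm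
    rw [h2]
    have h3 : Nat.card ((Z.subgroupOf T).comap e.toMonoidHom) = Nat.card (Z.subgroupOf T) := by
      refine Nat.card_congr ⟨fun x => ⟨e x, x.2⟩, fun x => ⟨e.symm x, by
        show e (e.symm x) ∈ Z.subgroupOf T
        simpa using x.2⟩, fun x => Subtype.ext (by simp), fun x => Subtype.ext (by simp)⟩
    rw [h3]
    refine Nat.card_congr (Subgroup.subgroupOfEquivOfLe h.hZS).toEquiv.symm

end transfer

section matrices

variable {K : Type*} [Field K]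

/-- The upper unitriangular matrix. -/
def uMat (a b c : K) : Matrix (Fin 3) (Fin 3) K := !![1, a, c; 0, 1, b; 0, 0, 1]

theorem det_uMat (a b c : K) : (uMat a b c).det = 1 := by
  simp [uMat, Matrix.det_fin_three]

/-- The upper unitriangular element of `SL₃`. -/
def u (a b c : K) : SpecialLinearGroup (Fin 3) K := ⟨uMat a b c, det_uMat a b c⟩

theorem u_mul (a b c a' b' c' : K) : u a b c * u a' b' c' = u (a + a') (b + b') (c + c' + a * b') := by
  apply Subtype.ext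
  show uMat a b c * uMat a' b' c' = uMat (a + a') (b + b') (c + c' + a * b')
  ext i j
  fin_cases i <;> fin_cases j <;> simp [uMat, Matrix.mul_apply, Fin.sum_univ_three] <;> ring

theorem u_zero : u (0 : K) 0 0 = 1 := by
  apply Subtype.ext
  show uMat (0 : K) 0 0 = 1
  ext i j
  fin_cases i <;> fin_cases j <;> simp [uMat]

theorem u_inv (a b c : K) : (u a b c)⁻¹ = u (-a) (-b) (a * b - c) := by
  rw [inv_eq_iff_mul_eq_one, u_mul, ← u_zero]
  congr 1 <;> ring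

theorem u_inj {a b c a' b' c' : K} (h : u a b c = u a' b' c') : a = a' ∧ b = b' ∧ c = c' := by
  have h1 : uMat a b c = uMat a' b' c' := congrArg Subtype.val h
  refine ⟨?_, ?_, ?_⟩
  · simpa [uMat] using congrFun (congrFun h1 0) 1
  · simpa [uMat] using congrFun (congrFun h1 1) 2
  · simpa [uMat] using congrFun (congrFun h1 0) 2

/-- The unitriangular subgroup. -/
def UT : Subgroup (SpecialLinearGroup (Fin 3) K) where
  carrier := {x | ∃ a b c, x = u a b c}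
  one_mem' := ⟨0, 0, 0, u_zero.symm⟩
  mul_mem' := by
    rintro _ _ ⟨a, b, c, rfl⟩ ⟨a', b', c', rfl⟩
    exact ⟨_, _, _, u_mul _ _ _ _ _ _⟩
  inv_mem' := by
    rintro _ ⟨a, b, c, rfl⟩
    exact ⟨_, _, _, u_inv _ _ _⟩

/-- The centre of the unitriangular group. -/
def ZU : Subgroup (SpecialLinearGroup (Fin 3) K) where
  carrier := {x | ∃ c, x = u 0 0 c}
  one_mem' := ⟨0, u_zero.symm⟩
  mul_mem' := by
    rintro _ _ ⟨c, rfl⟩ ⟨c', rfl⟩
    refine ⟨c + c', ?_⟩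
    rw [u_mul]
    congr 1 <;> ring
  inv_mem' := by
    rintro _ ⟨c, rfl⟩
    refine ⟨-c, ?_⟩
    rw [u_inv]
    congr 1 <;> ring

theorem card_UT [Finite K] : Nat.card (UT (K := K)) = Nat.card K ^ 3 := by
  have hb : Function.Bijective (fun x : K × K × K => (⟨u x.1 x.2.1 x.2.2, _, _, _, rfl⟩ : UT (K := K))) := by
    constructor
    · rintro ⟨a, b, c⟩ ⟨a', b', c'⟩ h
      obtain ⟨h1, h2, h3⟩ := u_inj (congrArg Subtype.val h)
      simp only at h1 h2 h3
      rw [h1, h2, h3]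
    · rintro ⟨_, a, b, c, rfl⟩
      exact ⟨⟨a, b, c⟩, rfl⟩
  rw [← Nat.card_congr (Equiv.ofBijective _ hb), Nat.card_prod, Nat.card_prod]
  ring

theorem card_ZU [Finite K] : Nat.card (ZU (K := K)) = Nat.card K := by
  have hb : Function.Bijective (fun c : K => (⟨u 0 0 c, c, rfl⟩ : ZU (K := K))) := by
    constructor
    · intro c c' h
      exact (u_inj (congrArg Subtype.val h)).2.2
    · rintro ⟨_, c, rfl⟩
      exact ⟨c, rfl⟩
  exact (Nat.card_congr (Equiv.ofBijective _ hb)).symm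

theorem heisHyp_UT [Finite K] : HeisHyp (UT (K := K)) (ZU (K := K)) := by
  refine ⟨?_, ?_, ?_, ?_, ?_, ?_, ?_⟩
  · rintro _ ⟨c, rfl⟩
    exact ⟨_, _, _, rfl⟩
  · intro h
    have h1 : u (0 : K) 0 1 ∈ ZU (K := K) := ⟨1, rfl⟩
    rw [h] at h1
    have h2 : u (0 : K) 0 1 = u 0 0 0 := by rw [u_zero]; exact Subgroup.mem_bot.1 h1
    exact one_ne_zero (u_inj h2).2.2
  · rintro _ ⟨c, rfl⟩ _ ⟨a, b, d, rfl⟩
    rw [u_mul, u_mul]
    congr 1 <;> ring
  · rintro _ ⟨a, b, c, rfl⟩ _ ⟨a', b', c', rfl⟩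
    refine ⟨a * b' - a' * b, ?_⟩
    simp only [u_inv, u_mul]
    congr 1 <;> ring
  · rintro _ ⟨a, b, c, rfl⟩ hx _ ⟨z, rfl⟩
    have hne : a ≠ 0 ∨ b ≠ 0 := by
      by_contra hcon
      push Not at hcon
      apply hx
      rw [hcon.1, hcon.2]
      exact ⟨c, rfl⟩
    rcases hne with ha | hb
    · refine ⟨u 0 (-(z / a)) 0, ⟨_, _, _, rfl⟩, ?_⟩
      simp only [u_inv, u_mul]
      congr 1 <;> (try ring)
      field_simp
    · refine ⟨u (z / b) 0 0, ⟨_, _, _, rfl⟩, ?_⟩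
      simp only [u_inv, u_mul]
      congr 1 <;> (try ring)
      field_simp
  · rintro _ ⟨a, b, c, rfl⟩ hx _ ⟨a₁, b₁, c₁, rfl⟩ _ ⟨a₂, b₂, c₂, rfl⟩ h1 h2
    have hne : a ≠ 0 ∨ b ≠ 0 := by
      by_contra hcon
      push Not at hcon
      apply hx
      rw [hcon.1, hcon.2]
      exact ⟨c, rfl⟩
    rw [u_mul, u_mul] at h1 h2
    obtain ⟨-, -, h1⟩ := u_inj h1
    obtain ⟨-, -, h2⟩ := u_inj h2
    rw [u_mul, u_mul]
    have e1 : a₁ * b = a * b₁ := by linear_combination h1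
    have e2 : a₂ * b = a * b₂ := by linear_combination h2
    have e3 : a₁ * b₂ = a₂ * b₁ := by
      rcases hne with ha | hb
      · apply mul_left_cancel₀ ha
        linear_combination a₁ * (-e2) + a₂ * e1
      · apply mul_left_cancel₀ hb
        linear_combination b₂ * e1 - b₁ * e2
    congr 1 <;> (try ring)
    linear_combination e3
  · rw [card_UT, card_ZU]

/-- The unitriangular group is a Sylow subgroup. -/
theorem exists_sylow_UT [Fintype K] (p : ℕ) [hp : Fact p.Prime] [CharP K p] :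
    ∃ Sy : Sylow p (SpecialLinearGroup (Fin 3) K), (Sy : Subgroup _) = UT (K := K) := by
  classical
  obtain ⟨n, hpp, hn⟩ := FiniteField.card K p
  have hq2 : 2 ≤ Fintype.card K := Fintype.one_lt_card
  have hpq : p ∣ Fintype.card K := by
    rw [hn]
    exact dvd_pow_self p n.ne_zero
  have hcardU : Nat.card (UT (K := K)) = p ^ (3 * (n : ℕ)) := by
    rw [card_UT, Nat.card_eq_fintype_card, hn, ← pow_mul, mul_comm]
  have hpg : IsPGroup p (UT (K := K)) := IsPGroup.of_card hcardU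
  have h1 := Cfsg.Agent.Lib.Classical.SLBasic.card_gl_eq_mul_card_sl (F := K) (ι := Fin 3)
  rw [Matrix.card_GL_field (𝔽 := K) 3, Fin.prod_univ_three] at h1
  have hidx := Subgroup.card_mul_index (UT (K := K))
  rw [card_UT, Nat.card_eq_fintype_card] at hidx
  set q := Fintype.card K with hqdef
  obtain ⟨m, hm⟩ : ∃ m, q = m + 2 := ⟨q - 2, by omega⟩
  rw [hm] at h1 hidx hpq
  have e0 : m + 2 - 1 = m + 1 := by omega
  have e1 : (m + 2) ^ 3 - (m + 2) ^ ((0 : Fin 3) : ℕ) = (m + 1) * ((m + 2) ^ 2 + (m + 2) + 1) := by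
    simp only [Fin.val_zero, pow_zero]
    apply Nat.sub_eq_of_eq_add
    ring
  have e2 : (m + 2) ^ 3 - (m + 2) ^ ((1 : Fin 3) : ℕ) = (m + 2) * ((m + 1) * (m + 3)) := by
    simp only [Fin.val_one, pow_one]
    apply Nat.sub_eq_of_eq_add
    ring
  have e3 : (m + 2) ^ 3 - (m + 2) ^ ((2 : Fin 3) : ℕ) = (m + 2) ^ 2 * (m + 1) := by
    have : ((2 : Fin 3) : ℕ) = 2 := rfl
    rw [this]
    apply Nat.sub_eq_of_eq_add
    ring
  rw [e0, e1, e2, e3, ← hidx] at h1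
  have hidx2 : (UT (K := K)).index = ((m + 1) * ((m + 2) ^ 2 + (m + 2) + 1)) * ((m + 1) * (m + 3)) := by
    have hpos : 0 < (m + 1) * (m + 2) ^ 3 := by positivity
    apply Nat.eq_of_mul_eq_mul_left hpos
    linear_combination -h1
  have hnd : ¬ p ∣ (UT (K := K)).index := by
    rw [hidx2]
    intro hd
    rcases (Nat.Prime.dvd_mul hp.out).1 hd with h | h
    · -- `p ∣ q³ - 1`
      have h2 : p ∣ (m + 2) * (m + 2) ^ 2 := hpq.mul_right _
      have e : (m + 2) * (m + 2) ^ 2 = (m + 1) * ((m + 2) ^ 2 + (m + 2) + 1) + 1 := by ring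
      rw [e] at h2
      exact hp.out.one_lt.ne' (Nat.dvd_one.1 ((Nat.dvd_add_right h).1 h2))
    · -- `p ∣ q² - 1`
      have h2 : p ∣ (m + 2) * (m + 2) := hpq.mul_right _
      have e : (m + 2) * (m + 2) = (m + 1) * (m + 3) + 1 := by ring
      rw [e] at h2
      exact hp.out.one_lt.ne' (Nat.dvd_one.1 ((Nat.dvd_add_right h).1 h2))
  exact ⟨hpg.toSylow hnd, by simp⟩

end matrices

end Cfsg.Agent.Lib.Fusion.HeisSL3
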