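import Mathlib

/-!
# A spread lemma for quadratic Sylow subgroups

`T` acts on an abelian group `V`; a Sylow `p`-subgroup `R` of `T` fixes `Z` pointwise and acts regularly on each
coset `e Z` with `e ∉ Z`.  Then two distinct `T`-conjugates of `Z` meet trivially.
-/

set_option autoImplicit false

namespace Cfsg.Agent.Lib.Fusion.HeisSpread

open scoped Pointwise

section sylow

variable {G : Type*} [Group G] [Finite G] {p : ℕ} [Fact p.Prime]

/-- A `p`-element of an overgroup of a Sylow subgroup is conjugate into it inside the overgroup. -/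
theorem exists_conj_mem (P : Sylow p G) (H : Subgroup G) (hPH : (P : Subgroup G) ≤ H) {k : G} (hk : k ∈ H)
    (hkp : IsPGroup p (Subgroup.zpowers k)) : ∃ d ∈ H, d⁻¹ * k * d ∈ (P : Subgroup G) := by
  classical
  -- a Sylow subgroup of `H` containing `P`
  have h1 : IsPGroup p ((P : Subgroup G).subgroupOf H) :=
    P.isPGroup'.comap_of_injective H.subtype Subtype.val_injective |>.to_le (by
      intro x hx; exact hx)
  obtain ⟨P₀, hP₀⟩ := h1.exists_le_sylow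
  -- a Sylow subgroup of `H` containing `k`
  have h2 : IsPGroup p (Subgroup.zpowers (⟨k, hk⟩ : H)) := by
    have : IsPGroup p ((Subgroup.zpowers k).subgroupOf H) :=
      hkp.comap_of_injective H.subtype Subtype.val_injective |>.to_le (by intro x hx; exact hx)
    refine this.to_le ?_
    rw [Subgroup.zpowers_le]
    exact Subgroup.mem_subgroupOf.2 (Subgroup.mem_zpowers k)
  obtain ⟨P₁, hP₁⟩ := h2.exists_le_sylow
  obtain ⟨d, hd⟩ := MulAction.exists_smul_eq H P₀ P₁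
  have hmem : (⟨k, hk⟩ : H) ∈ (d • P₀ : Sylow p H) := by
    rw [hd]
    exact hP₁ (Subgroup.mem_zpowers _)
  have hmem2 : d⁻¹ * ⟨k, hk⟩ * d ∈ (P₀ : Subgroup H) := by
    have h3 : (⟨k, hk⟩ : H) ∈ MulAut.conj d • (P₀ : Subgroup H) := by
      rw [← Sylow.coe_subgroup_smul]
      exact hmem
    rw [Subgroup.mem_pointwise_smul_iff_inv_smul_mem] at h3
    simpa [MulAut.smul_def, MulAut.conj_inv_apply] using h3
  -- `P₀` has image `P`
  have hmax : (P₀ : Subgroup H).map H.subtype = P := by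
    have hp : IsPGroup p ((P₀ : Subgroup H).map H.subtype) := P₀.isPGroup'.map _
    refine P.is_maximal' hp ?_
    intro x hx
    exact ⟨⟨x, hPH hx⟩, hP₀ (Subgroup.mem_subgroupOf.2 hx), rfl⟩
  refine ⟨d, d.2, ?_⟩
  rw [← hmax]
  exact ⟨_, hmem2, rfl⟩

end sylow

section spread

variable {V : Type*} [Group V] {p : ℕ}

/-- The data of the spread lemma. -/
structure SpreadHyp (p : ℕ) (T R : Subgroup (MulAut V)) (Z : Subgroup V) : Prop where
  comm : ∀ a b : V, a * b = b * a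
  hRT : R ≤ T
  syl : ∃ Sy : Sylow p T, (Sy : Subgroup T) = R.subgroupOf T
  hfix : ∀ r ∈ R, ∀ z ∈ Z, r z = z
  hreg : ∀ r ∈ R, ∀ e, e ∉ Z → r e = e → r = 1
  htrans : ∀ e, e ∉ Z → ∀ z ∈ Z, ∃ r ∈ R, r e = e * z

variable [Finite V] [hp : Fact p.Prime] {T R : Subgroup (MulAut V)} {Z : Subgroup V}

/-- The stabilizer of the coset `z₂ Y`, pointwise fixing `Y`. -/
def stab (h : SpreadHyp p T R Z) (Y : Subgroup V) (z₂ : V) : Subgroup (MulAut V) where
  carrier := {α | α ∈ T ∧ (∀ w ∈ Y, α w = w) ∧ z₂⁻¹ * α z₂ ∈ Y}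
  one_mem' := ⟨T.one_mem, fun _ _ => rfl, by simp [Y.one_mem]⟩
  mul_mem' := by
    rintro α β ⟨hα, hα1, hα2⟩ ⟨hβ, hβ1, hβ2⟩
    refine ⟨T.mul_mem hα hβ, fun w hw => ?_, ?_⟩
    · show α (β w) = w
      rw [hβ1 w hw, hα1 w hw]
    · show z₂⁻¹ * α (β z₂) ∈ Y
      have e1 : β z₂ = z₂ * (z₂⁻¹ * β z₂) := by group
      rw [e1, map_mul, hα1 _ hβ2]
      have e2 : z₂⁻¹ * (α z₂ * (z₂⁻¹ * β z₂)) = (z₂⁻¹ * α z₂) * (z₂⁻¹ * β z₂) := by group
      rw [e2]
      exact Y.mul_mem hα2 hβ2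
  inv_mem' := by
    rintro α ⟨hα, hα1, hα2⟩
    have hinv : ∀ x y : V, α y = x → α⁻¹ x = y := by
      intro x y hxy
      rw [← hxy]
      exact MulEquiv.symm_apply_apply α y
    refine ⟨T.inv_mem hα, fun w hw => hinv _ _ (hα1 w hw), ?_⟩
    set y := z₂⁻¹ * α z₂ with hy
    have e1 : α z₂ = z₂ * y := by rw [hy]; group
    have e2 : α⁻¹ (z₂ * y) = z₂ := hinv _ _ e1
    have e3 : α⁻¹ y = y := hinv _ _ (hα1 y hα2)
    rw [map_mul, e3] at e2
    have e4 : α⁻¹ z₂ = z₂ * y⁻¹ := eq_mul_inv_of_mul_eq e2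
    rw [e4]
    have e6 : z₂⁻¹ * (z₂ * y⁻¹) = y⁻¹ := by group
    rw [e6]
    exact Y.inv_mem hα2

theorem isPGroup_zpowers_of_mem (h : SpreadHyp p T R Z) {k : MulAut V} (hk : k ∈ R) :
    IsPGroup p (Subgroup.zpowers (⟨k, h.hRT hk⟩ : T)) := by
  obtain ⟨Sy, hSy⟩ := h.syl
  have hkS : (⟨k, h.hRT hk⟩ : T) ∈ (Sy : Subgroup T) := by
    rw [hSy]
    exact Subgroup.mem_subgroupOf.2 hk
  refine Sy.isPGroup'.to_le ?_
  rw [Subgroup.zpowers_le]
  exact hkS

/-- **Spread lemma**: two distinct `T`-conjugates of `Z` meet trivially. -/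
theorem spread (h : SpreadHyp p T R Z) {t : MulAut V} (ht : t ∈ T) {z₀ : V} (hz₀ : z₀ ∈ Z) (hz₀t : t z₀ ∉ Z)
    {z₁ : V} (hz₁ : z₁ ∈ Z) (h1 : t z₁ ∈ Z) : t z₁ = 1 := by
  classical
  by_contra hne
  have : Finite (MulAut V) := Finite.of_injective (fun e : MulAut V => (e : V → V)) DFunLike.coe_injective
  set z₂ := t z₀ with hz₂
  set y := t z₁ with hy
  -- `Y = Z ∩ t(Z)`
  let Y : Subgroup V := Z ⊓ Z.map t.toMonoidHom
  have hyY : y ∈ Y := ⟨h1, z₁, hz₁, rfl⟩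
  obtain ⟨k, hkR, hk⟩ := h.htrans z₂ hz₀t y h1
  have hk1 : k ≠ 1 := by
    rintro rfl
    apply hne
    have : z₂ = z₂ * y := hk
    exact mul_eq_left.1 this.symm
  -- the subgroup
  let D := stab h Y z₂
  have hkD : k ∈ D := by
    refine ⟨h.hRT hkR, fun w hw => h.hfix k hkR w hw.1, ?_⟩
    rw [hk]
    have : z₂⁻¹ * (z₂ * y) = y := by group
    rw [this]
    exact hyY
  -- conjugate Sylow subgroup lies in `D`
  obtain ⟨Sy, hSy⟩ := h.syl
  let t' : T := ⟨t, ht⟩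
  let P : Sylow p T := t' • Sy
  have hPmem : ∀ x : T, x ∈ (P : Subgroup T) ↔ (t⁻¹ * (x : MulAut V) * t) ∈ R := by
    intro x
    have h3 : x ∈ (P : Subgroup T) ↔ x ∈ MulAut.conj t' • (Sy : Subgroup T) := by
      rw [← Sylow.coe_subgroup_smul]
    rw [h3, Subgroup.mem_pointwise_smul_iff_inv_smul_mem, hSy, Subgroup.mem_subgroupOf]
    rfl
  let D' : Subgroup T := D.subgroupOf T
  have hPD : (P : Subgroup T) ≤ D' := by
    intro x hx
    have hr := (hPmem x).1 hx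
    set r := t⁻¹ * (x : MulAut V) * t with hr'
    have hxe : (x : MulAut V) = t * r * t⁻¹ := by rw [hr']; group
    have hfix : ∀ z ∈ Z, (x : MulAut V) (t z) = t z := by
      intro z hz
      rw [hxe]
      show t (r (t⁻¹ (t z))) = t z
      have : t⁻¹ (t z) = z := MulEquiv.symm_apply_apply t z
      rw [this, h.hfix r hr z hz]
    refine Subgroup.mem_subgroupOf.2 ⟨x.2, ?_, ?_⟩
    · rintro w ⟨-, z, hz, rfl⟩
      exact hfix z hz
    · have : (x : MulAut V) z₂ = z₂ := hfix z₀ hz₀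
      rw [this]
      simpa using Y.one_mem
  obtain ⟨d, hdD, hd⟩ := exists_conj_mem P D' hPD
    (k := ⟨k, h.hRT hkR⟩) (Subgroup.mem_subgroupOf.2 hkD) (isPGroup_zpowers_of_mem h hkR)
  have hdD' : (d : MulAut V) ∈ D := Subgroup.mem_subgroupOf.1 hdD
  have hr := (hPmem _).1 hd
  set r := t⁻¹ * (((d⁻¹ * ⟨k, h.hRT hkR⟩ * d : T)) : MulAut V) * t with hr'
  -- `k = (d t) r (d t)⁻¹`
  have hke : k = (d : MulAut V) * t * r * ((d : MulAut V) * t)⁻¹ := by
    rw [hr']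
    simp only [Subgroup.coe_mul, Subgroup.coe_inv]
    group
  -- `d t` carries `Z` into `Z`
  have hdt : ∀ z ∈ Z, (d : MulAut V) (t z) ∈ Z := by
    intro z hz
    by_contra hcon
    apply hk1
    refine h.hreg k hkR _ hcon ?_
    rw [hke]
    show (d : MulAut V) (t (r (((d : MulAut V) * t)⁻¹ ((d : MulAut V) (t z))))) = (d : MulAut V) (t z)
    have e : ((d : MulAut V) * t)⁻¹ ((d : MulAut V) (t z)) = z :=
      MulEquiv.symm_apply_apply ((d : MulAut V) * t) z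
    rw [e, h.hfix r hr z hz]
  have h5 := hdt z₀ hz₀
  have h6 := hdD'.2.2
  -- `d z₂ = z₂ y'`, `y' ∈ Y ≤ Z`
  apply hz₀t
  have e : z₂ = ((d : MulAut V) z₂) * (z₂⁻¹ * (d : MulAut V) z₂)⁻¹ := by group
  rw [e]
  exact Z.mul_mem h5 (Z.inv_mem h6.1)

/-- A `T`-invariant nontrivial subgroup is everything. -/
theorem eq_top_of_invariant (h : SpreadHyp p T R Z) {t : MulAut V} (ht : t ∈ T) {z₀ : V} (hz₀ : z₀ ∈ Z)
    (hz₀t : t z₀ ∉ Z) (hcard : Nat.card V = Nat.card Z ^ 2) {O : Subgroup V} (hO1 : O ≠ ⊥)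
    (hOT : ∀ α ∈ T, ∀ o ∈ O, α o ∈ O) : O = ⊤ := by
  classical
  -- `O` is not inside `Z`
  have hnot : ∃ o ∈ O, o ∉ Z := by
    by_contra hcon
    push Not at hcon
    obtain ⟨⟨o, ho⟩, ho1'⟩ := Subgroup.ne_bot_iff_exists_ne_one.1 hO1
    have ho1 : o ≠ 1 := fun h => ho1' (Subtype.ext h)
    have h1 : t⁻¹ o ∈ O := hOT _ (T.inv_mem ht) o ho
    have h2 : t (t⁻¹ o) = o := MulEquiv.apply_symm_apply t o
    have h3 := spread h ht hz₀ hz₀t (hcon _ h1) (by rw [h2]; exact hcon o ho)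
    rw [h2] at h3
    exact ho1 h3
  obtain ⟨o, ho, hoZ⟩ := hnot
  have hZO : Z ≤ O := by
    intro z hz
    obtain ⟨r, hr, hro⟩ := h.htrans o hoZ z hz
    have e : z = o⁻¹ * r o := by rw [hro]; group
    rw [e]
    exact O.mul_mem (O.inv_mem ho) (hOT r (h.hRT hr) o ho)
  have htO : ∀ z ∈ Z, t z ∈ O := fun z hz => hOT t ht z (hZO hz)
  -- counting
  let f : Z × Z → V := fun x => (x.1 : V) * t (x.2 : V)
  have hinj : Function.Injective f := by
    rintro ⟨a, b⟩ ⟨a', b'⟩ hab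
    have hab' : (a : V) * t b = a' * t b' := hab
    have e1 : t ((b' : V) * (b : V)⁻¹) = (a' : V)⁻¹ * a := by
      rw [map_mul, map_inv]
      have : (a : V) = a' * t b' * (t b)⁻¹ := by rw [← hab']; group
      rw [this]
      group
    have e2 := spread h ht hz₀ hz₀t (Z.mul_mem b'.2 (Z.inv_mem b.2)) (by rw [e1]; exact Z.mul_mem (Z.inv_mem a'.2) a.2)
    have e3 : (a : V) = a' := by
      rw [e2] at e1
      exact (inv_mul_eq_one.1 e1.symm).symm
    have e4 : (b : V) = b' := by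
      have := t.injective (e2.trans (map_one t).symm)
      exact (mul_inv_eq_one.1 this).symm
    exact Prod.ext (Subtype.ext e3) (Subtype.ext e4)
  have hbij : Function.Bijective f := by
    refine hinj.bijective_of_nat_card_le ?_
    rw [hcard, Nat.card_prod, sq]
  rw [eq_top_iff]
  intro v _
  obtain ⟨⟨a, b⟩, rfl⟩ := hbij.2 v
  exact O.mul_mem (hZO a.2) (htO b b.2)

end spread

end Cfsg.Agent.Lib.Fusion.HeisSpread
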