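import Cfsg.Agent.Lib.Fusion.BisetTransfer
import Cfsg.Agent.Lib.FusionExt.Hyperfocal

/-!
# A Thompson transfer for saturated fusion systems

The transfer to a quotient of order two along a characteristic biset is computed at an involution: when every fully normalized
conjugate of the involution avoids the subgroup of index two, the value of the transfer is nontrivial.
-/

set_option autoImplicit false

namespace Cfsg.Agent.Lib.Fusion.InvTransfer

open Cfsg Cfsg.FusionSystem Cfsg.Agent.Lib.Fusion.Basic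
  Cfsg.Agent.Lib.Fusion.Biset Cfsg.Agent.Lib.Fusion.CharBiset3 Cfsg.Agent.Lib.Fusion.BisetTransfer

universe u

/-- The counting: the product of signs over a set with an action of a `2`-group. -/
theorem prod_eq_neg_one {Ξ K : Type*} [Fintype Ξ] [Group K] [MulAction K Ξ]
    (hK : IsPGroup 2 K) (hcount : ¬ 2 ∣ Nat.card Ξ) (i : K) (hii : i * i = 1) (hcomm : ∀ k : K, i * k = k * i)
    (a : Ξ → ℤˣ) (ha : ∀ ξ, a (i • ξ) * a ξ = 1)
    (hinv : ∀ (k : K) (ξ : Ξ), i • ξ = ξ → a (k • ξ) = a ξ)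
    (hfix : ∀ ξ, (∀ k : K, k • ξ = ξ) → a ξ = -1) : ∏ ξ, a ξ = -1 := by
  classical
  haveI : Fact (Nat.Prime 2) := ⟨Nat.prime_two⟩
  haveI : Finite Ξ := inferInstance
  let B : Set Ξ := {ξ | i • ξ = ξ ∧ a ξ = -1}
  have hB : ∀ (k : K) ξ, ξ ∈ B → k • ξ ∈ B := fun k ξ hξ =>
    ⟨by rw [← mul_smul, hcomm, mul_smul, hξ.1], by rw [hinv k ξ hξ.1]; exact hξ.2⟩
  let C : SubMulAction K Ξ :=
    { carrier := Bᶜ
      smul_mem' := fun k ξ hξ h => hξ (by simpa using hB k⁻¹ _ h) }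
  have hC : 2 ∣ Nat.card C := by
    by_contra h
    obtain ⟨⟨ξ, hξ⟩, hfixξ⟩ := hK.nonempty_fixed_point_of_prime_not_dvd_card C h
    have h1 : ∀ k : K, k • ξ = ξ := fun k => congrArg Subtype.val (hfixξ k)
    exact hξ ⟨h1 i, hfix ξ h1⟩
  have hcardC : Nat.card C = (Finset.univ.filter (fun ξ => ξ ∉ B)).card := by
    have : Nat.card C = Nat.card {ξ // ξ ∉ B} := rfl
    rw [this, Nat.card_eq_fintype_card, Fintype.card_subtype]
  have hsum := Finset.card_filter_add_card_filter_not (s := (Finset.univ : Finset Ξ)) (fun ξ => ξ ∈ B)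
  have hcardX : Nat.card Ξ = (Finset.univ : Finset Ξ).card := by
    rw [Nat.card_eq_fintype_card, Finset.card_univ]
  have hodd : Odd (Finset.univ.filter (fun ξ => ξ ∈ B)).card := by
    rw [← Nat.not_even_iff_odd]
    intro he
    apply hcount
    rw [hcardX, ← hsum, ← hcardC]
    exact (Nat.dvd_add_right he.two_dvd).2 hC
  rw [← Finset.prod_filter_mul_prod_filter_not Finset.univ (fun ξ => ξ ∈ B) a]
  have h1 : ∏ ξ ∈ Finset.univ.filter (fun ξ => ξ ∈ B), a ξ = -1 := by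
    rw [Finset.prod_congr rfl (fun ξ hξ => (Finset.mem_filter.1 hξ).2.2), Finset.prod_const, hodd.neg_one_pow]
  have h2 : ∏ ξ ∈ Finset.univ.filter (fun ξ => ξ ∉ B), a ξ = 1 := by
    refine Finset.prod_involution (fun ξ _ => i • ξ) ?_ ?_ ?_ ?_
    · intro ξ _
      rw [mul_comm]
      exact ha ξ
    · intro ξ hξ hne hfx
      have h3 : ξ ∉ B := (Finset.mem_filter.1 hξ).2
      apply h3
      refine ⟨hfx, ?_⟩
      have h4 : a ξ = 1 ∨ a ξ = -1 := Int.units_eq_one_or _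
      exact h4.resolve_left hne
    · intro ξ hξ
      have h3 : ξ ∉ B := (Finset.mem_filter.1 hξ).2
      refine Finset.mem_filter.2 ⟨Finset.mem_univ _, fun h => h3 ?_⟩
      have := hB i _ h
      rwa [← mul_smul, hii, one_smul] at this
    · intro ξ _
      rw [← mul_smul, hii, one_smul]
  rw [h1, h2, mul_one]

/-- In an element of order two, normalizing is centralizing. -/
theorem conj_eq_of_mem_normalizer {Ω : Type*} [Group Ω] {i g : Ω} (hi : orderOf i = 2)
    (hg : g ∈ Subgroup.normalizer ((Subgroup.zpowers i : Subgroup Ω) : Set Ω)) : g * i * g⁻¹ = i := by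
  have h1 : g * i * g⁻¹ ∈ Subgroup.zpowers i := (Subgroup.mem_normalizer_iff.1 hg i).1 (Subgroup.mem_zpowers i)
  obtain ⟨n, hn⟩ := Subgroup.mem_zpowers_iff.1 h1
  have hi2 : i ^ 2 = 1 := by rw [← hi]; exact pow_orderOf_eq_one i
  have hi1 : i ≠ 1 := by
    intro h
    rw [h, orderOf_one] at hi
    omega
  rcases Int.even_or_odd' n with ⟨m, rfl | rfl⟩
  · exfalso
    apply hi1
    have h2 : i ^ (2 * m) = 1 := by
      rw [zpow_mul]
      have : i ^ (2 : ℤ) = 1 := by exact_mod_cast hi2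
      rw [this, one_zpow]
    rw [h2] at hn
    have h3 : g * i * g⁻¹ = 1 := hn.symm
    have h4 : g * i = g := by
      rwa [mul_inv_eq_one] at h3
    simpa using h4
  · rw [← hn, zpow_add, zpow_mul, zpow_one]
    have : i ^ (2 : ℤ) = 1 := by exact_mod_cast hi2
    rw [this, one_zpow, one_mul]

variable {Ω : Type u} [Group Ω] {S : Subgroup Ω} [Finite S]

attribute [local instance] xiAct

/-- The sign of a subgroup of index two. -/
noncomputable def sgn (T : Subgroup S) (hT : T.index = 2) : S →* ℤˣ := by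
  classical
  exact MonoidHom.mk' (fun s => if s ∈ T then 1 else -1) (by
    intro a b
    have h := Subgroup.mul_mem_iff_of_index_two hT (a := a) (b := b)
    by_cases ha : a ∈ T <;> by_cases hb : b ∈ T <;> simp [ha, hb, h])

theorem sgn_eq_neg {T : Subgroup S} {hT : T.index = 2} {s : S} (hs : s ∉ T) : sgn T hT s = -1 := by
  classical
  show (if s ∈ T then (1 : ℤˣ) else -1) = -1
  rw [if_neg hs]

variable (F : FusionSystem S) {X : Type u} [MulAction (Bi S) X] [Finite X]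

theorem isConj_zpowers {i : Ω} {ψ : Subgroup.zpowers i →* Ω} (hψ : ψ ∈ F.Hom (Subgroup.zpowers i)) :
    F.IsConj (Subgroup.zpowers i) (Subgroup.zpowers (ψ ⟨i, Subgroup.mem_zpowers i⟩)) := by
  refine ⟨ψ, hψ, le_antisymm ?_ ?_⟩
  · rintro _ ⟨⟨x, hx⟩, rfl⟩
    obtain ⟨n, rfl⟩ := Subgroup.mem_zpowers_iff.1 hx
    have e : (⟨i ^ n, hx⟩ : Subgroup.zpowers i) = (⟨i, Subgroup.mem_zpowers i⟩ : Subgroup.zpowers i) ^ n := Subtype.ext (by simp)
    rw [e, map_zpow]
    exact zpow_mem (Subgroup.mem_zpowers _) n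
  · exact Subgroup.zpowers_le.2 ⟨_, rfl⟩

omit [Finite S] in
theorem mem_normalizer_of_commute {g u : Ω} (h : g * u * g⁻¹ = u) :
    g ∈ Subgroup.normalizer ((Subgroup.zpowers u : Subgroup Ω) : Set Ω) := by
  have hc : Commute g u := by
    show g * u = u * g
    rw [mul_inv_eq_iff_eq_mul] at h
    exact h
  refine Subgroup.mem_normalizer_iff.2 (fun x => ?_)
  constructor
  · intro hx
    obtain ⟨n, rfl⟩ := Subgroup.mem_zpowers_iff.1 hx
    have : g * u ^ n * g⁻¹ = u ^ n := by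
      rw [(hc.zpow_right n).eq, mul_inv_cancel_right]
    rwa [this]
  · intro hx
    obtain ⟨n, hn⟩ := Subgroup.mem_zpowers_iff.1 hx
    have : x = u ^ n := by
      have h1 : g * x = u ^ n * g := by
        rw [hn, inv_mul_cancel_right]
      rw [← (hc.zpow_right n).eq] at h1
      exact mul_left_cancel h1
    rw [this]
    exact zpow_mem (Subgroup.mem_zpowers _) n

/-- The value of the transfer at a fully normalized involution. -/
theorem Vv_eq_neg_one (hS : IsPGroup 2 S) (hX : IsChar F 2 X) (T : Subgroup S) (hT : T.index = 2)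
    (i : S) (hi : orderOf (i : Ω) = 2) (hfn : F.IsFullyNormalized (Subgroup.zpowers (i : Ω)))
    (h : ∀ j : Ω, F.IsConjElt i j → F.IsFullyNormalized (Subgroup.zpowers j) → ∀ hj : j ∈ S, (⟨j, hj⟩ : S) ∉ T) :
    Vv hX.free_right (sgn T hT) i = -1 := by
  classical
  haveI : Fintype (Cfsg.Agent.Lib.Fusion.ModelGroup.Xi S X) := Fintype.ofFinite _
  let K : Subgroup S := (normalizerIn S (Subgroup.zpowers (i : Ω))).subgroupOf S
  have hKmem : ∀ k : K, ((k : S) : Ω) ∈ Subgroup.normalizer ((Subgroup.zpowers (i : Ω) : Subgroup Ω) : Set Ω) :=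
    fun k => (Subgroup.mem_subgroupOf.1 k.2).2
  have hicomm : ∀ k : K, ((k : S) : Ω) * i * ((k : S) : Ω)⁻¹ = i := fun k => conj_eq_of_mem_normalizer hi (hKmem k)
  have hiK : i ∈ K := Subgroup.mem_subgroupOf.2 ⟨i.2, Subgroup.le_normalizer (Subgroup.mem_zpowers (i : Ω))⟩
  let i' : K := ⟨i, hiK⟩
  have hcm : ∀ k : K, i * (k : S) = (k : S) * i := by
    intro k
    apply Subtype.ext
    have h1 := hicomm k
    rw [mul_inv_eq_iff_eq_mul] at h1
    exact h1.symm
  have hii : i * i = 1 := by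
    apply Subtype.ext
    show (i : Ω) * i = 1
    rw [← pow_two, ← hi]
    exact pow_orderOf_eq_one _
  have hfree := hX.free_right
  let a : Cfsg.Agent.Lib.Fusion.ModelGroup.Xi S X → ℤˣ := fun ξ => sgn T hT (hh i ξ)
  have ha : ∀ ξ, a (i' • ξ) * a ξ = 1 := by
    intro ξ
    show sgn T hT (hh i (i • ξ)) * sgn T hT (hh i ξ) = 1
    rw [← map_mul, ← hh_mul hfree, hii, hh_one hfree, map_one]
  have hinv : ∀ (k : K) (ξ : Cfsg.Agent.Lib.Fusion.ModelGroup.Xi S X), i' • ξ = ξ → a (k • ξ) = a ξ := by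
    intro k ξ hξ
    have hξ' : i • ξ = ξ := hξ
    have h1 := hh_mul hfree i (k : S) ξ
    have h2 := hh_mul hfree (k : S) i ξ
    rw [hcm k, h2, hξ'] at h1
    have h3 := congrArg (sgn T hT) h1
    rw [map_mul, map_mul, mul_comm] at h3
    exact (mul_right_cancel h3).symm
  have hfix : ∀ ξ : Cfsg.Agent.Lib.Fusion.ModelGroup.Xi S X, (∀ k : K, k • ξ = ξ) → a ξ = -1 := by
    intro ξ hξ
    obtain ⟨D, hD, φ, hφ, h1, h2⟩ := exists_stab_hom hX.free_right ξ.out S le_rfl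
    have hφF : φ ∈ F.Hom D := hX.gen ξ.out D hD φ hφ (fun d => h1 d)
    have hs : ∀ k : K, ∃ hd : ((k : S) : Ω) ∈ D, φ ⟨k, hd⟩ = hh (k : S) ξ := by
      intro k
      refine h2 _ (k : S).2 (hh (k : S) ξ) ?_
      have h3 := hh_spec (k : S) ξ
      have h4 : (k : S) • ξ = ξ := hξ k
      rw [h4] at h3
      exact h3
    obtain ⟨hiD, hφi⟩ := hs i'
    have hzD : Subgroup.zpowers (i : Ω) ≤ D := Subgroup.zpowers_le.2 hiD
    have hψ : φ.comp (Subgroup.inclusion hzD) ∈ F.Hom (Subgroup.zpowers (i : Ω)) := restrict_mem F hzD hφF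
    have hu : (φ.comp (Subgroup.inclusion hzD)) ⟨i, Subgroup.mem_zpowers _⟩ = (hh i ξ : Ω) := hφi
    have hconj := isConj_zpowers F hψ
    rw [hu] at hconj
    have hKD : normalizerIn S (Subgroup.zpowers (i : Ω)) ≤ D := by
      intro k hk
      exact (hs ⟨⟨k, hk.1⟩, Subgroup.mem_subgroupOf.2 hk⟩).1
    have hfnu : F.IsFullyNormalized (Subgroup.zpowers (hh i ξ : Ω)) := by
      refine ⟨Subgroup.zpowers_le.2 (hh i ξ).2, fun Q hQ => ?_⟩
      refine (hfn.2 Q (isConj_trans F hconj hQ)).trans ?_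
      haveI : Finite ↥(normalizerIn S (Subgroup.zpowers (hh i ξ : Ω))) := Cfsg.Agent.Lib.Fusion.Basic.finite_of_le inf_le_left
      let f : normalizerIn S (Subgroup.zpowers (i : Ω)) → normalizerIn S (Subgroup.zpowers (hh i ξ : Ω)) := fun k =>
        ⟨φ ⟨k, hKD k.2⟩, hφ _, by
          apply mem_normalizer_of_commute
          have hc := hicomm ⟨⟨k, k.2.1⟩, Subgroup.mem_subgroupOf.2 k.2⟩
          have h5 : (⟨k, hKD k.2⟩ : D) * ⟨i, hiD⟩ * (⟨k, hKD k.2⟩ : D)⁻¹ = ⟨i, hiD⟩ := Subtype.ext hc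
          have h6 := congrArg φ h5
          rw [map_mul, map_mul, map_inv, hφi] at h6
          exact h6⟩
      refine Nat.card_le_card_of_injective f (fun k k' hk => ?_)
      have h7 : φ ⟨k, hKD k.2⟩ = φ ⟨k', hKD k'.2⟩ := congrArg Subtype.val hk
      have h8 := F.injective_of_mem hφF h7
      exact Subtype.ext (congrArg (fun z : ↥D => (z : Ω)) h8)
    have hconjElt : F.IsConjElt i (hh i ξ : Ω) := ⟨_, hψ, hu⟩
    exact sgn_eq_neg (h _ hconjElt hfnu (hh i ξ).2)
  have hfinal := prod_eq_neg_one (hS.to_subgroup K) hX.count i' (Subtype.ext hii) (fun k => Subtype.ext (hcm k)) a ha hinv hfix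
  rw [Vv_apply]
  convert hfinal

theorem isConjElt_trans {i j k : Ω} (h₁ : F.IsConjElt i j) (h₂ : F.IsConjElt j k) : F.IsConjElt i k := by
  obtain ⟨φ, hφ, rfl⟩ := h₁
  obtain ⟨ψ, hψ, rfl⟩ := h₂
  have hv : ∀ x : Subgroup.zpowers i, φ x ∈ Subgroup.zpowers (φ ⟨i, Subgroup.mem_zpowers i⟩) := by
    have := isConj_zpowers F hφ
    obtain ⟨φ', -, h⟩ := this
    rintro ⟨x, hx⟩
    obtain ⟨n, rfl⟩ := Subgroup.mem_zpowers_iff.1 hx
    have e : (⟨i ^ n, hx⟩ : Subgroup.zpowers i) = (⟨i, Subgroup.mem_zpowers i⟩ : Subgroup.zpowers i) ^ n := Subtype.ext (by simp)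
    rw [e, map_zpow]
    exact zpow_mem (Subgroup.mem_zpowers _) n
  refine ⟨ψ.comp (φ.codRestrict _ hv), F.comp_mem hφ hψ hv, ?_⟩
  rfl

/-- **The Thompson-type transfer.** -/
theorem not_mem_focal (hS : IsPGroup 2 S) (hF : F.IsSaturated 2) (T : Subgroup Ω) (hT : T.relIndex S = 2)
    (i : Ω) (hi : i ∈ S) (hi2 : orderOf i = 2)
    (h : ∀ j : Ω, F.IsConjElt i j → F.IsFullyNormalized (Subgroup.zpowers j) → j ∉ T) :
    i ∉ F.focalSubgroup := by
  classical
  haveI : Fact (Nat.Prime 2) := ⟨Nat.prime_two⟩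
  obtain ⟨X, _, _, hX⟩ := exists_charBiset (F := F) hS hF
  have hzi : Subgroup.zpowers i ≤ S := Subgroup.zpowers_le.2 hi
  obtain ⟨Q, hQ, hQfn⟩ := exists_isFullyNormalized F hzi
  obtain ⟨φ, hφ, hφr⟩ := id hQ
  have hconj := isConj_zpowers F hφ
  let j : Ω := φ ⟨i, Subgroup.mem_zpowers i⟩
  have hQj : Q = Subgroup.zpowers j := by
    rw [← hφr]
    obtain ⟨φ', hφ', hr⟩ := hconj
    apply le_antisymm
    · rintro _ ⟨⟨x, hx⟩, rfl⟩
      obtain ⟨n, rfl⟩ := Subgroup.mem_zpowers_iff.1 hx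
      have e : (⟨i ^ n, hx⟩ : Subgroup.zpowers i) = (⟨i, Subgroup.mem_zpowers i⟩ : Subgroup.zpowers i) ^ n := Subtype.ext (by simp)
      rw [e, map_zpow]
      exact zpow_mem (Subgroup.mem_zpowers _) n
    · exact Subgroup.zpowers_le.2 ⟨_, rfl⟩
  subst hQj
  have hij : F.IsConjElt i j := ⟨φ, hφ, rfl⟩
  have hjS : j ∈ S := val_mem F hφ _
  have hj2 : orderOf j = 2 := by
    rw [← hi2]
    have h1 : orderOf (φ ⟨i, Subgroup.mem_zpowers i⟩) = orderOf (⟨i, Subgroup.mem_zpowers i⟩ : Subgroup.zpowers i) :=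
      orderOf_injective φ (F.injective_of_mem hφ) _
    rw [show orderOf j = _ from h1]
    exact Subgroup.orderOf_mk _ _
  let T' : Subgroup S := T.subgroupOf S
  have hT' : T'.index = 2 := hT
  intro hfoc
  have hstep : (i : Ω)⁻¹ * j ∈ F.focalSubgroup := Subgroup.subset_closure ⟨_, φ, ⟨i, Subgroup.mem_zpowers i⟩, hφ, rfl⟩
  have hjfoc : j ∈ F.focalSubgroup := by
    have := F.focalSubgroup.mul_mem hfoc hstep
    simpa using this
  have hV := Vv_eq_neg_one F hS hX T' hT' ⟨j, hjS⟩ hj2 hQfn (fun k hk hk2 hkS hkT => h k (isConjElt_trans F hij hk) hk2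
    (Subgroup.mem_subgroupOf.1 hkT))
  obtain ⟨y, hy, hyj⟩ := focal_le_ker hX (sgn T' hT') hjfoc
  have hy' : y = ⟨j, hjS⟩ := Subtype.ext hyj
  rw [hy'] at hy
  have h1 : Vv hX.free_right (sgn T' hT') ⟨j, hjS⟩ = 1 := hy
  rw [h1] at hV
  exact absurd hV (by decide)

end Cfsg.Agent.Lib.Fusion.InvTransfer
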