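import Cfsg.Agent.Lib.FusionExt.PPrimeMin
import Cfsg.Agent.Lib.FusionExt.LowPi2

/-!
# Lifting `p'`-automorphisms trivial on a centric subgroup of a strongly closed `T` to `T C_S(T)` (helper20)

Let `T` be strongly closed in the saturated system `F` over `S`, `C = C_S(T)`, and let `Q ≤ T` be such that `C_T(Q') ≤ Q'` for all
`F`-conjugates `Q'` of `Q`. Every automorphism of `F` of order prime to `p` of `Q C`, trivial on `Q`, extends to such an automorphism of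
`T C`, trivial on `T`.
-/

set_option autoImplicit false

namespace Cfsg.Agent.Lib.Fusion.LiftX

open Cfsg Cfsg.FusionSystem Cfsg.Agent.Lib.Fusion.Basic Cfsg.Agent.Lib.Fusion.GroupSystem
open Cfsg.Agent.Lib.FusionExt.MapApi Cfsg.Agent.Lib.FusionExt.Basic Cfsg.Agent.Lib.FusionExt.Normal
open Cfsg.Agent.Lib.FusionExt.PowerSys Cfsg.Agent.Lib.FusionExt.PowerGen Cfsg.Agent.Lib.FusionExt.PrimeRes1
open Cfsg.Agent.Lib.FusionExt.PrimeRes2 Cfsg.Agent.Lib.Fusion.Saturation Cfsg.Agent.Lib.Fusion.Saturation2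
open Cfsg.Agent.Lib.FusionExt.SatCrit1 Cfsg.Agent.Lib.FusionExt.Invariant Cfsg.Agent.Lib.FusionExt.PowerE
open Cfsg.Agent.Lib.FusionExt.LowPi Cfsg.Agent.Lib.FusionExt.CentSys
open Cfsg.Agent.Lib.FusionExt.FixQ Cfsg.Agent.Lib.FusionExt.PPrimeMin

variable {Ω : Type*} [Group Ω] {S T : Subgroup Ω} {F : FusionSystem S} {E : FusionSystem T} {p : ℕ}
variable {Q L R U : Subgroup Ω} {f g h θ : Ω → Ω}

/-- A map of the system with source inside a strongly closed subgroup has values in it. -/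
theorem sc_mp (hT : F.StronglyClosed T) {X : Subgroup Ω} (hf : Mp F X f) (hX : X ≤ T) {x : Ω} (hx : x ∈ X) : f x ∈ T := by
  obtain ⟨φ, hφ, e⟩ := hf
  rw [← e ⟨x, hx⟩]
  exact hT.2 X hX φ hφ ⟨x, hx⟩

section main

variable [Finite S] [Fact p.Prime]

/-- Moving a `p`-subgroup of `Aut_F(L)` into `Aut_S` of a fully normalized conjugate. -/
theorem exists_pos (hS : IsPGroup p S) (hF : F.IsSaturated p) (hL : L ≤ S) (H : Subgroup (MulAut L))
    (hH : H ≤ F.autGroup L) (hp : IsPGroup p H) :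
    ∃ (L₃ : Subgroup Ω) (ν μ : Ω → Ω), Mp F L ν ∧ Img L ν L₃ ∧ Mp F L₃ μ ∧ (∀ x ∈ L, μ (ν x) = x) ∧
      (∀ y ∈ L₃, ν (μ y) = y) ∧ Img L₃ μ L ∧ F.IsFullyNormalized L₃ ∧
      ∀ h ∈ H, ∃ s ∈ S, ∀ x ∈ L, ν (autFun h x) = s * ν x * s⁻¹ := by
  obtain ⟨R, hLR, hfn⟩ := exists_isFullyNormalized F hL
  have hRS : R ≤ S := hfn.1
  haveI : Finite R := finite_of_le hRS
  haveI : Finite L := finite_of_le hL
  haveI : Finite (MulAut R) := Cfsg.Agent.Lib.Fusion.Basic.finite_mulAut_of_finite (A := R)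
  obtain ⟨φ, hφ, hi⟩ := hLR
  have hm : Mp F L (extOf φ) := mp_of_hom hφ
  have himg : Img L (extOf φ) R := by
    refine ⟨fun x hx => ?_, fun y hy => ?_⟩
    · rw [extOf_of_mem φ hx, ← hi]
      exact ⟨_, rfl⟩
    · rw [← hi] at hy
      obtain ⟨x, rfl⟩ := hy
      exact ⟨x, x.2, extOf_coe φ x⟩
  obtain ⟨μ₀, hμ₀, a1, a2, a3⟩ := hm.inverse himg
  let e : L ≃* R :=
    { toFun := fun x => ⟨extOf φ x, himg.1 x x.2⟩
      invFun := fun y => ⟨μ₀ y, a3.1 y y.2⟩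
      left_inv := fun x => Subtype.ext (a1 x x.2)
      right_inv := fun y => Subtype.ext (a2 y y.2)
      map_mul' := fun x y => Subtype.ext (hm.map_mul x.2 y.2) }
  have he : ∀ x : L, ((e x : R) : Ω) = extOf φ x := fun _ => rfl
  have hes : ∀ y : R, ((e.symm y : L) : Ω) = μ₀ y := fun _ => rfl
  let H₃ : Subgroup (MulAut R) := H.map (MulAut.congr e).toMonoidHom
  have hcong : ∀ (h : MulAut L) (x : L), (MulAut.congr e h) (e x) = e (h x) := by
    intro h x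
    simp [MulAut.congr]
  have hH₃ : H₃ ≤ F.autGroup R := by
    rintro _ ⟨h, hh, rfl⟩
    have h1 : Mp F R (fun y => extOf φ (autFun h (μ₀ y))) :=
      (hμ₀.comp a3.1 (mp_autFun hL (hH hh))).comp (fun y hy => (img_autFun h).1 _ (a3.1 y hy)) hm
    refine mem_autGroup_of_hom F (φ := homOf R (fun y => extOf φ (autFun h (μ₀ y))) (fun x hx y hy => h1.map_mul hx hy)) ?_ _ ?_
    · exact hom_of_mp (h1.congr (fun y hy => by
        rw [extOf_of_mem _ hy]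
        rfl))
    · intro y
      obtain ⟨x, rfl⟩ := e.surjective y
      show (((MulAut.congr e h) (e x) : R) : Ω) = extOf φ (autFun h (μ₀ (e x)))
      rw [hcong, he]
      have e1 : μ₀ (e x) = (x : Ω) := a1 x x.2
      rw [e1, autFun_coe]
  have hp₃ : IsPGroup p H₃ := hp.map _
  have hsyl : IsSylowIn p (autInducedBy S R) (F.autGroup R) := (isFullyAutomized_of_isFullyNormalized F hS hF hfn).2
  obtain ⟨b, hb, hbc⟩ := hsyl.exists_conj hH₃ hp₃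
  have hbm : Mp F R (autFun b) := mp_autFun hRS hb
  have hbi : Mp F R (autFun b⁻¹) := mp_autFun hRS (Subgroup.inv_mem _ hb)
  refine ⟨R, fun x => autFun b (extOf φ x), fun y => μ₀ (autFun b⁻¹ y), hm.comp himg.1 hbm, himg.comp (img_autFun b),
    hbi.comp (img_autFun b⁻¹).1 hμ₀, fun x hx => ?_, fun y hy => ?_, (img_autFun b⁻¹).comp a3, hfn, ?_⟩
  · show μ₀ (autFun b⁻¹ (autFun b (extOf φ x))) = x
    rw [autFun_inv_apply, a1 x hx]
  · show autFun b (extOf φ (μ₀ (autFun b⁻¹ y))) = y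
    rw [a2 _ ((img_autFun b⁻¹).1 y hy), autFun_apply_inv]
  · intro h hh
    obtain ⟨s, hs, hse⟩ := (mem_autInducedBy_iff S R _).1 (hbc _ ⟨h, hh, rfl⟩)
    refine ⟨s, hs, fun x hx => ?_⟩
    have h2 := hse (b (e ⟨x, hx⟩))
    have h3 : (b * (MulAut.congr e).toMonoidHom h * b⁻¹) (b (e ⟨x, hx⟩)) = b (e (h ⟨x, hx⟩)) := by
      show b ((MulAut.congr e h) (b⁻¹ (b (e ⟨x, hx⟩)))) = _
      rw [MulAut.inv_apply_self, hcong]
    rw [h3] at h2
    show autFun b (extOf φ (autFun h x)) = s * autFun b (extOf φ x) * s⁻¹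
    have e3 : autFun h x = ((h ⟨x, hx⟩ : L) : Ω) := autFun_of_mem h hx
    have e4 : autFun b (extOf φ ((h ⟨x, hx⟩ : L) : Ω)) = ((b (e (h ⟨x, hx⟩)) : R) : Ω) := by
      rw [← he, autFun_coe]
    have e5 : autFun b (extOf φ x) = ((b (e ⟨x, hx⟩) : R) : Ω) := by
      have := he ⟨x, hx⟩
      rw [show extOf φ x = ((e ⟨x, hx⟩ : R) : Ω) from this.symm, autFun_coe]
    rw [e3, e4, e5]
    exact h2

/-- The step from `Q` to `N_T(Q)`. -/
theorem key_step (hS : IsPGroup p S) (hF : F.IsSaturated p) (hT : F.StronglyClosed T) (hQT : Q ≤ T)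
    (hc : ∀ Q', F.IsConj Q Q' → zz T Q' ≤ Q') (hθ : Pp F p (Q ⊔ centralizerIn S T) θ) (htriv : ∀ x ∈ Q, θ x = x) :
    ∃ θ₁, Pp F p (normalizerIn T Q ⊔ centralizerIn S T) θ₁ ∧ (∀ x ∈ normalizerIn T Q, θ₁ x = x) ∧
      ∀ x ∈ Q ⊔ centralizerIn S T, θ₁ x = θ x := by
  classical
  have hTS : T ≤ S := hT.1
  obtain ⟨C, hCdef⟩ : ∃ C, C = centralizerIn S T := ⟨_, rfl⟩
  rw [← hCdef] at hθ ⊢
  have hCS : C ≤ S := hCdef ▸ inf_le_left
  have hCc : ∀ c ∈ C, ∀ t ∈ T, t * c = c * t := fun c hc' t ht => (mem_cent.1 (hCdef ▸ hc')).2 t ht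
  have hCn : ∀ s ∈ S, ∀ c ∈ C, s * c * s⁻¹ ∈ C := fun s hs c hc' => hCdef ▸ conj_cA hT hs (hCdef ▸ hc')
  obtain ⟨M, hMdef⟩ : ∃ M, M = normalizerIn T Q := ⟨_, rfl⟩
  rw [← hMdef]
  have hQM : Q ≤ M := hMdef ▸ le_normalizerIn hQT
  have hMT : M ≤ T := hMdef ▸ normalizerIn_le_left T Q
  have hMn : ∀ m ∈ M, m ∈ Subgroup.normalizer (Q : Set Ω) := fun m hm => (hMdef ▸ hm : m ∈ normalizerIn T Q).2
  haveI : Finite C := finite_of_le hCS
  obtain ⟨L, hLdef⟩ : ∃ L, L = Q ⊔ C := ⟨_, rfl⟩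
  obtain ⟨N, hNdef⟩ : ∃ N, N = M ⊔ C := ⟨_, rfl⟩
  rw [← hLdef] at hθ ⊢
  rw [← hNdef]
  have hQL : Q ≤ L := hLdef ▸ le_sup_left
  have hCL : C ≤ L := hLdef ▸ le_sup_right
  have hMN : M ≤ N := hNdef ▸ le_sup_left
  have hCN : C ≤ N := hNdef ▸ le_sup_right
  have hLN : L ≤ N := hLdef ▸ sup_le (hQM.trans hMN) hCN
  have hNS : N ≤ S := hNdef ▸ sup_le (hMT.trans hTS) hCS
  have hLS : L ≤ S := hLN.trans hNS
  have hQS : Q ≤ S := hQL.trans hLS
  haveI : Finite L := finite_of_le hLS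
  haveI : Finite N := finite_of_le hNS
  haveI : Finite (MulAut L) := Cfsg.Agent.Lib.Fusion.Basic.finite_mulAut_of_finite (A := L)
  have hCQ : C ≤ Subgroup.normalizer (Q : Set Ω) := by
    intro c hc'
    refine Subgroup.mem_normalizer_iff.2 (fun x => ?_)
    constructor
    · intro hx
      have : c * x * c⁻¹ = x := by rw [← hCc c hc' x (hQT hx)]; group
      rwa [this]
    · intro hx
      have hx' : c⁻¹ * (c * x * c⁻¹) * c = x := by group
      have h2 : (c * x * c⁻¹) * c = c * (c * x * c⁻¹) := hCc c hc' _ (hQT hx)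
      have : c * x * c⁻¹ = x := by
        have h3 := h2
        have e : c * x * c⁻¹ * c = c * x := by group
        rw [e] at h3
        exact (mul_left_cancel h3).symm
      rwa [this] at hx
  have hcq : ∀ x ∈ L, ∃ c ∈ C, ∃ q ∈ Q, x = c * q := by
    intro x hx
    rw [hLdef, sup_comm] at hx
    exact exists_mul_of_mem_sup' hCQ hx
  have hMC : M ≤ Subgroup.normalizer (C : Set Ω) := fun m hm =>
    mem_normalizer_of_conj_le' (U := C) (fun x hx => hCn m (hTS (hMT hm)) x hx)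
  have hmc : ∀ y ∈ N, ∃ m ∈ M, ∃ c ∈ C, y = m * c := by
    intro y hy
    rw [hNdef] at hy
    exact exists_mul_of_mem_sup' hMC hy
  have hmcomm : ∀ m ∈ M, ∀ c ∈ C, m * c * m⁻¹ = c := by
    intro m hm c hc'
    rw [hCc c hc' m (hMT hm)]
    group
  have hNQ : N ≤ Subgroup.normalizer (Q : Set Ω) := hNdef ▸ sup_le hMn hCQ
  have hMnL : ∀ m ∈ M, m ∈ Subgroup.normalizer (L : Set Ω) := by
    intro m hm
    refine mem_normalizer_of_conj_le' (U := L) (fun x hx => ?_)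
    obtain ⟨c, hc', q, hq, rfl⟩ := hcq x hx
    have e : m * (c * q) * m⁻¹ = (m * c * m⁻¹) * (m * q * m⁻¹) := by group
    rw [e, hmcomm m hm c hc']
    exact L.mul_mem (hCL hc') (hQL (norm_conj (hMn m hm) hq))
  have hNnorm : N ≤ Subgroup.normalizer (L : Set Ω) := by
    rw [hNdef]
    exact sup_le hMnL (hCL.trans Subgroup.le_normalizer)
  -- the stability group
  let BB : Subgroup (MulAut L) := finSub
    { carrier := {b | b ∈ F.autGroup L ∧ (∀ q ∈ Q, autFun b q = q) ∧ ∀ y ∈ L, y⁻¹ * autFun b y ∈ Q}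
      one_mem' := ⟨Subgroup.one_mem _, fun q _ => autFun_one_apply q, fun y _ => by
        rw [autFun_one_apply, inv_mul_cancel]
        exact Q.one_mem⟩
      mul_mem' := by
        rintro a b ⟨h1, h2, h3⟩ ⟨h4, h5, h6⟩
        refine ⟨Subgroup.mul_mem _ h1 h4, fun q hq => ?_, fun y hy => ?_⟩
        · rw [autFun_mul_apply, h5 q hq, h2 q hq]
        · rw [autFun_mul_apply]
          obtain ⟨q, hq, e⟩ : ∃ q ∈ Q, autFun b y = y * q := ⟨_, h6 y hy, by group⟩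
          rw [e, autFun_mul a hy (hQL hq), h2 q hq]
          have e2 : y⁻¹ * (autFun a y * q) = (y⁻¹ * autFun a y) * q := by group
          rw [e2]
          exact Q.mul_mem (h3 y hy) hq }
  have hBB : ∀ {b}, b ∈ BB ↔ b ∈ F.autGroup L ∧ (∀ q ∈ Q, autFun b q = q) ∧ ∀ y ∈ L, y⁻¹ * autFun b y ∈ Q := Iff.rfl
  have hBp : IsPGroup p BB := by
    rintro ⟨b, hb⟩
    obtain ⟨-, h2, h3⟩ := hBB.1 hb
    obtain ⟨k, hk⟩ := pow_fix_step (P := L) (hS.to_le hLS) b (M := L) (N := Q) hQL (fun x _ => by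
      have := h3 x x.2
      rwa [autFun_coe] at this) ⟨0, fun z hz => by
        apply Subtype.ext
        have := h2 z hz
        rw [autFun_coe] at this
        simpa using this⟩
    refine ⟨k, Subtype.ext (MulEquiv.ext fun x => ?_)⟩
    exact hk x x.2
  have hJp : IsPGroup p (autInducedBy N L) := isPGroup_autInducedBy L (hS.to_le hNS)
  have hJF : autInducedBy N L ≤ F.autGroup L := (autInducedBy_mono L hNS).trans (autInducedBy_le_autGroup F hLS)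
  have hconjB : ∀ j ∈ autInducedBy N L, ∀ b ∈ BB, j * b * j⁻¹ ∈ BB := by
    intro j hj b hb
    obtain ⟨h1, h2, h3⟩ := hBB.1 hb
    obtain ⟨g, hgN, hgj⟩ := (mem_autInducedBy_iff N L j).1 hj
    have hjf : ∀ x ∈ L, autFun j x = g * x * g⁻¹ := fun x hx => by
      rw [autFun_of_mem j hx]
      exact hgj ⟨x, hx⟩
    have hgnL := hNnorm hgN
    have hgnQ := hNQ hgN
    have hjfi : ∀ x ∈ L, autFun j⁻¹ x = g⁻¹ * x * g := by
      intro x hx
      have e1 : x = g * (g⁻¹ * x * g) * g⁻¹ := by group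
      have hm : g⁻¹ * x * g ∈ L := conj_inv_mem hgnL hx
      have e2 := autFun_inv_apply j (g⁻¹ * x * g)
      rw [hjf _ hm, ← e1] at e2
      exact e2
    refine hBB.2 ⟨Subgroup.mul_mem _ (Subgroup.mul_mem _ (hJF hj) h1) (Subgroup.inv_mem _ (hJF hj)), fun q hq => ?_, fun y hy => ?_⟩
    · rw [autFun_mul_apply, autFun_mul_apply, hjfi q (hQL hq), h2 _ (conj_inv_mem hgnQ hq),
        hjf _ (hQL (conj_inv_mem hgnQ hq))]
      group
    · rw [autFun_mul_apply, autFun_mul_apply, hjfi y hy]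
      have hm : g⁻¹ * y * g ∈ L := conj_inv_mem hgnL hy
      have hq₁ := h3 _ hm
      have hbm : autFun b (g⁻¹ * y * g) ∈ L := (img_autFun b).1 _ hm
      rw [hjf _ hbm]
      have e : y⁻¹ * (g * autFun b (g⁻¹ * y * g) * g⁻¹) = g * ((g⁻¹ * y * g)⁻¹ * autFun b (g⁻¹ * y * g)) * g⁻¹ := by group
      rw [e]
      exact norm_conj hgnQ hq₁
  have hJn : autInducedBy N L ≤ Subgroup.normalizer (BB : Set (MulAut L)) := by
    intro j hj
    refine Subgroup.mem_normalizer_iff.2 (fun b => ⟨fun hb => hconjB j hj b hb, fun hb => ?_⟩)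
    have := hconjB j⁻¹ (Subgroup.inv_mem _ hj) _ hb
    have e : j⁻¹ * (j * b * j⁻¹) * j⁻¹⁻¹ = b := by group
    rwa [e] at this
  have hHp : IsPGroup p (autInducedBy N L ⊔ BB : Subgroup (MulAut L)) := IsPGroup.to_sup_of_normal_right' hJp hBp hJn
  have hHF : (autInducedBy N L ⊔ BB : Subgroup (MulAut L)) ≤ F.autGroup L := sup_le hJF (fun b hb => (hBB.1 hb).1)
  obtain ⟨L₃, ν, μ, hν, hνi, hμ, a1, a2, a3, hfn, hpos⟩ := exists_pos hS hF hLS _ hHF hHp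
  have hrc := isReceptive_of_isFullyNormalized F hS hF hfn
  haveI : Finite L₃ := finite_of_le hfn.1
  -- extending `ν`
  obtain ⟨ν', hν', hν'e⟩ := hν.ext_rec hrc hνi hLN (fun y hy => by
    refine ⟨hNS hy, hNnorm hy, ?_⟩
    obtain ⟨s, hs, hse⟩ := hpos (normAct L (hNnorm hy)) (Subgroup.mem_sup_left (normAct_mem_autInducedBy N L _ hy))
    refine ⟨s, hs, fun x hx => ?_⟩
    rw [← hse x hx, autFun_of_mem _ hx]
    rfl)
  obtain ⟨N₃, hN₃⟩ := hν'.exists_img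
  obtain ⟨μ', hμ', b1, b2, b3⟩ := hν'.inverse hN₃
  have hN₃S : N₃ ≤ S := hν'.img_le hN₃
  haveI : Finite N₃ := finite_of_le hN₃S
  have hL₃N₃ : L₃ ≤ N₃ := by
    intro y hy
    obtain ⟨x, hx, rfl⟩ := hνi.2 y hy
    rw [← hν'e x hx]
    exact hN₃.1 x (hLN hx)
  have hθ₃ : Pp F p L₃ (fun y => ν (θ (μ y))) := Pp.conj_iso hθ hν hνi hμ a1 a2 a3.1
  obtain ⟨Q₃, hQ₃⟩ := (hν.restrict hQL).exists_img
  have hcQ₃ : zz T Q₃ ≤ Q₃ := hc Q₃ ((hν.restrict hQL).isConj hQ₃)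
  have hQ₃L₃ : Q₃ ≤ L₃ := by
    intro y hy
    obtain ⟨x, hx, rfl⟩ := hQ₃.2 y hy
    exact hνi.1 x (hQL hx)
  have hθ₃Q : ∀ y ∈ Q₃, ν (θ (μ y)) = y := by
    intro y hy
    obtain ⟨q, hq, rfl⟩ := hQ₃.2 y hy
    rw [a1 q (hQL hq), htriv q hq]
  -- the automorphism
  obtain ⟨a, ha, hae⟩ := hθ.1.toAut hθ.2.1
  have hae' : ∀ x ∈ L, autFun a x = θ x := fun x hx => by
    rw [autFun_of_mem a hx]
    exact hae ⟨x, hx⟩
  have hafix : ∀ q ∈ Q, autFun a q = q := fun q hq => by rw [hae' q (hQL hq), htriv q hq]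
  have hafixi : ∀ q ∈ Q, autFun a⁻¹ q = q := fun q hq => by
    have := autFun_inv_apply a q
    rwa [hafix q hq] at this
  have hcf : ∀ (y : Ω) (hy : y ∈ N), ∀ x ∈ L, autFun (normAct L (hNnorm hy)) x = y * x * y⁻¹ := by
    intro y hy x hx
    rw [autFun_of_mem _ hx]
    rfl
  have hConj : ∀ (y : Ω) (hy : y ∈ N), a * normAct L (hNnorm hy) * a⁻¹ ∈ (autInducedBy N L ⊔ BB : Subgroup (MulAut L)) := by
    intro y hy
    obtain ⟨m, hm, c, hc', rfl⟩ := hmc y hy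
    have hmN := hMN hm
    have hcN := hCN hc'
    have e1 : normAct L (hNnorm hy) = normAct L (hNnorm hmN) * normAct L (hNnorm hcN) := by
      ext x
      show (m * c) * (x : Ω) * (m * c)⁻¹ = m * (c * (x : Ω) * c⁻¹) * m⁻¹
      group
    have e2 : a * (normAct L (hNnorm hmN) * normAct L (hNnorm hcN)) * a⁻¹ =
        (a * normAct L (hNnorm hmN) * a⁻¹ * (normAct L (hNnorm hmN))⁻¹) * normAct L (hNnorm hmN) *
          (a * normAct L (hNnorm hcN) * a⁻¹) := by group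
    rw [e1, e2]
    refine Subgroup.mul_mem _ (Subgroup.mul_mem _ (Subgroup.mem_sup_right ?_)
      (Subgroup.mem_sup_left (normAct_mem_autInducedBy N L _ hmN))) (Subgroup.mem_sup_left ?_)
    · -- the commutator is in the stability group
      have hcm := hcf m hmN
      have hcmi : ∀ x ∈ L, autFun (normAct L (hNnorm hmN))⁻¹ x = m⁻¹ * x * m := by
        intro x hx
        have e3 : x = m * (m⁻¹ * x * m) * m⁻¹ := by group
        have hmx : m⁻¹ * x * m ∈ L := conj_inv_mem (hNnorm hmN) hx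
        have e4 := autFun_inv_apply (normAct L (hNnorm hmN)) (m⁻¹ * x * m)
        rw [hcm _ hmx, ← e3] at e4
        exact e4
      have hF1 : normAct L (hNnorm hmN) ∈ F.autGroup L := hJF (normAct_mem_autInducedBy N L _ hmN)
      have hb1 : a * normAct L (hNnorm hmN) * a⁻¹ * (normAct L (hNnorm hmN))⁻¹ ∈ F.autGroup L :=
        Subgroup.mul_mem _ (Subgroup.mul_mem _ (Subgroup.mul_mem _ ha hF1) (Subgroup.inv_mem _ ha)) (Subgroup.inv_mem _ hF1)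
      have hbf : ∀ x, autFun (a * normAct L (hNnorm hmN) * a⁻¹ * (normAct L (hNnorm hmN))⁻¹) x =
          autFun a (autFun (normAct L (hNnorm hmN)) (autFun a⁻¹ (autFun (normAct L (hNnorm hmN))⁻¹ x))) := by
        intro x
        rw [autFun_mul_apply, autFun_mul_apply, autFun_mul_apply]
      have hfix : ∀ q ∈ Q, autFun (a * normAct L (hNnorm hmN) * a⁻¹ * (normAct L (hNnorm hmN))⁻¹) q = q := by
        intro q hq
        have hq1 : m⁻¹ * q * m ∈ Q := conj_inv_mem (hMn m hm) hq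
        rw [hbf, hcmi q (hQL hq), hafixi _ hq1, hcm _ (hQL hq1)]
        have e3 : m * (m⁻¹ * q * m) * m⁻¹ = q := by group
        rw [e3, hafix q hq]
      refine hBB.2 ⟨hb1, hfix, fun y hy => ?_⟩
      obtain ⟨c₁, hc₁, q₁, hq₁, rfl⟩ := hcq y hy
      rw [autFun_mul _ (hCL hc₁) (hQL hq₁), hfix q₁ hq₁]
      have key : c₁⁻¹ * autFun (a * normAct L (hNnorm hmN) * a⁻¹ * (normAct L (hNnorm hmN))⁻¹) c₁ ∈ Q := by
        rw [hbf, hcmi c₁ (hCL hc₁)]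
        have e3 : m⁻¹ * c₁ * m = c₁ := by
          have := hmcomm m⁻¹ (M.inv_mem hm) c₁ hc₁
          rwa [inv_inv] at this
        rw [e3]
        have hy' : autFun a⁻¹ c₁ ∈ L := (img_autFun a⁻¹).1 _ (hCL hc₁)
        obtain ⟨c', hc'', q', hq', hy''⟩ := hcq _ hy'
        rw [hy'', hcm _ (L.mul_mem (hCL hc'') (hQL hq'))]
        have e4 : m * (c' * q') * m⁻¹ = c' * (m * q' * m⁻¹) := by
          have : m * (c' * q') * m⁻¹ = (m * c' * m⁻¹) * (m * q' * m⁻¹) := by group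
          rw [this, hmcomm m hm c' hc'']
        have hq'' : m * q' * m⁻¹ ∈ Q := norm_conj (hMn m hm) hq'
        rw [e4, autFun_mul a (hCL hc'') (hQL hq''), hafix _ hq'']
        have e5 : autFun a c' * q' = c₁ := by
          have := autFun_apply_inv a c₁
          rw [hy'', autFun_mul a (hCL hc'') (hQL hq'), hafix q' hq'] at this
          exact this
        have e6 : autFun a c' = c₁ * q'⁻¹ := by
          rw [← e5]
          group
        rw [e6]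
        have e7 : c₁⁻¹ * (c₁ * q'⁻¹ * (m * q' * m⁻¹)) = q'⁻¹ * (m * q' * m⁻¹) := by group
        rw [e7]
        exact Q.mul_mem (Q.inv_mem hq') hq''
      have e8 : (c₁ * q₁)⁻¹ * (autFun (a * normAct L (hNnorm hmN) * a⁻¹ * (normAct L (hNnorm hmN))⁻¹) c₁ * q₁) =
          q₁⁻¹ * (c₁⁻¹ * autFun (a * normAct L (hNnorm hmN) * a⁻¹ * (normAct L (hNnorm hmN))⁻¹) c₁) * q₁ := by group
      rw [e8]
      exact Q.mul_mem (Q.mul_mem (Q.inv_mem hq₁) key) hq₁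
    · -- conjugation by `c` is carried to conjugation by `θ c`
      refine (mem_autInducedBy_iff N L _).2 ⟨θ c, hLN (hθ.2.1.1 c (hCL hc')), fun x => ?_⟩
      have h1 : autFun (a * normAct L (hNnorm hcN) * a⁻¹) x = θ c * x * (θ c)⁻¹ := by
        rw [autFun_mul_apply, autFun_mul_apply, hcf c hcN _ ((img_autFun a⁻¹).1 _ x.2)]
        rw [autFun_mul a (L.mul_mem (hCL hc') ((img_autFun a⁻¹).1 _ x.2)) (L.inv_mem (hCL hc')),
          autFun_mul a (hCL hc') ((img_autFun a⁻¹).1 _ x.2), autFun_inv' a (hCL hc'), autFun_apply_inv, hae' c (hCL hc')]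
      rw [autFun_coe] at h1
      exact h1
  -- extending `θ₃`
  obtain ⟨b', hb', hb'e⟩ := hθ₃.1.ext_rec hrc hθ₃.2.1 hL₃N₃ (fun y hy => by
    obtain ⟨y₀, hy₀, rfl⟩ := hN₃.2 y hy
    have hval : ∀ l ∈ L, ν' y₀ * ν l * (ν' y₀)⁻¹ = ν (y₀ * l * y₀⁻¹) := by
      intro l hl
      have hw : y₀ * l * y₀⁻¹ ∈ L := norm_conj (hNnorm hy₀) hl
      rw [← hν'e l hl, ← hν'e _ hw, hν'.map_conj hy₀ (hLN hl)]
    refine ⟨hN₃S hy, mem_normalizer_of_conj_le' (U := L₃) (fun x hx => ?_), ?_⟩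
    · obtain ⟨l, hl, rfl⟩ := hνi.2 x hx
      rw [hval l hl]
      exact hνi.1 _ (norm_conj (hNnorm hy₀) hl)
    · obtain ⟨s, hs, hse⟩ := hpos _ (hConj y₀ hy₀)
      refine ⟨s, hs, fun x hx => ?_⟩
      obtain ⟨l, hl, rfl⟩ := hνi.2 x hx
      have hw : y₀ * l * y₀⁻¹ ∈ L := norm_conj (hNnorm hy₀) hl
      rw [hval l hl]
      show ν (θ (μ (ν (y₀ * l * y₀⁻¹)))) = s * ν (θ (μ (ν l))) * s⁻¹
      rw [a1 _ hw, a1 l hl, ← hse _ (hθ.2.1.1 l hl), autFun_mul_apply, autFun_mul_apply, ← hae' l hl, autFun_inv_apply,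
        hcf y₀ hy₀ l hl, hae' _ hw])
  have hb'Q : ∀ y ∈ Q₃, b' y = y := fun y hy => by rw [hb'e y (hQ₃L₃ hy)]; exact hθ₃Q y hy
  have hb'm : ∀ m ∈ M, ∃ z ∈ Q₃, b' (ν' m) = ν' m * z := by
    intro m hm
    have hmN := hMN hm
    have hm₃T : ν' m ∈ T := sc_mp hT (hν'.restrict hMN) hMT hm
    have hm₃N : ν' m ∈ N₃ := hN₃.1 m hmN
    obtain ⟨M₃, hM₃⟩ := (hν'.restrict hMN).exists_img
    have hM₃T : M₃ ≤ T := by
      intro y hy
      obtain ⟨x, hx, rfl⟩ := hM₃.2 y hy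
      exact sc_mp hT (hν'.restrict hMN) hMT hx
    have hM₃N₃ : M₃ ≤ N₃ := by
      intro y hy
      obtain ⟨x, hx, rfl⟩ := hM₃.2 y hy
      exact hN₃.1 x (hMN hx)
    have hbT : b' (ν' m) ∈ T := sc_mp hT (hb'.restrict hM₃N₃) hM₃T (hM₃.1 m hm)
    refine ⟨(ν' m)⁻¹ * b' (ν' m), hcQ₃ (mem_zz.2 ⟨T.mul_mem (T.inv_mem hm₃T) hbT, fun y hy => ?_⟩), by group⟩
    obtain ⟨q, hq, rfl⟩ := hQ₃.2 y hy
    have hq' : m * q * m⁻¹ ∈ Q := norm_conj (hMn m hm) hq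
    have hqN : q ∈ N := hLN (hQL hq)
    have e1 : ν' m * ν q * (ν' m)⁻¹ = ν (m * q * m⁻¹) := by
      rw [← hν'e q (hQL hq), ← hν'e _ (hQL hq'), hν'.map_conj hmN hqN]
    have e2 : b' (ν' m * ν q * (ν' m)⁻¹) = ν' m * ν q * (ν' m)⁻¹ := by
      rw [e1]
      exact hb'Q _ (hQ₃.1 _ hq')
    rw [hb'.map_conj hm₃N (hL₃N₃ (hνi.1 q (hQL hq))), hb'Q _ (hQ₃.1 q hq)] at e2
    have e3 : b' (ν' m) * ν q = ν' m * ν q * (ν' m)⁻¹ * b' (ν' m) := by
      rw [← e2]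
      group
    calc ν q * ((ν' m)⁻¹ * b' (ν' m)) = (ν' m)⁻¹ * (ν' m * ν q * (ν' m)⁻¹ * b' (ν' m)) := by group
      _ = (ν' m)⁻¹ * (b' (ν' m) * ν q) := by rw [e3]
      _ = _ := by group
  have hb'N₃ : ∀ y ∈ N₃, b' y ∈ N₃ := by
    intro y hy
    obtain ⟨y₀, hy₀, rfl⟩ := hN₃.2 y hy
    obtain ⟨m, hm, c, hc', rfl⟩ := hmc y₀ hy₀
    have hmN := hMN hm
    have hcN := hCN hc'
    rw [hν'.map_mul hmN hcN, hb'.map_mul (hN₃.1 m hmN) (hN₃.1 c hcN)]
    obtain ⟨z, hz, e⟩ := hb'm m hm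
    rw [e, hν'e c (hCL hc'), hb'e _ (hνi.1 c (hCL hc'))]
    exact N₃.mul_mem (N₃.mul_mem (hN₃.1 m hmN) (hL₃N₃ (hQ₃L₃ hz))) (hL₃N₃ (hθ₃.2.1.1 _ (hνi.1 c (hCL hc'))))
  have hb'i : Img N₃ b' N₃ := Cfsg.Agent.Lib.FusionExt.LowPi.img_self hb' hb'N₃
  obtain ⟨f', k, hf', hf'e, hf'i⟩ := pp_extend' hN₃S hb' hb'i hL₃N₃ hθ₃ hb'e
  have hf'Q : ∀ y ∈ Q₃, f' y = y := fun y hy => by rw [hf'e y (hQ₃L₃ hy)]; exact hθ₃Q y hy
  have hf'm : ∀ m ∈ M, f' (ν' m) = ν' m := by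
    intro m hm
    have hmN := hMN hm
    have hm₃N : ν' m ∈ N₃ := hN₃.1 m hmN
    have hstep : ∀ j : ℕ, ∃ z ∈ Q₃, b'^[j] (ν' m) = ν' m * z := by
      intro j
      induction j with
      | zero => exact ⟨1, Q₃.one_mem, by simp⟩
      | succ j ih =>
        obtain ⟨z, hz, e⟩ := ih
        obtain ⟨z₁, hz₁, e₁⟩ := hb'm m hm
        refine ⟨z₁ * z, Q₃.mul_mem hz₁ hz, ?_⟩
        rw [Function.iterate_succ_apply', e, hb'.map_mul hm₃N (hL₃N₃ (hQ₃L₃ hz)), e₁, hb'Q z hz, mul_assoc]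
    obtain ⟨z₀, hz₀, e₀⟩ := hstep k
    rw [← hf'i _ hm₃N] at e₀
    obtain ⟨-, -, n, hn, hnn⟩ := id hf'
    have hit : ∀ j : ℕ, f'^[j] (ν' m) = ν' m * z₀ ^ j := by
      intro j
      induction j with
      | zero => simp
      | succ j ih =>
        rw [Function.iterate_succ_apply', ih, hf'.1.map_mul hm₃N (hL₃N₃ (hQ₃L₃ (Q₃.pow_mem hz₀ j))), e₀, hf'Q _ (Q₃.pow_mem hz₀ j),
          pow_succ', mul_assoc]
    have h1 : z₀ ^ n = 1 := by
      have := hit n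
      rw [hnn _ hm₃N] at this
      exact (mul_eq_left.1 this.symm)
    have hz₀S : z₀ ∈ S := hN₃S (hL₃N₃ (hQ₃L₃ hz₀))
    obtain ⟨e', he'⟩ := hS ⟨z₀, hz₀S⟩
    have h2 : z₀ ^ p ^ e' = 1 := congrArg Subtype.val he'
    have h3 : z₀ ^ (Nat.gcd n (p ^ e')) = 1 := pow_gcd_eq_one.2 ⟨h1, h2⟩
    have h4 : Nat.gcd n (p ^ e') = 1 := Nat.Coprime.pow_right e' hn
    rw [h4, pow_one] at h3
    rw [e₀, h3, mul_one]
  refine ⟨fun y => μ' (f' (ν' y)), Pp.conj_iso hf' hμ' b3 hν' b2 b1 hN₃.1, fun x hx => ?_, fun x hx => ?_⟩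
  · show μ' (f' (ν' x)) = x
    rw [hf'm x hx, b1 x (hMN hx)]
  · show μ' (f' (ν' x)) = θ x
    have hxN := hLN hx
    have hθx : θ x ∈ L := hθ.2.1.1 x hx
    rw [hν'e x hx, hf'e _ (hνi.1 x hx)]
    show μ' (ν (θ (μ (ν x)))) = θ x
    rw [a1 x hx, ← hν'e _ hθx, b1 _ (hLN hθx)]

/-- Repeating the step. -/
theorem key_main (hS : IsPGroup p S) (hF : F.IsSaturated p) (hT : F.StronglyClosed T) :
    ∀ (d : ℕ) (Q : Subgroup Ω), Nat.card T - Nat.card Q = d → Q ≤ T → (∀ Q', F.IsConj Q Q' → zz T Q' ≤ Q') →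
      ∀ θ : Ω → Ω, Pp F p (Q ⊔ centralizerIn S T) θ → (∀ x ∈ Q, θ x = x) →
      ∃ θ₁, Pp F p (T ⊔ centralizerIn S T) θ₁ ∧ (∀ x ∈ T, θ₁ x = x) ∧ ∀ x ∈ Q ⊔ centralizerIn S T, θ₁ x = θ x := by
  have hTS : T ≤ S := hT.1
  have hTp : IsPGroup p T := hS.to_le hTS
  haveI : Finite T := finite_of_le hTS
  intro d
  induction d using Nat.strong_induction_on with
  | _ d ih =>
  intro Q hd hQT hc θ hθ htriv
  by_cases hQe : Q = T
  · subst hQe
    exact ⟨θ, hθ, htriv, fun _ _ => rfl⟩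
  have hQlt : Q < T := lt_of_le_of_ne hQT hQe
  have hQM : Q < normalizerIn T Q := lt_normalizerIn hTp hQlt
  have hMT : normalizerIn T Q ≤ T := normalizerIn_le_left T Q
  haveI : Finite (normalizerIn T Q) := finite_of_le (hMT.trans hTS)
  haveI : Finite Q := finite_of_le hQT
  have hcard : Nat.card Q < Nat.card (normalizerIn T Q) :=
    lt_of_le_of_ne (Subgroup.card_le_of_le hQM.le) (fun e => hQM.ne (Subgroup.eq_of_le_of_card_ge hQM.le e.ge))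
  have hcard2 : Nat.card (normalizerIn T Q) ≤ Nat.card T := Subgroup.card_le_of_le hMT
  obtain ⟨θ₁, h1, h2, h3⟩ := key_step hS hF hT hQT hc hθ htriv
  have hcM : ∀ Q', F.IsConj (normalizerIn T Q) Q' → zz T Q' ≤ Q' := by
    intro Q' hQ'
    obtain ⟨φ, hφ, hr⟩ := hQ'
    have hres : φ.comp (Subgroup.inclusion hQM.le) ∈ F.Hom Q := restrict_mem F hQM.le hφ
    have hz := hc _ ⟨_, hres, rfl⟩
    intro z hzz
    have hle : (φ.comp (Subgroup.inclusion hQM.le)).range ≤ Q' := by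
      rw [← hr]
      rintro _ ⟨x, rfl⟩
      exact ⟨_, rfl⟩
    refine hle (hz (mem_zz.2 ⟨(mem_zz.1 hzz).1, fun y hy => (mem_zz.1 hzz).2 y (hle hy)⟩))
  obtain ⟨θ₂, h4, h5, h6⟩ := ih (Nat.card T - Nat.card (normalizerIn T Q)) (by omega) _ rfl hMT hcM θ₁ h1 h2
  refine ⟨θ₂, h4, h5, fun x hx => ?_⟩
  rw [h6 x (sup_le_sup_right hQM.le _ hx), h3 x hx]

end main

end Cfsg.Agent.Lib.Fusion.LiftX
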