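import Cfsg.Agent.Lib.Fusion.LiftX
import Cfsg.Agent.Lib.FusionExt.PPowerNormal

/-!
# Lifts of the maps generated by `p`-automorphisms of a weakly normal subsystem (helper20)
-/

set_option autoImplicit false

namespace Cfsg.Agent.Lib.Fusion.LiftX

open Cfsg Cfsg.FusionSystem Cfsg.Agent.Lib.Fusion.Basic Cfsg.Agent.Lib.Fusion.GroupSystem
open Cfsg.Agent.Lib.FusionExt.MapApi Cfsg.Agent.Lib.FusionExt.Basic Cfsg.Agent.Lib.FusionExt.Normal
open Cfsg.Agent.Lib.FusionExt.PowerSys Cfsg.Agent.Lib.FusionExt.PowerGen Cfsg.Agent.Lib.FusionExt.PrimeRes1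
open Cfsg.Agent.Lib.FusionExt.PrimeRes2 Cfsg.Agent.Lib.Fusion.Saturation Cfsg.Agent.Lib.Fusion.Saturation2
open Cfsg.Agent.Lib.FusionExt.SatCrit1 Cfsg.Agent.Lib.FusionExt.Invariant Cfsg.Agent.Lib.FusionExt.PowerE
open Cfsg.Agent.Lib.FusionExt.LowPi Cfsg.Agent.Lib.FusionExt.CentSys
open Cfsg.Agent.Lib.FusionExt.FixQ Cfsg.Agent.Lib.FusionExt.PPrimeMin

variable {Ω : Type*} [Group Ω] {S T : Subgroup Ω} {F : FusionSystem S} {E : FusionSystem T} {p : ℕ}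
variable {Q L R U X Y : Subgroup Ω} {f g h θ : Ω → Ω}

/-- `f` on `Q` lifts to `Q C_S(T)`, moving `C_S(T)` by elements of `T`. -/
def LiftQ (F : FusionSystem S) (T Q : Subgroup Ω) (f : Ω → Ω) : Prop :=
  ∃ g, Mp F (Q ⊔ centralizerIn S T) g ∧ (∀ x ∈ Q, g x = f x) ∧ ∀ c ∈ centralizerIn S T, c⁻¹ * g c ∈ T

theorem LiftQ.congr (h : LiftQ F T Q f) (e : ∀ x ∈ Q, f x = θ x) : LiftQ F T Q θ := by
  obtain ⟨g, a1, a2, a3⟩ := h
  exact ⟨g, a1, fun x hx => (a2 x hx).trans (e x hx), a3⟩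

theorem comm_lift (hQT : Q ≤ T) (hRT : R ≤ T) (hi : Img Q f R) (hg : Mp F (Q ⊔ centralizerIn S T) g) (he : ∀ x ∈ Q, g x = f x)
    {c : Ω} (hc : c ∈ centralizerIn S T) (hw : c⁻¹ * g c ∈ T) : c⁻¹ * g c ∈ zz T R := by
  refine mem_zz.2 ⟨hw, fun y hy => ?_⟩
  obtain ⟨q, hq, rfl⟩ := hi.2 y hy
  have hqL : q ∈ Q ⊔ centralizerIn S T := Subgroup.mem_sup_left hq
  have hcL : c ∈ Q ⊔ centralizerIn S T := Subgroup.mem_sup_right hc
  have hcomm : f q * c = c * f q := (mem_cent.1 hc).2 _ (hRT (hi.1 q hq))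
  have hqc : q * c = c * q := (mem_cent.1 hc).2 _ (hQT hq)
  have h1 : g q * g c = g c * g q := by
    rw [← hg.map_mul hqL hcL, ← hg.map_mul hcL hqL, hqc]
  rw [he q hq] at h1
  have e0 : c⁻¹ * f q = f q * c⁻¹ := (Commute.inv_left (show Commute c (f q) from hcomm.symm)).eq
  calc f q * (c⁻¹ * g c) = (f q * c⁻¹) * g c := by group
    _ = (c⁻¹ * f q) * g c := by rw [e0]
    _ = c⁻¹ * (f q * g c) := by group
    _ = c⁻¹ * (g c * f q) := by rw [h1]
    _ = _ := by group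

/-- A lift carries `Q C_S(T)` onto `R C_S(T)`. -/
theorem lift_img (hQT : Q ≤ T) (hRT : R ≤ T) (hi : Img Q f R) (hg : Mp F (Q ⊔ centralizerIn S T) g) (he : ∀ x ∈ Q, g x = f x)
    (hw : ∀ c ∈ centralizerIn S T, c⁻¹ * g c ∈ T) (hcR : zz T R ≤ R) :
    Img (Q ⊔ centralizerIn S T) g (R ⊔ centralizerIn S T) := by
  have hQL : Q ≤ Q ⊔ centralizerIn S T := le_sup_left
  have hCL : centralizerIn S T ≤ Q ⊔ centralizerIn S T := le_sup_right
  obtain ⟨W, hW⟩ := hg.exists_img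
  have hRW : R ≤ W := by
    intro y hy
    obtain ⟨q, hq, rfl⟩ := hi.2 y hy
    rw [← he q hq]
    exact hW.1 q (hQL hq)
  have hCW : centralizerIn S T ≤ W := by
    intro c hc
    have hz := hcR (comm_lift hQT hRT hi hg he hc (hw c hc))
    obtain ⟨q, hq, e⟩ := hi.2 _ hz
    have e1 : c = g c * (g q)⁻¹ := by
      rw [he q hq, e]
      group
    rw [e1, ← hg.map_inv (hQL hq), ← hg.map_mul (hCL hc) (Subgroup.inv_mem _ (hQL hq))]
    exact hW.1 _ (Subgroup.mul_mem _ (hCL hc) (Subgroup.inv_mem _ (hQL hq)))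
  have hle : R ⊔ centralizerIn S T ≤ W := sup_le hRW hCW
  refine ⟨?_, fun y hy => hW.2 y (hle hy)⟩
  refine maps_sup hg (fun a ha => ?_) (fun c hc => ?_)
  · rw [he a ha]
    exact Subgroup.mem_sup_left (hi.1 a ha)
  · have hz := hcR (comm_lift hQT hRT hi hg he hc (hw c hc))
    have e : g c = c * (c⁻¹ * g c) := by group
    rw [e]
    exact Subgroup.mul_mem _ (Subgroup.mem_sup_right hc) (Subgroup.mem_sup_left hz)

/-- The maps whose restrictions to the relevant centric subgroups lift. -/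
def GenL (F : FusionSystem S) (E : FusionSystem T) (X : Subgroup Ω) (f : Ω → Ω) : Prop :=
  Mp E X f ∧ ∀ Q, Q ≤ X → (∀ Q', F.IsConj Q Q' → zz T Q' ≤ Q') → LiftQ F T Q f

theorem genLAx (hsub : E.IsSubsystemOf F) (hT : F.StronglyClosed T) : SysAx T (GenL F E) := by
  refine ⟨?_, ?_, ?_, ?_, ?_, ?_, ?_, ?_⟩
  · rintro X f g ⟨h1, h2⟩ e
    exact ⟨h1.congr e, fun Q hQ hc => (h2 Q hQ hc).congr (fun x hx => e x (hQ hx))⟩
  · rintro X f ⟨h1, -⟩
    exact h1.le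
  · rintro X f x ⟨h1, -⟩ hx
    exact h1.mem_S hx
  · rintro X f x y ⟨h1, -⟩ hx hy
    exact h1.map_mul hx hy
  · rintro X f x y ⟨h1, -⟩ hx hy e
    exact h1.inj hx hy e
  · intro X c hX hc
    refine ⟨Mp.conj hX hc, fun Q hQ _ => ⟨fun x => c * x * c⁻¹, Mp.conj (sup_le ((hQ.trans hX).trans hT.1) inf_le_left) (hT.1 hc),
      fun _ _ => rfl, fun d hd => ?_⟩⟩
    have e : c * d = d * c := (mem_cent.1 hd).2 c hc
    have e2 : d⁻¹ * (c * d * c⁻¹) = 1 := by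
      rw [e]
      group
    show d⁻¹ * (c * d * c⁻¹) ∈ T
    rw [e2]
    exact T.one_mem
  · rintro X Y f g ⟨h1, h2⟩ hm ⟨h3, h4⟩
    refine ⟨h1.comp hm h3, fun Q hQ hc => ?_⟩
    have hfQ : Mp E Q f := h1.restrict hQ
    obtain ⟨R, hR⟩ := hfQ.exists_img
    have hRY : R ≤ Y := by
      intro y hy
      obtain ⟨x, hx, rfl⟩ := hR.2 y hy
      exact hm x (hQ hx)
    have hRT : R ≤ T := hRY.trans h3.le
    have hQT : Q ≤ T := hQ.trans h1.le
    have hconj : F.IsConj Q R := (mp_sub hsub hfQ).isConj hR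
    have hcR : ∀ Q', F.IsConj R Q' → zz T Q' ≤ Q' := fun Q' h => hc Q' (isConj_trans F hconj h)
    obtain ⟨g₁, a1, a2, a3⟩ := h2 Q hQ hc
    obtain ⟨g₂, b1, b2, b3⟩ := h4 R hRY hcR
    have hR0 : zz T R ≤ R := hcR R (isConj_refl F (hRT.trans hT.1))
    have himg := lift_img hQT hRT hR a1 a2 a3 hR0
    refine ⟨fun x => g₂ (g₁ x), a1.comp himg.1 b1, fun x hx => ?_, fun c hc' => ?_⟩
    · show g₂ (g₁ x) = g (f x)
      rw [a2 x hx, b2 _ (hR.1 x hx)]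
    · have hw := hR0 (comm_lift hQT hRT hR a1 a2 hc' (a3 c hc'))
      obtain ⟨w, hw', e⟩ : ∃ w ∈ R, g₁ c = c * w := ⟨_, hw, by group⟩
      show c⁻¹ * g₂ (g₁ c) ∈ T
      rw [e, b1.map_mul (Subgroup.mem_sup_right hc') (Subgroup.mem_sup_left hw'), ← mul_assoc]
      refine T.mul_mem (b3 c hc') ?_
      rw [b2 _ hw']
      exact h3.mem_S (hRY hw')
  · rintro X Y f ⟨h1, h2⟩ hi
    obtain ⟨k, hk, e1, e2, e3⟩ := h1.inverse hi
    refine ⟨k, ⟨hk, fun Q' hQ' hc' => ?_⟩, e1⟩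
    have hkQ : Mp E Q' k := hk.restrict hQ'
    obtain ⟨Q, hQi⟩ := hkQ.exists_img
    have hQX : Q ≤ X := by
      intro y hy
      obtain ⟨x, hx, rfl⟩ := hQi.2 y hy
      exact e3.1 x (hQ' hx)
    have hQT : Q ≤ T := hQX.trans h1.le
    have hQ'T : Q' ≤ T := hQ'.trans (h1.img_le hi)
    have hconj : F.IsConj Q' Q := (mp_sub hsub hkQ).isConj hQi
    have hc : ∀ Q'', F.IsConj Q Q'' → zz T Q'' ≤ Q'' := fun Q'' h => hc' Q'' (isConj_trans F hconj h)
    obtain ⟨g, a1, a2, a3⟩ := h2 Q hQX hc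
    have hfi : Img Q f Q' := by
      refine ⟨fun x hx => ?_, fun y hy => ⟨k y, hQi.1 y hy, e2 y (hQ' hy)⟩⟩
      obtain ⟨y, hy, rfl⟩ := hQi.2 x hx
      rw [e2 y (hQ' hy)]
      exact hy
    have hR0 : zz T Q' ≤ Q' := hc' Q' (isConj_refl F (hQ'T.trans hT.1))
    have himg := lift_img hQT hQ'T hfi a1 a2 a3 hR0
    obtain ⟨g', hg', c1, c2, c3⟩ := a1.inverse himg
    refine ⟨g', hg', fun y hy => ?_, fun c hc'' => ?_⟩
    · have hky : k y ∈ Q := hQi.1 y hy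
      have e4 : g (k y) = y := by rw [a2 _ hky, e2 y (hQ' hy)]
      have := c1 (k y) (Subgroup.mem_sup_left hky)
      rwa [e4] at this
    · have hz := hR0 (comm_lift hQT hQ'T hfi a1 a2 hc'' (a3 c hc''))
      obtain ⟨q, hq, e⟩ := hfi.2 _ hz
      have hqL : q ∈ Q ⊔ centralizerIn S T := Subgroup.mem_sup_left hq
      have hcL : c ∈ Q ⊔ centralizerIn S T := Subgroup.mem_sup_right hc''
      have e5 : g (c * q⁻¹) = c := by
        rw [a1.map_mul hcL (Subgroup.inv_mem _ hqL), a1.map_inv hqL, a2 q hq, e]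
        group
      have e6 := c1 _ (Subgroup.mul_mem _ hcL (Subgroup.inv_mem _ hqL))
      rw [e5] at e6
      rw [e6]
      have e7 : c⁻¹ * (c * q⁻¹) = q⁻¹ := by group
      rw [e7]
      exact T.inv_mem (hQT hq)

section main

variable [Finite S] [Fact p.Prime]

/-- `p`-automorphisms of an invariant saturated subsystem have the extension property. -/
theorem pi_pq (hS : IsPGroup p S) (hF : F.IsSaturated p) (hEs : E.IsSaturated p) (hsub : E.IsSubsystemOf F)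
    (hT : F.StronglyClosed T) (hSI : StrongInv F E) (hf : Pq E p X f) (hc : ∀ Q', F.IsConj X Q' → zz T Q' ≤ Q') :
    PiA F T X f := by
  have hTS : T ≤ S := hT.1
  have hTp : IsPGroup p T := hS.to_le hTS
  haveI : Finite T := finite_of_le hTS
  have hXT : X ≤ T := hf.1.le
  obtain ⟨R, hXR, hfn⟩ := exists_isFullyNormalized F (hXT.trans hTS)
  have hRS : R ≤ S := hfn.1
  haveI : Finite R := finite_of_le hRS
  haveI : Finite (MulAut R) := Cfsg.Agent.Lib.Fusion.Basic.finite_mulAut_of_finite (A := R)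
  have hcR : zz T R ≤ R := hc R hXR
  obtain ⟨φ, hφ, hi⟩ := hXR
  have hm : Mp F X (extOf φ) := mp_of_hom hφ
  have himg : Img X (extOf φ) R := by
    refine ⟨fun x hx => ?_, fun y hy => ?_⟩
    · rw [extOf_of_mem φ hx, ← hi]
      exact ⟨_, rfl⟩
    · rw [← hi] at hy
      obtain ⟨x, rfl⟩ := hy
      exact ⟨x, x.2, extOf_coe φ x⟩
  have hRT : R ≤ T := by
    intro y hy
    obtain ⟨x, hx, rfl⟩ := himg.2 y hy
    exact sc_mp hT hm hXT hx
  have hfnE : E.IsFullyNormalized R := fn_sub hS hF hsub hT hfn hRT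
  have hrc := isReceptive_of_isFullyNormalized F hS hF hfn
  obtain ⟨hf1, hf2, j, hf3⟩ := id hf
  obtain ⟨f₁, hf₁, hf₁e⟩ := sI_mp hSI le_rfl hXT hf1 hf2.1 hm himg
  have hf₁i : Img R f₁ R := by
    refine ⟨fun y hy => ?_, fun y hy => ?_⟩
    · obtain ⟨x, hx, rfl⟩ := himg.2 y hy
      rw [hf₁e x hx]
      exact himg.1 _ (hf2.1 x hx)
    · obtain ⟨x, hx, rfl⟩ := himg.2 y hy
      obtain ⟨x', hx', rfl⟩ := hf2.2 x hx
      exact ⟨_, himg.1 x' hx', hf₁e x' hx'⟩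
  obtain ⟨a', ha', hae⟩ := hf₁.toAut hf₁i
  have hae' : ∀ y ∈ R, autFun a' y = f₁ y := fun y hy => by
    rw [autFun_of_mem a' hy]
    exact hae ⟨y, hy⟩
  have hpow : a' ^ p ^ j = 1 := by
    have hit : ∀ (n : ℕ), ∀ x ∈ X, f₁^[n] (extOf φ x) = extOf φ (f^[n] x) := by
      intro n
      induction n with
      | zero => intro x _; rfl
      | succ n ih =>
        intro x hx
        rw [Function.iterate_succ_apply', ih x hx, Function.iterate_succ_apply', hf₁e _ (iterate_mem hf2.1 n hx)]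
    ext y
    obtain ⟨x, hx, e⟩ := himg.2 y y.2
    have h1 : f₁^[p ^ j] (y : Ω) = y := by
      rw [← e, hit _ x hx, hf3 x hx]
    rw [iterate_congr hf₁i.1 (fun z hz => (hae' z hz).symm) (p ^ j) y.2,
      show ((y : R) : Ω) = _ from rfl, iterate_autFun] at h1
    exact h1
  have hA := isFullyAutomized_of_isFullyNormalized E hTp hEs hfnE
  have hSy : IsSylowIn p (autInducedBy T R) (E.autGroup R) := hA.2
  have hCp : IsPGroup p (Subgroup.zpowers a') := by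
    rintro ⟨c, n, rfl⟩
    refine ⟨j, Subtype.ext ?_⟩
    show (a' ^ n) ^ p ^ j = 1
    rw [← zpow_natCast, ← zpow_mul, mul_comm, zpow_mul, zpow_natCast, hpow, one_zpow]
  obtain ⟨b, hb, hbc⟩ := hSy.exists_conj (C := Subgroup.zpowers a') ((Subgroup.zpowers_le).2 ha') hCp
  obtain ⟨t, ht, hte⟩ := (mem_autInducedBy_iff T R _).1 (hbc a' (Subgroup.mem_zpowers a'))
  have htN : t ∈ normalizerIn T R := ⟨ht, mem_normalizer_of_conj R _ t hte⟩
  have hbm : Mp F R (autFun b) := mp_sub hsub (mp_autFun hRT hb)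
  refine pi_pull hXT hRT hcR hrc (h := fun x => autFun b (extOf φ x)) (f' := fun y => t * y * t⁻¹) (hm.comp himg.1 hbm)
    (himg.comp (img_autFun b)) (fun y hy => norm_conj htN.2 hy) (pi_conj hT hRS htN) (fun x hx => ?_) hf2.1
  show autFun b (extOf φ (f x)) = t * autFun b (extOf φ x) * t⁻¹
  have hy := himg.1 x hx
  have h2 := hte (b ⟨_, hy⟩)
  have h3 : (b * a' * b⁻¹) (b ⟨_, hy⟩) = b (a' ⟨_, hy⟩) := by
    show b (a' (b⁻¹ (b ⟨_, hy⟩))) = _
    rw [MulAut.inv_apply_self]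
  rw [h3] at h2
  have h4 : ((a' ⟨_, hy⟩ : R) : Ω) = extOf φ (f x) := by
    rw [← hf₁e x hx]
    exact hae ⟨_, hy⟩
  have h5 : autFun b (extOf φ x) = ((b ⟨_, hy⟩ : R) : Ω) := autFun_of_mem b hy
  have h6 : autFun b (extOf φ (f x)) = ((b (a' ⟨_, hy⟩) : R) : Ω) := by
    rw [← h4, autFun_coe]
  rw [h5, h6]
  exact h2

/-- Maps generated by `p`-automorphisms lift. -/
theorem e0_lift (hS : IsPGroup p S) (hF : F.IsSaturated p) (hEs : E.IsSaturated p) (hsub : E.IsSubsystemOf F)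
    (hT : F.StronglyClosed T) (hSI : StrongInv F E) (hm : Mp (e0 E p) Q f) (hc : ∀ Q', F.IsConj Q Q' → zz T Q' ≤ Q') :
    LiftQ F T Q f := by
  have hfam : InFamQ E p (mkSys (genLAx hsub hT)) := by
    refine ⟨fun P φ hφ => hom_of_mp ((mp_mkSys _).1 (mp_of_hom hφ)).1, fun X₀ _ f₀ hf₀ => (mp_mkSys _).2 ⟨hf₀.1, fun Q₁ hQ₁ hc₁ => ?_⟩⟩
    have hcX : ∀ Q', F.IsConj X₀ Q' → zz T Q' ≤ Q' := by
      intro Q' hQ'
      obtain ⟨φ, hφ, hr⟩ := hQ'
      have hres : φ.comp (Subgroup.inclusion hQ₁) ∈ F.Hom Q₁ := restrict_mem F hQ₁ hφ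
      have hz := hc₁ _ ⟨_, hres, rfl⟩
      intro z hzz
      have hle : (φ.comp (Subgroup.inclusion hQ₁)).range ≤ Q' := by
        rw [← hr]
        rintro _ ⟨x, rfl⟩
        exact ⟨_, rfl⟩
      exact hle (hz (mem_zz.2 ⟨(mem_zz.1 hzz).1, fun y hy => (mem_zz.1 hzz).2 y (hle hy)⟩))
    obtain ⟨g, a1, a2, a3⟩ := pi_pq hS hF hEs hsub hT hSI hf₀ hcX
    have hle : centralizerIn S T ≤ centralizerIn S X₀ := cent_anti hf₀.1.le
    refine ⟨g, a1.restrict (sup_le (hQ₁.trans le_sup_left) (hle.trans le_sup_right)), fun x hx => a2 x (hQ₁ hx), fun c hc' => ?_⟩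
    exact (mem_zz.1 (a3 c (hle hc'))).1
  exact ((mp_mkSys _).1 (e0_min hfam hm)).2 Q le_rfl hc

end main

end Cfsg.Agent.Lib.Fusion.LiftX
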