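import Mathlib

/-!
# Marks of finite `H`-sets

`mark X D` is the number of points of `X` fixed by the subgroup `D`.  Two finite `K`-sets with the same marks are
isomorphic, and the marks satisfy the Cauchy-Frobenius congruences.
-/

set_option autoImplicit false

namespace Cfsg.Agent.Lib.Fusion.Marks

open MulAction

universe u v w

section basic

variable {H : Type u} [Group H]

/-- The points fixed by a subgroup. -/
def fixS (X : Type v) [MulAction H X] (D : Subgroup H) : Set X := {x | ∀ d ∈ D, d • x = x}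

/-- The number of points fixed by a subgroup. -/
noncomputable def mark (X : Type v) [MulAction H X] (D : Subgroup H) : ℕ := Nat.card (fixS X D)

variable {X : Type v} [MulAction H X] {Y : Type w} [MulAction H Y]

theorem mem_fixS {D : Subgroup H} {x : X} : x ∈ fixS X D ↔ ∀ d ∈ D, d • x = x := Iff.rfl

theorem mark_congr (e : X ≃ Y) (he : ∀ (g : H) x, e (g • x) = g • e x) (D : Subgroup H) : mark X D = mark Y D := by
  refine Nat.card_congr (e.subtypeEquiv (fun x => ?_))
  constructor
  · intro h d hd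
    rw [← he, h d hd]
  · intro h d hd
    apply e.injective
    rw [he, h d hd]

theorem mark_bot (X : Type v) [MulAction H X] : mark X (⊥ : Subgroup H) = Nat.card X := by
  refine Nat.card_congr (Equiv.subtypeUnivEquiv (fun x d hd => ?_))
  rw [Subgroup.mem_bot.1 hd, one_smul]

theorem mark_le [Finite X] (D : Subgroup H) : mark X D ≤ Nat.card X :=
  Nat.card_le_card_of_injective (fun x : fixS X D => (x : X)) Subtype.val_injective

/-- Marks are invariant under conjugation. -/
theorem mark_conj (g : H) (D : Subgroup H) : mark X (D.map (MulAut.conj g).toMonoidHom) = mark X D := by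
  refine Nat.card_congr ((MulAction.toPerm g⁻¹).subtypeEquiv (fun x => ?_)).symm.symm
  constructor
  · intro h d hd
    have h1 := h (g * d * g⁻¹) ⟨d, hd, rfl⟩
    show d • (g⁻¹ • x) = g⁻¹ • x
    rw [← mul_smul] at *
    rw [eq_inv_smul_iff, ← mul_smul]
    have h2 : g * (d * g⁻¹) = g * d * g⁻¹ := by group
    rw [h2]
    exact h1
  · rintro h _ ⟨d, hd, rfl⟩
    have h1 := h d hd
    have h2 : d • (g⁻¹ • x) = g⁻¹ • x := h1
    rw [eq_inv_smul_iff, ← mul_smul, ← mul_smul] at h2
    exact h2

theorem mark_of_subgroup_map_comp {K : Type w} [Group K] (f : K →* H) (D : Subgroup K) (x : X) :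
    x ∈ fixS X (D.map f) ↔ ∀ d ∈ D, f d • x = x := by
  constructor
  · intro h d hd
    exact h (f d) ⟨d, hd, rfl⟩
  · rintro h _ ⟨d, hd, rfl⟩
    exact h d hd

end basic

section action

variable {K : Type u} [Group K] {X : Type v} [MulAction K X]

/-- An orbit as a sub-action. -/
def orbSub (x : X) : SubMulAction K X where
  carrier := orbit K x
  smul_mem' := by
    rintro g _ ⟨c, rfl⟩
    exact ⟨g * c, mul_smul g c x⟩

/-- The complement of an orbit as a sub-action. -/
def compSub (x : X) : SubMulAction K X where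
  carrier := (orbit K x)ᶜ
  smul_mem' := by
    intro g z hz h
    apply hz
    obtain ⟨c, hc⟩ := h
    refine ⟨g⁻¹ * c, ?_⟩
    show (g⁻¹ * c) • x = z
    rw [mul_smul]
    have hc' : c • x = g • z := hc
    rw [hc', inv_smul_smul]

/-- The mark is the sum of the marks on an orbit and on its complement. -/
theorem mark_eq_add [Finite X] (x : X) (D : Subgroup K) :
    mark X D = mark ↥(orbSub (K := K) x) D + mark ↥(compSub (K := K) x) D := by
  classical
  unfold mark
  rw [← Nat.card_sum]
  refine Nat.card_congr ?_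
  refine
    { toFun := fun y => if hy : (y : X) ∈ orbit K x then Sum.inl ⟨⟨y, hy⟩, fun d hd => Subtype.ext (y.2 d hd)⟩
        else Sum.inr ⟨⟨y, hy⟩, fun d hd => Subtype.ext (y.2 d hd)⟩
      invFun := fun y => match y with
        | Sum.inl z => ⟨z.1.1, fun d hd => congrArg Subtype.val (z.2 d hd)⟩
        | Sum.inr z => ⟨z.1.1, fun d hd => congrArg Subtype.val (z.2 d hd)⟩
      left_inv := ?_
      right_inv := ?_ }
  · intro y
    by_cases hy : (y : X) ∈ orbit K x <;> simp [hy]
  · rintro (z | z)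
    · have hz : ((z.1 : ↥(orbSub (K := K) x)) : X) ∈ orbit K x := z.1.2
      simp [hz]
    · have hz : ¬ ((z.1 : ↥(compSub (K := K) x)) : X) ∈ orbit K x := z.1.2
      simp [hz]

/-- **Finite `K`-sets with the same marks are isomorphic.** -/
theorem exists_equiv_of_mark_eq [Finite K] : ∀ (n : ℕ) (X₁ X₂ : Type v) [MulAction K X₁] [MulAction K X₂]
    [Finite X₁] [Finite X₂], Nat.card X₁ = n → (∀ D : Subgroup K, mark X₁ D = mark X₂ D) →
    ∃ e : X₁ ≃ X₂, ∀ (g : K) x, e (g • x) = g • e x := by
  classical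
  intro n
  induction n using Nat.strong_induction_on with
  | _ n ih =>
  intro X₁ X₂ _ _ _ _ hn hm
  by_cases hemp : IsEmpty X₁
  · have h1 : Nat.card X₂ = 0 := by
      rw [← mark_bot (H := K), ← hm, mark_bot, Nat.card_of_isEmpty]
    have h2 : IsEmpty X₂ := (Nat.card_eq_zero.1 h1).resolve_right (fun h => by
      exact (not_finite_iff_infinite.2 h) inferInstance)
    exact ⟨Equiv.equivOfIsEmpty _ _, fun g x => (hemp.false x).elim⟩
  have hne : Nonempty X₁ := not_isEmpty_iff.1 hemp
  -- a stabilizer of the largest possible order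
  obtain ⟨z, hz⟩ := Finite.exists_max (fun z : X₁ ⊕ X₂ => Nat.card (match z with
    | Sum.inl x => stabilizer K x
    | Sum.inr y => stabilizer K y))
  have hfix : ∀ {Z₁ Z₂ : Type v} [MulAction K Z₁] [MulAction K Z₂] [Finite Z₁] [Finite Z₂] (x : Z₁),
      mark Z₁ (stabilizer K x) = mark Z₂ (stabilizer K x) → ∃ y : Z₂, stabilizer K x ≤ stabilizer K y := by
    intro Z₁ Z₂ _ _ _ _ x h
    have h1 : 0 < mark Z₁ (stabilizer K x) := by
      have : Nonempty (fixS Z₁ (stabilizer K x)) := ⟨⟨x, fun d hd => hd⟩⟩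
      exact Nat.card_pos
    rw [h] at h1
    have h2 : Nonempty (fixS Z₂ (stabilizer K x)) := (Nat.card_pos_iff.1 h1).1
    obtain ⟨y, hy⟩ := h2
    exact ⟨y, fun d hd => hy d hd⟩
  have hxy : ∃ (x : X₁) (y : X₂), stabilizer K x = stabilizer K y := by
    rcases z with x | y
    · obtain ⟨y, hy⟩ := hfix (Z₂ := X₂) x (hm _)
      refine ⟨x, y, Subgroup.eq_of_le_of_card_ge hy ?_⟩
      exact hz (Sum.inr y)
    · obtain ⟨x, hx⟩ := hfix (Z₂ := X₁) y (hm _).symm
      refine ⟨x, y, (Subgroup.eq_of_le_of_card_ge hx ?_).symm⟩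
      exact hz (Sum.inl x)
  obtain ⟨x, y, hs⟩ := hxy
  -- the two orbits are isomorphic
  let A := orbitEquivQuotientStabilizer K x
  let C := orbitEquivQuotientStabilizer K y
  let e₀ : ↥(orbSub (K := K) x) ≃ ↥(orbSub (K := K) y) :=
    Equiv.trans A ((Subgroup.quotientEquivOfEq hs).trans C.symm)
  have he₀ : ∀ (c : K), (e₀ ⟨c • x, ⟨c, rfl⟩⟩ : X₂) = c • y := by
    intro c
    have h1 : A ⟨c • x, ⟨c, rfl⟩⟩ = (c : K ⧸ stabilizer K x) := by
      apply A.symm.injective
      rw [Equiv.symm_apply_apply]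
      apply Subtype.ext
      exact (orbitEquivQuotientStabilizer_symm_apply K x c).symm
    show ((C.symm (Subgroup.quotientEquivOfEq hs (A ⟨c • x, ⟨c, rfl⟩⟩)) : ↥(orbit K y)) : X₂) = c • y
    rw [h1]
    exact orbitEquivQuotientStabilizer_symm_apply K y c
  have he₀' : ∀ (g : K) (z : ↥(orbSub (K := K) x)), e₀ (g • z) = g • e₀ z := by
    rintro g ⟨_, c, rfl⟩
    apply Subtype.ext
    have e1 : ((g • (⟨c • x, ⟨c, rfl⟩⟩ : ↥(orbSub (K := K) x))) : ↥(orbSub (K := K) x)) =
        ⟨(g * c) • x, ⟨g * c, rfl⟩⟩ := Subtype.ext (mul_smul g c x).symm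
    show ((e₀ (g • (⟨c • x, ⟨c, rfl⟩⟩ : ↥(orbSub (K := K) x))) : ↥(orbSub (K := K) y)) : X₂) =
      g • ((e₀ ⟨c • x, ⟨c, rfl⟩⟩ : ↥(orbSub (K := K) y)) : X₂)
    rw [e1, he₀, he₀, mul_smul]
  have hm₀ : ∀ D : Subgroup K, mark ↥(orbSub (K := K) x) D = mark ↥(orbSub (K := K) y) D :=
    fun D => mark_congr e₀ he₀' D
  have hm' : ∀ D : Subgroup K, mark ↥(compSub (K := K) x) D = mark ↥(compSub (K := K) y) D := by
    intro D
    have h1 := mark_eq_add x D
    have h2 := mark_eq_add y D
    rw [hm D, h2, hm₀ D] at h1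
    omega
  -- the complement of the orbit is smaller
  have hcard : Nat.card ↥(compSub (K := K) x) < n := by
    rw [← hn]
    refine Finite.card_subtype_lt (x := x) ?_
    intro h
    exact h ⟨1, one_smul K x⟩
  obtain ⟨e', he'⟩ := ih _ hcard ↥(compSub (K := K) x) ↥(compSub (K := K) y) rfl hm'
  -- glue
  let f : X₁ → X₂ := fun z => if hz : z ∈ orbit K x then (e₀ ⟨z, hz⟩ : X₂) else (e' ⟨z, hz⟩ : X₂)
  have hfin : ∀ (z : X₁) (hz : z ∈ orbit K x), f z = (e₀ ⟨z, hz⟩ : X₂) := fun z hz => dif_pos hz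
  have hfout : ∀ (z : X₁) (hz : ¬ z ∈ orbit K x), f z = (e' ⟨z, hz⟩ : X₂) := fun z hz => dif_neg hz
  have hinj : Function.Injective f := by
    intro a c hac
    by_cases ha : a ∈ orbit K x <;> by_cases hc : c ∈ orbit K x
    · rw [hfin a ha, hfin c hc] at hac
      have := e₀.injective (Subtype.ext hac)
      exact congrArg Subtype.val this
    · exfalso
      rw [hfin a ha, hfout c hc] at hac
      exact (e' ⟨c, hc⟩).2 (hac ▸ (e₀ ⟨a, ha⟩).2)
    · exfalso
      rw [hfout a ha, hfin c hc] at hac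
      exact (e' ⟨a, ha⟩).2 (hac.symm ▸ (e₀ ⟨c, hc⟩).2)
    · rw [hfout a ha, hfout c hc] at hac
      have := e'.injective (Subtype.ext hac)
      exact congrArg Subtype.val this
  have hcards : Nat.card X₁ = Nat.card X₂ := by
    rw [← mark_bot (H := K), ← mark_bot (H := K), hm]
  have hbij : Function.Bijective f := by
    have : Finite X₂ := inferInstance
    exact hinj.bijective_of_nat_card_le hcards.ge
  refine ⟨Equiv.ofBijective f hbij, fun g z => ?_⟩
  show f (g • z) = g • f z
  by_cases hz : z ∈ orbit K x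
  · have hz' : g • z ∈ orbit K x := (orbSub (K := K) x).smul_mem g hz
    rw [hfin z hz, hfin _ hz']
    exact congrArg Subtype.val (he₀' g ⟨z, hz⟩)
  · have hz' : ¬ g • z ∈ orbit K x := (compSub (K := K) x).smul_mem g hz
    rw [hfout z hz, hfout _ hz']
    exact congrArg Subtype.val (he' g ⟨z, hz⟩)

end action

section congruence

variable {K : Type u} {H : Type v} [Group K] [Group H] {X : Type w} [MulAction H X]

theorem mem_fixS_sup_zpowers (f : K →* H) (D : Subgroup K) (w : K) (x : X) :
    x ∈ fixS X ((D ⊔ Subgroup.zpowers w).map f) ↔ x ∈ fixS X (D.map f) ∧ f w • x = x := by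
  rw [mark_of_subgroup_map_comp, mark_of_subgroup_map_comp]
  constructor
  · intro h
    exact ⟨fun d hd => h d (Subgroup.mem_sup_left hd),
      h w (Subgroup.mem_sup_right (Subgroup.mem_zpowers w))⟩
  · rintro ⟨h1, h2⟩ d hd
    have hle : D ⊔ Subgroup.zpowers w ≤ (stabilizer H x).comap f := by
      refine sup_le (fun d hd => h1 d hd) ?_
      rw [Subgroup.zpowers_le]
      exact h2
    exact hle hd

/-- **Cauchy-Frobenius**, for the action of `W` on the fixed points of the normal subgroup `D`. -/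
theorem dvd_sum_mark [Finite K] [Finite X] [Fintype K] (f : K →* H) (W D : Subgroup K) [Fintype W]
    (hN : W ≤ Subgroup.normalizer (D : Set K)) :
    Nat.card W ∣ ∑ w : W, mark X ((D ⊔ Subgroup.zpowers (w : K)).map f) := by
  classical
  let Y := {x : X // x ∈ fixS X (D.map f)}
  have hY : ∀ (g : W) (y : Y), f (g : K) • (y : X) ∈ fixS X (D.map f) := by
    intro g y
    rw [mark_of_subgroup_map_comp]
    intro d hd
    have h1 : (g : K)⁻¹ * d * (g : K) ∈ D := by
      have h2 := (Subgroup.mem_normalizer_iff.1 (hN (W.inv_mem g.2)) d).1 hd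
      simpa using h2
    have h3 := (mark_of_subgroup_map_comp f D (y : X)).1 y.2 _ h1
    have e : d * (g : K) = (g : K) * ((g : K)⁻¹ * d * (g : K)) := by group
    calc f d • f (g : K) • (y : X) = f (g : K) • f ((g : K)⁻¹ * d * (g : K)) • (y : X) := by
          rw [← mul_smul, ← mul_smul, ← map_mul, ← map_mul, ← e]
      _ = _ := by rw [h3]
  letI a : MulAction W Y :=
    { smul := fun g y => ⟨f (g : K) • (y : X), hY g y⟩
      one_smul := fun y => Subtype.ext (by
        show f ((1 : W) : K) • (y : X) = y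
        simp)
      mul_smul := fun g g' y => Subtype.ext (by
        show f ((g * g' : W) : K) • (y : X) = f (g : K) • f (g' : K) • (y : X)
        rw [← mul_smul, ← map_mul]
        rfl) }
  haveI : Fintype (orbitRel.Quotient W Y) := Fintype.ofFinite _
  haveI : ∀ w : W, Fintype (fixedBy Y w) := fun _ => Fintype.ofFinite _
  have h := MulAction.sum_card_fixedBy_eq_card_orbits_mul_card_group W Y
  have h2 : ∀ w : W, Fintype.card (fixedBy Y w) = mark X ((D ⊔ Subgroup.zpowers (w : K)).map f) := by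
    intro w
    rw [← Nat.card_eq_fintype_card]
    refine Nat.card_congr
      { toFun := fun y => ⟨y.1.1, (mem_fixS_sup_zpowers f D w _).2 ⟨y.1.2, congrArg Subtype.val y.2⟩⟩
        invFun := fun y => ⟨⟨y.1, ((mem_fixS_sup_zpowers f D w _).1 y.2).1⟩,
          Subtype.ext ((mem_fixS_sup_zpowers f D w _).1 y.2).2⟩
        left_inv := fun y => rfl
        right_inv := fun y => rfl }
  simp only [h2] at h
  rw [h, Nat.card_eq_fintype_card]
  exact dvd_mul_left _ _

/-- The congruence between two images of the same subgroup, when the marks agree one step above. -/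
theorem mark_modEq [Finite K] [Finite X] (f₁ f₂ : K →* H) (W D : Subgroup K) (hDW : D ≤ W)
    (hN : W ≤ Subgroup.normalizer (D : Set K))
    (h : ∀ w ∈ W, w ∉ D → mark X ((D ⊔ Subgroup.zpowers w).map f₁) = mark X ((D ⊔ Subgroup.zpowers w).map f₂)) :
    mark X (D.map f₁) ≡ mark X (D.map f₂) [MOD D.relIndex W] := by
  classical
  haveI : Fintype K := Fintype.ofFinite K
  haveI : Fintype W := Fintype.ofFinite W
  have h1 := dvd_sum_mark (X := X) f₁ W D hN
  have h2 := dvd_sum_mark (X := X) f₂ W D hN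
  set m₁ := mark X (D.map f₁) with hm₁
  set m₂ := mark X (D.map f₂) with hm₂
  have hsup : ∀ (w : W), (w : K) ∈ D → D ⊔ Subgroup.zpowers (w : K) = D := by
    intro w hw
    rw [sup_eq_left, Subgroup.zpowers_le]
    exact hw
  -- the difference of the two sums
  have hdiff : (∑ w : W, (mark X ((D ⊔ Subgroup.zpowers (w : K)).map f₁) : ℤ))
      - ∑ w : W, (mark X ((D ⊔ Subgroup.zpowers (w : K)).map f₂) : ℤ) = Nat.card D * ((m₁ : ℤ) - m₂) := by
    rw [← Finset.sum_sub_distrib]
    have h3 : ∀ w : W, (mark X ((D ⊔ Subgroup.zpowers (w : K)).map f₁) : ℤ)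
        - (mark X ((D ⊔ Subgroup.zpowers (w : K)).map f₂) : ℤ) =
        if (w : K) ∈ D then ((m₁ : ℤ) - m₂) else 0 := by
      intro w
      by_cases hw : (w : K) ∈ D
      · rw [if_pos hw, hsup w hw]
      · rw [if_neg hw, h w w.2 hw, sub_self]
    simp only [h3]
    rw [Finset.sum_ite, Finset.sum_const_zero, add_zero, Finset.sum_const, nsmul_eq_mul]
    congr 2
    rw [← Fintype.card_subtype, ← Nat.card_eq_fintype_card]
    exact Nat.card_congr
      { toFun := fun x => ⟨x.1.1, x.2⟩
        invFun := fun x => ⟨⟨x.1, hDW x.2⟩, x.2⟩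
        left_inv := fun x => rfl
        right_inv := fun x => rfl }
  have hidx : Nat.card W = D.relIndex W * Nat.card D := by
    have h4 := Subgroup.card_mul_index (D.subgroupOf W)
    have h5 : Nat.card (D.subgroupOf W) = Nat.card D := Nat.card_congr (Subgroup.subgroupOfEquivOfLe hDW).toEquiv
    rw [h5] at h4
    rw [← h4, mul_comm]
    rfl
  have hDpos : (Nat.card D : ℤ) ≠ 0 := by
    exact_mod_cast Nat.card_pos.ne'
  have h6 : ((D.relIndex W * Nat.card D : ℕ) : ℤ) ∣ Nat.card D * ((m₁ : ℤ) - m₂) := by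
    rw [← hidx, ← hdiff]
    refine dvd_sub ?_ ?_
    · have := Int.natCast_dvd_natCast.2 h1
      simpa using this
    · have := Int.natCast_dvd_natCast.2 h2
      simpa using this
  have h7 : (D.relIndex W : ℤ) ∣ (m₁ : ℤ) - m₂ := by
    rw [Nat.cast_mul, mul_comm] at h6
    exact (mul_dvd_mul_iff_left hDpos).1 h6
  exact (Nat.modEq_iff_dvd.2 (by
    have := dvd_neg.2 h7
    simpa using this))

end congruence

end Cfsg.Agent.Lib.Fusion.Marks
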