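import Cfsg.Agent.Lib.Fusion.Generation
import Cfsg.Agent.Lib.FusionExt.Normal2
import Cfsg.Prelude.Def_PLocal

/-!
# Powers of the centre of a `p`-group of small class: normal in every saturated system
-/

set_option autoImplicit false

namespace Cfsg.Agent.Lib.Fusion.PowerCenter

open Cfsg Cfsg.FusionSystem Cfsg.Agent.Lib.Fusion.Basic Cfsg.Agent.Lib.Fusion.Saturation
  Cfsg.Agent.Lib.Fusion.Saturation2 Cfsg.Agent.Lib.Fusion.LocalGlobal Cfsg.Agent.Lib.Fusion.Center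
  Cfsg.Agent.Lib.Fusion.Model Cfsg.Agent.Lib.Fusion.ModelNormalizer Cfsg.Agent.Lib.Fusion.NormSystem
  Cfsg.Agent.Lib.Core.Basic Cfsg.Agent.Lib.FusionExt.Basic Cfsg.Agent.Lib.Fusion.KSystem
  Cfsg.Agent.Lib.Fusion.WeakClosure Cfsg.Agent.Lib.Fusion.FrobThompson2 Cfsg.Agent.Lib.Core.SylowFacts
  Cfsg.Agent.Lib.Fusion.Generation

universe u

open scoped commutatorElement

section ring

/-- In a commutative ring: `(1 + d)^p = 1` and `d^(n(p-1)+1) = 0` force `p^n d = 0`. -/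
theorem ring_pow_mul_eq_zero {R : Type*} [CommRing R] {p : ℕ} (hp : p.Prime) (n : ℕ) {d : R}
    (h1 : (d + 1) ^ p = 1) (h2 : d ^ (n * (p - 1) + 1) = 0) : (p : R) ^ n * d = 0 := by
  classical
  have h3 := add_pow_prime_eq hp d 1
  obtain ⟨u, hu⟩ : ∃ u : R, u = ∑ k ∈ Finset.Ioo 0 p, d ^ (k - 1) * (1 : R) ^ (p - k - 1) * ((p.choose k / p : ℕ) : R) :=
    ⟨_, rfl⟩
  rw [← hu, one_pow, h1] at h3
  have hdp : d ^ p = -((p : R) * u) * d := by
    have : d ^ p + 1 + (p : R) * d * 1 * u = 1 := h3.symm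
    linear_combination this
  have hp2 : 1 < p := hp.one_lt
  obtain ⟨w, hw⟩ : ∃ w : R, u = 1 + d * w := by
    have hmem : 1 ∈ Finset.Ioo 0 p := Finset.mem_Ioo.2 ⟨one_pos, hp2⟩
    obtain ⟨w, hw⟩ : d ∣ ∑ k ∈ (Finset.Ioo 0 p).erase 1, d ^ (k - 1) * (1 : R) ^ (p - k - 1) * ((p.choose k / p : ℕ) : R) := by
      refine Finset.dvd_sum fun k hk => ?_
      have hk1 := Finset.mem_erase.1 hk
      have hk2 := Finset.mem_Ioo.1 hk1.2
      obtain ⟨j, rfl⟩ : ∃ j, k = j + 2 := ⟨k - 2, by omega⟩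
      refine Dvd.dvd.mul_right (Dvd.dvd.mul_right ?_ _) _
      exact ⟨d ^ j, by rw [show j + 2 - 1 = j + 1 by omega, pow_succ]; ring⟩
    refine ⟨w, ?_⟩
    rw [hu, ← Finset.add_sum_erase _ _ hmem, hw]
    simp [Nat.div_self hp.pos]
  have hnil : IsNilpotent (d * w) := by
    refine ⟨n * (p - 1) + 1, ?_⟩
    rw [mul_pow, h2, zero_mul]
  have hunit : IsUnit u := by
    rw [hw]
    exact hnil.isUnit_one_add
  have key : ∀ k : ℕ, d ^ (k * (p - 1) + 1) = (-((p : R) * u)) ^ k * d := by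
    intro k
    induction k with
    | zero => simp
    | succ k ih =>
      have e : (k + 1) * (p - 1) + 1 = (k * (p - 1) + 1) + (p - 1) := by ring
      have e2 : d * d ^ (p - 1) = d ^ p := by
        rw [← pow_succ']
        congr 1
        omega
      rw [e, pow_add, ih, mul_assoc, e2, hdp, pow_succ]
      ring
  have h4 := key n
  rw [h2] at h4
  have h5 : (-((p : R) * u)) ^ n * d = (-1) ^ n * u ^ n * ((p : R) ^ n * d) := by
    rw [neg_pow, mul_pow]
    ring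
  rw [h5] at h4
  have hu2 : IsUnit ((-1 : R) ^ n * u ^ n) := (isUnit_one.neg.pow n).mul (hunit.pow n)
  exact hu2.mul_right_eq_zero.1 h4.symm

theorem end_lemma {A : Type*} [AddCommGroup A] {p : ℕ} (hp : p.Prime) (n : ℕ) (f : AddMonoid.End A)
    (h1 : f ^ p = 1) (h2 : (f - 1) ^ (n * (p - 1) + 1) = 0) (x : A) : (p ^ n) • (f x - x) = 0 := by
  letI : CommRing (Subring.closure ({f} : Set (AddMonoid.End A))) :=
    Subring.closureCommRingOfComm (fun a ha b hb => by
      rw [Set.mem_singleton_iff] at ha hb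
      rw [ha, hb])
  have hf : f ∈ Subring.closure ({f} : Set (AddMonoid.End A)) := Subring.subset_closure rfl
  let F : Subring.closure ({f} : Set (AddMonoid.End A)) := ⟨f, hf⟩
  have h3 : ((F - 1) + 1) ^ p = 1 := by
    rw [sub_add_cancel]
    exact Subtype.ext h1
  have h4 : (F - 1) ^ (n * (p - 1) + 1) = 0 := Subtype.ext h2
  have h5 := ring_pow_mul_eq_zero hp n h3 h4
  have h6 : ((p : AddMonoid.End A)) ^ n * (f - 1) = 0 := congrArg Subtype.val h5
  have h7 : ((p : AddMonoid.End A) ^ n * (f - 1)) x = 0 := by rw [h6]; rfl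
  have h8 : ∀ m : ℕ, ∀ y : A, ((p : AddMonoid.End A) ^ m) y = (p ^ m) • y := by
    intro m y
    induction m generalizing y with
    | zero => simp
    | succ m ih =>
      rw [pow_succ]
      show ((p : AddMonoid.End A) ^ m) ((p : AddMonoid.End A) y) = _
      rw [ih, AddMonoid.End.natCast_apply, pow_succ, mul_nsmul]
      exact smul_comm _ _ _
  have h9 : ((p : AddMonoid.End A) ^ n) ((f - 1) x) = 0 := h7
  rw [h8] at h9
  exact h9

end ring

section action

variable {Ω : Type*} [Group Ω]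

/-- **The power lemma.** An element `g` of a group of class at most `n(p-1)+1` normalizing an abelian subgroup `V`, with `g^p`
centralizing it, centralizes the `p^n`-th powers of `V`. -/
theorem central_power {S : Subgroup Ω} {p : ℕ} (hp : p.Prime) (n : ℕ)
    (hcl : Subgroup.lowerCentralSeries S (n * (p - 1) + 1) = ⊥) {V : Subgroup Ω} (hVS : V ≤ S)
    (hVc : ∀ a ∈ V, ∀ b ∈ V, a * b = b * a) {g : Ω} (hgS : g ∈ S) (hgV : ∀ v ∈ V, g * v * g⁻¹ ∈ V)
    (hgp : ∀ v ∈ V, g ^ p * v * (g ^ p)⁻¹ = v) {v : Ω} (hv : v ∈ V) :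
    g * v ^ (p ^ n) * g⁻¹ = v ^ (p ^ n) := by
  letI : CommGroup V := { (inferInstance : Group V) with mul_comm := fun a b => Subtype.ext (hVc a a.2 b b.2) }
  let c : V →* V := MonoidHom.mk' (fun v => ⟨g * v * g⁻¹, hgV v v.2⟩) (fun a b => Subtype.ext (by
    show g * ((a : Ω) * b) * g⁻¹ = g * a * g⁻¹ * (g * b * g⁻¹)
    group))
  let f : AddMonoid.End (Additive V) := MonoidHom.toAdditive c
  have hfv : ∀ x : Additive V, ((Additive.toMul (f x) : V) : Ω) = g * (Additive.toMul x : V) * g⁻¹ := fun x => rfl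
  have hpow : ∀ k : ℕ, ∀ x : Additive V, ((Additive.toMul ((f ^ k) x) : V) : Ω) =
      g ^ k * (Additive.toMul x : V) * (g ^ k)⁻¹ := by
    intro k
    induction k with
    | zero => intro x; simp
    | succ k ih =>
      intro x
      rw [pow_succ']
      show ((Additive.toMul (f ((f ^ k) x)) : V) : Ω) = _
      rw [hfv, ih, pow_succ']
      group
  have h1 : f ^ p = 1 := by
    refine DFunLike.ext _ _ (fun x => ?_)
    apply Additive.toMul.injective
    apply Subtype.ext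
    rw [hpow, hgp _ (Additive.toMul x : V).2]
    rfl
  have hsub : ∀ x : Additive V, ((Additive.toMul ((f - 1) x) : V) : Ω) =
      g * (Additive.toMul x : V) * g⁻¹ * ((Additive.toMul x : V) : Ω)⁻¹ := by
    intro x
    have e : (f - 1) x = f x - x := rfl
    rw [e, toMul_sub, div_eq_mul_inv]
    rfl
  have hlcs : ∀ k : ℕ, ∀ x : Additive V, ((Additive.toMul (((f - 1) ^ k) x) : V) : Ω) ∈ S.lowerCentralSeries k := by
    intro k
    induction k with
    | zero =>
      intro x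
      exact hVS (Subtype.property _)
    | succ k ih =>
      intro x
      have h2 := ih x
      have e1 : ((f - 1) ^ (k + 1)) x = (f - 1) (((f - 1) ^ k) x) := by
        rw [pow_succ']
        rfl
      rw [e1, hsub]
      obtain ⟨y, hy⟩ : ∃ y : Ω, y = ((Additive.toMul (((f - 1) ^ k) x) : V) : Ω) := ⟨_, rfl⟩
      rw [← hy] at h2 ⊢
      have h3 : ⁅y, g⁆ ∈ S.lowerCentralSeries (k + 1) := Subgroup.commutator_mem_commutator h2 hgS
      have h4 := Subgroup.inv_mem _ h3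
      convert h4 using 1
      simp [commutatorElement_def]
      group
  have h2 : (f - 1) ^ (n * (p - 1) + 1) = 0 := by
    refine DFunLike.ext _ _ (fun x => ?_)
    apply Additive.toMul.injective
    apply Subtype.ext
    have h3 := hlcs (n * (p - 1) + 1) x
    rw [hcl, Subgroup.mem_bot] at h3
    exact h3
  have h3 := end_lemma hp n f h1 h2 (Additive.ofMul (⟨v, hv⟩ : V))
  have h4 : f ((p ^ n) • (Additive.ofMul (⟨v, hv⟩ : V))) = (p ^ n) • (Additive.ofMul (⟨v, hv⟩ : V)) := by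
    rw [map_nsmul]
    rw [smul_sub, sub_eq_zero] at h3
    exact h3
  have h5 := congrArg (fun z : Additive V => ((Additive.toMul z : V) : Ω)) h4
  simp only [hfv, toMul_nsmul, toMul_ofMul] at h5
  simpa using h5

end action

section pres

variable {Ω : Type*} [Group Ω] {S : Subgroup Ω} (F : FusionSystem S)

/-- The subsystem of the maps preserving `W` (in both directions). -/
def presSys (W : Subgroup Ω) (hW : ∀ s ∈ S, ∀ x ∈ W, s * x * s⁻¹ ∈ W) : FusionSystem S where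
  Hom P := {φ | φ ∈ F.Hom P ∧ ∀ y : P, (y : Ω) ∈ W ↔ φ y ∈ W}
  le_of_mem := fun h => F.le_of_mem h.1
  injective_of_mem := fun h => F.injective_of_mem h.1
  conj_mem := by
    intro P g hP hg
    refine ⟨F.conj_mem hP hg, fun y => ?_⟩
    show (y : Ω) ∈ W ↔ g * y * g⁻¹ ∈ W
    constructor
    · intro h
      exact hW g hg _ h
    · intro h
      have h1 := hW g⁻¹ (S.inv_mem hg) _ h
      have e : g⁻¹ * (g * (y : Ω) * g⁻¹) * g⁻¹⁻¹ = y := by group
      rwa [e] at h1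
  comp_mem := by
    rintro P Q φ ψ ⟨h1, h2⟩ ⟨k1, k2⟩ h
    refine ⟨F.comp_mem h1 k1 h, fun y => ?_⟩
    rw [h2 y]
    exact k2 ⟨φ y, h y⟩
  inv_mem := by
    rintro P φ ⟨h1, h2⟩
    obtain ⟨ψ, hψ, hv⟩ := F.inv_mem h1
    refine ⟨ψ, ⟨hψ, ?_⟩, hv⟩
    rintro ⟨_, y, rfl⟩
    rw [hv]
    exact (h2 y).symm

variable {F}

/-- An automorphism fixing `W` pointwise preserves it. -/
theorem good_of_fix {W : Subgroup Ω} {hW : ∀ s ∈ S, ∀ x ∈ W, s * x * s⁻¹ ∈ W} {Q : Subgroup Ω} (hQS : Q ≤ S)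
    {α : MulAut Q} (hα : α ∈ F.autGroup Q) (hWQ : W ≤ Q) (hfix : ∀ y : Q, (y : Ω) ∈ W → α y = y) :
    autHom α ∈ (presSys F W hW).Hom Q := by
  refine ⟨autHom_mem F hQS hα, fun y => ⟨fun h => ?_, fun h => ?_⟩⟩
  · show ((α y : Q) : Ω) ∈ W
    rw [hfix y h]
    exact h
  · have h1 : ((α y : Q) : Ω) ∈ W := h
    have h2 := hfix (α y) h1
    have h3 : y = α y := α.injective h2.symm
    rw [h3]
    exact h1

end pres

section power

variable {Ω : Type*} [Group Ω] {S : Subgroup Ω}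

theorem powerClosure_le_center (p n : ℕ) :
    powerClosure p n (S ⊓ Subgroup.centralizer (S : Set Ω)) ≤ S ⊓ Subgroup.centralizer (S : Set Ω) := by
  refine (Subgroup.closure_le _).2 ?_
  rintro _ ⟨x, hx, rfl⟩
  exact Subgroup.pow_mem _ hx _

/-- Conjugation in a group: powers of an invariant subgroup are invariant. -/
theorem powerClosure_conj {G : Type*} [Group G] {H : Subgroup G} (p n : ℕ) {g : G}
    (hg : ∀ x ∈ H, g * x * g⁻¹ ∈ H) {y : G} (hy : y ∈ powerClosure p n H) :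
    g * y * g⁻¹ ∈ powerClosure p n H := by
  induction hy using Subgroup.closure_induction with
  | mem y hy =>
    obtain ⟨x, hx, rfl⟩ := hy
    refine Subgroup.subset_closure ⟨g * x * g⁻¹, hg x hx, ?_⟩
    rw [conj_pow]
  | one => simp [Subgroup.one_mem]
  | mul a b _ _ ha hb =>
    have e : g * (a * b) * g⁻¹ = g * a * g⁻¹ * (g * b * g⁻¹) := by group
    rw [e]
    exact Subgroup.mul_mem _ ha hb
  | inv a _ ha =>
    have e : g * a⁻¹ * g⁻¹ = (g * a * g⁻¹)⁻¹ := by group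
    rw [e]
    exact Subgroup.inv_mem _ ha

theorem exists_pow_not_mem {G : Type*} [Group G] {p : ℕ} {Q : Subgroup G} {x : G} (hx : x ∉ Q)
    (hk : ∃ k : ℕ, x ^ p ^ k = 1) : ∃ j : ℕ, x ^ p ^ j ∉ Q ∧ (x ^ p ^ j) ^ p ∈ Q := by
  classical
  have h1 : ∃ k : ℕ, x ^ p ^ k ∈ Q := by
    obtain ⟨k, hk⟩ := hk
    exact ⟨k, hk ▸ Q.one_mem⟩
  have h2 := Nat.find_spec h1
  have h3 : Nat.find h1 ≠ 0 := by
    intro h0
    rw [h0, pow_zero, pow_one] at h2
    exact hx h2
  obtain ⟨j, hj⟩ := Nat.exists_eq_succ_of_ne_zero h3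
  refine ⟨j, ?_, ?_⟩
  · exact Nat.find_min h1 (by omega)
  · rw [hj, Nat.succ_eq_add_one, pow_succ, pow_mul] at h2
    exact h2

end power

section main

variable {Ω : Type u} [Group Ω] {S : Subgroup Ω} {p : ℕ} [hp : Fact p.Prime] [Finite S]

/-- **Powers of the centre.** All maps of a saturated system over a group of class at most `n(p-1)+1` preserve the `p^n`-th
powers of the centre. -/
theorem hom_le_presSys (hS : IsPGroup p S) (F : FusionSystem S) (hF : F.IsSaturated p) (n : ℕ)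
    (hcl : S.lowerCentralSeries (n * (p - 1) + 1) = ⊥)
    (hW : ∀ s ∈ S, ∀ x ∈ powerClosure p n (S ⊓ Subgroup.centralizer (S : Set Ω)),
      s * x * s⁻¹ ∈ powerClosure p n (S ⊓ Subgroup.centralizer (S : Set Ω))) :
    ∀ P, F.Hom P ⊆ (presSys F _ hW).Hom P := by
  have hWZ := powerClosure_le_center (S := S) p n
  have hEF : ∀ P, (presSys F _ hW).Hom P ⊆ F.Hom P := fun P φ h => h.1
  -- automorphisms of `S` preserve the powers of the centre
  have hautS : ∀ γ ∈ F.autGroup S, ∀ y : S, (y : Ω) ∈ powerClosure p n (S ⊓ Subgroup.centralizer (S : Set Ω)) →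
      ((γ y : S) : Ω) ∈ powerClosure p n (S ⊓ Subgroup.centralizer (S : Set Ω)) := by
    intro γ _ y hy
    have key : ∀ z (hz : z ∈ powerClosure p n (S ⊓ Subgroup.centralizer (S : Set Ω))),
        ((γ ⟨z, (hWZ hz).1⟩ : S) : Ω) ∈ powerClosure p n (S ⊓ Subgroup.centralizer (S : Set Ω)) := by
      intro z hz
      induction hz using Subgroup.closure_induction with
      | mem z hz =>
        obtain ⟨x, hx, rfl⟩ := hz
        refine Subgroup.subset_closure ⟨((γ ⟨x, hx.1⟩ : S) : Ω), ⟨(γ _).2, ?_⟩, ?_⟩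
        · refine Subgroup.mem_centralizer_iff.2 fun s hs => ?_
          obtain ⟨s', hs'⟩ := γ.surjective ⟨s, hs⟩
          have h1 := Subgroup.mem_centralizer_iff.1 hx.2 _ s'.2
          have h2 : s' * ⟨x, hx.1⟩ = ⟨x, hx.1⟩ * s' := Subtype.ext h1
          have h3 := congrArg γ h2
          rw [map_mul, map_mul, hs'] at h3
          exact congrArg Subtype.val h3
        · have e : (⟨x ^ p ^ n, (hWZ (Subgroup.subset_closure ⟨x, hx, rfl⟩)).1⟩ : S) = ⟨x, hx.1⟩ ^ p ^ n := rfl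
          rw [e, map_pow]
          rfl
      | one =>
        have e : (⟨1, (hWZ (Subgroup.one_mem _)).1⟩ : S) = 1 := rfl
        rw [e, map_one]
        exact Subgroup.one_mem _
      | mul a b ha hb h1 h2 =>
        have e : (⟨a * b, (hWZ (Subgroup.mul_mem _ ha hb)).1⟩ : S) = ⟨a, (hWZ ha).1⟩ * ⟨b, (hWZ hb).1⟩ := rfl
        rw [e, map_mul]
        exact Subgroup.mul_mem _ h1 h2
      | inv a ha h1 =>
        have e : (⟨a⁻¹, (hWZ (Subgroup.inv_mem _ ha)).1⟩ : S) = (⟨a, (hWZ ha).1⟩ : S)⁻¹ := rfl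
        rw [e, map_inv]
        exact Subgroup.inv_mem _ h1
    exact key y hy
  have hTop : ∀ γ ∈ F.autGroup S, autHom γ ∈ (presSys F _ hW).Hom S := by
    intro γ hγ
    refine ⟨autHom_mem F le_rfl hγ, fun y => ⟨fun h => hautS γ hγ y h, fun h => ?_⟩⟩
    have h1 := hautS γ⁻¹ (Subgroup.inv_mem _ hγ) (γ y) h
    have e : γ⁻¹ (γ y) = y := γ.symm_apply_apply y
    rw [e] at h1
    exact h1
  refine global_of_local hS hF hEF hTop ?_
  intro m _ Q γ hQ hQc hγ hb _ hmax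
  have hQS : Q ≤ S := hQ.1
  have hTS : normalizerIn S Q ≤ S := inf_le_left
  haveI hTf : Finite ↥(normalizerIn S Q) := finite_of_le hTS
  have hTp : IsPGroup p ↥(normalizerIn S Q) := hS.to_le hTS
  -- `Q ≠ S`
  have hQne : Q ≠ S := by
    rintro rfl
    exact hb (hTop γ hγ)
  have hQlt : Q < S := lt_of_le_of_ne hQS hQne
  obtain ⟨t₀, ht₀, ht₀Q⟩ := SetLike.exists_of_lt (lt_normalizerIn hS hQlt)
  obtain ⟨j, htj, htjp⟩ := exists_pow_not_mem (p := p) ht₀Q (by
    obtain ⟨k, hk⟩ := (hS ⟨t₀, ht₀.1⟩)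
    exact ⟨k, congrArg Subtype.val hk⟩)
  obtain ⟨t, ht⟩ : ∃ t : Ω, t = t₀ ^ p ^ j := ⟨_, rfl⟩
  rw [← ht] at htj htjp
  have htT : t ∈ normalizerIn S Q := by
    rw [ht]
    exact Subgroup.pow_mem _ ht₀ _
  -- the model
  obtain ⟨E₀, hE₀⟩ := exists_normalizerSystem F hQS
  have hNQ := normalizerSystem_isNormal F hQS hE₀
  have hcon : E₀.IsConstrained p :=
    ⟨isSaturated_normalizerSystem hS F hF hQ E₀ hE₀, Q, hNQ, normalizerSystem_isCentric F hQc hE₀⟩
  obtain ⟨L, iL, ι, hG⟩ := Cfsg.Agent.S5090.result p hTp E₀ hcon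
  haveI hLf := model_finite hG
  obtain ⟨P₀, hP₀⟩ := hG.2.2.1
  obtain ⟨hcore, hfrat⟩ := local_core hS hQS hE₀ hG P₀ hP₀ hmax hγ hb
  -- the centre of `S` lies in `Q`
  have hZQ : S ⊓ Subgroup.centralizer (S : Set Ω) ≤ Q := fun z hz =>
    hQc.2 Q (isConj_refl F hQS) ⟨hz.1, Subgroup.centralizer_le (show (Q : Set Ω) ⊆ S from hQS) hz.2⟩
  -- the normal subgroup
  obtain ⟨O, hO⟩ : ∃ O : Subgroup L, O = pCore p L := ⟨_, rfl⟩
  haveI hOn : O.Normal := hO ▸ inferInstance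
  obtain ⟨A, hA⟩ : ∃ A : Subgroup L, A = powerClosure p n (O ⊓ Subgroup.centralizer (O : Set L)) := ⟨_, rfl⟩
  have hAn : A.Normal := by
    refine ⟨fun y hy g => ?_⟩
    rw [hA] at hy ⊢
    refine powerClosure_conj (H := O ⊓ Subgroup.centralizer (O : Set L)) p n (fun x hx => ⟨hOn.conj_mem _ hx.1 g, ?_⟩) hy
    refine Subgroup.mem_centralizer_iff.2 fun o ho => ?_
    have h1 : g⁻¹ * o * g⁻¹⁻¹ ∈ O := hOn.conj_mem _ ho g⁻¹
    have h2 := Subgroup.mem_centralizer_iff.1 hx.2 _ h1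
    rw [inv_inv] at h2
    calc o * (g * x * g⁻¹) = g * ((g⁻¹ * o * g) * x) * g⁻¹ := by group
      _ = g * (x * (g⁻¹ * o * g)) * g⁻¹ := by rw [h2]
      _ = g * x * g⁻¹ * o := by group
  obtain ⟨K, hK⟩ : ∃ K : Subgroup L, K = Subgroup.centralizer (A : Set L) := ⟨_, rfl⟩
  have hKn : K.Normal := by
    refine ⟨fun y hy g => ?_⟩
    rw [hK] at hy ⊢
    refine Subgroup.mem_centralizer_iff.2 fun a ha => ?_
    have h1 : g⁻¹ * a * g⁻¹⁻¹ ∈ A := hAn.conj_mem _ ha g⁻¹
    have h2 := Subgroup.mem_centralizer_iff.1 hy _ h1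
    rw [inv_inv] at h2
    calc a * (g * y * g⁻¹) = g * ((g⁻¹ * a * g) * y) * g⁻¹ := by group
      _ = g * (y * (g⁻¹ * a * g)) * g⁻¹ := by rw [h2]
      _ = g * y * g⁻¹ * a := by group
  -- `ι` of the powers of the centre of `S` lies in `A`
  have hQO : ∀ q : Q, ι ⟨q, le_normalizerIn hQS q.2⟩ ∈ O := by
    intro q
    rw [hO]
    refine le_pCore (img_normal hG hNQ) ?_ ⟨⟨q, le_normalizerIn hQS q.2⟩, q.2, rfl⟩
    have hp1 : IsPGroup p (Q.subgroupOf (normalizerIn S Q)) := isPGroup_subgroupOf _ (hS.to_le hQS)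
    exact hp1.map ι
  have hOQ : ∀ y ∈ O, ∃ q : Q, ι ⟨q, le_normalizerIn hQS q.2⟩ = y := by
    intro y hy
    have h1 : y ∈ (P₀ : Subgroup L) := pCore_le_sylow P₀ (hO ▸ hy)
    rw [hP₀] at h1
    obtain ⟨s, rfl⟩ := h1
    exact ⟨⟨s, hcore s (hO ▸ hy)⟩, rfl⟩
  have hZA : ∀ w : Ω, ∀ hw : w ∈ powerClosure p n (S ⊓ Subgroup.centralizer (S : Set Ω)),
      ι ⟨w, le_normalizerIn hQS (hZQ (hWZ hw))⟩ ∈ A := by
    intro w hw
    induction hw using Subgroup.closure_induction with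
    | mem w hw =>
      obtain ⟨z, hz, rfl⟩ := hw
      have hzQ := hZQ hz
      have e : (⟨z ^ p ^ n, le_normalizerIn hQS (hZQ (hWZ (Subgroup.subset_closure ⟨z, hz, rfl⟩)))⟩ : ↥(normalizerIn S Q)) =
          ⟨z, le_normalizerIn hQS hzQ⟩ ^ p ^ n := rfl
      rw [e, map_pow, hA]
      refine Subgroup.subset_closure ⟨_, ⟨hQO ⟨z, hzQ⟩, ?_⟩, rfl⟩
      refine Subgroup.mem_centralizer_iff.2 fun o ho => ?_
      obtain ⟨q, rfl⟩ := hOQ o ho
      rw [← map_mul, ← map_mul]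
      congr 1
      apply Subtype.ext
      exact (Subgroup.mem_centralizer_iff.1 hz.2 _ (hQS q.2))
    | one =>
      have e : (⟨1, le_normalizerIn hQS (hZQ (hWZ (Subgroup.one_mem _)))⟩ : ↥(normalizerIn S Q)) = 1 := rfl
      rw [e, map_one]
      exact A.one_mem
    | mul a b ha hb h1 h2 =>
      have e : (⟨a * b, le_normalizerIn hQS (hZQ (hWZ (Subgroup.mul_mem _ ha hb)))⟩ : ↥(normalizerIn S Q)) =
          ⟨a, le_normalizerIn hQS (hZQ (hWZ ha))⟩ * ⟨b, le_normalizerIn hQS (hZQ (hWZ hb))⟩ := rfl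
      rw [e, map_mul]
      exact A.mul_mem h1 h2
    | inv a ha h1 =>
      have e : (⟨a⁻¹, le_normalizerIn hQS (hZQ (hWZ (Subgroup.inv_mem _ ha)))⟩ : ↥(normalizerIn S Q)) =
          (⟨a, le_normalizerIn hQS (hZQ (hWZ ha))⟩ : ↥(normalizerIn S Q))⁻¹ := rfl
      rw [e, map_inv]
      exact A.inv_mem h1
  -- the elements of `K` act well
  have hgood : ∀ k ∈ K, autHom (rho hG (normalizerSystem_isNormal F hQS hE₀) k) ∈ (presSys F _ hW).Hom Q := by
    intro k hk
    have hρ : rho hG hNQ k ∈ F.autGroup Q := by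
      rw [← normalizerSystem_autGroup F hQS hE₀]
      exact rho_mem hG hNQ k
    refine good_of_fix hQS hρ (fun w hw => hZQ (hWZ hw)) (fun y hy => ?_)
    apply Subtype.ext
    have h1 := rho_spec hG hNQ k y
    have h2 := hZA y hy
    have h3 : k * ι ⟨y, hNQ.1 y.2⟩ = ι ⟨y, hNQ.1 y.2⟩ * k := by
      rw [hK] at hk
      exact (Subgroup.mem_centralizer_iff.1 hk _ h2).symm
    have h4 : ι ⟨((rho hG hNQ k) y : Q), hNQ.1 ((rho hG hNQ k) y).2⟩ = ι ⟨y, hNQ.1 y.2⟩ := by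
      rw [h1, h3]
      group
    exact model_val_eq hG h4
  -- the element `t` lies in `K`
  have hSt : t ∈ S := htT.1
  have htK : ι ⟨t, htT⟩ ∈ K := by
    rw [hK]
    refine Subgroup.mem_centralizer_iff.2 fun a ha => ?_
    rw [hA] at ha
    suffices hle : powerClosure p n (O ⊓ Subgroup.centralizer (O : Set L)) ≤ Subgroup.centralizer ({ι ⟨t, htT⟩} : Set L) by
      exact Subgroup.mem_centralizer_iff.1 (hle ha) _ rfl |>.symm
    refine (Subgroup.closure_le _).2 ?_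
    rintro _ ⟨z, hz, rfl⟩
    obtain ⟨q, rfl⟩ := hOQ z hz.1
    -- `q` is central in `Q`
    have hqc : (q : Ω) ∈ Q ⊓ Subgroup.centralizer (Q : Set Ω) := by
      refine ⟨q.2, Subgroup.mem_centralizer_iff.2 fun q' hq' => ?_⟩
      have h1 := Subgroup.mem_centralizer_iff.1 hz.2 _ (hQO ⟨q', hq'⟩)
      rw [← map_mul, ← map_mul] at h1
      exact model_val_eq hG h1
    have hVc : ∀ a ∈ Q ⊓ Subgroup.centralizer (Q : Set Ω), ∀ b ∈ Q ⊓ Subgroup.centralizer (Q : Set Ω), a * b = b * a :=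
      fun a ha b hb => Subgroup.mem_centralizer_iff.1 hb.2 _ ha.1
    have htN := htT.2
    have hgV : ∀ v ∈ Q ⊓ Subgroup.centralizer (Q : Set Ω), t * v * t⁻¹ ∈ Q ⊓ Subgroup.centralizer (Q : Set Ω) := by
      intro v hv
      refine ⟨(Subgroup.mem_normalizer_iff.1 htN _).1 hv.1, Subgroup.mem_centralizer_iff.2 fun q' hq' => ?_⟩
      have h1 : t⁻¹ * q' * t⁻¹⁻¹ ∈ Q := (Subgroup.mem_normalizer_iff.1 (Subgroup.inv_mem _ htN) _).1 hq'
      have h2 := Subgroup.mem_centralizer_iff.1 hv.2 _ h1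
      rw [inv_inv] at h2
      calc q' * (t * v * t⁻¹) = t * ((t⁻¹ * q' * t) * v) * t⁻¹ := by group
        _ = t * (v * (t⁻¹ * q' * t)) * t⁻¹ := by rw [h2]
        _ = t * v * t⁻¹ * q' := by group
    have hgp : ∀ v ∈ Q ⊓ Subgroup.centralizer (Q : Set Ω), t ^ p * v * (t ^ p)⁻¹ = v := by
      intro v hv
      rw [mul_inv_eq_iff_eq_mul]
      exact Subgroup.mem_centralizer_iff.1 hv.2 _ htjp
    have hcp := central_power hp.out n hcl (inf_le_left.trans hQS) hVc hSt hgV hgp hqc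
    refine Subgroup.mem_centralizer_iff.2 fun h hh => ?_
    rw [Set.mem_singleton_iff] at hh
    subst hh
    rw [← map_pow, ← map_mul, ← map_mul]
    congr 1
    apply Subtype.ext
    exact mul_inv_eq_iff_eq_mul.1 hcp
  exact htj (hfrat K hKn hgood ⟨t, htT⟩ htK)

end main

section statement

variable {Ω : Type u} [Group Ω] {S : Subgroup Ω} {p : ℕ} [hp : Fact p.Prime] [Finite S]

/-- **Powers of the centre are normal** in every saturated system over a group of class at most `n(p-1)+1`. -/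
theorem isNormal_powerClosure (hS : IsPGroup p S) (F : FusionSystem S) (hF : F.IsSaturated p) (n : ℕ)
    (hcl : S.lowerCentralSeries (n * (p - 1) + 1) = ⊥) :
    F.IsNormal (powerClosure p n (S ⊓ Subgroup.centralizer (S : Set Ω))) := by
  have hWZ := powerClosure_le_center (S := S) p n
  have hW : ∀ s ∈ S, ∀ x ∈ powerClosure p n (S ⊓ Subgroup.centralizer (S : Set Ω)),
      s * x * s⁻¹ ∈ powerClosure p n (S ⊓ Subgroup.centralizer (S : Set Ω)) := by
    intro s hs x hx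
    have h1 := (hWZ hx).2
    have h2 : s * x * s⁻¹ = x := by
      rw [mul_inv_eq_iff_eq_mul]
      exact (Subgroup.mem_centralizer_iff.1 h1 _ hs)
    rwa [h2]
  have h := hom_le_presSys hS F hF n hcl hW
  apply Cfsg.Agent.Lib.FusionExt.Normal2.isNormal_of_abelian F hS hF
  · refine ⟨fun x hx => (hWZ hx).1, ?_⟩
    intro R hR φ hφ x
    exact ((h R hφ).2 x).1 (hR x.2)
  · intro a ha b hb
    exact Subgroup.mem_centralizer_iff.1 (hWZ hb).2 _ (hWZ ha).1

end statement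

end Cfsg.Agent.Lib.Fusion.PowerCenter
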