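import Cfsg.Agent.Lib.Fusion.RankFiveMain

/-!
# The second family of `p`-groups of rank two has no essential subgroups for `p ≥ 5`, unless it is extraspecial
-/

set_option autoImplicit false
set_option linter.unusedSectionVars false
set_option maxHeartbeats 1000000

namespace Cfsg.Agent.Lib.Fusion.RankFiveB

open Subgroup Cfsg Cfsg.FusionSystem Cfsg.Agent.Lib.Fusion.Basic Cfsg.Agent.Lib.Fusion.Saturation
open Cfsg.Agent.Lib.Fusion.SmallEssential Cfsg.Agent.Lib.Fusion.SmallEssentialAb
open Cfsg.Agent.Lib.Fusion.RankFivePres Cfsg.Agent.Lib.Fusion.RankFiveMain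

variable {p : ℕ} [hp : Fact p.Prime] {Ω : Type*} [Group Ω]

omit hp in
/-- Commutation in class two. -/
theorem pow_swap {u w c : Ω} (huc : Commute u c) (hwc : Commute w c) (h : w * u = u * w * c) (i j : ℕ) :
    w ^ j * u ^ i = u ^ i * w ^ j * c ^ (i * j) := by
  have h1 : ∀ i : ℕ, w * u ^ i = u ^ i * w * c ^ i := by
    intro i
    induction i with
    | zero => simp
    | succ i ih =>
      have h2 : c ^ i * u = u * c ^ i := ((huc.pow_right i).symm).eq
      have h3 : c ^ i * w = w * c ^ i := ((hwc.pow_right i).symm).eq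
      calc w * u ^ (i + 1) = (w * u ^ i) * u := by rw [pow_succ]; group
        _ = u ^ i * w * (c ^ i * u) := by rw [ih]; group
        _ = u ^ i * (w * u) * c ^ i := by rw [h2]; group
        _ = u ^ i * (u * w * c) * c ^ i := by rw [h]
        _ = u ^ (i + 1) * w * c ^ (i + 1) := by
          rw [pow_succ u, add_comm i 1, pow_add c, pow_one]
          group
  induction j with
  | zero => simp
  | succ j ih =>
    calc w ^ (j + 1) * u ^ i = w ^ j * (w * u ^ i) := by rw [pow_succ]; group
      _ = w ^ j * (u ^ i * w * c ^ i) := by rw [h1]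
      _ = (w ^ j * u ^ i) * w * c ^ i := by group
      _ = u ^ i * w ^ j * c ^ (i * j) * w * c ^ i := by rw [ih]
      _ = u ^ i * w ^ (j + 1) * c ^ (i * (j + 1)) := by
        rw [pow_succ w, mul_add, pow_add c, mul_one]
        have h2 : c ^ (i * j) * w = w * c ^ (i * j) := ((hwc.pow_right (i * j)).symm).eq
        simp only [mul_assoc]
        congr 2
        rw [← mul_assoc, h2, mul_assoc]

omit hp in
/-- The power formula in class two. -/
theorem pow_class_two {u w c : Ω} (huc : Commute u c) (hwc : Commute w c) (h : w * u = u * w * c) (m : ℕ) :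
    (u * w) ^ m = u ^ m * w ^ m * c ^ (m.choose 2) := by
  induction m with
  | zero => simp
  | succ m ih =>
    have h1 := pow_swap huc hwc h 1 m
    rw [pow_one, one_mul] at h1
    have h2 : (m + 1).choose 2 = m + m.choose 2 := by
      rw [Nat.choose_succ_succ' m 1, Nat.choose_one_right]
    rw [pow_succ, ih, h2, pow_add c]
    have h3 : c ^ m.choose 2 * (u * w) = u * w * c ^ m.choose 2 := by
      have := ((huc.mul_left hwc).pow_right (m.choose 2)).eq
      exact this.symm
    calc u ^ m * w ^ m * c ^ m.choose 2 * (u * w) = u ^ m * w ^ m * (u * w) * c ^ m.choose 2 := by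
          rw [mul_assoc (u ^ m * w ^ m), h3, mul_assoc (u ^ m * w ^ m)]
      _ = u ^ m * (w ^ m * u) * w * c ^ m.choose 2 := by group
      _ = u ^ m * (u * w ^ m * c ^ m) * w * c ^ m.choose 2 := by rw [h1]
      _ = u ^ (m + 1) * w ^ (m + 1) * (c ^ m * c ^ m.choose 2) := by
        rw [pow_succ u, pow_succ w]
        have h4 : c ^ m * w = w * c ^ m := ((hwc.pow_right m).symm).eq
        simp only [mul_assoc]
        rw [← mul_assoc (c ^ m) w, h4]
        simp only [mul_assoc]

variable {S : Subgroup Ω} [Finite S]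

/-- The second family. -/
theorem false_of_essential_b {x y z : Ω} {q : ℕ} (hcard : Nat.card S = p * (p * (p * q)))
    (hcl : S ≤ closure {x, y, z}) (hx : x ∈ S) (hy : y ∈ S) (hz : z ∈ S) (xp : x ^ p = 1) (yp : y ^ p = 1)
    (zp : z ^ (p * q) = 1) (hxz : Commute x z) (hyz : Commute y z) (r : cj x y = y * z ^ q)
    (hp5 : 5 ≤ p) (hS : IsPGroup p S) (F : FusionSystem S) (hF : F.IsSaturated p) {E : Subgroup Ω}
    (hE : F.IsEssential p E) (hnot : ¬ (Nat.card S = p ^ 3 ∧ Monoid.exponent ↥S = p)) : False := by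
  classical
  have hp0 := hp.out.pos
  have hq : 0 < q := by
    rcases Nat.eq_zero_or_pos q with rfl | h
    · exfalso
      rw [mul_zero, mul_zero, mul_zero] at hcard
      exact Nat.card_pos.ne' hcard
    · exact h
  have hES : E ≤ S := hE.1.1
  haveI hfinE : Finite E := finite_of_le hES
  have hlt : E < S := Cfsg.Agent.Lib.FusionTheory.Essential.IsEssential.lt F hS hF hE
  have hCen : ∀ g ∈ S, (∀ e ∈ E, Commute g e) → g ∈ E := by
    intro g hg hc
    apply hE.1.2 E (isConj_refl F hES)
    refine ⟨hg, Subgroup.mem_centralizer_iff.2 (fun e he => (hc e he).symm.eq)⟩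
  have hsw : y * x = x * y * z ^ q := by
    rw [mul_assoc]
    exact cj_eq_iff.1 r
  have hxzq : Commute x (z ^ q) := hxz.pow_right q
  have hyzq : Commute y (z ^ q) := hyz.pow_right q
  -- normal form
  set T : Ω → Prop := fun g => ∃ i j k : ℕ, g = x ^ i * y ^ j * z ^ k with hT
  have hx1 : ∀ g, T g → T (x * g) := by
    rintro g ⟨i, j, k, rfl⟩
    exact ⟨i + 1, j, k, by rw [pow_succ']; simp only [mul_assoc]⟩
  have hz1 : ∀ g, T g → T (z * g) := by
    rintro g ⟨i, j, k, rfl⟩
    refine ⟨i, j, k + 1, ?_⟩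
    have h1 : z * (x ^ i * y ^ j) = x ^ i * y ^ j * z := ((hxz.pow_left i).mul_left (hyz.pow_left j)).symm.eq
    rw [pow_succ', ← mul_assoc z, h1]
    simp only [mul_assoc]
  have hy1 : ∀ g, T g → T (y * g) := by
    rintro g ⟨i, j, k, rfl⟩
    have h2 := pow_swap hxzq hyzq hsw i 1
    rw [pow_one, mul_one] at h2
    refine ⟨i, j + 1, q * i + k, ?_⟩
    have h3 : (z ^ q) ^ i * y ^ j = y ^ j * (z ^ q) ^ i := ((hyzq.pow_pow j i).symm).eq
    calc y * (x ^ i * y ^ j * z ^ k) = (y * x ^ i) * y ^ j * z ^ k := by simp only [mul_assoc]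
      _ = x ^ i * y * (z ^ q) ^ i * y ^ j * z ^ k := by rw [h2]
      _ = x ^ i * y ^ (j + 1) * z ^ (q * i + k) := by
        rw [pow_add z, pow_mul z, pow_succ' y]
        simp only [mul_assoc]
        rw [← mul_assoc ((z ^ q) ^ i), h3]
        simp only [mul_assoc]
  have hpow : ∀ (u : Ω), (∀ g, T g → T (u * g)) → ∀ (m : ℕ) (g : Ω), T g → T (u ^ m * g) := by
    intro u hu m
    induction m with
    | zero => intro g hg; simpa using hg
    | succ m ih =>
      intro g hg
      rw [pow_succ', mul_assoc]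
      exact hu _ (ih g hg)
  have hinv : ∀ (u : Ω) (m : ℕ), u ^ m = 1 → 0 < m → (∀ g, T g → T (u * g)) → ∀ g, T g → T (u⁻¹ * g) := by
    intro u m hm hm0 hu g hg
    have h1 : u⁻¹ = u ^ (m - 1) := by
      rw [inv_eq_iff_mul_eq_one, ← pow_succ', Nat.sub_add_cancel hm0, hm]
    rw [h1]
    exact hpow u hu _ g hg
  have nf : ∀ g ∈ S, ∃ i j k : ℕ, g = x ^ i * y ^ j * z ^ k := by
    intro g hg
    have hmem := hcl hg
    refine Subgroup.closure_induction_left (p := fun g _ => T g) ⟨0, 0, 0, by simp⟩ ?_ ?_ hmem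
    · rintro u hu h _ hh
      rcases hu with rfl | rfl | rfl
      · exact hx1 _ hh
      · exact hy1 _ hh
      · exact hz1 _ hh
    · rintro u hu h _ hh
      rcases hu with rfl | rfl | rfl
      · exact hinv _ p xp hp0 hx1 _ hh
      · exact hinv _ p yp hp0 hy1 _ hh
      · exact hinv _ (p * q) zp (Nat.mul_pos hp0 hq) hz1 _ hh
  have ind := ind_of_card hq hcard hx hy hz xp yp zp nf
  have hzc : ∀ g ∈ S, Commute z g := by
    intro g hg
    obtain ⟨i, j, k, rfl⟩ := nf g hg
    exact (((hxz.symm.pow_right i).mul_right (hyz.symm.pow_right j))).mul_right ((Commute.refl z).pow_right k)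
  have hzE : z ∈ E := hCen z hz (fun e he => hzc e (hES he))
  have hord : orderOf z = p * q := by
    refine Nat.dvd_antisymm (orderOf_dvd_of_pow_eq_one zp) ?_
    exact (ind 0 0 (orderOf z) (by simp [pow_orderOf_eq_one])).2.2
  -- the index
  have hVp : IsPGroup p E := IsPGroup.of_injective hS (Subgroup.inclusion hES) (Subgroup.inclusion_injective hES)
  have hcardE : Nat.card E * p ≤ p * (p * (p * q)) := by
    have h1 : Nat.card (E.subgroupOf S) * (E.subgroupOf S).index = Nat.card S := Subgroup.card_mul_index _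
    have h2 : Nat.card (E.subgroupOf S) = Nat.card E := Nat.card_congr (Subgroup.subgroupOfEquivOfLe hES).toEquiv
    have h3 : (E.subgroupOf S).index ≠ 1 := by
      intro h4
      have h5 : Nat.card E = Nat.card S := by rw [← h2, ← h1, h4, mul_one]
      apply hlt.not_ge
      intro g hg
      have h6 := Subgroup.index_eq_one.1 h4
      have h7 : (⟨g, hg⟩ : S) ∈ E.subgroupOf S := by rw [h6]; trivial
      exact h7
    have h8 : p ∣ (E.subgroupOf S).index := by
      have h9 := hS.index (E.subgroupOf S)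
      obtain ⟨k, hk⟩ := h9
      rw [hk] at h3 ⊢
      rcases k with _ | k
      · simp at h3
      · exact dvd_pow_self p (Nat.succ_ne_zero k)
    obtain ⟨r, hr⟩ := h8
    have hidx : 0 < (E.subgroupOf S).index := Nat.pos_of_ne_zero (Subgroup.index_ne_zero_of_finite)
    have hr0 : 0 < r := by
      rcases Nat.eq_zero_or_pos r with rfl | h
      · simp at hr; omega
      · exact h
    rw [← hcard, ← h1, h2, hr]
    calc Nat.card E * p = Nat.card E * p * 1 := by ring
      _ ≤ Nat.card E * p * r := Nat.mul_le_mul_left _ hr0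
      _ = Nat.card E * (p * r) := by ring
  set zV : E := ⟨z, hzE⟩ with hzV
  have hordV : orderOf zV = p * q := by
    rw [hzV, Subgroup.orderOf_mk, hord]
  have hidx : (zpowers zV).index ≤ p := by
    have h1 : Nat.card (zpowers zV) * (zpowers zV).index = Nat.card E := Subgroup.card_mul_index _
    rw [Nat.card_zpowers, hordV] at h1
    have hpq0 : 0 < p * q := Nat.mul_pos hp0 hq
    have h2 : (zpowers zV).index * (p * (p * q)) ≤ p * (p * (p * q)) := by
      calc (zpowers zV).index * (p * (p * q)) = (p * q * (zpowers zV).index) * p := by ring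
        _ = Nat.card E * p := by rw [h1]
        _ ≤ _ := hcardE
    exact Nat.le_of_mul_le_mul_right h2 (Nat.mul_pos hp0 hpq0)
  -- the group is abelian
  have hab : ∀ a b : E, a * b = b * a := by
    have hidxd : (zpowers zV).index = 1 ∨ (zpowers zV).index = p := by
      obtain ⟨k, hk⟩ := hVp.index (zpowers zV)
      rw [hk] at hidx ⊢
      rcases k with _ | k
      · left; simp
      · right
        rcases k with _ | k
        · simp
        · exfalso
          have h1 : p ^ (k + 1 + 1) = p * p ^ (k + 1) := by ring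
          have h2 : 1 < p ^ (k + 1) := Nat.one_lt_pow (Nat.succ_ne_zero k) hp.out.one_lt
          rw [h1] at hidx
          nlinarith
    have hznor : (zpowers zV).Normal := by
      constructor
      intro n hn g
      obtain ⟨m, rfl⟩ := Subgroup.mem_zpowers_iff.1 hn
      have h3 : Commute (zV ^ m) g := Commute.zpow_left (Subtype.ext (hzc g.1 (hES g.2)).eq) m
      rw [← h3.eq, mul_inv_cancel_right]
      exact Subgroup.zpow_mem_zpowers zV m
    have hcyc : IsCyclic (E ⧸ zpowers zV) := by
      rcases hidxd with h | h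
      · have h1 : Nat.card (E ⧸ zpowers zV) = 1 := by rw [← Subgroup.index_eq_card, h]
        haveI := (Nat.card_eq_one_iff_unique.1 h1).1
        infer_instance
      · have h1 : Nat.card (E ⧸ zpowers zV) = p := by rw [← Subgroup.index_eq_card, h]
        exact isCyclic_of_prime_card h1
    have hk : (QuotientGroup.mk' (zpowers zV)).ker ≤ Subgroup.center E := by
      rw [QuotientGroup.ker_mk']
      intro n hn
      obtain ⟨m, rfl⟩ := Subgroup.mem_zpowers_iff.1 hn
      rw [Subgroup.mem_center_iff]
      intro g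
      exact (Commute.zpow_left (Subtype.ext (hzc g.1 (hES g.2)).eq) m).symm.eq
    have := (QuotientGroup.mk' (zpowers zV)).isMulCommutative_of_isCyclic_of_ker_le_center hk
    exact fun a b => this.is_comm.comm a b
  obtain ⟨hexp, -⟩ := ab_two_idx hS F hE hp5 hab hidx
  have zp1 : z ^ p = 1 := congrArg Subtype.val (hexp zV)
  have hq1 : q = 1 := by
    have h2 := (ind 0 0 p (by simpa using zp1)).2.2
    have h3 : q ∣ 1 := by
      have h4 : p * q ∣ p * 1 := by simpa using h2
      exact (Nat.mul_dvd_mul_iff_left hp0).1 h4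
    exact Nat.dvd_one.1 h3
  subst hq1
  rw [pow_one] at hsw hxzq hyzq
  apply hnot
  refine ⟨by rw [hcard]; ring, ?_⟩
  have hpow1 : ∀ g : S, g ^ p = 1 := by
    rintro ⟨g, hg⟩
    obtain ⟨i, j, k, rfl⟩ := nf g hg
    apply Subtype.ext
    show (x ^ i * y ^ j * z ^ k) ^ p = 1
    have h1 : y ^ j * x ^ i = x ^ i * y ^ j * (z ^ (i * j)) := by
      rw [pow_swap hxz hyz hsw]
    have hc1 : Commute (x ^ i * y ^ j) (z ^ k) := ((hxz.pow_pow i k).mul_left (hyz.pow_pow j k))
    rw [hc1.mul_pow, pow_class_two (hxz.pow_pow i _) (hyz.pow_pow j _) h1]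
    have hchoose : p ∣ p.choose 2 := hp.out.dvd_choose_self (by norm_num) (by omega)
    obtain ⟨r, hr⟩ := hchoose
    rw [hr, ← pow_mul, ← pow_mul, ← pow_mul, ← pow_mul]
    rw [show i * p = p * i by ring, show j * p = p * j by ring, show k * p = p * k by ring,
      show i * j * (p * r) = p * (i * j * r) by ring]
    simp only [pow_mul, xp, yp, zp1, one_pow, mul_one]
  have h2 : Monoid.exponent ↥S ∣ p := Monoid.exponent_dvd_of_forall_pow_eq_one hpow1
  rcases (Nat.dvd_prime hp.out).1 h2 with h | h
  · exfalso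
    rw [Monoid.exp_eq_one_iff] at h
    have h3 : Nat.card S = 1 := Nat.card_unique
    rw [hcard] at h3
    have h4 : p ∣ 1 := by rw [← h3]; exact dvd_mul_right _ _
    exact hp.out.one_lt.ne' (Nat.dvd_one.1 h4)
  · exact h

end Cfsg.Agent.Lib.Fusion.RankFiveB
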