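import Cfsg.Agent.Lib.Fusion.RankFiveC2A

/-!
# The third family, order `p⁴`: no essential subgroup of order `p²`
-/

set_option autoImplicit false
set_option linter.unusedSectionVars false
set_option maxHeartbeats 1000000

namespace Cfsg.Agent.Lib.Fusion.RankFiveC2

open Subgroup Cfsg Cfsg.FusionSystem Cfsg.Agent.Lib.Fusion.Basic Cfsg.Agent.Lib.Fusion.Saturation
open Cfsg.Agent.Lib.Fusion.RankFivePres Cfsg.Agent.Lib.Fusion.RankFiveFinal
open Cfsg.Agent.Lib.Fusion.RankFiveStruct Cfsg.Agent.Lib.Fusion.RankFiveStruct.PresLemmas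
open Cfsg.Agent.Lib.Fusion.RankFiveC2A

variable {Ω : Type*} [Group Ω] {p : ℕ} [hp : Fact p.Prime] {S : Subgroup Ω} [Finite S] {x y c : Ω} {s : ℕ}

theorem yE_pow (P : PresC p s p S x y c) {E : Subgroup Ω} (hgenE : ∀ f ∈ E, ∃ i k : ℕ, f = x ^ i * (c ^ p) ^ k)
    {k : ℕ} (hk : y ^ k ∈ E) : p ∣ k := by
  obtain ⟨i', k', h⟩ := hgenE _ hk
  have hp0 := hp.out.pos
  have h0 : y ^ (k * (p - 1)) = (y ^ k)⁻¹ := by
    rw [eq_inv_iff_mul_eq_one, ← pow_add]
    have h1 : k * (p - 1) + k = k * p := by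
      obtain ⟨p', hp'⟩ : ∃ p', p = p' + 1 := ⟨p - 1, by omega⟩
      rw [hp', Nat.add_sub_cancel]
      ring
    rw [h1, mul_comm, pow_mul, P.yp, one_pow]
  have h1 : x ^ i' * y ^ (k * (p - 1)) * c ^ (p * k') = 1 := by
    have h2 : Commute (y ^ (k * (p - 1))) (c ^ (p * k')) := P.yc.pow_pow _ _
    rw [mul_assoc, h2.eq, ← mul_assoc, pow_mul c p k', h0]
    have h3 : x ^ i' * (c ^ p) ^ k' * (y ^ k)⁻¹ = y ^ k * (y ^ k)⁻¹ := by rw [← h]
    rw [h3, mul_inv_cancel]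
  have h2 := (P.ind _ _ _ h1).2.1
  rcases hp.out.dvd_mul.1 h2 with h3 | h3
  · exact h3
  · exfalso
    have h4 := Nat.le_of_dvd (by have := hp.out.two_le; omega) h3
    omega

/-- A chain of extensions leads to the eigenvalue obstruction. -/
theorem chain_c2 (P : PresC p s p S x y c) (hp5 : 5 ≤ p) (hS : IsPGroup p S) (F : FusionSystem S)
    (hF : F.IsSaturated p) {E : Subgroup Ω} (hE : F.IsEssential p E) (hxE : x ∈ E) (hzE : c ^ p ∈ E)
    (hgenE : ∀ f ∈ E, ∃ i k : ℕ, f = x ^ i * (c ^ p) ^ k) {τ : MulAut E} (hτX : τ ∈ F.autGroup E) {a : ℕ}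
    (ha : a * 2 ≡ 1 [MOD p]) (hτx : ((τ ⟨x, hxE⟩ : E) : Ω) = x ^ 2) (hτz : ((τ ⟨c ^ p, hzE⟩ : E) : Ω) = (c ^ p) ^ a)
    (hyN : y ∈ Subgroup.normalizer (E : Set Ω)) {r : E} {m : ℕ}
    (hrel : τ * normAct E hyN * τ⁻¹ = MulAut.conj r * (normAct E hyN) ^ m) : False := by
  classical
  have hES : E ≤ S := hE.1.1
  haveI hfinE : Finite E := finite_of_le hES
  have hyc := P.yc
  have hp0 := hp.out.pos
  set z := c ^ p with hz
  have hzS : z ∈ S := S.pow_mem P.hc p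
  have hzcen : ∀ {g : Ω}, g ∈ S → Commute z g := fun hg => comm_z P hg
  have hzp : z ^ p = 1 := zp P
  have hyS : ∀ n : ℕ, y ^ n ∈ S := fun n => S.pow_mem P.hy n
  -- the normalizer of `E`
  let R : Subgroup Ω := normalizerIn S E
  have hRS : R ≤ S := normalizerIn_le_left S E
  haveI hfinR : Finite R := finite_of_le hRS
  have hER : E ≤ R := le_normalizerIn hES
  have hyR : y ∈ R := ⟨P.hy, hyN⟩
  have hxN : x ∈ Subgroup.normalizer (E : Set Ω) := Subgroup.le_normalizer hxE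
  have hcnotN : c ∉ Subgroup.normalizer (E : Set Ω) := by
    intro h
    have h1 : c * x * c⁻¹ ∈ E := (Subgroup.mem_normalizer_iff.1 h x).1 hxE
    rw [cx P] at h1
    have h2 : y ^ 1 ∈ E := by
      rw [pow_one]
      have e : y = x⁻¹ * (x * y) := by group
      rw [e]
      exact E.mul_mem (E.inv_mem hxE) h1
    have h3 := yE_pow P hgenE h2
    exact hp.out.one_lt.ne' (Nat.dvd_one.1 h3)
  have hR2 : ∀ g ∈ R, ∃ i j k : ℕ, g = x ^ i * y ^ j * z ^ k := by
    intro g hg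
    obtain ⟨i, j, k, hgf⟩ := P.nf g hg.1
    have h1 : c ^ k ∈ Subgroup.normalizer (E : Set Ω) := by
      have e : c ^ k = (x ^ i * y ^ j)⁻¹ * g := by rw [hgf]; group
      rw [e]
      exact Subgroup.mul_mem _ (Subgroup.inv_mem _ (Subgroup.mul_mem _ (Subgroup.pow_mem _ hxN _)
        (Subgroup.pow_mem _ hyN _))) hg.2
    have h2 : x * y ^ k ∈ E := by
      rw [← cxk P k]
      exact (Subgroup.mem_normalizer_iff.1 h1 x).1 hxE
    have h3 : y ^ k ∈ E := by
      have e : y ^ k = x⁻¹ * (x * y ^ k) := by group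
      rw [e]
      exact E.mul_mem (E.inv_mem hxE) h2
    obtain ⟨k', rfl⟩ := yE_pow P hgenE h3
    exact ⟨i, j, k', by rw [hgf, hz, pow_mul]⟩
  -- extending to `R`
  have hφ := autHom_mem F hES hτX
  have hrec := isReceptive_of_isFullyNormalized F hS hF hE.2.1
  have hEe := le_extender F hφ
  have hye : y ∈ extender S E (autHom τ) := mem_extender_of_rel hES P.hy hyN hrel
  have hRe : R ≤ extender S E (autHom τ) := by
    intro g hg
    obtain ⟨i, j, k, rfl⟩ := hR2 g hg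
    exact Subgroup.mul_mem _ (Subgroup.mul_mem _ (Subgroup.pow_mem _ (hEe hxE) _) (Subgroup.pow_mem _ hye _))
      (Subgroup.pow_mem _ (hEe hzE) _)
  obtain ⟨d₁, hd₁, hd₁e⟩ := IsReceptive.exists_extension F hrec hφ (autHom_range τ) hRe hER
  let X : R := ⟨x, hER hxE⟩
  let Y : R := ⟨y, hyR⟩
  let Z : R := ⟨z, hER hzE⟩
  have hdX : d₁ X = x ^ 2 := (hd₁e ⟨x, hxE⟩).trans hτx
  have hdZ : d₁ Z = z ^ a := (hd₁e ⟨z, hzE⟩).trans hτz
  have hd₁R : ∀ t : R, d₁ t ∈ R := by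
    intro t
    refine ⟨val_mem F hd₁ t, ?_⟩
    refine extCond_mem_normalizer (φ := autHom τ) (autHom_range τ) t.2.2 ?_
    intro f hf
    have e1 := hd₁e ⟨_, hf⟩
    have e2 := hd₁e f
    rw [← e1, ← e2, ← map_inv, ← map_mul, ← map_mul]
    rfl
  have hrange : d₁.range = R := range_eq_of_card_le d₁ (F.injective_of_mem hd₁) hd₁R le_rfl
  set u : Ω := d₁ Y with hu
  obtain ⟨i, κ, k₀, huf⟩ := hR2 u (hd₁R Y)
  -- the subgroup `⟨y, z⟩`
  have hyz : Commute y z := hyc.pow_right p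
  let Z₂ : Subgroup Ω :=
    { carrier := {g | InA y z g}
      mul_mem' := fun ha hb => ha.mul hyz hb
      one_mem' := ⟨0, 0, by simp⟩
      inv_mem' := fun ha => InA.inv hyz P.yp hp0 hzp hp0 ha }
  have hZ₂R : Z₂ ≤ R := by
    rintro _ ⟨j, k, rfl⟩
    exact R.mul_mem (R.pow_mem hyR j) (R.pow_mem (hER hzE) k)
  have hce : c ^ (s * p) = z ^ s := ce_eq P
  have hxiy : x * y * x⁻¹ = y * z ^ (s * (p - 1)) := by
    have h1 : y * x = x * (y * c ^ (s * p)) := cj_eq_iff.1 P.r1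
    have h2 : z ^ s * z ^ (s * (p - 1)) = 1 := by
      rw [← pow_add]
      have h3 : s + s * (p - 1) = p * s := by
        obtain ⟨p', hp'⟩ : ∃ p', p = p' + 1 := ⟨p - 1, by omega⟩
        rw [hp', Nat.add_sub_cancel]
        ring
      rw [h3, pow_mul, hzp, one_pow]
    have h3 : x * (y * c ^ (s * p)) * x⁻¹ = y := by
      rw [← h1]
      group
    rw [hce] at h3
    have h4 : x * y * x⁻¹ * z ^ s = y := by
      have h5 : Commute (z ^ s) x := (hzcen P.hx).pow_left s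
      have h6 : z ^ s * x⁻¹ = x⁻¹ * z ^ s := h5.inv_right.eq
      calc x * y * x⁻¹ * z ^ s = x * y * (x⁻¹ * z ^ s) := by simp only [mul_assoc]
        _ = x * y * (z ^ s * x⁻¹) := by rw [h6]
        _ = x * (y * z ^ s) * x⁻¹ := by simp only [mul_assoc]
        _ = y := h3
    calc x * y * x⁻¹ = x * y * x⁻¹ * (z ^ s * z ^ (s * (p - 1))) := by rw [h2, mul_one]
      _ = (x * y * x⁻¹ * z ^ s) * z ^ (s * (p - 1)) := by simp only [mul_assoc]
      _ = _ := by rw [h4]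
  have hcjxy : cj x y = y * z ^ s := by rw [P.r1, hce]
  have hSN : S ≤ Subgroup.normalizer (Z₂ : Set Ω) := by
    have hx : x ∈ Subgroup.normalizer (Z₂ : Set Ω) := by
      apply mem_normalizer_of_conj_mem
      · rintro _ ⟨j, k, rfl⟩
        have h1 : x * (y ^ j * z ^ k) * x⁻¹ = (y * z ^ (s * (p - 1))) ^ j * z ^ k := by
          have h2 : MulAut.conj x (y ^ j * z ^ k) = (MulAut.conj x y) ^ j * (MulAut.conj x z) ^ k := by
            simp only [map_mul, map_pow]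
          simp only [MulAut.conj_apply] at h2
          rw [hxiy, ((hzcen P.hx).eq.symm : x * z = z * x)] at h2
          have h3 : z * x * x⁻¹ = z := by group
          rw [h3] at h2
          exact h2
        show x * (y ^ j * z ^ k) * x⁻¹ ∈ Z₂
        rw [h1]
        exact Z₂.mul_mem (Z₂.pow_mem ⟨1, s * (p - 1), by rw [pow_one]⟩ j) (Z₂.pow_mem ⟨0, 1, by simp⟩ k)
      · rintro _ ⟨j, k, rfl⟩
        have h1 : x⁻¹ * (y ^ j * z ^ k) * x = (y * z ^ s) ^ j * z ^ k := by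
          have h2 : cj x (y ^ j * z ^ k) = (cj x y) ^ j * (cj x z) ^ k := by
            simp only [map_mul, map_pow]
          rw [hcjxy, cj_eq_self_iff.2 (hzcen P.hx)] at h2
          exact h2
        show x⁻¹ * (y ^ j * z ^ k) * x ∈ Z₂
        rw [h1]
        exact Z₂.mul_mem (Z₂.pow_mem ⟨1, s, by rw [pow_one]⟩ j) (Z₂.pow_mem ⟨0, 1, by simp⟩ k)
    have hcm : ∀ g : Ω, (∀ f, InA y z f → Commute g f) → g ∈ Subgroup.normalizer (Z₂ : Set Ω) := by
      intro g hg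
      apply mem_normalizer_of_conj_mem
      · intro f hf
        have h1 : g * f * g⁻¹ = f := by
          rw [(hg f hf).eq]
          group
        rw [h1]
        exact hf
      · intro f hf
        have h1 : g⁻¹ * f * g = f := by
          rw [mul_assoc, ((hg f hf).eq.symm : f * g = g * f)]
          group
        rw [h1]
        exact hf
    have hy' : y ∈ Subgroup.normalizer (Z₂ : Set Ω) := by
      apply hcm
      rintro _ ⟨j, k, rfl⟩
      exact ((Commute.refl y).pow_right j).mul_right (hyz.pow_right k)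
    have hc' : c ∈ Subgroup.normalizer (Z₂ : Set Ω) := by
      apply hcm
      rintro _ ⟨j, k, rfl⟩
      exact (hyc.symm.pow_right j).mul_right (((Commute.refl c).pow_right p).pow_right k)
    intro g hg
    obtain ⟨i₁, j₁, k₁, rfl⟩ := P.nf g hg
    exact Subgroup.mul_mem _ (Subgroup.mul_mem _ (Subgroup.pow_mem _ hx _) (Subgroup.pow_mem _ hy' _))
      (Subgroup.pow_mem _ hc' _)
  -- `u` lies in `⟨y, z⟩`
  have hpi : p ∣ i := by
    by_contra hi
    obtain ⟨i', hi'⟩ := exists_inv_mod hi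
    set l := i' * ((p - 1) * κ) with hl
    have hl0 : y ^ (l * i + κ) = 1 := by
      have h1 : l * i + κ ≡ 0 [MOD p] := by
        rw [← ZMod.natCast_eq_natCast_iff]
        have h2 : ((i * i' : ℕ) : ZMod p) = ((1 : ℕ) : ZMod p) := (ZMod.natCast_eq_natCast_iff _ _ _).2 hi'
        push_cast at h2
        have h3 : (((p - 1 : ℕ)) : ZMod p) = -1 := by
          rw [Nat.cast_sub hp0]
          simp
        rw [hl]
        push_cast
        rw [h3]
        linear_combination (-(κ : ZMod p)) * h2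
      have h2 := pow_congr_mod P.yp h1
      rw [h2, pow_zero]
    obtain ⟨t, ht⟩ := xyl_pow P l i
    have hhu : c ^ l * u * (c ^ l)⁻¹ = x ^ i * z ^ (t + k₀) := by
      have h2 : MulAut.conj (c ^ l) (x ^ i * y ^ κ * z ^ k₀) =
          (MulAut.conj (c ^ l) x) ^ i * (MulAut.conj (c ^ l) y) ^ κ * (MulAut.conj (c ^ l) z) ^ k₀ := by
        simp only [map_mul, map_pow]
      simp only [MulAut.conj_apply] at h2
      have h3 : c ^ l * z * (c ^ l)⁻¹ = z := by
        rw [((hzcen (S.pow_mem P.hc l)).eq.symm : c ^ l * z = z * c ^ l)]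
        group
      rw [cxk P, cyk P, h3, ht] at h2
      rw [huf, h2, pow_add z t k₀]
      have h4 : Commute (z ^ t) (y ^ κ) := (hzcen (hyS κ)).pow_left t
      calc x ^ i * y ^ (l * i) * z ^ t * y ^ κ * z ^ k₀ = x ^ i * y ^ (l * i) * (z ^ t * y ^ κ) * z ^ k₀ := by
            simp only [mul_assoc]
        _ = x ^ i * (y ^ (l * i) * y ^ κ) * z ^ t * z ^ k₀ := by rw [h4.eq]; simp only [mul_assoc]
        _ = _ := by rw [← pow_add, hl0, mul_one]; simp only [mul_assoc]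
    -- the map from `⟨y, z⟩` to `E`
    have hcl : c ^ l ∈ S := S.pow_mem P.hc l
    let ψ₂ : Z₂ →* Ω := ((MulAut.conj (c ^ l)).toMonoidHom).comp (d₁.comp (Subgroup.inclusion hZ₂R))
    have hψ₂ : ψ₂ ∈ F.Hom Z₂ :=
      comp_mem' F (restrict_mem F hZ₂R hd₁) (F.conj_mem hRS hcl) (fun f => hd₁R _) ψ₂ (fun f => rfl)
    have hψy : ψ₂ ⟨y, ⟨1, 0, by simp⟩⟩ = x ^ i * z ^ (t + k₀) := hhu
    have hψz : ψ₂ ⟨z, ⟨0, 1, by simp⟩⟩ = z ^ a := by
      show c ^ l * d₁ Z * (c ^ l)⁻¹ = z ^ a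
      rw [hdZ, ((hzcen hcl).pow_left a).symm.eq]
      group
    have hrangeψ : ψ₂.range = E := by
      have hψyE : ψ₂ ⟨y, ⟨1, 0, by simp⟩⟩ ∈ E := by
        rw [hψy]
        exact E.mul_mem (E.pow_mem hxE _) (E.pow_mem hzE _)
      have hψzE : ψ₂ ⟨z, ⟨0, 1, by simp⟩⟩ ∈ E := by
        rw [hψz]
        exact E.pow_mem hzE _
      apply le_antisymm
      · rintro _ ⟨⟨_, ⟨j, k, rfl⟩⟩, rfl⟩
        have e : (⟨y ^ j * z ^ k, ⟨j, k, rfl⟩⟩ : Z₂) =
            (⟨y, ⟨1, 0, by simp⟩⟩ : Z₂) ^ j * (⟨z, ⟨0, 1, by simp⟩⟩ : Z₂) ^ k := rfl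
        rw [e, map_mul, map_pow, map_pow]
        exact E.mul_mem (E.pow_mem hψyE _) (E.pow_mem hψzE _)
      · have hz2 : (z ^ a) ^ 2 = z := by
          rw [← pow_mul, pow_congr_mod hzp ha, pow_one]
        have hzr : z ∈ ψ₂.range := by
          refine ⟨(⟨z, ⟨0, 1, by simp⟩⟩ : Z₂) ^ 2, ?_⟩
          rw [map_pow, hψz, hz2]
        have hxi : x ^ i ∈ ψ₂.range := by
          have h1 : x ^ i = (x ^ i * z ^ (t + k₀)) * (z ^ (t + k₀))⁻¹ := by group
          rw [h1]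
          refine Subgroup.mul_mem _ ⟨_, hψy⟩ (Subgroup.inv_mem _ (Subgroup.pow_mem _ hzr _))
        have hxr : x ∈ ψ₂.range := by
          have h1 : (x ^ i) ^ i' = x := by
            rw [← pow_mul, pow_congr_mod P.xp hi', pow_one]
          rw [← h1]
          exact Subgroup.pow_mem _ hxi _
        intro f hf
        obtain ⟨i₁, k₁, rfl⟩ := hgenE f hf
        exact Subgroup.mul_mem _ (Subgroup.pow_mem _ hxr _) (Subgroup.pow_mem _ hzr _)
    have hconj : F.IsConj E Z₂ := isConj_symm F ⟨ψ₂, hψ₂, hrangeψ⟩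
    have hcard := hE.2.1.2 Z₂ hconj
    have hNZ : normalizerIn S Z₂ = S := le_antisymm inf_le_left (le_inf le_rfl hSN)
    rw [hNZ] at hcard
    have hRS' : R = S := Subgroup.eq_of_le_of_card_ge hRS hcard
    apply hcnotN
    have h1 : c ∈ R := by
      rw [hRS']
      exact P.hc
    exact h1.2
  have hxi1 : x ^ i = 1 := by
    obtain ⟨r', rfl⟩ := hpi
    rw [pow_mul, P.xp, one_pow]
  have hu2 : u = y ^ κ * z ^ k₀ := by
    rw [huf, hxi1, one_mul]
  have hκ : ¬ p ∣ κ := by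
    rintro ⟨r', rfl⟩
    have h1 : y ^ (p * r') = 1 := by rw [pow_mul, P.yp, one_pow]
    rw [h1, one_mul] at hu2
    have h2 : d₁ (Z ^ (2 * k₀)) = d₁ Y := by
      rw [map_pow, hdZ, ← hu, hu2, ← pow_mul]
      apply pow_congr_mod hzp
      have h3 : a * (2 * k₀) = a * 2 * k₀ := by ring
      rw [h3]
      simpa using ha.mul_right k₀
    have h3 := F.injective_of_mem hd₁ h2
    have h4 : z ^ (2 * k₀) = y := congrArg Subtype.val h3
    have h5 : y ^ 1 * c ^ 0 = y ^ 0 * c ^ (p * (2 * k₀)) := by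
      rw [pow_one, pow_zero, pow_zero, mul_one, one_mul, pow_mul c p, ← hz, h4]
    have h6 := (P.ind_eq h5).1
    have h7 : p ∣ 1 := (Nat.modEq_zero_iff_dvd).1 h6
    exact hp.out.one_lt.ne' (Nat.dvd_one.1 h7)
  -- `c` normalizes `R`
  have hxR : x ∈ R := hER hxE
  have hzR : z ∈ R := hER hzE
  have hcN_R : c ∈ Subgroup.normalizer (R : Set Ω) := by
    have h3 : c * z * c⁻¹ = z := by
      rw [((hzcen P.hc).eq.symm : c * z = z * c)]
      group
    apply mem_normalizer_of_conj_mem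
    · intro f hf
      obtain ⟨i₁, j₁, k₁, rfl⟩ := hR2 f hf
      have h2 : MulAut.conj c (x ^ i₁ * y ^ j₁ * z ^ k₁) =
          (MulAut.conj c x) ^ i₁ * (MulAut.conj c y) ^ j₁ * (MulAut.conj c z) ^ k₁ := by
        simp only [map_mul, map_pow]
      simp only [MulAut.conj_apply] at h2
      rw [cx P, cy P, h3] at h2
      rw [h2]
      exact R.mul_mem (R.mul_mem (R.pow_mem (R.mul_mem hxR hyR) _) (R.pow_mem hyR _)) (R.pow_mem hzR _)
    · intro f hf
      obtain ⟨i₁, j₁, k₁, rfl⟩ := hR2 f hf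
      have h2 : cj c (x ^ i₁ * y ^ j₁ * z ^ k₁) = (cj c x) ^ i₁ * (cj c y) ^ j₁ * (cj c z) ^ k₁ := by
        simp only [map_mul, map_pow]
      simp only [cj_apply] at h2
      have h4 : c⁻¹ * z * c = z := by
        rw [mul_assoc, (hzcen P.hc).eq]
        group
      rw [cxi P, cyi P, h4] at h2
      rw [h2]
      exact R.mul_mem (R.mul_mem (R.pow_mem (R.mul_mem hxR (R.inv_mem hyR)) _) (R.pow_mem hyR _)) (R.pow_mem hzR _)
  have hSNR : S ≤ Subgroup.normalizer (R : Set Ω) := by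
    intro g hg
    obtain ⟨i₁, j₁, k₁, rfl⟩ := P.nf g hg
    exact Subgroup.mul_mem _ (Subgroup.mul_mem _ (Subgroup.pow_mem _ (Subgroup.le_normalizer hxR) _)
      (Subgroup.pow_mem _ (Subgroup.le_normalizer hyR) _)) (Subgroup.pow_mem _ hcN_R _)
  have hNR : normalizerIn S R = S := le_antisymm inf_le_left (le_inf le_rfl hSNR)
  have hfnR : F.IsFullyNormalized R := ⟨hRS, fun Q _ => by
    rw [hNR]
    exact Subgroup.card_le_of_le inf_le_left⟩
  have hrecR := isReceptive_of_isFullyNormalized F hS hF hfnR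
  -- the conjugating element
  have hs0 : (s : ZMod p) ≠ 0 := by
    rw [Ne, ZMod.natCast_eq_zero_iff]
    exact P.hs
  have h2a : (2 : ZMod p) * a = 1 := by
    have h1 : ((a * 2 : ℕ) : ZMod p) = ((1 : ℕ) : ZMod p) := (ZMod.natCast_eq_natCast_iff _ _ _).2 ha
    push_cast at h1
    rw [mul_comm]
    exact h1
  set g₀ := a * κ with hg₀
  set f₀ := ((a : ZMod p) * ((s : ZMod p)⁻¹ * k₀ - g₀)).val with hf₀
  have hf₀c : (f₀ : ZMod p) = (a : ZMod p) * ((s : ZMod p)⁻¹ * k₀ - g₀) := by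
    rw [hf₀, ZMod.natCast_zmod_val]
  have hy2g : y ^ (2 * g₀) = y ^ κ := by
    apply pow_congr_mod P.yp
    rw [← ZMod.natCast_eq_natCast_iff, hg₀]
    push_cast
    linear_combination (κ : ZMod p) * h2a
  have hce2 : c ^ (s * p * (2 * f₀ + g₀)) = z ^ k₀ := by
    have h1 : s * (2 * f₀ + g₀) ≡ k₀ [MOD p] := by
      rw [← ZMod.natCast_eq_natCast_iff]
      push_cast
      rw [hf₀c]
      have h3 : (s : ZMod p) * (2 * ((a : ZMod p) * ((s : ZMod p)⁻¹ * k₀ - g₀)) + g₀) =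
          (2 * a) * ((s : ZMod p) * (s : ZMod p)⁻¹) * k₀ + s * g₀ * (1 - 2 * a) := by ring
      rw [h3, h2a, mul_inv_cancel₀ hs0]
      ring
    have h2 : p * (s * (2 * f₀ + g₀)) ≡ p * k₀ [MOD p * p] := h1.mul_left' p
    have h3 := pow_congr_mod P.cp h2
    rw [hz, ← pow_mul, ← h3]
    congr 1
    ring
  set h₀ : Ω := y ^ f₀ * c ^ g₀ with hh₀
  have hh₀S : h₀ ∈ S := S.mul_mem (hyS _) (S.pow_mem P.hc _)
  have hconj1 : MulAut.conj h₀ (x ^ 2) = x ^ 2 * u := by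
    rw [MulAut.conj_apply, hh₀, h_sq P, hy2g, hce2, hu2]
  have hconj2 : MulAut.conj h₀ u = u := by
    have h1 : Commute h₀ u := by
      rw [hu2, hz, ← pow_mul]
      exact InA.comm hyc ⟨f₀, g₀, rfl⟩ ⟨κ, p * k₀, rfl⟩
    rw [MulAut.conj_apply, h1.eq]
    group
  have hconj3 : MulAut.conj h₀ (z ^ a) = z ^ a := by
    have h1 : Commute h₀ (z ^ a) := ((hzcen hh₀S).pow_left a).symm
    rw [MulAut.conj_apply, h1.eq]
    group
  -- the action on `R`
  let t := normAct R hcN_R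
  have htX : t X = X * Y := Subtype.ext (cx P)
  have htY : t Y = Y := Subtype.ext (cy P)
  have htZ : t Z = Z := by
    apply Subtype.ext
    show c * z * c⁻¹ = z
    rw [((hzcen P.hc).eq.symm : c * z = z * c)]
    group
  have hgensR : ∀ t' : R, ∃ i j k : ℕ, t' = X ^ i * Y ^ j * Z ^ k := by
    intro t'
    obtain ⟨i₁, j₁, k₁, h⟩ := hR2 t' t'.2
    exact ⟨i₁, j₁, k₁, Subtype.ext h⟩
  have hcase : ∀ t' : R, d₁ ⟨c * t' * c⁻¹, (Subgroup.mem_normalizer_iff.1 hcN_R t').1 t'.2⟩ = h₀ * d₁ t' * h₀⁻¹ := by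
    intro t'
    have e : (⟨c * t' * c⁻¹, (Subgroup.mem_normalizer_iff.1 hcN_R t').1 t'.2⟩ : R) = t t' := rfl
    rw [e]
    obtain ⟨i₁, j₁, k₁, rfl⟩ := hgensR t'
    show _ = MulAut.conj h₀ (d₁ (X ^ i₁ * Y ^ j₁ * Z ^ k₁))
    simp only [map_mul, map_pow]
    rw [htX, htY, htZ, map_mul, hdX, hdZ, ← hu, hconj1, hconj2, hconj3]
  have hce_R : c ∈ extender S R d₁ := mem_extender_of d₁ P.hc hcN_R hh₀S hcase
  have hRe₂ := le_extender F hd₁
  have hT : S ≤ extender S R d₁ := by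
    intro g hg
    obtain ⟨i₁, j₁, k₁, rfl⟩ := P.nf g hg
    exact Subgroup.mul_mem _ (Subgroup.mul_mem _ (Subgroup.pow_mem _ (hRe₂ hxR) _)
      (Subgroup.pow_mem _ (hRe₂ hyR) _)) (Subgroup.pow_mem _ hce_R _)
  obtain ⟨ψ, hψ, hψe⟩ := IsReceptive.exists_extension F hrecR hd₁ hrange hT hRS
  have hDv : ψ ⟨x, P.hx⟩ = x ^ 2 * 1 := by
    rw [mul_one]
    exact (hψe X).trans hdX
  have hDy : ψ ⟨y, P.hy⟩ = y ^ κ * z ^ k₀ := (hψe Y).trans hu2
  exact final P hp5 P.hx P.r1 P.r2 ψ (fun g => val_mem F hψ g) (w := 1) (w' := z ^ k₀)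
    (fun g _ => Commute.one_left g) (fun g hg => (hzcen hg).pow_left k₀) (l := p * k₀) (by rw [hz, pow_mul])
    hDv hDy hκ

end Cfsg.Agent.Lib.Fusion.RankFiveC2
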