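import Cfsg.Agent.Lib.Fusion.RankFiveStruct

/-!
# The third family, order `p⁴`: computations
-/

set_option autoImplicit false
set_option linter.unusedSectionVars false

namespace Cfsg.Agent.Lib.Fusion.RankFiveC2A

open Subgroup Cfsg.Agent.Lib.Fusion.RankFivePres Cfsg.Agent.Lib.Fusion.RankFiveFinal
open Cfsg.Agent.Lib.Fusion.RankFiveStruct Cfsg.Agent.Lib.Fusion.RankFiveStruct.PresLemmas

variable {Ω : Type*} [Group Ω] {p : ℕ} [hp : Fact p.Prime] {S : Subgroup Ω} {x y c : Ω} {s q : ℕ}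

omit hp in
theorem cx (P : PresC p s q S x y c) : c * x * c⁻¹ = x * y := by
  have h1 : c * x = x * (y * c) := cj_eq_iff.1 P.r2
  rw [h1]
  group

omit hp in
theorem cy (P : PresC p s q S x y c) : c * y * c⁻¹ = y := by
  rw [← P.yc.eq]
  group

omit hp in
theorem cxi (P : PresC p s q S x y c) : c⁻¹ * x * c = x * y⁻¹ := by
  have h1 : c * x = x * (y * c) := cj_eq_iff.1 P.r2
  have h2 : x = c⁻¹ * (x * (y * c)) := by rw [← h1]; group
  have h3 : c⁻¹ * y * c = y := by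
    rw [mul_assoc, P.yc.eq]
    group
  calc c⁻¹ * x * c = (c⁻¹ * x * c) * (y * y⁻¹) := by group
    _ = ((c⁻¹ * x * c) * (c⁻¹ * y * c)) * y⁻¹ := by rw [h3]; group
    _ = (c⁻¹ * (x * (y * c))) * y⁻¹ := by group
    _ = x * y⁻¹ := by rw [← h2]

omit hp in
theorem cyi (P : PresC p s q S x y c) : c⁻¹ * y * c = y := by
  rw [mul_assoc, P.yc.eq]
  group

omit hp in
theorem cxk (P : PresC p s q S x y c) (k : ℕ) : c ^ k * x * (c ^ k)⁻¹ = x * y ^ k := by
  induction k with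
  | zero => simp
  | succ k ih =>
    have h1 : c ^ (k + 1) * x * (c ^ (k + 1))⁻¹ = c * (c ^ k * x * (c ^ k)⁻¹) * c⁻¹ := by
      rw [pow_succ']
      group
    rw [h1, ih]
    have h2 : c * (x * y ^ k) * c⁻¹ = (c * x * c⁻¹) * (c * y ^ k * c⁻¹) := by group
    have h3 : c * y ^ k * c⁻¹ = y ^ k := by
      rw [← (P.yc.pow_left k).eq]
      group
    rw [h2, cx P, h3, pow_succ', mul_assoc]

omit hp in
theorem cyk (P : PresC p s q S x y c) (k : ℕ) : c ^ k * y * (c ^ k)⁻¹ = y := by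
  rw [← (P.yc.pow_right k).eq]
  group

omit hp in
theorem comm_z (P : PresC p s p S x y c) {g : Ω} (hg : g ∈ S) : Commute (c ^ p) g :=
  comm_cpow P (dvd_refl p) hg

omit hp in
theorem zp (P : PresC p s p S x y c) : (c ^ p) ^ p = 1 := by
  rw [← pow_mul]
  exact P.cp

omit hp in
/-- The central element. -/
theorem ce_eq (P : PresC p s p S x y c) : c ^ (s * p) = (c ^ p) ^ s := by
  rw [← pow_mul, mul_comm]

/-- Powers of `x y^l`. -/
theorem xyl_pow (P : PresC p s p S x y c) (l i : ℕ) : ∃ t, (x * y ^ l) ^ i = x ^ i * y ^ (l * i) * (c ^ p) ^ t := by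
  induction i with
  | zero => exact ⟨0, by simp⟩
  | succ i ih =>
    obtain ⟨t, ht⟩ := ih
    have h1 : y ^ (l * i) * x = x * (y ^ (l * i) * (c ^ p) ^ (s * (l * i))) := by
      have h2 : cj x (y ^ (l * i)) = y ^ (l * i) * (c ^ p) ^ (s * (l * i)) := by
        rw [map_pow, P.r1, ce_eq P]
        have hc : Commute y ((c ^ p) ^ s) := (P.yc.pow_right p).pow_right s
        rw [hc.mul_pow, ← pow_mul]
      exact cj_eq_iff.1 h2
    refine ⟨s * (l * i) + t, ?_⟩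
    have hz : ∀ {g : Ω}, g ∈ S → Commute ((c ^ p) ^ t) g := fun hg => (comm_z P hg).pow_left t
    have hzy : ∀ n : ℕ, Commute ((c ^ p) ^ t) (y ^ n) := fun n => hz (S.pow_mem P.hy n)
    rw [pow_succ, ht, pow_succ, mul_add, mul_one, pow_add y (l * i) l, pow_add (c ^ p)]
    calc x ^ i * y ^ (l * i) * (c ^ p) ^ t * (x * y ^ l)
        = x ^ i * y ^ (l * i) * ((c ^ p) ^ t * x) * y ^ l := by simp only [mul_assoc]
      _ = x ^ i * (y ^ (l * i) * x) * ((c ^ p) ^ t * y ^ l) := by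
          rw [(hz P.hx).eq]
          simp only [mul_assoc]
      _ = x ^ i * (x * (y ^ (l * i) * (c ^ p) ^ (s * (l * i)))) * (y ^ l * (c ^ p) ^ t) := by
          rw [h1, (hzy l).eq]
      _ = x ^ i * x * (y ^ (l * i) * ((c ^ p) ^ (s * (l * i)) * y ^ l)) * (c ^ p) ^ t := by
          simp only [mul_assoc]
      _ = x ^ i * x * (y ^ (l * i) * (y ^ l * (c ^ p) ^ (s * (l * i)))) * (c ^ p) ^ t := by
          rw [(((comm_z P (S.pow_mem P.hy l)).pow_left (s * (l * i)))).eq]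
      _ = _ := by simp only [mul_assoc]

/-- Conjugation of the square by an element of `⟨y⟩⟨c⟩`. -/
theorem h_sq (P : PresC p s p S x y c) (f g : ℕ) :
    (y ^ f * c ^ g) * x ^ 2 * (y ^ f * c ^ g)⁻¹ = x ^ 2 * (y ^ (2 * g) * c ^ (s * p * (2 * f + g))) := by
  have hyc := P.yc
  set e := s * p with he
  have hye : y ^ e = 1 := P.he
  -- `c^g` on the square
  have h1 : c ^ g * x ^ 2 * (c ^ g)⁻¹ = x ^ 2 * (y ^ (2 * g) * c ^ (e * g)) := by
    have h2 : c ^ g * x ^ 2 * (c ^ g)⁻¹ = (x * y ^ g) ^ 2 := by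
      rw [← cxk P g, conj_pow]
    rw [h2]
    have h3 : y ^ g * x = x * (y ^ g * c ^ (e * g)) := by
      have h4 : cj x (y ^ g) = y ^ g * c ^ (e * g) := by
        rw [map_pow, P.r1]
        have h5 := powA hyc 1 e g
        rw [pow_one] at h5
        rw [h5, one_mul]
      exact cj_eq_iff.1 h4
    have h6 : Commute (c ^ (e * g)) (y ^ g) := (hyc.pow_pow g _).symm
    calc (x * y ^ g) ^ 2 = x * (y ^ g * x) * y ^ g := by rw [pow_two]; simp only [mul_assoc]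
      _ = x * (x * (y ^ g * c ^ (e * g))) * y ^ g := by rw [h3]
      _ = x ^ 2 * (y ^ g * (c ^ (e * g) * y ^ g)) := by rw [pow_two]; simp only [mul_assoc]
      _ = x ^ 2 * (y ^ g * (y ^ g * c ^ (e * g))) := by rw [h6.eq]
      _ = x ^ 2 * (y ^ (2 * g) * c ^ (e * g)) := by rw [two_mul, pow_add]; simp only [mul_assoc]
  -- `y^f` on the square
  have h2 : y ^ f * x ^ 2 * (y ^ f)⁻¹ = x ^ 2 * c ^ (e * 2 * f) := by
    have h3 : cj (x ^ 2) (y ^ f) = y ^ f * c ^ (e * 2 * f) := by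
      rw [map_pow, cj_pow_y hyc P.r1 P.r2 hye 2]
      have h5 := powA hyc 1 (e * 2) f
      rw [pow_one] at h5
      rw [h5, one_mul]
    have h4 : y ^ f * x ^ 2 = x ^ 2 * (y ^ f * c ^ (e * 2 * f)) := cj_eq_iff.1 h3
    rw [h4, (hyc.pow_pow f _).eq]
    group
  have h3 : Commute (y ^ f) (y ^ (2 * g) * c ^ (e * g)) :=
    ((Commute.refl y).pow_pow _ _).mul_right (hyc.pow_pow _ _)
  have h5 : Commute (c ^ (e * 2 * f)) (y ^ (2 * g)) := (hyc.pow_pow _ _).symm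
  calc (y ^ f * c ^ g) * x ^ 2 * (y ^ f * c ^ g)⁻¹ = y ^ f * (c ^ g * x ^ 2 * (c ^ g)⁻¹) * (y ^ f)⁻¹ := by group
    _ = y ^ f * (x ^ 2 * (y ^ (2 * g) * c ^ (e * g))) * (y ^ f)⁻¹ := by rw [h1]
    _ = (y ^ f * x ^ 2 * (y ^ f)⁻¹) * (y ^ f * (y ^ (2 * g) * c ^ (e * g)) * (y ^ f)⁻¹) := by group
    _ = (x ^ 2 * c ^ (e * 2 * f)) * (y ^ (2 * g) * c ^ (e * g)) := by rw [h2, h3.eq]; group
    _ = x ^ 2 * (c ^ (e * 2 * f) * y ^ (2 * g)) * c ^ (e * g) := by simp only [mul_assoc]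
    _ = x ^ 2 * (y ^ (2 * g) * c ^ (e * 2 * f)) * c ^ (e * g) := by rw [h5.eq]
    _ = x ^ 2 * (y ^ (2 * g) * c ^ (e * (2 * f + g))) := by
        have e1 : e * (2 * f + g) = e * 2 * f + e * g := by ring
        rw [e1, pow_add]
        simp only [mul_assoc]

end Cfsg.Agent.Lib.Fusion.RankFiveC2A
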