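import Cfsg.Agent.Lib.Fusion.RankFiveC2

/-!
# The third family, order `p⁴`: no essential subgroup of order `p²`, second part
-/

set_option autoImplicit false
set_option linter.unusedSectionVars false
set_option maxHeartbeats 1000000

namespace Cfsg.Agent.Lib.Fusion.RankFiveC2B

open Subgroup Cfsg Cfsg.FusionSystem Cfsg.Agent.Lib.Fusion.Basic Cfsg.Agent.Lib.Fusion.Saturation
open Cfsg.Agent.Lib.Fusion.SmallEssential Cfsg.Agent.Lib.Fusion.RankFiveDiag
open Cfsg.Agent.Lib.Fusion.RankFivePres Cfsg.Agent.Lib.Fusion.RankFiveFinal Cfsg.Agent.Lib.Fusion.RankFivePlane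
open Cfsg.Agent.Lib.Fusion.RankFiveStruct Cfsg.Agent.Lib.Fusion.RankFiveStruct.PresLemmas
open Cfsg.Agent.Lib.Fusion.RankFiveC2A Cfsg.Agent.Lib.Fusion.RankFiveC2

variable {Ω : Type*} [Group Ω] {p : ℕ} [hp : Fact p.Prime] {S : Subgroup Ω} [Finite S] {x y c : Ω} {s : ℕ}

theorem case_c2 (P : PresC p s p S x y c) (hp5 : 5 ≤ p) (hS : IsPGroup p S) (F : FusionSystem S)
    (hF : F.IsSaturated p) {E : Subgroup Ω} (hE : F.IsEssential p E) (hxE : x ∈ E) (hzE : c ^ p ∈ E)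
    (hgenE : ∀ f ∈ E, ∃ i k : ℕ, f = x ^ i * (c ^ p) ^ k) (hexpE : ∀ f ∈ E, f ^ p = 1) (hcard : Nat.card E = p ^ 2) :
    False := by
  classical
  have hES : E ≤ S := hE.1.1
  haveI hfinE : Finite E := finite_of_le hES
  have hVp : IsPGroup p E := IsPGroup.of_injective hS (Subgroup.inclusion hES) (Subgroup.inclusion_injective hES)
  have hyc := P.yc
  have hp0 := hp.out.pos
  set z := c ^ p with hz
  have hzcen : ∀ {g : Ω}, g ∈ S → Commute z g := fun hg => comm_z P hg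
  have hzp : z ^ p = 1 := zp P
  have hce : c ^ (s * p) = z ^ s := ce_eq P
  -- the action of `y`
  have hyx : y * x * y⁻¹ = x * z ^ s := by
    have h1 : y * x = x * (y * c ^ (s * p)) := cj_eq_iff.1 P.r1
    rw [h1, hce, ← ((hzcen P.hy).pow_left s).eq]
    group
  have hyxi : y⁻¹ * x * y = x * (z ^ s)⁻¹ := by
    have hc : Commute (z ^ s) y := (hzcen P.hy).pow_left s
    have h2 : y⁻¹ * (x * z ^ s) * y = (y⁻¹ * x * y) * z ^ s := by
      calc y⁻¹ * (x * z ^ s) * y = y⁻¹ * x * (z ^ s * y) := by simp only [mul_assoc]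
        _ = y⁻¹ * x * (y * z ^ s) := by rw [hc.eq]
        _ = _ := by simp only [mul_assoc]
    have h3 : y⁻¹ * (y * x * y⁻¹) * y = x := by group
    rw [hyx, h2] at h3
    rw [eq_mul_inv_iff_mul_eq]
    exact h3
  have hyN : y ∈ Subgroup.normalizer (E : Set Ω) := by
    apply mem_normalizer_of_conj_mem
    · intro f hf
      obtain ⟨i, k, rfl⟩ := hgenE f hf
      have h2 : MulAut.conj y (x ^ i * z ^ k) = (MulAut.conj y x) ^ i * (MulAut.conj y z) ^ k := by
        simp only [map_mul, map_pow]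
      simp only [MulAut.conj_apply] at h2
      have h3 : y * z * y⁻¹ = z := by
        rw [((hzcen P.hy).eq.symm : y * z = z * y)]
        group
      rw [hyx, h3] at h2
      rw [h2]
      exact E.mul_mem (E.pow_mem (E.mul_mem hxE (E.pow_mem hzE s)) i) (E.pow_mem hzE k)
    · intro f hf
      obtain ⟨i, k, rfl⟩ := hgenE f hf
      have h2 : cj y (x ^ i * z ^ k) = (cj y x) ^ i * (cj y z) ^ k := by
        simp only [map_mul, map_pow]
      simp only [cj_apply] at h2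
      have h3 : y⁻¹ * z * y = z := by
        rw [mul_assoc, (hzcen P.hy).eq]
        group
      rw [hyxi, h3] at h2
      rw [h2]
      exact E.mul_mem (E.pow_mem (E.mul_mem hxE (E.inv_mem (E.pow_mem hzE s))) i) (E.pow_mem hzE k)
  let t := normAct E hyN
  have htX : t ∈ F.autGroup E := autInducedBy_le_autGroup F hES (normAct_mem_autInducedBy S E hyN P.hy)
  have htp : t ^ p ∈ Inn E := by
    have h1 : t ^ p = 1 := by
      ext f
      rw [normAct_pow_apply, P.yp]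
      simp
    rw [h1]
    exact Subgroup.one_mem _
  let xV : E := ⟨x, hxE⟩
  let zV : E := ⟨z, hzE⟩
  have htv : t xV * (xV * zV ^ s)⁻¹ ∈ (⊥ : Subgroup E) := by
    have h1 : t xV = xV * zV ^ s := Subtype.ext hyx
    rw [h1, mul_inv_cancel]
    exact Subgroup.one_mem _
  have hty : t zV * zV⁻¹ ∈ (⊥ : Subgroup E) := by
    have h1 : t zV = zV := by
      apply Subtype.ext
      show y * z * y⁻¹ = z
      rw [((hzcen P.hy).eq.symm : y * z = z * y)]
      group
    rw [h1, mul_inv_cancel]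
    exact Subgroup.one_mem _
  have hN2 : (⊥ : Subgroup E).index = p ^ 2 := by
    rw [Subgroup.index_bot, hcard]
  have hexp : ∀ v : E, v ^ p ∈ (⊥ : Subgroup E) := by
    intro v
    rw [Subgroup.mem_bot]
    exact Subtype.ext (hexpE v v.2)
  have hxz : Commute x z := (hzcen P.hx).symm
  have hcomm : ∀ a b : E, a * b * a⁻¹ * b⁻¹ ∈ (⊥ : Subgroup E) := by
    intro a b
    obtain ⟨i, k, ha⟩ := hgenE a a.2
    obtain ⟨i', k', hb⟩ := hgenE b b.2
    have h1 : Commute (a : Ω) (b : Ω) := InA.comm hxz ⟨i, k, ha⟩ ⟨i', k', hb⟩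
    have h2 : a * b = b * a := Subtype.ext h1.eq
    rw [h2, Subgroup.mem_bot]
    group
  have hX : EssAut p (F.autGroup E) := essAut_of_isEssential hS F hE
  have hK : ∀ α ∈ F.autGroup E, (∀ v : E, α v * v⁻¹ ∈ (⊥ : Subgroup E)) → ∃ k : ℕ, α ^ p ^ k = 1 := by
    intro α _ hα
    refine ⟨0, ?_⟩
    rw [pow_zero, pow_one]
    ext v
    have h1 := hα v
    rw [Subgroup.mem_bot, mul_inv_eq_one] at h1
    rw [h1]
    rfl
  have hmk : ∀ {a b : E}, (a : E ⧸ (⊥ : Subgroup E)) = (b : E ⧸ (⊥ : Subgroup E)) → a = b := by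
    intro a b h
    have h1 := (mk_eq_iff (⊥ : Subgroup E)).1 h
    rw [Subgroup.mem_bot, mul_inv_eq_one] at h1
    exact h1
  have hgen : ∀ f : E, ∃ i j : ℕ, (f : E ⧸ (⊥ : Subgroup E)) =
      (xV : E ⧸ (⊥ : Subgroup E)) ^ i * (zV : E ⧸ (⊥ : Subgroup E)) ^ j := by
    intro f
    obtain ⟨i, k, hf⟩ := hgenE f f.2
    refine ⟨i, k, ?_⟩
    have h1 : f = xV ^ i * zV ^ k := Subtype.ext hf
    rw [h1, QuotientGroup.mk_mul, QuotientGroup.mk_pow, QuotientGroup.mk_pow]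
  have hy : ∀ j : ℕ, zV ^ j ∈ (⊥ : Subgroup E) → p ∣ j := by
    intro j hj
    rw [Subgroup.mem_bot] at hj
    have h1 : z ^ j = 1 := congrArg Subtype.val hj
    rw [hz, ← pow_mul] at h1
    have h2 := (P.ind 0 0 _ (by simpa using h1)).2.2
    exact (Nat.mul_dvd_mul_iff_left hp0).1 h2
  have h2p : ¬ p ∣ 2 := by
    intro h
    have := Nat.le_of_dvd (by norm_num) h
    omega
  obtain ⟨a, ha'⟩ := exists_inv_mod h2p
  have ha : a * 2 ≡ 1 [MOD p] := by rw [mul_comm]; exact ha'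
  obtain ⟨v', ⟨j, hv'⟩, τ, hτX, h1, h2, r, hr⟩ := plane (⊥ : Subgroup E) hVp hN2 hexp hcomm hX hK htX htp (l₀ := s)
    P.hs hgen hy htv hty ha
  have hv'2 : v' = xV * zV ^ j := hmk (by rw [hv', QuotientGroup.mk_mul, QuotientGroup.mk_pow])
  have hv'x : (v' : Ω) = x * c ^ (p * j) := by
    rw [hv'2, pow_mul]
    rfl
  have hinA : InA y c (c ^ (p * j)) := inA_c hyc _
  have hv''E : x * c ^ (p * j) ∈ E := hv'x ▸ v'.2
  have hp1 : (x * c ^ (p * j)) ^ p = 1 := hexpE _ hv''E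
  have P' : PresC p s p S (x * c ^ (p * j)) y c := change P hinA (S.pow_mem P.hc _) hp1
  have hgenE' : ∀ f ∈ E, ∃ i k : ℕ, f = (x * c ^ (p * j)) ^ i * (c ^ p) ^ k := by
    intro f hf
    obtain ⟨i, k, rfl⟩ := hgenE f hf
    have h3 : z ^ j * z ^ (j * (p - 1)) = 1 := by
      rw [← pow_add]
      have h4 : j + j * (p - 1) = p * j := by
        obtain ⟨p', hp'⟩ : ∃ p', p = p' + 1 := ⟨p - 1, by omega⟩
        rw [hp', Nat.add_sub_cancel]
        ring
      rw [h4, pow_mul, hzp, one_pow]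
    have h4 : x = (x * c ^ (p * j)) * z ^ (j * (p - 1)) := by
      rw [pow_mul, ← hz, mul_assoc, h3, mul_one]
    have hcm : Commute (x * c ^ (p * j)) (z ^ (j * (p - 1))) :=
      ((hzcen (S.mul_mem P.hx (S.pow_mem P.hc _))).pow_left _).symm
    refine ⟨i, j * (p - 1) * i + k, ?_⟩
    conv_lhs => rw [h4]
    rw [hcm.mul_pow, ← pow_mul, pow_add, mul_assoc]
  have hτx : ((τ ⟨x * c ^ (p * j), hv''E⟩ : E) : Ω) = (x * c ^ (p * j)) ^ 2 := by
    have h3 : (⟨x * c ^ (p * j), hv''E⟩ : E) = v' := Subtype.ext hv'x.symm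
    rw [h3]
    rw [Subgroup.mem_bot, mul_inv_eq_one] at h1
    rw [h1]
    push_cast
    rw [hv'x]
  have hτz : ((τ ⟨c ^ p, hzE⟩ : E) : Ω) = (c ^ p) ^ a := by
    rw [Subgroup.mem_bot, mul_inv_eq_one] at h2
    have h3 : (⟨c ^ p, hzE⟩ : E) = zV := rfl
    rw [h3, h2]
    rfl
  exact chain_c2 P' hp5 hS F hF hE hv''E hzE hgenE' hτX ha hτx hτz hyN hr

end Cfsg.Agent.Lib.Fusion.RankFiveC2B
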