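import Cfsg.Agent.Lib.Fusion.RankFiveStruct

/-!
# The third family: essential subgroups of index `p`

An essential subgroup containing `y` and an element outside `⟨y⟩⟨c⟩` cannot exist.
-/

set_option autoImplicit false
set_option linter.unusedSectionVars false
set_option maxHeartbeats 1000000

namespace Cfsg.Agent.Lib.Fusion.RankFiveC3

open Subgroup Cfsg Cfsg.FusionSystem Cfsg.Agent.Lib.Fusion.Basic Cfsg.Agent.Lib.Fusion.Saturation
open Cfsg.Agent.Lib.Fusion.SmallEssential Cfsg.Agent.Lib.Fusion.RankFiveDiag Cfsg.Agent.Lib.Fusion.RankFiveKer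
open Cfsg.Agent.Lib.Fusion.RankFivePres Cfsg.Agent.Lib.Fusion.RankFiveFinal Cfsg.Agent.Lib.Fusion.RankFivePlane
open Cfsg.Agent.Lib.Fusion.RankFiveStruct Cfsg.Agent.Lib.Fusion.RankFiveStruct.PresLemmas

variable {Ω : Type*} [Group Ω] {p : ℕ} [hp : Fact p.Prime] {S : Subgroup Ω} [Finite S] {x y c : Ω} {s q : ℕ}

/-- The elements of `E`. -/
theorem E_form (P : PresC p s q S x y c) {E : Subgroup Ω} (hES : E ≤ S) {a₀ : Ω} (ha₀ : InA y c a₀)
    (hvE : x * a₀ ∈ E) (hyE : y ∈ E) (hck : ∀ k, c ^ k ∈ E → p ∣ k) :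
    ∀ f ∈ E, ∃ i j k : ℕ, f = (x * a₀) ^ i * y ^ j * c ^ (p * k) := by
  intro f hf
  obtain ⟨i, j, k, hfnf⟩ := P.nf f (hES hf)
  obtain ⟨a₁, ha₁, hx⟩ := pow_eq_of_mul P ha₀ i
  obtain ⟨a, b, hab⟩ := ha₁.mul P.yc (⟨j, k, rfl⟩ : InA y c (y ^ j * c ^ k))
  have h1 : f = (x * a₀) ^ i * (y ^ a * c ^ b) := by
    rw [hfnf, hx, ← hab]
    simp only [mul_assoc]
  have h2 : y ^ a * c ^ b ∈ E := by
    have h3 : y ^ a * c ^ b = ((x * a₀) ^ i)⁻¹ * f := by rw [h1]; group
    rw [h3]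
    exact E.mul_mem (E.inv_mem (E.pow_mem hvE i)) hf
  have h3 : c ^ b ∈ E := by
    have h4 : c ^ b = (y ^ a)⁻¹ * (y ^ a * c ^ b) := by group
    rw [h4]
    exact E.mul_mem (E.inv_mem (E.pow_mem hyE a)) h2
  obtain ⟨k', rfl⟩ := hck b h3
  exact ⟨i, a, k', by rw [h1]; simp only [mul_assoc]⟩

/-- Powers of the generator. -/
theorem v_pow (P : PresC p s q S x y c) {E : Subgroup Ω} (hES : E ≤ S) {a₀ : Ω} (ha₀ : InA y c a₀)
    (hvE : x * a₀ ∈ E) (hyE : y ∈ E) (hck : ∀ k, c ^ k ∈ E → p ∣ k) : ∃ k, (x * a₀) ^ p = c ^ (p * k) := by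
  obtain ⟨a₁, ⟨j, k, rfl⟩, hx⟩ := pow_mul_A P.yc (u := x) ⟨1, s * q, by rw [P.r1, pow_one]⟩
    ⟨1, 1, by rw [P.r2, pow_one, pow_one]⟩ ha₀ p
  rw [P.xp, one_mul] at hx
  have h1 : y ^ j * c ^ k ∈ E := hx ▸ E.pow_mem hvE p
  have h3 : c ^ k ∈ E := by
    have h4 : c ^ k = (y ^ j)⁻¹ * (y ^ j * c ^ k) := by group
    rw [h4]
    exact E.mul_mem (E.inv_mem (E.pow_mem hyE j)) h1
  obtain ⟨k', rfl⟩ := hck k h3
  obtain ⟨hv1, hv2⟩ := rel_of_mul P ha₀
  have hc : Commute (y ^ j * c ^ (p * k')) (x * a₀) := by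
    rw [← hx]
    exact (Commute.refl (x * a₀)).pow_left p
  have h5 := cj_eq_self_iff.2 hc
  rw [map_mul, map_pow, hv1, cj_eq_self_iff.2 (comm_cpow P ⟨k', rfl⟩ (hES hvE))] at h5
  have h6 := powA P.yc 1 (s * q) j
  rw [pow_one] at h6
  rw [h6, one_mul, mul_assoc, ← pow_add] at h5
  have h7 : c ^ (s * q * j + p * k') = c ^ (p * k') := mul_left_cancel h5
  have h8 : c ^ (s * q * j) = c ^ (s * q * 0) := by
    rw [pow_add] at h7
    rw [mul_zero, pow_zero]
    exact mul_eq_right.1 h7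
  have h9 := P.z_ind h8
  have h10 : p ∣ j := by
    rw [Nat.cast_zero] at h9
    exact (ZMod.natCast_eq_zero_iff _ _).1 h9
  refine ⟨k', ?_⟩
  obtain ⟨r, rfl⟩ := h10
  rw [hx, pow_mul, P.yp, one_pow, one_mul]

/-- The case of an essential subgroup of index `p`. -/
theorem case_c3 (P : PresC p s q S x y c) (hp5 : 5 ≤ p) (hS : IsPGroup p S) (F : FusionSystem S)
    (hF : F.IsSaturated p) {E : Subgroup Ω} (hE : F.IsEssential p E) {a₀ : Ω} (ha₀ : InA y c a₀)
    (hvE : x * a₀ ∈ E) (hyE : y ∈ E) (hcpE : c ^ p ∈ E) (hck : ∀ k, c ^ k ∈ E → p ∣ k) : False := by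
  classical
  have hES : E ≤ S := hE.1.1
  haveI hfinE : Finite E := finite_of_le hES
  have hVp : IsPGroup p E := IsPGroup.of_injective hS (Subgroup.inclusion hES) (Subgroup.inclusion_injective hES)
  have hform := E_form P hES ha₀ hvE hyE hck
  obtain ⟨k₀, hvp⟩ := v_pow P hES ha₀ hvE hyE hck
  obtain ⟨hv1, hv2⟩ := rel_of_mul P ha₀
  set v := x * a₀ with hvdef
  have hvS : v ∈ S := hES hvE
  set e := s * q with he
  have hpe : p ∣ e := Dvd.dvd.mul_left P.hpq s
  have hcen : ∀ k : ℕ, ∀ {g : Ω}, g ∈ S → Commute (c ^ (p * k)) g := fun k g hg => comm_cpow P ⟨k, rfl⟩ hg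
  have hcpkE : ∀ k : ℕ, c ^ (p * k) ∈ E := fun k => by
    rw [pow_mul]
    exact E.pow_mem hcpE k
  have hyc := P.yc
  have hye : y ^ e = 1 := P.he
  -- powers of `v`
  have hvi : ∀ i : ℕ, p ∣ i → ∃ k, v ^ i = c ^ (p * k) := by
    rintro i ⟨r, rfl⟩
    refine ⟨k₀ * r, ?_⟩
    rw [pow_mul, hvp, ← pow_mul, mul_assoc]
  -- elements commuting with `y` or `v`
  have hcomY : ∀ i : ℕ, Commute y (v ^ i) → p ∣ i := by
    intro i hi
    have h1 := cj_pow_y hyc hv1 hv2 hye i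
    rw [cj_eq_self_iff.2 hi] at h1
    have h2 : c ^ (e * i) = c ^ (e * 0) := by
      rw [mul_zero, pow_zero]
      exact mul_eq_left.1 h1.symm
    have h3 := P.z_ind h2
    rw [Nat.cast_zero] at h3
    exact (ZMod.natCast_eq_zero_iff _ _).1 h3
  have hcomV : ∀ j : ℕ, Commute (y ^ j) v → p ∣ j := by
    intro j hj
    have h1 := cj_eq_self_iff.2 hj
    rw [map_pow, hv1] at h1
    have h6 := powA hyc 1 e j
    rw [pow_one, one_mul] at h6
    rw [h6] at h1
    have h2 : c ^ (e * j) = c ^ (e * 0) := by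
      rw [mul_zero, pow_zero]
      exact mul_eq_left.1 h1
    have h3 := P.z_ind h2
    rw [Nat.cast_zero] at h3
    exact (ZMod.natCast_eq_zero_iff _ _).1 h3
  -- the centre of `E`
  have hcenter : ∀ f : E, f ∈ center E ↔ ∃ k, (f : Ω) = c ^ (p * k) := by
    intro f
    constructor
    · intro hf
      obtain ⟨i, j, k, hfv⟩ := hform f f.2
      have hcf : ∀ g : E, Commute (f : Ω) (g : Ω) := fun g =>
        (congrArg Subtype.val (Subgroup.mem_center_iff.1 hf g)).symm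
      have h1 : Commute y (v ^ i) := by
        have h2 := (hcf ⟨y, hyE⟩).symm
        rw [hfv] at h2
        have h3 : v ^ i = (v ^ i * y ^ j * c ^ (p * k)) * (y ^ j * c ^ (p * k))⁻¹ := by group
        rw [h3]
        refine h2.mul_right (Commute.inv_right ?_)
        exact ((Commute.refl y).pow_right j).mul_right (hyc.pow_right _)
      have hpi := hcomY i h1
      obtain ⟨k₁, hk₁⟩ := hvi i hpi
      have h2 : Commute (y ^ j) v := by
        have h3 := hcf ⟨v, hvE⟩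
        rw [hfv, hk₁] at h3
        have h4 : y ^ j = (c ^ (p * k₁))⁻¹ * (c ^ (p * k₁) * y ^ j * c ^ (p * k)) * (c ^ (p * k))⁻¹ := by group
        rw [h4]
        exact (((hcen k₁ hvS).inv_left).mul_left h3).mul_left ((hcen k hvS).inv_left)
      have hpj := hcomV j h2
      have h3 : y ^ j = 1 := by
        obtain ⟨r, rfl⟩ := hpj
        rw [pow_mul, P.yp, one_pow]
      refine ⟨k₁ + k, ?_⟩
      rw [hfv, hk₁, h3, mul_one, mul_add, pow_add]
    · rintro ⟨k, hk⟩
      rw [Subgroup.mem_center_iff]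
      intro g
      apply Subtype.ext
      push_cast
      rw [hk]
      exact (hcen k (hES g.2)).symm.eq
  have hZcyc : IsCyclic (center E) := by
    have h1 : center E = zpowers (⟨c ^ p, hcpE⟩ : E) := by
      apply le_antisymm
      · intro f hf
        obtain ⟨k, hk⟩ := (hcenter f).1 hf
        refine Subgroup.mem_zpowers_iff.2 ⟨(k : ℤ), Subtype.ext ?_⟩
        rw [hk, zpow_natCast]
        push_cast
        rw [pow_mul]
      · rw [Subgroup.zpowers_le]
        exact (hcenter _).2 ⟨1, by simp⟩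
    rw [h1]
    infer_instance
  -- the commutator of the generators
  let vV : E := ⟨v, hvE⟩
  let yV : E := ⟨y, hyE⟩
  have hZe : ∃ k, (c ^ e)⁻¹ = c ^ (p * k) := by
    obtain ⟨e', he'⟩ := hpe
    have hpos := Nat.mul_pos hp.out.pos P.hq
    refine ⟨e' * (p * q - 1), ?_⟩
    obtain ⟨m, hm⟩ : ∃ m, p * q = m + 1 := ⟨p * q - 1, by omega⟩
    have h0 : e + p * (e' * (p * q - 1)) = (p * q) * (p * e') := by
      rw [he', hm, Nat.add_sub_cancel]
      ring
    rw [inv_eq_iff_mul_eq_one, ← pow_add, h0, pow_mul, P.cp, one_pow]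
  have hw₀ : (v * y * v⁻¹ * y⁻¹ : Ω) = (c ^ e)⁻¹ := by
    have h1 : y * v = v * (y * c ^ e) := cj_eq_iff.1 hv1
    have h2 : Commute (c ^ e) y := (hyc.pow_right e).symm
    have h3 : Commute (c ^ e) v := by
      obtain ⟨e', he'⟩ := hpe
      rw [he']
      exact hcen e' hvS
    have h4 : v * y = y * v * (c ^ e)⁻¹ := by
      rw [h1]
      group
    rw [h4]
    have h5 : y * v * (c ^ e)⁻¹ * v⁻¹ = y * (c ^ e)⁻¹ := by
      rw [mul_assoc y v, ← h3.inv_left.eq]
      group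
    rw [h5, ← h2.inv_left.eq]
    group
  have hce1 : c ^ e ≠ 1 := by
    intro h
    have h2 : c ^ (e * 1) = c ^ (e * 0) := by
      rw [mul_one, mul_zero, pow_zero, h]
    have h3 := P.z_ind h2
    simp only [Nat.cast_one, Nat.cast_zero] at h3
    exact one_ne_zero h3
  have hwne : vV * yV * vV⁻¹ * yV⁻¹ ≠ 1 := by
    intro h
    have h2 := congrArg Subtype.val h
    push_cast at h2
    rw [show (↑vV : Ω) = v from rfl, show (↑yV : Ω) = y from rfl, hw₀] at h2
    exact hce1 (inv_eq_one.1 h2)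
  have hwZ : vV * yV * vV⁻¹ * yV⁻¹ ∈ center E := by
    rw [hcenter]
    obtain ⟨k, hk⟩ := hZe
    refine ⟨k, ?_⟩
    push_cast
    rw [show (↑vV : Ω) = v from rfl, show (↑yV : Ω) = y from rfl, hw₀, hk]
  -- the plane
  let vb : E ⧸ center E := (vV : E ⧸ center E)
  let yb : E ⧸ center E := (yV : E ⧸ center E)
  have hmk1 : ∀ {f : E}, f ∈ center E → (f : E ⧸ center E) = 1 := fun h => (QuotientGroup.eq_one_iff _).2 h
  have hgen : ∀ f : E, ∃ i j : ℕ, (f : E ⧸ center E) = vb ^ i * yb ^ j := by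
    intro f
    obtain ⟨i, j, k, hfv⟩ := hform f f.2
    refine ⟨i, j, ?_⟩
    have hn : (⟨c ^ (p * k), hcpkE k⟩ : E) ∈ center E := (hcenter _).2 ⟨k, rfl⟩
    have h1 : f = vV ^ i * yV ^ j * ⟨c ^ (p * k), hcpkE k⟩ := Subtype.ext hfv
    rw [h1, QuotientGroup.mk_mul, QuotientGroup.mk_mul, QuotientGroup.mk_pow, QuotientGroup.mk_pow, hmk1 hn, mul_one]
  have hvyb : Commute vb yb := by
    show vb * yb = yb * vb
    rw [← QuotientGroup.mk_mul, ← QuotientGroup.mk_mul, mk_eq_iff]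
    have e : vV * yV * (yV * vV)⁻¹ = vV * yV * vV⁻¹ * yV⁻¹ := by group
    rw [e]
    exact hwZ
  have hcomm : ∀ a b : E, a * b * a⁻¹ * b⁻¹ ∈ center E := by
    intro a b
    obtain ⟨i, j, ha⟩ := hgen a
    obtain ⟨i', j', hb⟩ := hgen b
    have h1 : Commute (a : E ⧸ center E) (b : E ⧸ center E) := by
      rw [ha, hb]
      exact InA.comm hvyb ⟨i, j, rfl⟩ ⟨i', j', rfl⟩
    rw [← QuotientGroup.eq_one_iff, QuotientGroup.mk_mul, QuotientGroup.mk_mul, QuotientGroup.mk_mul,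
      QuotientGroup.mk_inv, QuotientGroup.mk_inv, h1.eq]
    group
  have hvbp : vb ^ p = 1 := by
    rw [← QuotientGroup.mk_pow]
    exact hmk1 ((hcenter _).2 ⟨k₀, hvp⟩)
  have hybp : yb ^ p = 1 := by
    rw [← QuotientGroup.mk_pow]
    apply hmk1
    have : yV ^ p = 1 := Subtype.ext P.yp
    rw [this]
    exact Subgroup.one_mem _
  have hexp : ∀ a : E, a ^ p ∈ center E := by
    intro a
    obtain ⟨i, j, ha⟩ := hgen a
    rw [← QuotientGroup.eq_one_iff, QuotientGroup.mk_pow, ha, powA hvyb, mul_comm i, mul_comm j, pow_mul, pow_mul,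
      hvbp, hybp, one_pow, one_pow, one_mul]
  -- the index of the centre
  have hN2 : (center E).index = p ^ 2 := by
    obtain ⟨n, hn⟩ := IsPGroup.iff_card.1 hVp
    have h1 : (center E).index ∣ p ^ n := by
      rw [← hn]
      exact Subgroup.index_dvd_card _
    obtain ⟨r, -, hr⟩ := (Nat.dvd_prime_pow hp.out).1 h1
    have hp0 := hp.out.pos
    haveI : NeZero p := ⟨hp0.ne'⟩
    have hle : (center E).index ≤ p ^ 2 := by
      rw [Subgroup.index_eq_card, pow_two]
      let g : Fin p × Fin p → E ⧸ center E := fun t => vb ^ (t.1 : ℕ) * yb ^ (t.2 : ℕ)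
      have hg : Function.Surjective g := by
        intro q'
        obtain ⟨f, rfl⟩ := QuotientGroup.mk_surjective q'
        obtain ⟨i, j, hij⟩ := hgen f
        refine ⟨(⟨i % p, Nat.mod_lt _ hp0⟩, ⟨j % p, Nat.mod_lt _ hp0⟩), ?_⟩
        show vb ^ (i % p) * yb ^ (j % p) = _
        rw [pow_congr_mod hvbp (Nat.mod_modEq i p), pow_congr_mod hybp (Nat.mod_modEq j p), hij]
      have h2 := Nat.card_le_card_of_surjective g hg
      rw [Nat.card_prod] at h2
      simpa using h2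
    rw [hr] at hle ⊢
    have hr2 : r ≤ 2 := (Nat.pow_le_pow_iff_right hp.out.one_lt).1 hle
    have hnc : ¬ (vV * yV = yV * vV) := by
      intro h
      apply hwne
      rw [h]
      group
    have hr0 : r ≠ 0 := by
      rintro rfl
      rw [pow_zero] at hr
      have h3 := Subgroup.index_eq_one.1 hr
      have h4 : vV ∈ center E := by
        rw [h3]
        exact Subgroup.mem_top _
      exact hnc (Subgroup.mem_center_iff.1 h4 yV).symm
    have hr1 : r ≠ 1 := by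
      rintro rfl
      rw [pow_one, Subgroup.index_eq_card] at hr
      haveI : IsCyclic (E ⧸ center E) := isCyclic_of_prime_card hr
      have h3 := MonoidHom.isMulCommutative_of_isCyclic_of_ker_le_center (QuotientGroup.mk' (center E))
        (by rw [QuotientGroup.ker_mk'])
      exact hnc (congrArg (fun z => z) (h3.is_comm.comm vV yV))
    have hr3 : r = 2 := by omega
    rw [hr3]
  -- the automizer
  have hX : EssAut p (F.autGroup E) := essAut_of_isEssential hS F hE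
  have hK : ∀ α ∈ F.autGroup E, (∀ f : E, α f * f⁻¹ ∈ center E) → ∃ k : ℕ, α ^ p ^ k = 1 :=
    fun α _ hα => exists_pow_eq_one hVp hZcyc hwne hwZ hα
  -- the action of `c`
  have hcx : c * v * c⁻¹ = v * y := by
    have h1 : c * v = v * (y * c) := cj_eq_iff.1 hv2
    rw [h1]
    group
  have hcy : c * y * c⁻¹ = y := by
    rw [← hyc.eq]
    group
  have hcxi : c⁻¹ * v * c = v * y⁻¹ := by
    have h1 : c * v = v * (y * c) := cj_eq_iff.1 hv2
    have h2 : v = c⁻¹ * (v * (y * c)) := by rw [← h1]; group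
    have h3 : c⁻¹ * y * c = y := by
      rw [mul_assoc, hyc.eq]
      group
    calc c⁻¹ * v * c = (c⁻¹ * v * c) * (y * y⁻¹) := by group
      _ = ((c⁻¹ * v * c) * (c⁻¹ * y * c)) * y⁻¹ := by rw [h3]; group
      _ = (c⁻¹ * (v * (y * c))) * y⁻¹ := by group
      _ = v * y⁻¹ := by rw [← h2]
  have hcN : c ∈ Subgroup.normalizer (E : Set Ω) := by
    apply mem_normalizer_of_conj_mem
    · intro f hf
      obtain ⟨i, j, k, rfl⟩ := hform f hf
      have e1 : c * (v ^ i * y ^ j * c ^ (p * k)) * c⁻¹ = (v * y) ^ i * y ^ j * c ^ (p * k) := by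
        have h1 : MulAut.conj c (v ^ i * y ^ j * c ^ (p * k)) =
            (MulAut.conj c v) ^ i * (MulAut.conj c y) ^ j * (MulAut.conj c c) ^ (p * k) := by
          simp only [map_mul, map_pow]
        simp only [MulAut.conj_apply] at h1
        have h2 : c * c * c⁻¹ = c := by group
        rw [hcx, hcy, h2] at h1
        exact h1
      rw [e1]
      exact E.mul_mem (E.mul_mem (E.pow_mem (E.mul_mem hvE hyE) i) (E.pow_mem hyE j)) (hcpkE k)
    · intro f hf
      obtain ⟨i, j, k, rfl⟩ := hform f hf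
      have h3 : c⁻¹ * y * c = y := by
        rw [mul_assoc, hyc.eq]
        group
      have e1 : c⁻¹ * (v ^ i * y ^ j * c ^ (p * k)) * c = (v * y⁻¹) ^ i * y ^ j * c ^ (p * k) := by
        have h1 : cj c (v ^ i * y ^ j * c ^ (p * k)) =
            (cj c v) ^ i * (cj c y) ^ j * (cj c c) ^ (p * k) := by
          simp only [map_mul, map_pow]
        simp only [cj_apply] at h1
        have h2 : c⁻¹ * c * c = c := by group
        rw [hcxi, h3, h2] at h1
        exact h1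
      rw [e1]
      exact E.mul_mem (E.mul_mem (E.pow_mem (E.mul_mem hvE (E.inv_mem hyE)) i) (E.pow_mem hyE j)) (hcpkE k)
  let t := normAct E hcN
  have htX : t ∈ F.autGroup E := autInducedBy_le_autGroup F hES (normAct_mem_autInducedBy S E hcN P.hc)
  have htp : t ^ p ∈ Inn E := by
    have h1 : t ^ p = 1 := by
      ext f
      rw [normAct_pow_apply]
      have h2 : Commute (c ^ p) (f : Ω) := comm_cpow P (dvd_refl p) (hES f.2)
      rw [h2.eq]
      simp
    rw [h1]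
    exact Subgroup.one_mem _
  have htv : t vV * (vV * yV ^ 1)⁻¹ ∈ center E := by
    have h1 : t vV = vV * yV ^ 1 := by
      apply Subtype.ext
      rw [normAct_apply]
      push_cast
      rw [pow_one]
      exact hcx
    rw [h1, mul_inv_cancel]
    exact Subgroup.one_mem _
  have hty : t yV * yV⁻¹ ∈ center E := by
    have h1 : t yV = yV := Subtype.ext hcy
    rw [h1, mul_inv_cancel]
    exact Subgroup.one_mem _
  have hy : ∀ j : ℕ, yV ^ j ∈ center E → p ∣ j := by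
    intro j hj
    obtain ⟨k, hk⟩ := (hcenter _).1 hj
    have h1 : y ^ j * c ^ 0 = y ^ 0 * c ^ (p * k) := by
      rw [pow_zero, pow_zero, mul_one, one_mul]
      exact hk
    have h2 := (P.ind_eq h1).1
    exact (Nat.modEq_zero_iff_dvd).1 h2
  have h2p : ¬ p ∣ 2 := by
    intro h
    have := Nat.le_of_dvd (by norm_num) h
    omega
  obtain ⟨a, ha'⟩ := exists_inv_mod h2p
  have ha : a * 2 ≡ 1 [MOD p] := by rw [mul_comm]; exact ha'
  have hκ : ¬ p ∣ a := by
    rintro ⟨r, rfl⟩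
    have h1 : p * r * 2 ≡ 0 [MOD p] := (Nat.modEq_zero_iff_dvd).2 ⟨r * 2, by ring⟩
    have h2 := h1.symm.trans ha
    have h3 : p ∣ 1 := (Nat.modEq_zero_iff_dvd).1 h2.symm
    exact hp.out.one_lt.ne' (Nat.dvd_one.1 h3)
  obtain ⟨v', ⟨j, hv'⟩, τ, hτX, h1, h2, r, hr⟩ := plane (center E) hVp hN2 hexp hcomm hX hK htX htp (l₀ := 1)
    (fun h => hp.out.one_lt.ne' (Nat.dvd_one.1 h)) hgen hy htv hty ha
  -- back to the ambient group
  obtain ⟨k₁, hk₁⟩ := (hcenter _).1 ((mk_eq_iff (center E)).1 (hv'.trans (by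
    rw [QuotientGroup.mk_mul, QuotientGroup.mk_pow])) : v' * (vV * yV ^ j)⁻¹ ∈ center E)
  obtain ⟨k₂, hk₂⟩ := (hcenter _).1 h1
  obtain ⟨k₃, hk₃⟩ := (hcenter _).1 h2
  push_cast at hk₁ hk₂ hk₃
  have hv'' : (v' : Ω) = x * (a₀ * (y ^ j * c ^ (p * k₁))) := by
    have h3 : (v' : Ω) = c ^ (p * k₁) * (v * y ^ j) := by
      rw [← hk₁]
      show (v' : Ω) = (v' : Ω) * ((v : Ω) * y ^ j)⁻¹ * (v * y ^ j)
      group
    rw [h3, (hcen k₁ (S.mul_mem hvS (S.pow_mem P.hy j))).eq, hvdef]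
    simp only [mul_assoc]
  have ha₂ : InA y c (a₀ * (y ^ j * c ^ (p * k₁))) := ha₀.mul hyc ⟨j, p * k₁, rfl⟩
  obtain ⟨hv1', hv2'⟩ := rel_of_mul P ha₂
  rw [← hv''] at hv1' hv2'
  have hτv : ((τ v' : E) : Ω) = (v' : Ω) ^ 2 * c ^ (p * k₂) := by
    have h3 : ((τ v' : E) : Ω) = c ^ (p * k₂) * (v' : Ω) ^ 2 := by
      rw [← hk₂]
      group
    rw [h3, (hcen k₂ (S.pow_mem (hES v'.2) 2)).eq]
  have hτy : ((τ yV : E) : Ω) = y ^ a * c ^ (p * k₃) := by
    have h3 : ((τ yV : E) : Ω) = c ^ (p * k₃) * y ^ a := by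
      rw [← hk₃]
      show ((τ yV : E) : Ω) = ((τ yV : E) : Ω) * (y ^ a)⁻¹ * y ^ a
      group
    rw [h3, (hcen k₃ (S.pow_mem P.hy a)).eq]
  -- the extension
  have hrec := isReceptive_of_isFullyNormalized F hS hF hE.2.1
  have hφ := autHom_mem F hES hτX
  have hEe := le_extender F hφ
  have hce : c ∈ extender S E (autHom τ) := mem_extender_of_rel hES P.hc hcN hr
  have hxe : x ∈ extender S E (autHom τ) := by
    have e1 : x = v * a₀⁻¹ := by rw [hvdef]; group
    obtain ⟨α, β, hαβ⟩ := inA_inv P ha₀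
    rw [e1, hαβ]
    exact Subgroup.mul_mem _ (hEe hvE)
      (Subgroup.mul_mem _ (Subgroup.pow_mem _ (hEe hyE) _) (Subgroup.pow_mem _ hce _))
  have hT : S ≤ extender S E (autHom τ) := by
    intro g hg
    obtain ⟨i, j', k, rfl⟩ := P.nf g hg
    exact Subgroup.mul_mem _ (Subgroup.mul_mem _ (Subgroup.pow_mem _ hxe _) (Subgroup.pow_mem _ (hEe hyE) _))
      (Subgroup.pow_mem _ hce _)
  obtain ⟨ψ, hψ, hψe⟩ := IsReceptive.exists_extension F hrec hφ (autHom_range τ) hT hES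
  exact final P hp5 (hES v'.2) hv1' hv2' ψ (fun g => val_mem F hψ g) (w := c ^ (p * k₂)) (w' := c ^ (p * k₃))
    (fun g hg => hcen k₂ hg) (fun g hg => hcen k₃ hg) rfl (κ := a) ((hψe v').trans hτv) ((hψe yV).trans hτy) hκ

end Cfsg.Agent.Lib.Fusion.RankFiveC3
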