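import Cfsg.Agent.Lib.Fusion.SmallEssentialSL2

/-!
# Diagonal elements in automizers acting on a plane section

If `X ≤ Aut(V)` is the automizer of an essential subgroup and `N` is a characteristic subgroup with `V/N` a plane
over `𝔽_p` on which the kernel of the action of `X` is a `p`-group, then for every `t ∈ X` of order `p` modulo
`Inn V` acting nontrivially on the plane, `X` contains elements acting as `diag(a, a⁻¹)` in a basis adapted to `t`.
-/

set_option autoImplicit false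
set_option linter.unusedSectionVars false

open Matrix

namespace Cfsg.Agent.Lib.Fusion.RankFiveDiag

open Cfsg Cfsg.Agent.Lib.Fusion.SmallEssential Cfsg.Agent.Lib.Fusion.SmallEssentialSL2
open Cfsg.Agent.Lib.QuadAct.SL2p Cfsg.Agent.Lib.QuadAct.SL2Three

universe u

section linear

variable {p : ℕ} [hp : Fact p.Prime] {M : Type*} [AddCommGroup M] [Module (ZMod p) M]
  [Module.Finite (ZMod p) M]

/-- The abstract core, with diagonal elements. -/
theorem diag_abstract {G : Type*} [Group G] (X : Subgroup G) (Ψ : G →* Module.End (ZMod p) M)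
    (hΨinj : Function.Injective Ψ)
    (hsurj : ∀ f g : Module.End (ZMod p) M, f * g = 1 → g * f = 1 → ∃ a : G, Ψ a = f)
    (hdim : Module.finrank (ZMod p) M = 2) {x y : G} (hxX : x ∈ X) (hyX : y ∈ X) (hx : x ^ p = 1) (hy : y ^ p = 1)
    (hx1 : x ≠ 1) (hy1 : y ≠ 1) (hne : ∀ k : ℕ, y ≠ x ^ k) :
    ∃ e₁ e₂ : M, LinearIndependent (ZMod p) ![e₁, e₂] ∧ Ψ x e₁ = e₁ ∧ Ψ x e₂ = e₂ + e₁ ∧
      ∀ u : (ZMod p)ˣ, ∃ a ∈ X, Ψ a e₁ = (u : ZMod p) • e₁ ∧ Ψ a e₂ = ((u⁻¹ : (ZMod p)ˣ) : ZMod p) • e₂ := by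
  classical
  have hΨx : (Ψ x) ^ p = 1 := by rw [← map_pow, hx, map_one]
  have hΨy : (Ψ y) ^ p = 1 := by rw [← map_pow, hy, map_one]
  have hne' : ∀ k : ℕ, Ψ y ≠ (Ψ x) ^ k := by
    intro k h
    rw [← map_pow] at h
    exact hne k (hΨinj h)
  obtain ⟨e₁, e₂, k, hind, hxe₁, hxe₂, hye₂, hye₁⟩ := exists_standard hdim hΨx hΨy
    (fun h => hx1 (hΨinj (by rw [h, map_one]))) (fun h => hy1 (hΨinj (by rw [h, map_one]))) hne'
  let B : Module.Basis (Fin 2) (ZMod p) M :=
    basisOfLinearIndependentOfCardEqFinrank hind (by simp [hdim])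
  have hB0 : B 0 = e₁ := by simp [B]
  have hB1 : B 1 = e₂ := by simp [B]
  let ι₀ := slAct B
  have hsurj' : ∀ A, ∃ a : G, Ψ a = ι₀ A := by
    intro A
    exact hsurj (ι₀ A) (ι₀ A⁻¹) (by rw [← map_mul, mul_inv_cancel, map_one])
      (by rw [← map_mul, inv_mul_cancel, map_one])
  choose f hf using hsurj'
  let ι : Matrix.SpecialLinearGroup (Fin 2) (ZMod p) →* G :=
    { toFun := f
      map_one' := hΨinj (by rw [hf, map_one, map_one])
      map_mul' := fun A C => hΨinj (by rw [hf, map_mul, map_mul, hf, hf]) }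
  have hΨι : ∀ A, Ψ (ι A) = ι₀ A := hf
  let Lm : Matrix.SpecialLinearGroup (Fin 2) (ZMod p) := ⟨!![1, 0; 1, 1], by simp [Matrix.det_fin_two]⟩
  have hιU : ι (U 1) = x := by
    apply hΨinj
    rw [hΨι]
    refine ext_pair hdim hind ?_ ?_
    · show ι₀ (U 1) e₁ = Ψ x e₁
      rw [hxe₁, ← hB0, slAct_apply]
      simp [U]
    · show ι₀ (U 1) e₂ = Ψ x e₂
      rw [hxe₂, ← hB1, ← hB0, slAct_apply]
      simp [U, add_comm]
  have hιL : ι Lm = y ^ k := by
    apply hΨinj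
    rw [hΨι, map_pow]
    refine ext_pair hdim hind ?_ ?_
    · show ι₀ Lm e₁ = (Ψ y ^ k) e₁
      rw [hye₁, ← hB0, ← hB1, slAct_apply]
      simp [Lm]
    · show ι₀ Lm e₂ = (Ψ y ^ k) e₂
      rw [hye₂, ← hB1, slAct_apply]
      simp [Lm]
  have hWeq : (W : Matrix.SpecialLinearGroup (Fin 2) (ZMod p)) = (U 1)⁻¹ * Lm * (U 1)⁻¹ := by
    have h : (U 1 : Matrix.SpecialLinearGroup (Fin 2) (ZMod p)) * W * U 1 = Lm := by
      apply Subtype.ext
      show (U 1 : Matrix.SpecialLinearGroup (Fin 2) (ZMod p)).1 * (W : Matrix.SpecialLinearGroup (Fin 2) (ZMod p)).1 *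
        (U 1 : Matrix.SpecialLinearGroup (Fin 2) (ZMod p)).1 = Lm.1
      simp only [U, W, Lm]
      rw [Matrix.mul_fin_two, Matrix.mul_fin_two]
      simp
    rw [← h]
    group
  have hle : ι.range ≤ X := by
    rw [MonoidHom.range_eq_map, ← closure_U_W (p := p), MonoidHom.map_closure, Subgroup.closure_le]
    rintro _ ⟨A, hA, rfl⟩
    rcases hA with rfl | hA
    · show ι (U 1) ∈ X
      rw [hιU]
      exact hxX
    · rw [Set.mem_singleton_iff] at hA
      subst hA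
      show ι W ∈ X
      rw [hWeq, map_mul, map_mul, map_inv, hιU, hιL]
      exact X.mul_mem (X.mul_mem (X.inv_mem hxX) (X.pow_mem hyX k)) (X.inv_mem hxX)
  refine ⟨e₁, e₂, hind, hxe₁, hxe₂, fun u => ?_⟩
  let A : Matrix.SpecialLinearGroup (Fin 2) (ZMod p) :=
    ⟨!![(u : ZMod p), 0; 0, ((u⁻¹ : (ZMod p)ˣ) : ZMod p)], by
      rw [Matrix.det_fin_two_of, mul_zero, sub_zero, Units.mul_inv]⟩
  have hA00 : A.1 0 0 = (u : ZMod p) := rfl
  have hA10 : A.1 1 0 = 0 := rfl
  have hA01 : A.1 0 1 = 0 := rfl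
  have hA11 : A.1 1 1 = ((u⁻¹ : (ZMod p)ˣ) : ZMod p) := rfl
  refine ⟨ι A, hle ⟨A, rfl⟩, ?_, ?_⟩
  · rw [hΨι]
    show ι₀ A e₁ = _
    rw [← hB0, slAct_apply, hA00, hA10, zero_smul, add_zero]
  · rw [hΨι]
    show ι₀ A e₂ = _
    rw [← hB1, slAct_apply, hA01, hA11, zero_smul, zero_add]

end linear

section comm

variable {p : ℕ} [hp : Fact p.Prime] {Q : Type u} [CommGroup Q] [Finite Q]

/-- The commutative case, with a given module structure. -/
theorem diag_comm_mod [Module (ZMod p) (Additive Q)] [Module.Finite (ZMod p) (Additive Q)]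
    (hexp : ∀ v : Q, v ^ p = 1) (hcard : Nat.card Q = p ^ 2) (X : Subgroup (MulAut Q))
    (hX : EssAut p X) {t : MulAut Q} (htX : t ∈ X) (ht1 : t ≠ 1) (htp : t ^ p = 1) :
    ∃ e₁ e₂ : Q, e₁ ≠ 1 ∧ t e₁ = e₁ ∧ t e₂ = e₂ * e₁ ∧
      ∀ a b : ℕ, a * b ≡ 1 [MOD p] → ∃ τ ∈ X, τ e₁ = e₁ ^ a ∧ τ e₂ = e₂ ^ b ∧ τ * t * τ⁻¹ = t ^ (a ^ 2) := by
  classical
  have hdim : Module.finrank (ZMod p) (Additive Q) = 2 := by
    apply finrank_eq_of_card
    exact hcard
  have hInn : ∀ a ∈ Inn Q, a = 1 := by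
    rintro _ ⟨g, rfl⟩
    ext v
    simp [MulAut.conj_apply, mul_comm g]
  have htI : t ∉ Inn Q := fun h => ht1 (hInn _ h)
  -- a conjugate of `t` outside `⟨t⟩`
  have hy : ∃ g ∈ X, g * t * g⁻¹ ∉ Subgroup.zpowers t := by
    by_contra hcon
    push Not at hcon
    have hfA : Finite (MulAut Q) := finite_mulAut
    have hT : IsPGroup p (Subgroup.zpowers t) := by
      rw [IsPGroup.iff_card, Nat.card_zpowers]
      have hdvd : orderOf t ∣ p ^ 1 := by
        rw [pow_one]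
        exact orderOf_dvd_of_pow_eq_one htp
      obtain ⟨k, -, hk⟩ := (Nat.dvd_prime_pow hp.out).1 hdvd
      exact ⟨k, hk⟩
    have h1 := hX.normal_le (Subgroup.zpowers t) ((Subgroup.zpowers_le).2 htX) (by
      rintro g hg _ ⟨k, rfl⟩
      have h2 : g * t ^ k * g⁻¹ = (g * t * g⁻¹) ^ k := by rw [conj_zpow]
      simp only at *
      rw [h2]
      exact Subgroup.zpow_mem _ (hcon g hg) k) hT (Subgroup.mem_zpowers t)
    exact htI h1
  obtain ⟨g, hgX, hgy⟩ := hy
  have hyX : g * t * g⁻¹ ∈ X := X.mul_mem (X.mul_mem hgX htX) (X.inv_mem hgX)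
  have hyp1 : (g * t * g⁻¹) ^ p = 1 := by
    rw [conj_pow, htp]
    simp
  have hy1 : g * t * g⁻¹ ≠ 1 := by
    intro h
    apply hgy
    rw [h]
    exact Subgroup.one_mem _
  obtain ⟨e₁, e₂, hind, h1, h2, hdiag⟩ := diag_abstract (M := Additive Q) X (toEnd p Q) toEnd_injective
    (fun f g hfg hgf => ⟨ofEnd f g hfg hgf, toEnd_ofEnd f g hfg hgf⟩) hdim htX hyX htp hyp1 ht1 hy1 (by
      intro k h
      apply hgy
      rw [h]
      exact Subgroup.npow_mem_zpowers t k)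
  have h10 : e₁ ≠ 0 := by
    rintro rfl
    have := hind.ne_zero 0
    simp at this
  refine ⟨e₁.toMul, e₂.toMul, fun h => h10 (by
      apply Additive.toMul.injective
      exact h), ?_, ?_, ?_⟩
  · have := h1
    rw [toEnd_apply] at this
    exact congrArg Additive.toMul this
  · have := h2
    rw [toEnd_apply] at this
    exact congrArg Additive.toMul this
  · intro a b hab
    have hab' : (a : ZMod p) * (b : ZMod p) = 1 := by
      rw [← Nat.cast_mul, ← Nat.cast_one, ZMod.natCast_eq_natCast_iff]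
      exact hab
    let u : (ZMod p)ˣ := ⟨(a : ZMod p), (b : ZMod p), hab', by rw [mul_comm]; exact hab'⟩
    obtain ⟨τ, hτX, hτ1, hτ2⟩ := hdiag u
    have hτ1' : τ e₁.toMul = e₁.toMul ^ a := by
      have := hτ1
      rw [toEnd_apply] at this
      have h3 : ((u : ZMod p)) • e₁ = a • e₁ := by
        show (a : ZMod p) • e₁ = a • e₁
        rw [Nat.cast_smul_eq_nsmul]
      rw [h3] at this
      exact congrArg Additive.toMul this
    have hτ2' : τ e₂.toMul = e₂.toMul ^ b := by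
      have := hτ2
      rw [toEnd_apply] at this
      have h3 : (((u⁻¹ : (ZMod p)ˣ) : ZMod p)) • e₂ = b • e₂ := by
        show (b : ZMod p) • e₂ = b • e₂
        rw [Nat.cast_smul_eq_nsmul]
      rw [h3] at this
      exact congrArg Additive.toMul this
    refine ⟨τ, hτX, hτ1', hτ2', ?_⟩
    -- the conjugate of `t`
    have hpow1 : ∀ v : Q, ∀ k l : ℕ, k * l ≡ 1 [MOD p] → (v ^ k) ^ l = v := by
      intro v k l hkl
      rw [← pow_mul]
      have h4 : (k * l) % p = 1 % p := hkl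
      rw [← pow_mod_orderOf] 
      have h5 : orderOf v ∣ p := orderOf_dvd_of_pow_eq_one (hexp v)
      have h6 : (k * l) % orderOf v = 1 % orderOf v := by
        have h7 : k * l ≡ 1 [MOD orderOf v] := hkl.of_dvd h5
        exact h7
      rw [h6, pow_mod_orderOf, pow_one]
    have hba : b * a ≡ 1 [MOD p] := by rw [mul_comm]; exact hab
    have hinv1 : τ⁻¹ e₁.toMul = e₁.toMul ^ b := by
      have h3 : τ (e₁.toMul ^ b) = e₁.toMul := by rw [map_pow, hτ1', hpow1 _ _ _ hab]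
      conv_lhs => rw [← h3]
      exact MulAut.inv_apply_self _ _ _
    have hinv2 : τ⁻¹ e₂.toMul = e₂.toMul ^ a := by
      have h3 : τ (e₂.toMul ^ a) = e₂.toMul := by rw [map_pow, hτ2', hpow1 _ _ _ hba]
      conv_lhs => rw [← h3]
      exact MulAut.inv_apply_self _ _ _
    have ht1' : t e₁.toMul = e₁.toMul := by
      have := h1
      rw [toEnd_apply] at this
      exact congrArg Additive.toMul this
    have ht2' : t e₂.toMul = e₂.toMul * e₁.toMul := by
      have := h2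
      rw [toEnd_apply] at this
      exact congrArg Additive.toMul this
    have htk1 : ∀ k : ℕ, (t ^ k) e₁.toMul = e₁.toMul := by
      intro k
      induction k with
      | zero => rfl
      | succ k ih => rw [pow_succ, MulAut.mul_apply, ht1', ih]
    have htk2 : ∀ k : ℕ, (t ^ k) e₂.toMul = e₂.toMul * e₁.toMul ^ k := by
      intro k
      induction k with
      | zero => simp
      | succ k ih => rw [pow_succ', MulAut.mul_apply, ih, map_mul, map_pow, ht1', ht2', pow_succ]; group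
    apply toEnd_injective (p := p) 
    refine ext_pair hdim hind ?_ ?_
    · have e1 : (τ * t * τ⁻¹) e₁.toMul = e₁.toMul := by
        rw [MulAut.mul_apply, MulAut.mul_apply, hinv1, map_pow, map_pow, ht1', hτ1', hpow1 _ _ _ hab]
      show Additive.ofMul ((τ * t * τ⁻¹) e₁.toMul) = Additive.ofMul ((t ^ (a ^ 2)) e₁.toMul)
      rw [e1, htk1]
    · have e2 : (τ * t * τ⁻¹) e₂.toMul = e₂.toMul * e₁.toMul ^ (a ^ 2) := by
        rw [MulAut.mul_apply, MulAut.mul_apply, hinv2, map_pow, ht2', mul_pow, map_mul, map_pow, map_pow, hτ1', hτ2',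
          hpow1 _ _ _ hba, ← pow_mul, pow_two]
      show Additive.ofMul ((τ * t * τ⁻¹) e₂.toMul) = Additive.ofMul ((t ^ (a ^ 2)) e₂.toMul)
      rw [e2, htk2]

/-- The commutative case: a plane, and diagonal elements in a basis adapted to a given element of order `p`. -/
theorem diag_comm (hexp : ∀ v : Q, v ^ p = 1) (hcard : Nat.card Q = p ^ 2) (X : Subgroup (MulAut Q))
    (hX : EssAut p X) {t : MulAut Q} (htX : t ∈ X) (ht1 : t ≠ 1) (htp : t ^ p = 1) :
    ∃ e₁ e₂ : Q, e₁ ≠ 1 ∧ t e₁ = e₁ ∧ t e₂ = e₂ * e₁ ∧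
      ∀ a b : ℕ, a * b ≡ 1 [MOD p] → ∃ τ ∈ X, τ e₁ = e₁ ^ a ∧ τ e₂ = e₂ ^ b ∧ τ * t * τ⁻¹ = t ^ (a ^ 2) := by
  have hp0 : ∀ m : Additive Q, p • m = 0 := fun m => by
    show Additive.ofMul (m.toMul ^ p) = 0
    rw [hexp]
    rfl
  have hfinM : Finite (Additive Q) := inferInstanceAs (Finite Q)
  letI m : Module (ZMod p) (Additive Q) := AddCommGroup.zmodModule hp0
  exact @diag_comm_mod p hp Q _ _ m Module.Finite.of_finite hexp hcard X hX t htX ht1 htp

end comm

section quot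

variable {p : ℕ} [hp : Fact p.Prime] {V : Type u} [Group V] [Finite V] (N : Subgroup V) [hN : N.Characteristic]

/-- The action on the quotient by a characteristic subgroup. -/
noncomputable def quotHom : MulAut V →* MulAut (V ⧸ N) where
  toFun α := QuotientGroup.congr N N α (Subgroup.characteristic_iff_map_eq.1 hN α)
  map_one' := by
    ext x
    induction x using QuotientGroup.induction_on with
    | H x => rfl
  map_mul' a b := by
    ext x
    induction x using QuotientGroup.induction_on with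
    | H x => rfl

omit hp [Finite V] in
theorem quotHom_mk (α : MulAut V) (x : V) : quotHom N α (x : V ⧸ N) = ((α x : V) : V ⧸ N) := rfl

omit hp [Finite V] in
theorem mk_eq_iff {a b : V} : (a : V ⧸ N) = (b : V ⧸ N) ↔ a * b⁻¹ ∈ N := by
  rw [← QuotientGroup.eq_one_iff, QuotientGroup.mk_mul, QuotientGroup.mk_inv, mul_inv_eq_one]

omit hp [Finite V] in
theorem quotHom_eq_one_iff {α : MulAut V} : quotHom N α = 1 ↔ ∀ v : V, α v * v⁻¹ ∈ N := by
  constructor
  · intro h v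
    have h1 : quotHom N α (v : V ⧸ N) = (v : V ⧸ N) := by rw [h]; rfl
    rw [quotHom_mk] at h1
    exact (mk_eq_iff N).1 h1
  · intro h
    ext q
    induction q using QuotientGroup.induction_on with
    | H v =>
      rw [quotHom_mk]
      exact (mk_eq_iff N).2 (h v)

/-- Automorphisms with a power of `p` as order on the quotient and `p`-power order on the kernel. -/
theorem exists_diag_quot (hV : IsPGroup p V) (hN2 : N.index = p ^ 2) (hexp : ∀ v : V, v ^ p ∈ N)
    (hcomm : ∀ v w : V, v * w * v⁻¹ * w⁻¹ ∈ N) {X : Subgroup (MulAut V)} (hX : EssAut p X)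
    (hK : ∀ α ∈ X, (∀ v : V, α v * v⁻¹ ∈ N) → ∃ k : ℕ, α ^ p ^ k = 1)
    {t : MulAut V} (htX : t ∈ X) (htp : t ^ p ∈ Inn V) (htN : ∃ v : V, t v * v⁻¹ ∉ N) :
    ∃ e₁ e₂ : V, e₁ ∉ N ∧ t e₁ * e₁⁻¹ ∈ N ∧ t e₂ * (e₂ * e₁)⁻¹ ∈ N ∧
      ∀ a b : ℕ, a * b ≡ 1 [MOD p] → ∃ τ ∈ X, τ e₁ * (e₁ ^ a)⁻¹ ∈ N ∧ τ e₂ * (e₂ ^ b)⁻¹ ∈ N ∧
        ∃ r : V, τ * t * τ⁻¹ = MulAut.conj r * t ^ (a ^ 2) := by
  classical
  have hfA : Finite (MulAut V) := finite_mulAut
  have hmul : ∀ a b : V ⧸ N, a * b = b * a := by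
    intro a b
    induction a using QuotientGroup.induction_on with
    | H a =>
      induction b using QuotientGroup.induction_on with
      | H b =>
        rw [← QuotientGroup.mk_mul, ← QuotientGroup.mk_mul, mk_eq_iff]
        have h1 := hcomm a b
        have e : a * b * (b * a)⁻¹ = a * b * a⁻¹ * b⁻¹ := by group
        rw [e]
        exact h1
  have hexpQ : ∀ q : V ⧸ N, q ^ p = 1 := by
    intro q
    induction q using QuotientGroup.induction_on with
    | H v =>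
      rw [← QuotientGroup.mk_pow, QuotientGroup.eq_one_iff]
      exact hexp v
  have hcardQ : Nat.card (V ⧸ N) = p ^ 2 := by
    rw [← Subgroup.index_eq_card]
    exact hN2
  let Q := quotHom N
  have hQQ : ∀ α, Q α = quotHom N α := fun _ => rfl
  have hInnQ : ∀ a ∈ Inn (V ⧸ N), a = 1 := by
    rintro _ ⟨g, rfl⟩
    ext v
    show g * v * g⁻¹ = v
    rw [hmul g v, mul_inv_cancel_right]
  have hInnV : ∀ a ∈ Inn V, Q a = 1 := by
    rintro _ ⟨g, rfl⟩
    rw [hQQ, quotHom_eq_one_iff]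
    intro v
    exact hcomm g v
  -- the kernel in `X`
  let K : Subgroup (MulAut V) := X ⊓ (Q.ker)
  have hKmem : ∀ α ∈ K, ∃ k : ℕ, α ^ p ^ k = 1 := by
    intro α hα
    exact hK α hα.1 ((quotHom_eq_one_iff N).1 (MonoidHom.mem_ker.1 hα.2))
  have hKp : IsPGroup p K := by
    intro α
    obtain ⟨k, hk⟩ := hKmem α α.2
    exact ⟨k, Subtype.ext hk⟩
  have hKinn : K ≤ Inn V := by
    refine hX.normal_le K inf_le_left ?_ hKp
    intro x hx τ hτ
    refine ⟨X.mul_mem (X.mul_mem hx hτ.1) (X.inv_mem hx), MonoidHom.mem_ker.2 ?_⟩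
    rw [map_mul, map_mul, MonoidHom.mem_ker.1 hτ.2, mul_one, map_inv, mul_inv_cancel]
  let Xb : Subgroup (MulAut (V ⧸ N)) := X.map Q
  have hXb : EssAut p Xb := by
    refine ⟨?_, ?_, ?_⟩
    · intro a ha
      rw [hInnQ a ha]
      exact Xb.one_mem
    · intro T hT hTn hTp
      let T₀ : Subgroup (MulAut V) := X ⊓ T.comap Q
      have hT₀ : T₀ ≤ Inn V := by
        refine hX.normal_le T₀ inf_le_left ?_ ?_
        · intro x hx τ hτ
          refine ⟨X.mul_mem (X.mul_mem hx hτ.1) (X.inv_mem hx), ?_⟩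
          show Q (x * τ * x⁻¹) ∈ T
          rw [map_mul, map_mul, map_inv]
          exact hTn (Q x) ⟨x, hx, rfl⟩ (Q τ) hτ.2
        · intro τ
          obtain ⟨k, hk⟩ := hTp ⟨Q τ, τ.2.2⟩
          have h1 : (Q τ) ^ p ^ k = 1 := congrArg Subtype.val hk
          have h2 : (τ : MulAut V) ^ p ^ k ∈ K := by
            refine ⟨X.pow_mem τ.2.1 _, MonoidHom.mem_ker.2 ?_⟩
            rw [map_pow, h1]
          obtain ⟨l, hl⟩ := hKmem _ h2
          refine ⟨k + l, Subtype.ext ?_⟩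
          show (τ : MulAut V) ^ p ^ (k + l) = 1
          rw [pow_add, pow_mul]
          exact hl
      intro q hq
      obtain ⟨τ, hτ, rfl⟩ := hT hq
      have h3 : τ ∈ T₀ := ⟨hτ, hq⟩
      rw [hInnV τ (hT₀ h3)]
      exact Subgroup.one_mem _
    · refine ⟨Q t, ⟨t, htX, rfl⟩, ?_, ?_⟩
      · intro h
        have h1 := hInnQ _ h
        obtain ⟨v, hv⟩ := htN
        exact hv ((quotHom_eq_one_iff N).1 h1 v)
      · rw [← map_pow, hInnV _ htp]
        exact Subgroup.one_mem _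
  have htb1 : Q t ≠ 1 := by
    intro h1
    obtain ⟨v, hv⟩ := htN
    exact hv ((quotHom_eq_one_iff N).1 h1 v)
  have htbp : (Q t) ^ p = 1 := by
    rw [← map_pow, hInnV _ htp]
  obtain ⟨E₁, E₂, hE₁, hE₁t, hE₂t, hdiag⟩ := @diag_comm p hp (V ⧸ N)
    { (inferInstance : Group (V ⧸ N)) with mul_comm := hmul } _ hexpQ hcardQ Xb hXb (Q t) ⟨t, htX, rfl⟩ htb1 htbp
  obtain ⟨e₁, rfl⟩ := QuotientGroup.mk_surjective E₁
  obtain ⟨e₂, rfl⟩ := QuotientGroup.mk_surjective E₂
  refine ⟨e₁, e₂, ?_, ?_, ?_, ?_⟩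
  · intro h
    exact hE₁ ((QuotientGroup.eq_one_iff _).2 h)
  · exact (mk_eq_iff N).1 hE₁t
  · exact (mk_eq_iff N).1 hE₂t
  · intro a b hab
    obtain ⟨τb, hτb, h1, h2, h3⟩ := hdiag a b hab
    obtain ⟨τ, hτ, rfl⟩ := hτb
    refine ⟨τ, hτ, (mk_eq_iff N).1 h1, (mk_eq_iff N).1 h2, ?_⟩
    have h4 : (τ * t * τ⁻¹ * (t ^ (a ^ 2))⁻¹) ∈ K := by
      refine ⟨X.mul_mem (X.mul_mem (X.mul_mem hτ htX) (X.inv_mem hτ)) (X.inv_mem (X.pow_mem htX _)),
        MonoidHom.mem_ker.2 ?_⟩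
      rw [map_mul, map_inv, map_pow]
      have h5 : Q (τ * t * τ⁻¹) = (Q t) ^ (a ^ 2) := by
        rw [map_mul, map_mul, map_inv]
        exact h3
      rw [h5, mul_inv_cancel]
    obtain ⟨r, hr⟩ := hKinn h4
    refine ⟨r, ?_⟩
    have hr' : MulAut.conj r = τ * t * τ⁻¹ * (t ^ (a ^ 2))⁻¹ := hr
    rw [hr', inv_mul_cancel_right]

end quot

end Cfsg.Agent.Lib.Fusion.RankFiveDiag
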