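import Cfsg.Agent.Lib.Fusion.RankFivePres

/-!
# The third family: independence and the eigenvalue obstruction
-/

set_option autoImplicit false
set_option linter.unusedSectionVars false

namespace Cfsg.Agent.Lib.Fusion.RankFiveFinal

open Subgroup Cfsg.Agent.Lib.Fusion.RankFivePres

variable {Ω : Type*} [Group Ω] {p : ℕ} [hp : Fact p.Prime]

section final

variable {S : Subgroup Ω} {x y c : Ω} {s q : ℕ}

omit hp in
theorem powA (hyc : Commute y c) (a b n : ℕ) : (y ^ a * c ^ b) ^ n = y ^ (a * n) * c ^ (b * n) := by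
  rw [(hyc.pow_pow a b).mul_pow, ← pow_mul, ← pow_mul]

/-- The eigenvalue obstruction: no homomorphism acts on `v` as the square and on `y` as a power, modulo the centre. -/
theorem final (P : PresC p s q S x y c) (hp5 : 5 ≤ p) {v : Ω} (hv : v ∈ S) (hv1 : cj v y = y * c ^ (s * q))
    (hv2 : cj v c = y * c) (D : S →* Ω) (hDS : ∀ g, D g ∈ S) {w w' : Ω} (hw : ∀ g ∈ S, Commute w g)
    (hw' : ∀ g ∈ S, Commute w' g) {l : ℕ} (hwl : w' = c ^ l) {κ : ℕ} (hDv : D ⟨v, hv⟩ = v ^ 2 * w)
    (hDy : D ⟨y, P.hy⟩ = y ^ κ * w') (hκ : ¬ p ∣ κ) : False := by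
  classical
  have hyc := P.yc
  have hs0 : (s : ZMod p) ≠ 0 := by
    rw [Ne, ZMod.natCast_eq_zero_iff]
    exact P.hs
  set e := s * q with he
  have hye : y ^ e = 1 := P.he
  let C : S := ⟨c, P.hc⟩
  let Y : S := ⟨y, P.hy⟩
  let V : S := ⟨v, hv⟩
  set g : Ω := D C with hg
  have hgS : g ∈ S := hDS C
  have hyS : ∀ n : ℕ, y ^ n ∈ S := fun n => S.pow_mem P.hy n
  have hcS : ∀ n : ℕ, c ^ n ∈ S := fun n => S.pow_mem P.hc n
  have hw'S : w' ∈ S := hwl ▸ hcS l
  -- `g` commutes with `y`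
  have h1 : Commute (y ^ κ * w') g := by
    have h2 : Y * C = C * Y := Subtype.ext hyc.eq
    have h3 := congrArg D h2
    rw [map_mul, map_mul] at h3
    exact h3.trans (by rfl) |> fun h => by
      show (y ^ κ * w') * g = g * (y ^ κ * w')
      rw [← hDy]
      exact h
  have h2 : Commute (y ^ κ) g := by
    have h3 : y ^ κ = (y ^ κ * w') * w'⁻¹ := by group
    rw [h3]
    exact h1.mul_left (hw' g hgS).inv_left
  obtain ⟨κ', hκ'⟩ := exists_inv_mod hκ
  have h3 : Commute y g := by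
    have h4 : (y ^ κ) ^ κ' = y := by
      rw [← pow_mul, pow_congr_mod P.yp hκ', pow_one]
    rw [← h4]
    exact h2.pow_left κ'
  obtain ⟨α, β, γ, hgnf⟩ := P.nf g hgS
  have hA : Commute y (y ^ β * c ^ γ) := ((Commute.refl y).pow_right β).mul_right (hyc.pow_right γ)
  have h4 : Commute y (x ^ α) := by
    have h5 : x ^ α = g * (y ^ β * c ^ γ)⁻¹ := by
      rw [hgnf]
      group
    rw [h5]
    exact h3.mul_right hA.inv_right
  have h5 : x ^ α = 1 := by
    have h6 := cj_pow_y hyc P.r1 P.r2 hye α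
    rw [cj_eq_self_iff.2 h4] at h6
    have h7 : c ^ (e * α) = 1 := (mul_eq_left.1 h6.symm)
    have h8 := (P.ind 0 0 (e * α) (by simpa using h7)).2.2
    have h9 : p ∣ s * α := by
      have h10 : q * p ∣ q * (s * α) := by
        have e1 : q * (s * α) = e * α := by rw [he]; ring
        rw [e1, mul_comm q p]
        exact h8
      exact (Nat.mul_dvd_mul_iff_left P.hq).1 h10
    have h10 : p ∣ α := (hp.out.dvd_mul.1 h9).resolve_left P.hs
    obtain ⟨r, rfl⟩ := h10
    rw [pow_mul, P.xp, one_pow]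
  have hgA : g = y ^ β * c ^ γ := by
    rw [hgnf, h5, one_mul]
  -- the central element
  have hDe : D (C ^ e) = c ^ (γ * e) := by
    rw [map_pow, ← hg, hgA, powA hyc, mul_comm β, pow_mul, hye, one_pow, one_mul]
  -- conjugation by the square
  have hv2y : cj (v ^ 2) y = y * c ^ (e * 2) := cj_pow_y hyc hv1 hv2 hye 2
  have hv2c : cj (v ^ 2) c = y ^ 2 * c ^ (e + 1) := cj_sq_c hyc hv1 hv2
  have hvS : v ^ 2 ∈ S := S.pow_mem hv 2
  -- the first relation
  have hE1 : (2 * (γ : ZMod p)) = κ := by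
    have h6 : c * v = v * (y * c) := cj_eq_iff.1 hv2
    have h7 : C * V = V * (Y * C) := Subtype.ext h6
    have h8 := congrArg D h7
    rw [map_mul, map_mul, map_mul, hDv, hDy, ← hg] at h8
    have h9 : g * v ^ 2 = v ^ 2 * ((y ^ κ * w') * g) := by
      have h10 : Commute w ((y ^ κ * w') * g) := hw _ (S.mul_mem (S.mul_mem (hyS κ) hw'S) hgS)
      have h11 : g * v ^ 2 * w = v ^ 2 * ((y ^ κ * w') * g) * w := by
        calc g * v ^ 2 * w = g * (v ^ 2 * w) := by rw [mul_assoc]
          _ = v ^ 2 * w * ((y ^ κ * w') * g) := h8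
          _ = v ^ 2 * (w * ((y ^ κ * w') * g)) := by rw [mul_assoc]
          _ = v ^ 2 * ((y ^ κ * w') * g * w) := by rw [h10.eq]
          _ = _ := by simp only [mul_assoc]
      exact mul_right_cancel h11
    have h10 : cj (v ^ 2) g = (y ^ κ * w') * g := cj_eq_iff.2 h9
    rw [hgA, map_mul, map_pow, map_pow, hv2y, hv2c, hwl] at h10
    have h11 : (y * c ^ (e * 2)) ^ β * (y ^ 2 * c ^ (e + 1)) ^ γ =
        y ^ (β + 2 * γ) * c ^ (e * 2 * β + (e + 1) * γ) := by
      have h12 := powA hyc 1 (e * 2) β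
      rw [pow_one] at h12
      rw [h12, powA hyc, mulA hyc, one_mul]
    have h13 := mulA hyc κ l β γ
    rw [h11, h13] at h10
    have h14 := (P.ind_eq h10).1
    rw [← ZMod.natCast_eq_natCast_iff] at h14
    push_cast at h14
    have h15 : (β : ZMod p) + 2 * γ = β + κ := by
      rw [h14]
      ring
    exact add_left_cancel h15
  -- the second relation
  have hE2 : (2 * (κ : ZMod p)) = γ := by
    have h6 : y * v = v * (y * c ^ e) := cj_eq_iff.1 hv1
    have h7 : Y * V = V * (Y * C ^ e) := Subtype.ext h6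
    have h8 := congrArg D h7
    rw [map_mul, map_mul, map_mul, hDv, hDy, hDe] at h8
    have h9 : (y ^ κ * w') * v ^ 2 = v ^ 2 * ((y ^ κ * w') * c ^ (γ * e)) := by
      have h10 : Commute w ((y ^ κ * w') * c ^ (γ * e)) := hw _ (S.mul_mem (S.mul_mem (hyS κ) hw'S) (hcS _))
      have h11 : (y ^ κ * w') * v ^ 2 * w = v ^ 2 * ((y ^ κ * w') * c ^ (γ * e)) * w := by
        calc (y ^ κ * w') * v ^ 2 * w = (y ^ κ * w') * (v ^ 2 * w) := by rw [mul_assoc]
          _ = v ^ 2 * w * ((y ^ κ * w') * c ^ (γ * e)) := h8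
          _ = v ^ 2 * (w * ((y ^ κ * w') * c ^ (γ * e))) := by rw [mul_assoc]
          _ = v ^ 2 * ((y ^ κ * w') * c ^ (γ * e) * w) := by rw [h10.eq]
          _ = _ := by simp only [mul_assoc]
      exact mul_right_cancel h11
    have h10 : cj (v ^ 2) (y ^ κ * w') = (y ^ κ * w') * c ^ (γ * e) := cj_eq_iff.2 h9
    have h12 : cj (v ^ 2) w' = w' := cj_eq_self_iff.2 (hw' _ hvS)
    rw [map_mul, map_pow, hv2y, h12, hwl] at h10
    have h13 : (y * c ^ (e * 2)) ^ κ * c ^ l = y ^ κ * c ^ (e * 2 * κ + l) := by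
      have h14 := powA hyc 1 (e * 2) κ
      rw [pow_one] at h14
      rw [h14, one_mul, pow_add]
      simp only [mul_assoc]
    have h14 : y ^ κ * c ^ l * c ^ (γ * e) = y ^ κ * c ^ (l + γ * e) := by
      rw [pow_add]
      simp only [mul_assoc]
    rw [h13, h14] at h10
    have h15 := (P.ind_eq h10).2
    have h16 : e * (2 * κ) ≡ e * γ [MOD p * q] := by
      have e1 : e * 2 * κ + l = l + e * (2 * κ) := by ring
      have e2 : l + γ * e = l + e * γ := by ring
      rw [e1, e2] at h15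
      exact Nat.ModEq.add_left_cancel' l h15
    have h17 : c ^ (s * q * (2 * κ)) = c ^ (s * q * γ) := pow_congr_mod P.cp h16
    have h18 := P.z_ind h17
    push_cast at h18
    exact h18
  -- conclusion
  have h3z : (3 : ZMod p) ≠ 0 := by
    have h6 : ((3 : ℕ) : ZMod p) ≠ 0 := by
      rw [Ne, ZMod.natCast_eq_zero_iff]
      intro h7
      have h8 := Nat.le_of_dvd (by norm_num) h7
      omega
    exact_mod_cast h6
  have h6 : (3 : ZMod p) * κ = 0 := by
    have h7 : (κ : ZMod p) = 4 * κ := by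
      calc (κ : ZMod p) = 2 * γ := hE1.symm
        _ = 2 * (2 * κ) := by rw [hE2]
        _ = 4 * κ := by ring
    linear_combination (-1 : ZMod p) * h7
  have h7 : (κ : ZMod p) = 0 := (mul_eq_zero.1 h6).resolve_left h3z
  exact hκ ((ZMod.natCast_eq_zero_iff _ _).1 h7)

end final

end Cfsg.Agent.Lib.Fusion.RankFiveFinal
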