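import Cfsg.Agent.Lib.Fusion.RankFiveDiag
import Cfsg.Agent.Lib.PGroups.NormalRankTwo

/-!
# Automorphisms trivial modulo a cyclic centre are `p`-elements

If `V` is a finite `p`-group with cyclic centre and a nontrivial commutator in the centre, an automorphism of `V`
trivial on `V/Z(V)` has `p`-power order.
-/

set_option autoImplicit false
set_option linter.unusedSectionVars false

namespace Cfsg.Agent.Lib.Fusion.RankFiveKer

open Subgroup Cfsg.Agent.Lib.Fusion.SmallEssential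

variable {p : ℕ} [hp : Fact p.Prime] {V : Type*} [Group V] [Finite V]

theorem eq_one_of_fixed (hV : IsPGroup p V) {β : MulAut V} {m : ℕ} (hβ : β ^ m = 1) (hm : ¬ p ∣ m) (v : V)
    (hy : β (β v * v⁻¹) = β v * v⁻¹) : β v * v⁻¹ = 1 := by
  set y := β v * v⁻¹ with hydef
  have h1 : ∀ j : ℕ, (β ^ j) v = y ^ j * v := by
    intro j
    induction j with
    | zero => simp
    | succ j ih =>
      rw [pow_succ', MulAut.mul_apply, ih, map_mul, map_pow, hy, pow_succ, hydef]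
      group
  have h2 := h1 m
  rw [hβ] at h2
  have h3 : y ^ m = 1 := by
    have h4 : v = y ^ m * v := h2
    exact (mul_eq_right.1 h4.symm)
  obtain ⟨k, hk⟩ := IsPGroup.iff_orderOf.1 hV y
  have h4 : orderOf y ∣ m := orderOf_dvd_of_pow_eq_one h3
  rw [hk] at h4
  have h5 : k = 0 := by
    by_contra h
    exact hm ((dvd_pow_self p h).trans h4)
  rw [h5, pow_zero] at hk
  exact orderOf_eq_one_iff.1 hk

theorem exists_pow_order_p (hV : IsPGroup p V) {y : V} (hy : y ≠ 1) : ∃ e : ℕ, orderOf (y ^ e) = p := by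
  obtain ⟨k, hk⟩ := IsPGroup.iff_orderOf.1 hV y
  have hk0 : k ≠ 0 := by
    rintro rfl
    apply hy
    rw [pow_zero] at hk
    exact orderOf_eq_one_iff.1 hk
  obtain ⟨k', rfl⟩ : ∃ k', k = k' + 1 := ⟨k - 1, by omega⟩
  refine ⟨p ^ k', ?_⟩
  rw [orderOf_pow_of_dvd (pow_ne_zero _ hp.out.ne_zero) (by rw [hk]; exact pow_dvd_pow p (by omega)), hk, pow_succ,
    Nat.mul_div_cancel_left _ (pow_pos hp.out.pos _)]

omit hp [Finite V] in
theorem comm_central {z₁ z₂ a b : V} (h₁ : ∀ g, g * z₁ = z₁ * g) (h₂ : ∀ g, g * z₂ = z₂ * g) :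
    (z₁ * a) * (z₂ * b) * (z₁ * a)⁻¹ * (z₂ * b)⁻¹ = a * b * a⁻¹ * b⁻¹ := by
  rw [← h₁ a, ← h₂ b]
  have e1 : a * z₁ * (b * z₂) = a * (b * z₂) * z₁ := by
    rw [mul_assoc a z₁, ← h₁ (b * z₂)]
    simp only [mul_assoc]
  rw [e1]
  have e2 : a * (b * z₂) * z₁ * (a * z₁)⁻¹ = a * b * z₂ * a⁻¹ := by group
  rw [e2]
  have e3 : a * b * z₂ * a⁻¹ = a * b * a⁻¹ * z₂ := by
    rw [mul_assoc (a * b), ← h₂ a⁻¹]
    simp only [mul_assoc]
  rw [e3]
  group

/-- The main lemma. -/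
theorem exists_pow_eq_one (hV : IsPGroup p V) (hZ : IsCyclic (center V)) {f₁ f₂ : V}
    (hw : f₁ * f₂ * f₁⁻¹ * f₂⁻¹ ≠ 1) (hwZ : f₁ * f₂ * f₁⁻¹ * f₂⁻¹ ∈ center V) {α : MulAut V}
    (hα : ∀ v, α v * v⁻¹ ∈ center V) : ∃ k : ℕ, α ^ p ^ k = 1 := by
  have hfA : Finite (MulAut V) := finite_mulAut
  obtain ⟨a, m, hm, hord⟩ := Nat.exists_eq_pow_mul_and_not_dvd (orderOf_pos α).ne' p hp.out.ne_one
  refine ⟨a, ?_⟩
  set β := α ^ p ^ a with hβ
  have hβm : β ^ m = 1 := by rw [hβ, ← pow_mul, ← hord, pow_orderOf_eq_one]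
  have hpow : ∀ j : ℕ, ∀ v, (α ^ j) v * v⁻¹ ∈ center V := by
    intro j
    induction j with
    | zero =>
      intro v
      simp [Subgroup.one_mem]
    | succ j ih =>
      intro v
      rw [pow_succ', MulAut.mul_apply]
      have e : α ((α ^ j) v) * v⁻¹ = (α ((α ^ j) v) * ((α ^ j) v)⁻¹) * ((α ^ j) v * v⁻¹) := by group
      rw [e]
      exact Subgroup.mul_mem _ (hα _) (ih v)
  have hβZ : ∀ v, β v * v⁻¹ ∈ center V := hpow _
  have hcen : ∀ {z : V}, z ∈ center V → ∀ g, g * z = z * g := fun hz g => Subgroup.mem_center_iff.1 hz g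
  -- the commutator is fixed
  have hβw : β (f₁ * f₂ * f₁⁻¹ * f₂⁻¹) = f₁ * f₂ * f₁⁻¹ * f₂⁻¹ := by
    have h1 : β f₁ = (β f₁ * f₁⁻¹) * f₁ := by group
    have h2 : β f₂ = (β f₂ * f₂⁻¹) * f₂ := by group
    rw [map_mul, map_mul, map_mul, map_inv, map_inv]
    rw [h1, h2]
    exact comm_central (hcen (hβZ f₁)) (hcen (hβZ f₂))
  -- the centre is fixed
  have hfixZ : ∀ x ∈ center V, β x = x := by
    intro x hx
    by_contra hne
    have hy1 : β x * x⁻¹ ≠ 1 := fun h => hne (mul_inv_eq_one.1 h)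
    obtain ⟨e, he⟩ := exists_pow_order_p hV hy1
    obtain ⟨e', he'⟩ := exists_pow_order_p hV hw
    have hyZ : (β x * x⁻¹) ^ e ∈ center V := Subgroup.pow_mem _ (hβZ x) e
    have hwZ' : (f₁ * f₂ * f₁⁻¹ * f₂⁻¹) ^ e' ∈ center V := Subgroup.pow_mem _ hwZ e'
    have hfixy : β ((β x * x⁻¹) ^ e) = (β x * x⁻¹) ^ e := by
      have h1 : (⟨_, hyZ⟩ : center V) ∈ zpowers (⟨_, hwZ'⟩ : center V) := by
        apply Cfsg.Agent.Lib.PGroups.NormalRankTwo.mem_zpowers_of_pow_eq_one (p := p)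
        · rw [Subgroup.orderOf_mk]
          exact he'
        · apply Subtype.ext
          show ((β x * x⁻¹) ^ e) ^ p = 1
          rw [← he]
          exact pow_orderOf_eq_one _
      obtain ⟨i, hi⟩ := Subgroup.mem_zpowers_iff.1 h1
      have h2 : (f₁ * f₂ * f₁⁻¹ * f₂⁻¹) ^ e' ^ 1 = (f₁ * f₂ * f₁⁻¹ * f₂⁻¹) ^ e' := by rw [pow_one]
      have h3 : (((f₁ * f₂ * f₁⁻¹ * f₂⁻¹) ^ e') ^ i) = (β x * x⁻¹) ^ e := congrArg Subtype.val hi
      rw [← h3, map_zpow, map_pow, hβw]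
    have hstep : β (x ^ e) * (x ^ e)⁻¹ = (β x * x⁻¹) ^ e := by
      have hc : Commute x⁻¹ (β x) := by
        have hbx : β x ∈ center V := by
          have h1 : β x = (β x * x⁻¹) * x := by group
          rw [h1]
          exact Subgroup.mul_mem _ (hβZ x) hx
        exact (hcen hbx) x⁻¹
      rw [map_pow, ← inv_pow, hc.symm.mul_pow]
    have h4 := eq_one_of_fixed hV hβm hm (x ^ e) (by rw [hstep]; exact hfixy)
    rw [hstep] at h4
    rw [h4, orderOf_one] at he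
    exact hp.out.one_lt.ne he
  -- hence everything is fixed
  ext v
  have h5 := eq_one_of_fixed hV hβm hm v (hfixZ _ (hβZ v))
  simpa using mul_inv_eq_one.1 h5

end Cfsg.Agent.Lib.Fusion.RankFiveKer
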