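import Cfsg.Agent.Lib.Fusion.RankFiveC2B
import Cfsg.Agent.Lib.Fusion.RankFiveC3
import Cfsg.Agent.Lib.Fusion.SmallEssentialAb
import Cfsg.Agent.Lib.FG7.FrattiniBound
import Cfsg.Agent.Lib.FusionTheory.Essential

/-!
# The third family of `p`-groups of rank two has no essential subgroups for `p ≥ 5`
-/

set_option autoImplicit false
set_option linter.unusedSectionVars false
set_option maxHeartbeats 1000000

namespace Cfsg.Agent.Lib.Fusion.RankFiveMain

open Subgroup Cfsg Cfsg.FusionSystem Cfsg.Agent.Lib.Fusion.Basic Cfsg.Agent.Lib.Fusion.Saturation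
open Cfsg.Agent.Lib.Fusion.SmallEssential Cfsg.Agent.Lib.Fusion.SmallEssentialAb
open Cfsg.Agent.Lib.Fusion.RankFivePres Cfsg.Agent.Lib.Fusion.RankFiveFinal
open Cfsg.Agent.Lib.Fusion.RankFiveStruct Cfsg.Agent.Lib.Fusion.RankFiveStruct.PresLemmas
open Cfsg.Agent.Lib.Fusion.RankFiveC2A Cfsg.Agent.Lib.Fusion.RankFiveC2B Cfsg.Agent.Lib.Fusion.RankFiveC3

variable {p : ℕ} [hp : Fact p.Prime]

/-- Index of a cyclic subgroup from generators. -/
theorem index_zpowers_le {V : Type*} [Group V] [Finite V] (u a : V) (hu : u ^ p ∈ zpowers a)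
    (hgen : ∀ f : V, ∃ i k : ℕ, f = u ^ i * a ^ k) : (zpowers a).index ≤ p := by
  have hp0 := hp.out.pos
  haveI : NeZero p := ⟨hp0.ne'⟩
  rw [Subgroup.index_eq_card]
  let g : Fin p → V ⧸ zpowers a := fun i => ((u ^ (i : ℕ) : V) : V ⧸ zpowers a)
  have hg : Function.Surjective g := by
    intro q
    obtain ⟨f, rfl⟩ := QuotientGroup.mk_surjective q
    obtain ⟨i, k, rfl⟩ := hgen f
    refine ⟨⟨i % p, Nat.mod_lt _ hp0⟩, ?_⟩
    show ((u ^ (i % p) : V) : V ⧸ zpowers a) = _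
    rw [QuotientGroup.eq]
    have h0 : u ^ i = u ^ (i % p) * (u ^ p) ^ (i / p) := by
      rw [← pow_mul, ← pow_add, Nat.mod_add_div]
    have h1 : (u ^ (i % p))⁻¹ * (u ^ i * a ^ k) = (u ^ p) ^ (i / p) * a ^ k := by
      rw [h0]
      simp only [mul_assoc, inv_mul_cancel_left]
    rw [h1]
    exact Subgroup.mul_mem _ (Subgroup.pow_mem _ hu _) (Subgroup.npow_mem_zpowers a k)
  have h2 := Nat.card_le_card_of_surjective g hg
  simpa using h2

variable {Ω : Type*} [Group Ω] {S : Subgroup Ω} [Finite S]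

/-- Abelian essential subgroups with a cyclic subgroup of index at most `p` are elementary abelian of order `p²`. -/
theorem ab_two_idx (hS : IsPGroup p S) (F : FusionSystem S) {E : Subgroup Ω} (hE : F.IsEssential p E) (hp5 : 5 ≤ p)
    (hab : ∀ a b : E, a * b = b * a) {a : E} (hidx : (zpowers a).index ≤ p) :
    (∀ f : E, f ^ p = 1) ∧ Nat.card E = p ^ 2 := by
  have hES : E ≤ S := hE.1.1
  haveI hfinE : Finite E := finite_of_le hES
  have hVp : IsPGroup p E := IsPGroup.of_injective hS (Subgroup.inclusion hES) (Subgroup.inclusion_injective hES)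
  have hX : EssAut p (F.autGroup E) := essAut_of_isEssential hS F hE
  have hrk : (frattini E).index ≤ p ^ 2 := by
    refine (Cfsg.Agent.Lib.FG7.FrattiniBound.frattini_index_le_of_zpowers hVp a).trans ?_
    rw [pow_two]
    exact Nat.mul_le_mul_left p hidx
  rcases @rank_two p hp E { (inferInstance : Group E) with mul_comm := hab } _ hVp _ hX hrk with h | h
  · exact h
  · omega

/-- The third family. -/
theorem false_of_essential_c {x y c : Ω} {s q : ℕ} (P : PresC p s q S x y c) (hp5 : 5 ≤ p) (hS : IsPGroup p S)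
    (F : FusionSystem S) (hF : F.IsSaturated p) {E : Subgroup Ω} (hE : F.IsEssential p E) : False := by
  classical
  have hES : E ≤ S := hE.1.1
  haveI hfinE : Finite E := finite_of_le hES
  have hyc := P.yc
  have hlt : E < S := Cfsg.Agent.Lib.FusionTheory.Essential.IsEssential.lt F hS hF hE
  have hCen : ∀ g ∈ S, (∀ e ∈ E, Commute g e) → g ∈ E := by
    intro g hg hc
    apply hE.1.2 E (isConj_refl F hES)
    refine ⟨hg, Subgroup.mem_centralizer_iff.2 (fun e he => (hc e he).symm.eq)⟩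
  have hcpE : c ^ p ∈ E := hCen _ (S.pow_mem P.hc p) (fun e he => comm_cpow P (dvd_refl p) (hES he))
  have hcpkE : ∀ k : ℕ, c ^ (p * k) ∈ E := fun k => by
    rw [pow_mul]
    exact E.pow_mem hcpE k
  by_cases hA : ∀ e ∈ E, InA y c e
  · -- `E ≤ ⟨y⟩⟨c⟩`
    have hyE : y ∈ E := hCen y P.hy (fun e he => InA.comm hyc ⟨1, 0, by simp⟩ (hA e he))
    have hcE : c ∈ E := hCen c P.hc (fun e he => InA.comm hyc ⟨0, 1, by simp⟩ (hA e he))
    have hab : ∀ a b : E, a * b = b * a := fun a b => Subtype.ext (InA.comm hyc (hA a a.2) (hA b b.2)).eq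
    have hgen : ∀ f : E, ∃ i k : ℕ, f = (⟨y, hyE⟩ : E) ^ i * (⟨c, hcE⟩ : E) ^ k := by
      intro f
      obtain ⟨i, k, h⟩ := hA f f.2
      exact ⟨i, k, Subtype.ext h⟩
    have hup : (⟨y, hyE⟩ : E) ^ p ∈ zpowers (⟨c, hcE⟩ : E) := by
      have h1 : (⟨y, hyE⟩ : E) ^ p = 1 := Subtype.ext P.yp
      rw [h1]
      exact Subgroup.one_mem _
    obtain ⟨hexp, -⟩ := ab_two_idx hS F hE hp5 hab (index_zpowers_le _ _ hup hgen)
    have h1 : c ^ p = 1 := congrArg Subtype.val (hexp ⟨c, hcE⟩)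
    have h2 := (P.ind 0 0 p (by simpa using h1)).2.2
    have h3 : q ∣ 1 := by
      have h4 : p * q ∣ p * 1 := by simpa using h2
      exact (Nat.mul_dvd_mul_iff_left hp.out.pos).1 h4
    have h4 : p ∣ 1 := P.hpq.trans h3
    exact hp.out.one_lt.ne' (Nat.dvd_one.1 h4)
  · push Not at hA
    obtain ⟨e, heE, heA⟩ := hA
    obtain ⟨i, j, k, he⟩ := P.nf e (hES heE)
    have hi : ¬ p ∣ i := by
      rintro ⟨r, rfl⟩
      apply heA
      refine ⟨j, k, ?_⟩
      rw [he, pow_mul, P.xp, one_pow, one_mul]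
    obtain ⟨m, a₀, ha₀, hm⟩ := exists_power P hi (⟨j, k, rfl⟩ : InA y c (y ^ j * c ^ k))
    have hvE : x * a₀ ∈ E := by
      rw [← hm]
      have h1 : x ^ i * (y ^ j * c ^ k) = e := by rw [he, mul_assoc]
      rw [h1]
      exact E.pow_mem heE m
    obtain ⟨hv1, hv2⟩ := rel_of_mul P ha₀
    have ha₀S : a₀ ∈ S := by
      obtain ⟨a, b, rfl⟩ := ha₀
      exact S.mul_mem (S.pow_mem P.hy a) (S.pow_mem P.hc b)
    by_cases hZ : ∀ f ∈ E, InA y c f → ∃ k, f = c ^ (p * k)
    · -- `E ∩ ⟨y⟩⟨c⟩` is central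
      have hform : ∀ f ∈ E, ∃ i k : ℕ, f = (x * a₀) ^ i * (c ^ p) ^ k := by
        intro f hf
        obtain ⟨i₁, j₁, k₁, hf₁⟩ := P.nf f (hES hf)
        obtain ⟨a₁, ha₁, hx⟩ := pow_eq_of_mul P ha₀ i₁
        have h1 := ha₁.mul hyc (⟨j₁, k₁, rfl⟩ : InA y c (y ^ j₁ * c ^ k₁))
        have h2 : f = (x * a₀) ^ i₁ * (a₁ * (y ^ j₁ * c ^ k₁)) := by
          rw [hf₁, hx]
          simp only [mul_assoc]
        have h3 : a₁ * (y ^ j₁ * c ^ k₁) ∈ E := by
          have h4 : a₁ * (y ^ j₁ * c ^ k₁) = ((x * a₀) ^ i₁)⁻¹ * f := by rw [h2]; group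
          rw [h4]
          exact E.mul_mem (E.inv_mem (E.pow_mem hvE i₁)) hf
        obtain ⟨k₂, hk₂⟩ := hZ _ h3 h1
        refine ⟨i₁, k₂, ?_⟩
        rw [h2, hk₂, pow_mul]
      have hvz : Commute (x * a₀) (c ^ p) := (comm_cpow P (dvd_refl p) (hES hvE)).symm
      have hab : ∀ a b : E, a * b = b * a := by
        intro a b
        obtain ⟨i₁, k₁, h₁⟩ := hform a a.2
        obtain ⟨i₂, k₂, h₂⟩ := hform b b.2
        exact Subtype.ext (InA.comm hvz ⟨i₁, k₁, h₁⟩ ⟨i₂, k₂, h₂⟩).eq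
      have hgen : ∀ f : E, ∃ i k : ℕ, f = (⟨x * a₀, hvE⟩ : E) ^ i * (⟨c ^ p, hcpE⟩ : E) ^ k := by
        intro f
        obtain ⟨i₁, k₁, h⟩ := hform f f.2
        exact ⟨i₁, k₁, Subtype.ext h⟩
      have hup : (⟨x * a₀, hvE⟩ : E) ^ p ∈ zpowers (⟨c ^ p, hcpE⟩ : E) := by
        obtain ⟨a₁, ha₁, hx⟩ := pow_mul_A hyc (u := x) ⟨1, s * q, by rw [P.r1, pow_one]⟩
          ⟨1, 1, by rw [P.r2, pow_one, pow_one]⟩ ha₀ p
        rw [P.xp, one_mul] at hx
        have h1 : a₁ ∈ E := hx ▸ E.pow_mem hvE p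
        obtain ⟨k₁, hk₁⟩ := hZ a₁ h1 ha₁
        refine Subgroup.mem_zpowers_iff.2 ⟨(k₁ : ℤ), Subtype.ext ?_⟩
        rw [zpow_natCast]
        push_cast
        rw [hx, hk₁, pow_mul]
      obtain ⟨hexp, hcard⟩ := ab_two_idx hS F hE hp5 hab (index_zpowers_le _ _ hup hgen)
      have h1 : c ^ (p * p) = 1 := by
        rw [pow_mul]
        exact congrArg Subtype.val (hexp ⟨c ^ p, hcpE⟩)
      have h2 := (P.ind 0 0 (p * p) (by simpa using h1)).2.2
      have h3 : q ∣ p := (Nat.mul_dvd_mul_iff_left hp.out.pos).1 h2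
      have hqp : q = p := Nat.dvd_antisymm h3 P.hpq
      subst hqp
      have P' : PresC q s q S (x * a₀) y c := change P ha₀ ha₀S (congrArg Subtype.val (hexp ⟨x * a₀, hvE⟩))
      exact case_c2 P' hp5 hS F hF hE hvE hcpE hform (fun f hf => congrArg Subtype.val (hexp ⟨f, hf⟩)) hcard
    · -- `E` contains `y`
      push Not at hZ
      obtain ⟨f, hfE, ⟨j₁, k₁, rfl⟩, hf⟩ := hZ
      have hpe : p ∣ s * q := Dvd.dvd.mul_left P.hpq s
      have hcjE : ∀ g ∈ E, cj (x * a₀) g ∈ E := fun g hg => by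
        rw [cj_apply]
        exact E.mul_mem (E.mul_mem (E.inv_mem hvE) hg) hvE
      have hw : y ^ k₁ * c ^ (s * q * j₁) ∈ E := by
        have h1 := hcjE _ hfE
        have h3 := powA hyc 1 (s * q) j₁
        have h4 := powA hyc 1 1 k₁
        simp only [pow_one, one_mul, mul_one] at h3 h4
        rw [map_mul, map_pow, map_pow, hv1, hv2, h3, h4, mulA hyc] at h1
        have h5 : y ^ k₁ * c ^ (s * q * j₁) = y ^ (j₁ + k₁) * c ^ (s * q * j₁ + k₁) * (y ^ j₁ * c ^ k₁)⁻¹ := by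
          rw [eq_mul_inv_iff_mul_eq, mulA hyc, add_comm k₁ j₁]
        rw [h5]
        exact E.mul_mem h1 (E.inv_mem hfE)
      have hcej : c ^ (s * q * j₁) ∈ E := by
        obtain ⟨r, hr⟩ := hpe
        rw [hr, mul_assoc]
        exact hcpkE _
      have hyk : y ^ k₁ ∈ E := by
        have h5 : y ^ k₁ = y ^ k₁ * c ^ (s * q * j₁) * (c ^ (s * q * j₁))⁻¹ := by group
        rw [h5]
        exact E.mul_mem hw (E.inv_mem hcej)
      have hyof : ∀ n : ℕ, ¬ p ∣ n → y ^ n ∈ E → y ∈ E := by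
        intro n hn hy
        obtain ⟨n', hn'⟩ := exists_inv_mod hn
        have h5 : (y ^ n) ^ n' = y := by
          rw [← pow_mul]
          calc y ^ (n * n') = y ^ 1 := pow_congr_mod P.yp hn'
            _ = y := pow_one y
        rw [← h5]
        exact E.pow_mem hy n'
      have hyE : y ∈ E := by
        by_cases hk₁ : p ∣ k₁
        · obtain ⟨r, rfl⟩ := hk₁
          have h5 : y ^ j₁ ∈ E := by
            have h6 : y ^ j₁ = y ^ j₁ * c ^ (p * r) * (c ^ (p * r))⁻¹ := by group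
            rw [h6]
            exact E.mul_mem hfE (E.inv_mem (hcpkE r))
          refine hyof j₁ ?_ h5
          rintro ⟨r', rfl⟩
          apply hf r
          rw [pow_mul, P.yp, one_pow, one_mul]
        · exact hyof k₁ hk₁ hyk
      have hck : ∀ k, c ^ k ∈ E → p ∣ k := by
        intro k hk
        by_contra hnd
        have hcop : Nat.Coprime p k := (Nat.Prime.coprime_iff_not_dvd hp.out).2 hnd
        have hord : Nat.Coprime k (orderOf c) := by
          have h5 := hS.orderOf_coprime hcop (⟨c, P.hc⟩ : S)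
          rw [Subgroup.orderOf_mk] at h5
          exact h5.symm
        obtain ⟨m, hm⟩ := exists_pow_eq_self_of_coprime hord
        have hcE : c ∈ E := by
          rw [← hm]
          exact E.pow_mem hk m
        have ha₀E : a₀ ∈ E := by
          obtain ⟨a, b, rfl⟩ := ha₀
          exact E.mul_mem (E.pow_mem hyE a) (E.pow_mem hcE b)
        have hxE : x ∈ E := by
          have h5 : x = x * a₀ * a₀⁻¹ := by group
          rw [h5]
          exact E.mul_mem hvE (E.inv_mem ha₀E)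
        apply hlt.not_ge
        intro g hg
        obtain ⟨i₁, j₂, k₂, rfl⟩ := P.nf g hg
        exact E.mul_mem (E.mul_mem (E.pow_mem hxE _) (E.pow_mem hyE _)) (E.pow_mem hcE _)
      exact case_c3 P hp5 hS F hF hE ha₀ hvE hyE hcpE hck

end Cfsg.Agent.Lib.Fusion.RankFiveMain
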