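import Cfsg.Agent.Lib.Fusion.RankFiveFinal

/-!
# A diagonal element on a plane section, in terms of a given pair of generators of the plane
-/

set_option autoImplicit false
set_option linter.unusedSectionVars false

namespace Cfsg.Agent.Lib.Fusion.RankFivePlane

open Subgroup Cfsg.Agent.Lib.Fusion.SmallEssential Cfsg.Agent.Lib.Fusion.RankFiveDiag
open Cfsg.Agent.Lib.Fusion.RankFivePres Cfsg.Agent.Lib.Fusion.RankFiveFinal

universe u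

variable {p : ℕ} [hp : Fact p.Prime] {V : Type u} [Group V] [Finite V] (N : Subgroup V) [hN : N.Characteristic]

/-- The plane lemma. -/
theorem plane (hV : IsPGroup p V) (hN2 : N.index = p ^ 2) (hexp : ∀ v : V, v ^ p ∈ N)
    (hcomm : ∀ v w : V, v * w * v⁻¹ * w⁻¹ ∈ N) {X : Subgroup (MulAut V)} (hX : EssAut p X)
    (hK : ∀ α ∈ X, (∀ v : V, α v * v⁻¹ ∈ N) → ∃ k : ℕ, α ^ p ^ k = 1)
    {t : MulAut V} (htX : t ∈ X) (htp : t ^ p ∈ Inn V) {v y : V} {l₀ : ℕ} (hl₀ : ¬ p ∣ l₀)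
    (hgen : ∀ f : V, ∃ i j : ℕ, (f : V ⧸ N) = (v : V ⧸ N) ^ i * (y : V ⧸ N) ^ j)
    (hy : ∀ j : ℕ, y ^ j ∈ N → p ∣ j) (htv : t v * (v * y ^ l₀)⁻¹ ∈ N) (hty : t y * y⁻¹ ∈ N)
    {a : ℕ} (ha : a * 2 ≡ 1 [MOD p]) :
    ∃ v' : V, (∃ j : ℕ, (v' : V ⧸ N) = (v : V ⧸ N) * (y : V ⧸ N) ^ j) ∧ ∃ τ ∈ X,
      τ v' * (v' ^ 2)⁻¹ ∈ N ∧ τ y * (y ^ a)⁻¹ ∈ N ∧ ∃ r : V, τ * t * τ⁻¹ = MulAut.conj r * t ^ (a ^ 2) := by
  classical
  set vb : V ⧸ N := (v : V ⧸ N) with hvb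
  set yb : V ⧸ N := (y : V ⧸ N) with hyb
  have hcm : Commute vb yb := by
    show vb * yb = yb * vb
    rw [hvb, hyb, ← QuotientGroup.mk_mul, ← QuotientGroup.mk_mul, mk_eq_iff]
    have e : v * y * (y * v)⁻¹ = v * y * v⁻¹ * y⁻¹ := by group
    rw [e]
    exact hcomm v y
  have hmk1 : ∀ {f : V}, f ∈ N → (f : V ⧸ N) = 1 := fun h => (QuotientGroup.eq_one_iff _).2 h
  have hvp : vb ^ p = 1 := by
    rw [hvb, ← QuotientGroup.mk_pow]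
    exact hmk1 (hexp v)
  have hyp : yb ^ p = 1 := by
    rw [hyb, ← QuotientGroup.mk_pow]
    exact hmk1 (hexp y)
  have hyb1 : ∀ j : ℕ, yb ^ j = 1 → p ∣ j := by
    intro j hj
    apply hy j
    rw [hyb, ← QuotientGroup.mk_pow] at hj
    exact (QuotientGroup.eq_one_iff _).1 hj
  let tb := quotHom N t
  have htbv : tb vb = vb * yb ^ l₀ := by
    show ((t v : V) : V ⧸ N) = _
    rw [hvb, hyb, ← QuotientGroup.mk_pow, ← QuotientGroup.mk_mul]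
    exact (mk_eq_iff N).2 htv
  have htby : tb yb = yb := by
    show ((t y : V) : V ⧸ N) = _
    exact (mk_eq_iff N).2 hty
  have htb : ∀ i j : ℕ, tb (vb ^ i * yb ^ j) = vb ^ i * yb ^ j * yb ^ (l₀ * i) := by
    intro i j
    rw [map_mul, map_pow, map_pow, htbv, htby, (hcm.pow_right l₀).mul_pow, ← pow_mul, mul_assoc, mul_assoc,
      ((Commute.refl yb).pow_pow _ _).eq]
  have htN : ∃ f : V, t f * f⁻¹ ∉ N := by
    refine ⟨v, fun h => hl₀ (hyb1 _ ?_)⟩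
    have h1 : tb vb = vb := (mk_eq_iff N).2 h
    rw [htbv] at h1
    exact mul_eq_left.1 h1
  obtain ⟨e₁, e₂, he₁N, h1, h2, hdiag⟩ := exists_diag_quot N hV hN2 hexp hcomm hX hK htX htp htN
  obtain ⟨i₁, j₁, he₁⟩ := hgen e₁
  obtain ⟨i₂, j₂, he₂⟩ := hgen e₂
  -- the first basis vector
  have h3 : tb (e₁ : V ⧸ N) = (e₁ : V ⧸ N) := (mk_eq_iff N).2 h1
  rw [he₁, htb] at h3
  have h4 : yb ^ (l₀ * i₁) = 1 := mul_eq_left.1 h3
  have h5 : p ∣ i₁ := (hp.out.dvd_mul.1 (hyb1 _ h4)).resolve_left hl₀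
  have h6 : vb ^ i₁ = 1 := by
    obtain ⟨r, rfl⟩ := h5
    rw [pow_mul, hvp, one_pow]
  rw [h6, one_mul] at he₁
  have h7 : yb ^ j₁ ≠ 1 := by
    intro h
    rw [h] at he₁
    exact he₁N ((QuotientGroup.eq_one_iff _).1 he₁)
  have h8 : ¬ p ∣ j₁ := by
    rintro ⟨r, rfl⟩
    apply h7
    rw [pow_mul, hyp, one_pow]
  -- the second basis vector
  have h9 : tb (e₂ : V ⧸ N) = (e₂ : V ⧸ N) * (e₁ : V ⧸ N) := by
    have h10 : ((t e₂ : V) : V ⧸ N) = ((e₂ * e₁ : V) : V ⧸ N) := (mk_eq_iff N).2 h2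
    rw [QuotientGroup.mk_mul] at h10
    exact h10
  rw [he₂, he₁, htb] at h9
  have h10 : yb ^ (l₀ * i₂) = yb ^ j₁ := mul_left_cancel h9
  have h11 : ¬ p ∣ i₂ := by
    rintro ⟨r, rfl⟩
    apply h7
    rw [← h10, show l₀ * (p * r) = p * (l₀ * r) by ring, pow_mul, hyp, one_pow]
  obtain ⟨m, hm⟩ := exists_inv_mod h11
  obtain ⟨j', hj'⟩ := exists_inv_mod h8
  obtain ⟨τ, hτX, h12, h13, r, hr⟩ := hdiag a 2 ha
  have hmk : ((e₂ ^ m : V) : V ⧸ N) = vb * yb ^ (j₂ * m) := by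
    rw [QuotientGroup.mk_pow, he₂, powA hcm, pow_congr_mod hvp hm, pow_one]
  let τb := quotHom N τ
  have h14 : τb (e₁ : V ⧸ N) = (e₁ : V ⧸ N) ^ a := by
    show ((τ e₁ : V) : V ⧸ N) = _
    rw [← QuotientGroup.mk_pow]
    exact (mk_eq_iff N).2 h12
  have h15 : τb (e₂ : V ⧸ N) = (e₂ : V ⧸ N) ^ 2 := by
    show ((τ e₂ : V) : V ⧸ N) = _
    rw [← QuotientGroup.mk_pow]
    exact (mk_eq_iff N).2 h13
  refine ⟨e₂ ^ m, ⟨j₂ * m, hmk⟩, τ, hτX, ?_, ?_, r, hr⟩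
  · apply (mk_eq_iff N).1
    show τb ((e₂ ^ m : V) : V ⧸ N) = _
    rw [QuotientGroup.mk_pow, map_pow, h15, QuotientGroup.mk_pow, QuotientGroup.mk_pow, ← pow_mul, ← pow_mul,
      mul_comm]
  · apply (mk_eq_iff N).1
    show τb yb = _
    have h16 : yb = (e₁ : V ⧸ N) ^ j' := by
      rw [he₁, ← pow_mul, pow_congr_mod hyp hj', pow_one]
    rw [QuotientGroup.mk_pow, ← hyb]
    conv_lhs => rw [h16]
    conv_rhs => rw [h16]
    rw [map_pow, h14, ← pow_mul, ← pow_mul, mul_comm]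

end Cfsg.Agent.Lib.Fusion.RankFivePlane
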