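import Cfsg.Agent.Lib.Fusion.RankFiveKer

/-!
# The third family of `p`-groups of rank two: explicit computations

Elements `x, y, c` with `x^p = y^p = c^(pq) = 1`, `yc = cy`, `x⁻¹yx = y c^(sq)`, `x⁻¹cx = yc`, generating a group of
order `p³q`.
-/

set_option autoImplicit false
set_option linter.unusedSectionVars false

namespace Cfsg.Agent.Lib.Fusion.RankFivePres

open Subgroup

variable {Ω : Type*} [Group Ω] {p : ℕ} [hp : Fact p.Prime]

omit hp in
theorem pow_congr_mod {g : Ω} {m : ℕ} (hg : g ^ m = 1) {a b : ℕ} (h : a ≡ b [MOD m]) : g ^ a = g ^ b :=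
  pow_eq_pow_iff_modEq.2 (h.of_dvd (orderOf_dvd_of_pow_eq_one hg))

theorem exists_inv_mod {i : ℕ} (hi : ¬ p ∣ i) : ∃ i' : ℕ, i * i' ≡ 1 [MOD p] := by
  have h0 : (i : ZMod p) ≠ 0 := by
    rwa [Ne, ZMod.natCast_eq_zero_iff]
  refine ⟨((i : ZMod p)⁻¹).val, ?_⟩
  rw [← ZMod.natCast_eq_natCast_iff]
  push_cast
  rw [ZMod.natCast_zmod_val, mul_inv_cancel₀ h0]

/-- Conjugation `g ↦ v⁻¹ g v` as a homomorphism. -/
def cj (v : Ω) : Ω →* Ω where
  toFun g := v⁻¹ * g * v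
  map_one' := by group
  map_mul' a b := by group

omit hp in
@[simp] theorem cj_apply (v g : Ω) : cj v g = v⁻¹ * g * v := rfl

omit hp in
theorem cj_mul (u v g : Ω) : cj (u * v) g = cj v (cj u g) := by
  simp only [cj_apply]
  group

omit hp in
theorem cj_pow_succ (v g : Ω) (i : ℕ) : cj (v ^ (i + 1)) g = cj v (cj (v ^ i) g) := by
  rw [pow_succ, cj_mul]

omit hp in
theorem cj_one (g : Ω) : cj (1 : Ω) g = g := by
  simp

omit hp in
theorem cj_eq_iff {v a b : Ω} : cj v a = b ↔ a * v = v * b := by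
  simp only [cj_apply]
  constructor
  · rintro rfl
    group
  · intro h
    rw [mul_assoc, h]
    group

omit hp in
theorem cj_eq_self_iff {v a : Ω} : cj v a = a ↔ Commute a v := cj_eq_iff

/-! ### Conjugation formulas for an element acting like `x` -/

section action

variable {v y c : Ω} {e : ℕ}

omit hp in
theorem cj_cpow (hyc : Commute y c) (r2 : cj v c = y * c) (he : y ^ e = 1) : cj v (c ^ e) = c ^ e := by
  rw [map_pow, r2, hyc.mul_pow, he, one_mul]

omit hp in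
theorem cj_cpow_mul (hyc : Commute y c) (r2 : cj v c = y * c) (he : y ^ e = 1) (k : ℕ) :
    cj v (c ^ (e * k)) = c ^ (e * k) := by
  rw [pow_mul, map_pow, cj_cpow hyc r2 he]

omit hp in
/-- `y` under powers. -/
theorem cj_pow_y (hyc : Commute y c) (r1 : cj v y = y * c ^ e) (r2 : cj v c = y * c) (he : y ^ e = 1) (i : ℕ) :
    cj (v ^ i) y = y * c ^ (e * i) := by
  induction i with
  | zero => simp
  | succ i ih =>
    rw [cj_pow_succ, ih, map_mul, r1, cj_cpow_mul hyc r2 he, mul_assoc, ← pow_add, mul_add, mul_one, add_comm]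

omit hp in
theorem mulA (hyc : Commute y c) (a b a' b' : ℕ) :
    y ^ a * c ^ b * (y ^ a' * c ^ b') = y ^ (a + a') * c ^ (b + b') := by
  rw [pow_add, pow_add, mul_assoc, ← mul_assoc (c ^ b), (hyc.pow_pow a' b).symm.eq]
  simp only [mul_assoc]

omit hp in
/-- `c` under the square. -/
theorem cj_sq_c (hyc : Commute y c) (r1 : cj v y = y * c ^ e) (r2 : cj v c = y * c) :
    cj (v ^ 2) c = y ^ 2 * c ^ (e + 1) := by
  rw [show (2 : ℕ) = 1 + 1 from rfl, cj_pow_succ, pow_one, r2, map_mul, r1, r2]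
  have h := mulA hyc 1 e 1 1
  simp only [pow_one] at h
  exact h

/-- Elements of `⟨y⟩⟨c⟩`. -/
def InA (y c g : Ω) : Prop := ∃ a b : ℕ, g = y ^ a * c ^ b

omit hp in
theorem InA.mul (hyc : Commute y c) {g h : Ω} (hg : InA y c g) (hh : InA y c h) : InA y c (g * h) := by
  obtain ⟨a, b, rfl⟩ := hg
  obtain ⟨a', b', rfl⟩ := hh
  exact ⟨a + a', b + b', mulA hyc a b a' b'⟩

omit hp in
theorem InA.comm (hyc : Commute y c) {g h : Ω} (hg : InA y c g) (hh : InA y c h) : Commute g h := by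
  obtain ⟨a, b, rfl⟩ := hg
  obtain ⟨a', b', rfl⟩ := hh
  apply Commute.mul_left
  · apply Commute.mul_right
    · exact (Commute.refl y).pow_pow a a'
    · exact hyc.pow_pow a b'
  · apply Commute.mul_right
    · exact (hyc.pow_pow a' b).symm
    · exact (Commute.refl c).pow_pow b b'

omit hp in
theorem InA.pow (hyc : Commute y c) {g : Ω} (hg : InA y c g) (n : ℕ) : InA y c (g ^ n) := by
  induction n with
  | zero => exact ⟨0, 0, by simp⟩
  | succ n ih =>
    rw [pow_succ]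
    exact ih.mul hyc hg

omit hp in
theorem InA.inv (hyc : Commute y c) {m n : ℕ} (hm : y ^ m = 1) (hm0 : 0 < m) (hn : c ^ n = 1) (hn0 : 0 < n) {g : Ω}
    (hg : InA y c g) : InA y c g⁻¹ := by
  obtain ⟨a, b, rfl⟩ := hg
  refine ⟨a * (m - 1), b * (n - 1), ?_⟩
  have h1 : (y ^ a)⁻¹ = y ^ (a * (m - 1)) := by
    have h0 : 1 + (m - 1) = m := by omega
    rw [inv_eq_iff_mul_eq_one, ← pow_add, mul_comm a, ← one_add_mul, h0, pow_mul, hm, one_pow]
  have h2 : (c ^ b)⁻¹ = c ^ (b * (n - 1)) := by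
    have h0 : 1 + (n - 1) = n := by omega
    rw [inv_eq_iff_mul_eq_one, ← pow_add, mul_comm b, ← one_add_mul, h0, pow_mul, hn, one_pow]
  rw [mul_inv_rev, h1, h2]
  exact (hyc.pow_pow _ _).symm.eq

omit hp in
theorem InA.cj (hyc : Commute y c) (h1 : InA y c (cj v y)) (h2 : InA y c (cj v c)) {g : Ω} (hg : InA y c g) :
    InA y c (cj v g) := by
  obtain ⟨a, b, rfl⟩ := hg
  rw [map_mul, map_pow, map_pow]
  exact (h1.pow hyc a).mul hyc (h2.pow hyc b)

end action

/-! ### The structure -/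

/-- The relations of the third family. -/
structure PresC (p s q : ℕ) (S : Subgroup Ω) (x y c : Ω) : Prop where
  hx : x ∈ S
  hy : y ∈ S
  hc : c ∈ S
  xp : x ^ p = 1
  yp : y ^ p = 1
  cp : c ^ (p * q) = 1
  yc : Commute y c
  r1 : cj x y = y * c ^ (s * q)
  r2 : cj x c = y * c
  nf : ∀ g ∈ S, ∃ i j k : ℕ, g = x ^ i * y ^ j * c ^ k
  ind : ∀ i j k : ℕ, x ^ i * y ^ j * c ^ k = 1 → p ∣ i ∧ p ∣ j ∧ p * q ∣ k
  hpq : p ∣ q
  hs : ¬ p ∣ s
  hq : 0 < q

section construct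

variable {S : Subgroup Ω} {x y c : Ω} {s q : ℕ}

/-- The normal form. -/
theorem nf_of_closure (hq : 0 < q) (hcl : S ≤ closure {x, y, c}) (xp : x ^ p = 1) (yp : y ^ p = 1)
    (cp : c ^ (p * q) = 1) (yc : Commute y c) (r1 : cj x y = y * c ^ (s * q)) (r2 : cj x c = y * c) (hpq : p ∣ q) :
    ∀ g ∈ S, ∃ i j k : ℕ, g = x ^ i * y ^ j * c ^ k := by
  have hp0 := hp.out.pos
  have he : y ^ (s * q) = 1 := by
    obtain ⟨r, rfl⟩ := hpq
    rw [show s * (p * r) = p * (s * r) by ring, pow_mul, yp, one_pow]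
  set T : Ω → Prop := fun g => ∃ i j k : ℕ, g = x ^ i * y ^ j * c ^ k with hT
  have hx1 : ∀ g, T g → T (x * g) := by
    rintro g ⟨i, j, k, rfl⟩
    exact ⟨i + 1, j, k, by rw [pow_succ']; simp only [mul_assoc]⟩
  have hy1 : ∀ g, T g → T (y * g) := by
    rintro g ⟨i, j, k, rfl⟩
    have h1 := cj_pow_y yc r1 r2 he i
    have h2 : y * x ^ i = x ^ i * (y * c ^ (s * q * i)) := cj_eq_iff.1 h1
    refine ⟨i, j + 1, s * q * i + k, ?_⟩
    have h3 := mulA yc 1 (s * q * i) j k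
    rw [pow_one, add_comm 1 j] at h3
    calc y * (x ^ i * y ^ j * c ^ k) = (y * x ^ i) * (y ^ j * c ^ k) := by simp only [mul_assoc]
      _ = x ^ i * ((y * c ^ (s * q * i)) * (y ^ j * c ^ k)) := by rw [h2]; simp only [mul_assoc]
      _ = x ^ i * y ^ (j + 1) * c ^ (s * q * i + k) := by rw [h3]; simp only [mul_assoc]
  have hcA : ∀ i : ℕ, InA y c (cj (x ^ i) c) := by
    intro i
    induction i with
    | zero => exact ⟨0, 1, by simp⟩
    | succ i ih =>
      rw [cj_pow_succ]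
      refine InA.cj yc ⟨1, s * q, ?_⟩ ⟨1, 1, ?_⟩ ih
      · rw [r1, pow_one]
      · rw [r2, pow_one, pow_one]
  have hc1 : ∀ g, T g → T (c * g) := by
    rintro g ⟨i, j, k, rfl⟩
    obtain ⟨a, b, hab⟩ := hcA i
    have h2 : c * x ^ i = x ^ i * (y ^ a * c ^ b) := cj_eq_iff.1 hab
    refine ⟨i, a + j, b + k, ?_⟩
    have h3 := mulA yc a b j k
    calc c * (x ^ i * y ^ j * c ^ k) = (c * x ^ i) * (y ^ j * c ^ k) := by simp only [mul_assoc]
      _ = x ^ i * ((y ^ a * c ^ b) * (y ^ j * c ^ k)) := by rw [h2]; simp only [mul_assoc]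
      _ = x ^ i * y ^ (a + j) * c ^ (b + k) := by rw [h3]; simp only [mul_assoc]
  have hpow : ∀ (u : Ω), (∀ g, T g → T (u * g)) → ∀ (m : ℕ) (g : Ω), T g → T (u ^ m * g) := by
    intro u hu m
    induction m with
    | zero => intro g hg; simpa using hg
    | succ m ih =>
      intro g hg
      rw [pow_succ', mul_assoc]
      exact hu _ (ih g hg)
  have hinv : ∀ (u : Ω) (m : ℕ), u ^ m = 1 → 0 < m → (∀ g, T g → T (u * g)) → ∀ g, T g → T (u⁻¹ * g) := by
    intro u m hm hm0 hu g hg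
    have h1 : u⁻¹ = u ^ (m - 1) := by
      rw [inv_eq_iff_mul_eq_one, ← pow_succ', Nat.sub_add_cancel hm0, hm]
    rw [h1]
    exact hpow u hu _ g hg
  intro g hg
  have hmem := hcl hg
  have hcT : T g := by
    refine Subgroup.closure_induction_left (p := fun g _ => T g) ⟨0, 0, 0, by simp⟩ ?_ ?_ hmem
    · rintro u hu h _ hh
      rcases hu with rfl | rfl | rfl
      · exact hx1 _ hh
      · exact hy1 _ hh
      · exact hc1 _ hh
    · rintro u hu h _ hh
      rcases hu with rfl | rfl | rfl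
      · exact hinv _ p xp hp0 hx1 _ hh
      · exact hinv _ p yp hp0 hy1 _ hh
      · exact hinv _ (p * q) cp (Nat.mul_pos hp0 hq) hc1 _ hh
  exact hcT

/-- Independence from the order of the group. -/
theorem ind_of_card [Finite S] (hq : 0 < q) (hcard : Nat.card S = p * (p * (p * q))) (hx : x ∈ S) (hy : y ∈ S)
    (hc : c ∈ S) (xp : x ^ p = 1) (yp : y ^ p = 1) (cp : c ^ (p * q) = 1)
    (nf : ∀ g ∈ S, ∃ i j k : ℕ, g = x ^ i * y ^ j * c ^ k) :
    ∀ i j k : ℕ, x ^ i * y ^ j * c ^ k = 1 → p ∣ i ∧ p ∣ j ∧ p * q ∣ k := by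
  have hp0 := hp.out.pos
  have hpq0 : 0 < p * q := Nat.mul_pos hp0 hq
  haveI : NeZero p := ⟨hp0.ne'⟩
  haveI : NeZero (p * q) := ⟨hpq0.ne'⟩
  let f : Fin p × Fin p × Fin (p * q) → S := fun t =>
    ⟨x ^ (t.1 : ℕ) * y ^ (t.2.1 : ℕ) * c ^ (t.2.2 : ℕ),
      S.mul_mem (S.mul_mem (S.pow_mem hx _) (S.pow_mem hy _)) (S.pow_mem hc _)⟩
  have hf : Function.Surjective f := by
    rintro ⟨g, hg⟩
    obtain ⟨i, j, k, rfl⟩ := nf g hg
    refine ⟨(⟨i % p, Nat.mod_lt _ hp0⟩, ⟨j % p, Nat.mod_lt _ hp0⟩, ⟨k % (p * q), Nat.mod_lt _ hpq0⟩), ?_⟩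
    apply Subtype.ext
    show x ^ (i % p) * y ^ (j % p) * c ^ (k % (p * q)) = _
    rw [pow_congr_mod xp (Nat.mod_modEq i p), pow_congr_mod yp (Nat.mod_modEq j p),
      pow_congr_mod cp (Nat.mod_modEq k (p * q))]
  have hbij := hf.bijective_of_nat_card_le (by
    rw [hcard, Nat.card_prod, Nat.card_prod]
    simp)
  intro i j k h
  have h1 : f (⟨i % p, Nat.mod_lt _ hp0⟩, ⟨j % p, Nat.mod_lt _ hp0⟩, ⟨k % (p * q), Nat.mod_lt _ hpq0⟩) =
      f (⟨0, hp0⟩, ⟨0, hp0⟩, ⟨0, hpq0⟩) := by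
    apply Subtype.ext
    show x ^ (i % p) * y ^ (j % p) * c ^ (k % (p * q)) = x ^ 0 * y ^ 0 * c ^ 0
    rw [pow_congr_mod xp (Nat.mod_modEq i p), pow_congr_mod yp (Nat.mod_modEq j p),
      pow_congr_mod cp (Nat.mod_modEq k (p * q)), h]
    simp
  have h2 := hbij.1 h1
  have h3 := congrArg (fun t => (t.1 : ℕ)) h2
  have h4 := congrArg (fun t => (t.2.1 : ℕ)) h2
  have h5 := congrArg (fun t => (t.2.2 : ℕ)) h2
  exact ⟨Nat.dvd_of_mod_eq_zero h3, Nat.dvd_of_mod_eq_zero h4, Nat.dvd_of_mod_eq_zero h5⟩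

/-- Building the structure. -/
theorem presC_of [Finite S] (hcard : Nat.card S = p * (p * (p * q))) (hcl : S ≤ closure {x, y, c}) (hx : x ∈ S)
    (hy : y ∈ S) (hc : c ∈ S) (xp : x ^ p = 1) (yp : y ^ p = 1) (cp : c ^ (p * q) = 1) (yc : Commute y c)
    (r1 : cj x y = y * c ^ (s * q)) (r2 : cj x c = y * c) (hpq : p ∣ q) (hs : ¬ p ∣ s) : PresC p s q S x y c := by
  have hq : 0 < q := by
    rcases Nat.eq_zero_or_pos q with rfl | h
    · exfalso
      rw [mul_zero, mul_zero, mul_zero] at hcard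
      exact Nat.card_pos.ne' hcard
    · exact h
  have nf := nf_of_closure hq hcl xp yp cp yc r1 r2 hpq
  exact ⟨hx, hy, hc, xp, yp, cp, yc, r1, r2, nf, ind_of_card hq hcard hx hy hc xp yp cp nf, hpq, hs, hq⟩

end construct

/-! ### Consequences -/

theorem modEq_of_dvd_add {m a a' : ℕ} (hm : 0 < m) (h : m ∣ a + a' * (m - 1)) : a ≡ a' [MOD m] := by
  have h1 : a + a' * (m - 1) + a' = a + a' * m := by
    obtain ⟨m', rfl⟩ : ∃ m', m = m' + 1 := ⟨m - 1, by omega⟩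
    simp only [Nat.add_sub_cancel]
    ring
  have h2 : a + a' * (m - 1) + a' ≡ a' [MOD m] := by
    have := (Nat.modEq_zero_iff_dvd.2 h).add_right a'
    simpa using this
  have h3 : a + a' * m ≡ a [MOD m] := by
    simp [Nat.ModEq, Nat.add_mul_mod_self_right]
  rw [h1] at h2
  exact h3.symm.trans h2

namespace PresC

variable {S : Subgroup Ω} {x y c : Ω} {s q : ℕ}

omit hp in
theorem he (P : PresC p s q S x y c) : y ^ (s * q) = 1 := by
  obtain ⟨r, hr⟩ := P.hpq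
  rw [hr, show s * (p * r) = p * (s * r) by ring, pow_mul, P.yp, one_pow]

omit hp in
theorem yq (P : PresC p s q S x y c) : y ^ q = 1 := by
  obtain ⟨r, hr⟩ := P.hpq
  rw [hr, pow_mul, P.yp, one_pow]

theorem hp_pos (P : PresC p s q S x y c) : 0 < p * q := Nat.mul_pos hp.out.pos P.hq

/-- Independence in `⟨y⟩⟨c⟩`. -/
theorem ind_eq (P : PresC p s q S x y c) {a b a' b' : ℕ} (h : y ^ a * c ^ b = y ^ a' * c ^ b') :
    a ≡ a' [MOD p] ∧ b ≡ b' [MOD p * q] := by
  have hp0 := hp.out.pos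
  have hm := P.hp_pos
  have h1 : y ^ a' * y ^ (a' * (p - 1)) = 1 := by
    have h0 : 1 + (p - 1) = p := by omega
    rw [← pow_add, mul_comm a', ← one_add_mul, h0, pow_mul, P.yp, one_pow]
  have h2 : c ^ b' * c ^ (b' * (p * q - 1)) = 1 := by
    have h0 : 1 + (p * q - 1) = p * q := by omega
    rw [← pow_add, mul_comm b', ← one_add_mul, h0, pow_mul, P.cp, one_pow]
  have h3 : y ^ (a + a' * (p - 1)) * c ^ (b + b' * (p * q - 1)) = 1 := by
    rw [← mulA P.yc, h, mulA P.yc, pow_add y a', h1, pow_add c b', h2, one_mul]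
  have h4 := P.ind 0 _ _ (by rw [pow_zero, one_mul]; exact h3)
  exact ⟨modEq_of_dvd_add hp0 h4.2.1, modEq_of_dvd_add hm h4.2.2⟩

/-- Independence in `⟨c⟩`. -/
theorem c_ind (P : PresC p s q S x y c) {b b' : ℕ} (h : c ^ b = c ^ b') : b ≡ b' [MOD p * q] :=
  (P.ind_eq (a := 0) (a' := 0) (by rw [pow_zero, one_mul, one_mul]; exact h)).2

/-- Independence of the central element `c^(sq)`. -/
theorem z_ind (P : PresC p s q S x y c) {a b : ℕ} (h : c ^ (s * q * a) = c ^ (s * q * b)) : (a : ZMod p) = b := by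
  have h1 := P.c_ind h
  have h2 : q * (s * a) ≡ q * (s * b) [MOD q * p] := by
    have e1 : q * (s * a) = s * q * a := by ring
    have e2 : q * (s * b) = s * q * b := by ring
    rw [e1, e2, mul_comm q p]
    exact h1
  have h3 : s * a ≡ s * b [MOD p] := Nat.ModEq.mul_left_cancel' P.hq.ne' h2
  rw [← ZMod.natCast_eq_natCast_iff] at h3
  push_cast at h3
  have hs0 : (s : ZMod p) ≠ 0 := by
    rw [Ne, ZMod.natCast_eq_zero_iff]
    exact P.hs
  exact mul_left_cancel₀ hs0 h3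

end PresC

end Cfsg.Agent.Lib.Fusion.RankFivePres
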