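import Cfsg.Agent.Lib.Fusion.RankFivePlane
import Cfsg.Agent.Lib.Fusion.Saturation

/-!
# The third family: structure lemmas, and extension of maps
-/

set_option autoImplicit false
set_option linter.unusedSectionVars false

namespace Cfsg.Agent.Lib.Fusion.RankFiveStruct

open Subgroup Cfsg Cfsg.FusionSystem Cfsg.Agent.Lib.Fusion.Basic Cfsg.Agent.Lib.Fusion.Saturation
open Cfsg.Agent.Lib.Fusion.RankFivePres Cfsg.Agent.Lib.Fusion.RankFiveFinal

variable {Ω : Type*} [Group Ω] {p : ℕ} [hp : Fact p.Prime] {S : Subgroup Ω} {x y c : Ω} {s q : ℕ}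

/-! ### Extension of maps -/

omit hp in
theorem normAct_pow_apply {E : Subgroup Ω} {g : Ω} (hg : g ∈ Subgroup.normalizer (E : Set Ω)) (k : ℕ) (f : E) :
    (((normAct E hg) ^ k) f : Ω) = g ^ k * f * (g ^ k)⁻¹ := by
  induction k generalizing f with
  | zero => simp
  | succ k ih =>
    rw [pow_succ', MulAut.mul_apply, normAct_apply, ih, pow_succ']
    group

omit hp in
theorem mem_extender_of_rel {E : Subgroup Ω} (hES : E ≤ S) {τ : MulAut E} {g : Ω} (hgS : g ∈ S)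
    (hgN : g ∈ Subgroup.normalizer (E : Set Ω)) {r : E} {m : ℕ}
    (hr : τ * normAct E hgN * τ⁻¹ = MulAut.conj r * (normAct E hgN) ^ m) : g ∈ extender S E (autHom τ) := by
  apply mem_extender_of (autHom τ) hgS hgN (h := (r : Ω) * g ^ m) (S.mul_mem (hES r.2) (S.pow_mem hgS m))
  intro f
  have e1 : (⟨g * f * g⁻¹, (Subgroup.mem_normalizer_iff.1 hgN f).1 f.2⟩ : E) = normAct E hgN f := rfl
  rw [e1, autHom_apply, autHom_apply]
  have h1 : τ (normAct E hgN f) = (τ * normAct E hgN * τ⁻¹) (τ f) := by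
    simp [MulAut.mul_apply]
  rw [h1, hr, MulAut.mul_apply, MulAut.conj_apply]
  push_cast
  rw [normAct_pow_apply]
  group

omit hp in
theorem mem_normalizer_of_conj_mem {E : Subgroup Ω} {g : Ω} (h1 : ∀ f ∈ E, g * f * g⁻¹ ∈ E)
    (h2 : ∀ f ∈ E, g⁻¹ * f * g ∈ E) : g ∈ Subgroup.normalizer (E : Set Ω) := by
  rw [Subgroup.mem_normalizer_iff]
  intro f
  refine ⟨h1 f, fun hf => ?_⟩
  have := h2 _ hf
  simpa [mul_assoc] using this

/-! ### Structure -/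

namespace PresLemmas

omit hp in
theorem comm_y_cpow (P : PresC p s q S x y c) (k : ℕ) : Commute (c ^ k) y := (P.yc.pow_right k).symm

omit hp in
/-- Powers `c^k` with `p ∣ k` are central. -/
theorem comm_cpow (P : PresC p s q S x y c) {k : ℕ} (hk : p ∣ k) {g : Ω} (hg : g ∈ S) : Commute (c ^ k) g := by
  have hyk : y ^ k = 1 := by
    obtain ⟨r, rfl⟩ := hk
    rw [pow_mul, P.yp, one_pow]
  have hx : Commute (c ^ k) x := cj_eq_self_iff.1 (cj_cpow P.yc P.r2 hyk)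
  obtain ⟨i, j, l, rfl⟩ := P.nf g hg
  exact ((hx.pow_right i).mul_right ((comm_y_cpow P k).pow_right j)).mul_right ((Commute.refl c).pow_pow k l)

omit hp in
theorem inA_y (h : Commute y c) (a : ℕ) : InA y c (y ^ a) := ⟨a, 0, by simp⟩

omit hp in
theorem inA_c (h : Commute y c) (a : ℕ) : InA y c (c ^ a) := ⟨0, a, by simp⟩

theorem inA_inv (P : PresC p s q S x y c) {g : Ω} (hg : InA y c g) : InA y c g⁻¹ :=
  InA.inv P.yc P.yp hp.out.pos P.cp (Nat.mul_pos hp.out.pos P.hq) hg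

/-- `x` normalizes `⟨y⟩⟨c⟩`. -/
theorem inA_cj (P : PresC p s q S x y c) {g : Ω} (hg : InA y c g) : InA y c (cj x g) :=
  InA.cj P.yc ⟨1, s * q, by rw [P.r1, pow_one]⟩ ⟨1, 1, by rw [P.r2, pow_one, pow_one]⟩ hg

omit hp in
/-- Multiplying by an element of `⟨y⟩⟨c⟩` does not change the action on it. -/
theorem cj_mul_of_inA (hyc : Commute y c) {u a₀ g : Ω} (ha₀ : InA y c a₀) (hg : InA y c (cj u g)) :
    cj (u * a₀) g = cj u g := by
  rw [cj_mul]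
  exact cj_eq_self_iff.2 (InA.comm hyc hg ha₀)

omit hp in
/-- The relations survive. -/
theorem rel_of_mul (P : PresC p s q S x y c) {a₀ : Ω} (ha₀ : InA y c a₀) :
    cj (x * a₀) y = y * c ^ (s * q) ∧ cj (x * a₀) c = y * c := by
  constructor
  · rw [cj_mul_of_inA P.yc ha₀ ⟨1, s * q, by rw [P.r1, pow_one]⟩, P.r1]
  · rw [cj_mul_of_inA P.yc ha₀ ⟨1, 1, by rw [P.r2, pow_one, pow_one]⟩, P.r2]

omit hp in
/-- Powers of a product. -/
theorem pow_mul_A (hyc : Commute y c) {u a₀ : Ω} (h1 : InA y c (cj u y)) (h2 : InA y c (cj u c))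
    (ha₀ : InA y c a₀) (i : ℕ) : ∃ a₁, InA y c a₁ ∧ (u * a₀) ^ i = u ^ i * a₁ := by
  induction i with
  | zero => exact ⟨1, ⟨0, 0, by simp⟩, by simp⟩
  | succ i ih =>
    obtain ⟨a₁, ha₁, h⟩ := ih
    refine ⟨cj u a₁ * a₀, (InA.cj hyc h1 h2 ha₁).mul hyc ha₀, ?_⟩
    rw [pow_succ, h, pow_succ, cj_apply]
    group

omit hp in
theorem inA_cj_pow (P : PresC p s q S x y c) (i : ℕ) : InA y c (cj (x ^ i) y) ∧ InA y c (cj (x ^ i) c) := by
  induction i with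
  | zero => exact ⟨⟨1, 0, by simp⟩, ⟨0, 1, by simp⟩⟩
  | succ i ih =>
    rw [cj_pow_succ, cj_pow_succ]
    have hh : ∀ g, InA y c g → InA y c (cj x g) := fun g hg =>
      InA.cj P.yc ⟨1, s * q, by rw [P.r1, pow_one]⟩ ⟨1, 1, by rw [P.r2, pow_one, pow_one]⟩ hg
    exact ⟨hh _ ih.1, hh _ ih.2⟩

/-- A power of an element outside `⟨y⟩⟨c⟩` lies in `x ⟨y⟩⟨c⟩`. -/
theorem exists_power (P : PresC p s q S x y c) {i : ℕ} (hi : ¬ p ∣ i) {a : Ω} (ha : InA y c a) :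
    ∃ (m : ℕ) (a₁ : Ω), InA y c a₁ ∧ (x ^ i * a) ^ m = x * a₁ := by
  obtain ⟨m, hm⟩ := exists_inv_mod hi
  obtain ⟨a₁, ha₁, h⟩ := pow_mul_A P.yc (inA_cj_pow P i).1 (inA_cj_pow P i).2 ha m
  refine ⟨m, a₁, ha₁, ?_⟩
  rw [h, ← pow_mul, pow_congr_mod P.xp hm, pow_one]

/-- Moving between `x` and `x a₀`. -/
theorem pow_eq_of_mul (P : PresC p s q S x y c) {a₀ : Ω} (ha₀ : InA y c a₀) (i : ℕ) :
    ∃ a₁, InA y c a₁ ∧ x ^ i = (x * a₀) ^ i * a₁ := by
  have h := rel_of_mul P ha₀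
  have hinv := inA_inv P ha₀
  have e : x = (x * a₀) * a₀⁻¹ := by group
  have := pow_mul_A P.yc (u := x * a₀) ⟨1, s * q, by rw [h.1, pow_one]⟩ ⟨1, 1, by rw [h.2, pow_one, pow_one]⟩ hinv i
  rw [← e] at this
  exact this

/-- The structure for `x a₀` when it has order dividing `p`. -/
theorem change (P : PresC p s q S x y c) {a₀ : Ω} (ha₀ : InA y c a₀) (hS0 : a₀ ∈ S) (hp1 : (x * a₀) ^ p = 1) :
    PresC p s q S (x * a₀) y c := by
  have h := rel_of_mul P ha₀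
  refine ⟨S.mul_mem P.hx hS0, P.hy, P.hc, hp1, P.yp, P.cp, P.yc, h.1, h.2, ?_, ?_, P.hpq, P.hs, P.hq⟩
  · intro g hg
    obtain ⟨i, j, k, rfl⟩ := P.nf g hg
    obtain ⟨a₁, ha₁, hx⟩ := pow_eq_of_mul P ha₀ i
    obtain ⟨a, b, hab⟩ := ha₁.mul P.yc (⟨j, k, rfl⟩ : InA y c (y ^ j * c ^ k))
    refine ⟨i, a, b, ?_⟩
    calc x ^ i * y ^ j * c ^ k = (x * a₀) ^ i * (a₁ * (y ^ j * c ^ k)) := by rw [hx]; simp only [mul_assoc]
      _ = (x * a₀) ^ i * y ^ a * c ^ b := by rw [hab, mul_assoc]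
  · intro i j k hk
    obtain ⟨a₁, ha₁, hx⟩ := pow_mul_A P.yc ⟨1, s * q, by rw [P.r1, pow_one]⟩ ⟨1, 1, by rw [P.r2, pow_one, pow_one]⟩ ha₀ i
    obtain ⟨a, b, hab⟩ := ha₁.mul P.yc (⟨j, k, rfl⟩ : InA y c (y ^ j * c ^ k))
    have h1 : x ^ i * y ^ a * c ^ b = 1 := by
      rw [← hk, hx, mul_assoc (x ^ i), ← hab]
      simp only [mul_assoc]
    have h2 := (P.ind i a b h1).1
    have h3 : (x * a₀) ^ i = 1 := by
      obtain ⟨r, rfl⟩ := h2
      rw [pow_mul, hp1, one_pow]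
    rw [h3, one_mul] at hk
    have h4 := P.ind 0 j k (by rw [pow_zero, one_mul]; exact hk)
    exact ⟨h2, h4.2⟩

end PresLemmas

end Cfsg.Agent.Lib.Fusion.RankFiveStruct
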