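import Cfsg.Agent.Lib.Fusion.SmallEssentialCube

/-!
# Essential subgroups of order `p ^ 4`
-/

set_option autoImplicit false
set_option linter.unusedSectionVars false

namespace Cfsg.Agent.Lib.Fusion.SmallEssentialFour

open Cfsg Cfsg.Agent.Lib.Fusion.SmallEssential Cfsg.Agent.Lib.Fusion.SmallEssentialAb
open Cfsg.Agent.Lib.Fusion.SmallEssentialCube
open Cfsg.Agent.Lib.PGroups.Special Cfsg.Agent.Lib.PGroups.Basic
open Subgroup
open scoped commutatorElement

universe u

variable {p : ℕ} [hp : Fact p.Prime]

section counting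

variable {G : Type*} [Group G] [Finite G]

theorem card_eq_relIndex_mul {H K : Subgroup G} (h : H ≤ K) : Nat.card K = H.relIndex K * Nat.card H := by
  have h1 := relIndex_mul_relIndex (⊥ : Subgroup G) H K bot_le h
  rw [relIndex_bot_left, relIndex_bot_left] at h1
  rw [← h1, mul_comm]

theorem ne_top_or_index {H : Subgroup G} (hi : H.index = p) : H ≠ ⊤ := by
  rintro rfl
  rw [index_top] at hi
  exact hp.out.one_lt.ne hi

end counting

section abelian

variable {B : Type*} [CommGroup B] [Finite B]

/-- An abelian `p`-group of order `p ^ 4` whose Frattini subgroup has order `p`. -/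
theorem equiv_of_frattini_card (hB : IsPGroup p B) (hc : Nat.card B = p ^ 4) (hΦ : Nat.card (frattini B) = p) :
    Nonempty (B ≃* Multiplicative (ZMod (p ^ 2) × ZMod p × ZMod p)) := by
  have hp0 := hp.out
  haveI : NeZero p := ⟨hp0.ne_zero⟩
  haveI : NeZero (p ^ 2) := ⟨pow_ne_zero _ hp0.ne_zero⟩
  have hran := frattini_eq_range hB
  let W : Subgroup B := (powMonoidHom p : B →* B).ker
  have hW : W.index = p := by
    rw [index_ker, ← hran, hΦ]
  have hmemW : ∀ x : B, x ∈ W ↔ x ^ p = 1 := fun x => by
    simp [W, MonoidHom.mem_ker]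
  have hle : frattini B ≤ W := by
    intro z hz
    rw [hmemW]
    have := pow_card_eq_one' (x := (⟨z, hz⟩ : frattini B))
    rw [hΦ] at this
    simpa using congrArg Subtype.val this
  have hcW : Nat.card W = p ^ 3 := by
    have h1 := card_mul_index W
    rw [hW, hc] at h1
    apply Nat.eq_of_mul_eq_mul_right hp0.pos
    rw [h1]
    ring
  have hlt : frattini B < W := by
    refine lt_of_le_of_ne hle ?_
    intro h
    rw [h, hcW] at hΦ
    have : p ^ 3 = p ^ 1 := by rw [hΦ, pow_one]
    have := Nat.pow_right_injective hp0.two_le this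
    omega
  obtain ⟨W2, -, h1, h2, h3⟩ := exists_normal_relIndex_above hB hlt
  have h2' : Nat.card W2 = p ^ 2 := by
    rw [card_eq_relIndex_mul h1, h3, hΦ]
    ring
  have hr2 : W2.relIndex W = p := by
    have h4 := card_eq_relIndex_mul h2
    rw [hcW, h2'] at h4
    apply Nat.eq_of_mul_eq_mul_right (pow_pos hp0.pos 2)
    rw [← h4]
    ring
  -- the elements
  obtain ⟨a, ha⟩ : ∃ a : B, a ∉ W := by
    by_contra hcon
    push Not at hcon
    exact ne_top_or_index hW (eq_top_iff.2 fun x _ => hcon x)
  obtain ⟨c, hcW', hc2⟩ : ∃ c ∈ W, c ∉ W2 := by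
    by_contra hcon
    push Not at hcon
    have := Nat.le_of_dvd (by rw [h2']; exact pow_pos hp0.pos 2) (Subgroup.card_dvd_of_le hcon)
    rw [hcW, h2'] at this
    have := (Nat.pow_le_pow_iff_right hp0.one_lt).1 this
    omega
  obtain ⟨b, hbW2, hbΦ⟩ : ∃ b ∈ W2, b ∉ frattini B := by
    by_contra hcon
    push Not at hcon
    have := Nat.le_of_dvd (by rw [hΦ]; exact hp0.pos) (Subgroup.card_dvd_of_le hcon)
    rw [hΦ, h2'] at this
    have h4 : p ^ 2 ≤ p ^ 1 := by rwa [pow_one]
    have := (Nat.pow_le_pow_iff_right hp0.one_lt).1 h4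
    omega
  have hap : a ^ p ≠ 1 := fun h => ha ((hmemW a).2 h)
  have hapΦ : a ^ p ∈ frattini B := pow_mem_frattini hB a
  have hap2 : (a ^ p) ^ p = 1 := (hmemW _).1 (hle hapΦ)
  have hoa : orderOf a = p ^ 2 := by
    apply orderOf_eq_prime_pow (p := p) (n := 1)
    · rwa [pow_one]
    · rw [← pow_mul, ← sq] at hap2
      exact hap2
  have hob : orderOf b = p := by
    apply orderOf_eq_prime
    · exact (hmemW b).1 (h2 hbW2)
    · rintro rfl
      exact hbΦ (one_mem _)
  have hoc : orderOf c = p := by
    apply orderOf_eq_prime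
    · exact (hmemW c).1 hcW'
    · rintro rfl
      exact hc2 (one_mem _)
  have pow_val_add : ∀ (n : ℕ) [NeZero n] (w : B), orderOf w = n → ∀ x y : ZMod n,
      w ^ (x + y).val = w ^ x.val * w ^ y.val := by
    intro n _ w hw x y
    rw [← pow_add, ZMod.val_add]
    have h := pow_mod_orderOf w (x.val + y.val)
    rw [hw] at h
    exact h
  have key : ∀ (n : ℕ) [NeZero n] (w : B), orderOf w = n → ∀ k : ℕ, w ^ ((k : ZMod n)).val = w ^ k := by
    intro n _ w hw k
    rw [ZMod.val_natCast, ← hw, pow_mod_orderOf]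
  let F : Multiplicative (ZMod (p ^ 2) × ZMod p × ZMod p) →* B := MonoidHom.mk'
    (fun q => a ^ (Multiplicative.toAdd q).1.val * b ^ (Multiplicative.toAdd q).2.1.val *
      c ^ (Multiplicative.toAdd q).2.2.val) (by
      intro s t
      show a ^ ((Multiplicative.toAdd s).1 + (Multiplicative.toAdd t).1).val *
        b ^ ((Multiplicative.toAdd s).2.1 + (Multiplicative.toAdd t).2.1).val *
        c ^ ((Multiplicative.toAdd s).2.2 + (Multiplicative.toAdd t).2.2).val = _
      rw [pow_val_add _ a hoa, pow_val_add _ b hob, pow_val_add _ c hoc]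
      ac_rfl)
  have hsurj : Function.Surjective F := by
    intro y
    have hn : ∀ N : Subgroup B, N.Normal := fun N => inferInstance
    obtain ⟨m, hm⟩ := exists_pow_of_relIndex (p := p) (hn W) (mem_top a) ha (by rw [relIndex_top_right]; exact hW) y (mem_top y)
    obtain ⟨n, hn1⟩ := exists_pow_of_relIndex (p := p) (hn W2) hcW' hc2 hr2 _ hm
    obtain ⟨l, hl⟩ := exists_pow_of_relIndex (p := p) (hn (frattini B)) hbW2 hbΦ h3 _ hn1
    obtain ⟨s, hs⟩ := exists_pow_of_relIndex (p := p) (hn ⊥) hapΦ (by simpa using hap)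
      (by rw [relIndex_bot_left]; exact hΦ) _ hl
    have hy : y = a ^ (p * s + m) * b ^ l * c ^ n := by
      have h5 : y * (a ^ m)⁻¹ * (c ^ n)⁻¹ * (b ^ l)⁻¹ * ((a ^ p) ^ s)⁻¹ = 1 := hs
      rw [pow_add, pow_mul]
      calc y = y * (a ^ m)⁻¹ * (c ^ n)⁻¹ * (b ^ l)⁻¹ * ((a ^ p) ^ s)⁻¹ * ((a ^ p) ^ s * a ^ m * b ^ l * c ^ n) := by
            rw [mul_assoc, mul_assoc, mul_assoc, mul_assoc]
            simp only [mul_assoc]
            rw [mul_comm (c ^ n)⁻¹, mul_assoc, mul_comm (b ^ l)⁻¹]
            simp [mul_comm, mul_left_comm, mul_assoc]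
        _ = _ := by rw [h5, one_mul]
    refine ⟨Multiplicative.ofAdd (((p * s + m : ℕ) : ZMod (p ^ 2)), (l : ZMod p), (n : ZMod p)), ?_⟩
    change a ^ (((p * s + m : ℕ) : ZMod (p ^ 2))).val * b ^ ((l : ZMod p)).val * c ^ ((n : ZMod p)).val = _
    rw [key _ a hoa, key _ b hob, key _ c hoc, ← hy]
  have hcard : Nat.card (Multiplicative (ZMod (p ^ 2) × ZMod p × ZMod p)) = Nat.card B := by
    rw [hc, Nat.card_congr Multiplicative.toAdd, Nat.card_prod, Nat.card_prod, Nat.card_zmod, Nat.card_zmod]
    ring
  exact ⟨(MulEquiv.ofBijective F ((Nat.bijective_iff_surjective_and_card F).2 ⟨hsurj, hcard⟩)).symm⟩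

end abelian

section rankTwo

variable {V : Type u} [Group V] [Finite V]

theorem frattini_index_of_card (hc : Nat.card V = p ^ 4) {k l : ℕ} (hkl : k + l = 4) (hΦ : Nat.card (frattini V) = p ^ k) :
    (frattini V).index = p ^ l := by
  have h1 := card_mul_index (frattini V)
  rw [hΦ, hc, ← hkl, pow_add] at h1
  exact Nat.eq_of_mul_eq_mul_left (pow_pos hp.out.pos k) h1

/-- The Frattini subgroup of order `p ^ 2` is not central: its centralizer is an invariant maximal subgroup. -/
theorem false_of_noncentral (hV : IsPGroup p V) {X : Subgroup (MulAut V)} (hX : EssAut p X)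
    (hc : Nat.card V = p ^ 4) (hΦ : Nat.card (frattini V) = p ^ 2) (hnc : ¬ frattini V ≤ center V) : False := by
  have hp0 := hp.out
  have hΦne : frattini V ≠ ⊥ := by
    intro h
    rw [h, card_bot] at hΦ
    exact (Nat.one_lt_pow (by norm_num) hp0.one_lt).ne hΦ
  obtain ⟨z0, hz0, hz0c, hz0o⟩ := exists_central_orderOf_eq hV (frattini V) hΦne
  let T : Subgroup V := frattini V ⊓ center V
  haveI hTn : T.Normal := inferInstance
  have hTΦ : T ≤ frattini V := inf_le_left
  have hcT : Nat.card T = p := by
    have h1 : Nat.card T ∣ p ^ 2 := by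
      rw [← hΦ]
      exact card_dvd_of_le hTΦ
    obtain ⟨k, hk2, hk⟩ := (Nat.dvd_prime_pow hp0).1 h1
    have hk0 : k ≠ 0 := by
      rintro rfl
      rw [pow_zero, card_eq_one] at hk
      have : z0 ∈ T := ⟨hz0, hz0c⟩
      rw [hk] at this
      have h2 : z0 = 1 := this
      rw [h2, orderOf_one] at hz0o
      exact hp0.one_lt.ne hz0o
    have hk2' : k ≠ 2 := by
      rintro rfl
      have h3 : T = frattini V := eq_of_le_of_card_ge hTΦ (by rw [hk, hΦ])
      apply hnc
      rw [← h3]
      exact inf_le_right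
    have : k = 1 := by omega
    rw [hk, this, pow_one]
  obtain ⟨t, htΦ, htT⟩ : ∃ t ∈ frattini V, t ∉ center V := by
    by_contra hcon
    push Not at hcon
    exact hnc hcon
  have htT' : t ∉ T := fun h => htT h.2
  have hrel : T.relIndex (frattini V) = p := by
    have h1 := card_eq_relIndex_mul hTΦ
    rw [hΦ, hcT] at h1
    apply Nat.eq_of_mul_eq_mul_right hp0.pos
    rw [← h1]
    ring
  -- `Φ / T` is central
  let π := QuotientGroup.mk' T
  have hmapc : Nat.card ((frattini V).map π) = p := by
    rw [← relIndex_bot_left, ← relIndex_comap]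
    have : (⊥ : Subgroup (V ⧸ T)).comap π = T := by
      rw [MonoidHom.comap_bot, QuotientGroup.ker_mk']
    rw [this, hrel]
  haveI hmapn : ((frattini V).map π).Normal :=
    Subgroup.Normal.map inferInstance π (QuotientGroup.mk'_surjective T)
  have hQ : IsPGroup p (V ⧸ T) := hV.to_quotient T
  have hmapcen := le_center_of_card_eq hQ ((frattini V).map π) hmapc
  have hcomT : ∀ v : V, ⁅v, t⁆ ∈ T := by
    intro v
    have h1 : π t ∈ center (V ⧸ T) := hmapcen ⟨t, htΦ, rfl⟩
    have h2 : π ⁅v, t⁆ = 1 := by
      rw [map_commutatorElement]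
      exact commutatorElement_eq_one_iff_commute.2 ((mem_center_iff.1 h1) (π v))
    have h3 : ⁅v, t⁆ ∈ π.ker := h2
    rwa [QuotientGroup.ker_mk'] at h3
  let f : V →* T := MonoidHom.mk' (fun v => (⟨⁅v, t⁆, hcomT v⟩ : T)) (by
    intro v w
    ext
    show ⁅v * w, t⁆ = ⁅v, t⁆ * ⁅w, t⁆
    have h1 : ⁅w, t⁆ ∈ center V := (hcomT w).2
    have h2 : w * t * w⁻¹ = ⁅w, t⁆ * t := by
      simp [commutatorElement_def]
    have h3 : ⁅v * w, t⁆ = v * (w * t * w⁻¹) * v⁻¹ * t⁻¹ := by
      simp [commutatorElement_def, mul_assoc]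
    rw [h3, h2]
    have h4 : v * (⁅w, t⁆ * t) * v⁻¹ * t⁻¹ = ⁅w, t⁆ * (v * t * v⁻¹ * t⁻¹) := by
      have h5 : v * ⁅w, t⁆ = ⁅w, t⁆ * v := (mem_center_iff.1 h1) v
      calc v * (⁅w, t⁆ * t) * v⁻¹ * t⁻¹ = (v * ⁅w, t⁆) * t * v⁻¹ * t⁻¹ := by group
        _ = ⁅w, t⁆ * (v * t * v⁻¹ * t⁻¹) := by rw [h5]; group
    rw [h4]
    exact ((mem_center_iff.1 h1) ⁅v, t⁆).symm)
  have hfker : ∀ v : V, v ∈ f.ker ↔ v * t = t * v := by
    intro v
    rw [MonoidHom.mem_ker, Subtype.ext_iff]
    show ⁅v, t⁆ = 1 ↔ _
    exact commutatorElement_eq_one_iff_mul_comm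
  have hgen : ∀ z ∈ frattini V, ∃ m : ℕ, z * (t ^ m)⁻¹ ∈ T := fun z hz =>
    exists_pow_of_relIndex (p := p) hTn htΦ htT' hrel z hz
  have hcomΦ : ∀ v ∈ f.ker, ∀ z ∈ frattini V, v * z = z * v := by
    intro v hv z hz
    obtain ⟨m, hm⟩ := hgen z hz
    have h1 : Commute v t := (hfker v).1 hv
    have h2 : Commute v (z * (t ^ m)⁻¹) := (mem_center_iff.1 hm.2) v
    have h3 : z = z * (t ^ m)⁻¹ * t ^ m := by group
    rw [h3]
    exact (h2.mul_right (h1.pow_right m)).eq
  have hΦle : frattini V ≤ f.ker := by
    intro z hz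
    rw [hfker]
    obtain ⟨m, hm⟩ := hgen z hz
    have h2 : Commute t (z * (t ^ m)⁻¹) := (mem_center_iff.1 hm.2) t
    have h3 : z = z * (t ^ m)⁻¹ * t ^ m := by group
    have h4 : Commute t z := by
      rw [h3]
      exact h2.mul_right ((Commute.refl t).pow_right m)
    exact h4.symm.eq
  have hidx : f.ker.index = p := by
    have h1 : f.ker.index ∣ p := by
      rw [index_ker, ← hcT]
      exact card_subgroup_dvd_card _
    rcases (Nat.dvd_prime hp0).1 h1 with h2 | h2
    · exfalso
      rw [index_eq_one] at h2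
      apply htT
      rw [mem_center_iff]
      intro g
      have : g ∈ f.ker := by rw [h2]; trivial
      exact (hfker g).1 this
    · exact h2
  have hΦi : (frattini V).index = p ^ 2 := frattini_index_of_card hc (by norm_num) hΦ
  have hrel2 : (frattini V).relIndex f.ker = p := by
    have h1 := relIndex_mul_index hΦle
    rw [hidx, hΦi] at h1
    apply Nat.eq_of_mul_eq_mul_right hp0.pos
    rw [h1]
    ring
  refine false_of_chain2 hV hX hΦle ?_ hidx hrel2
  intro ρ _ y hy
  rw [hfker]
  have h1 : ρ⁻¹ t ∈ frattini V := char_map_mem ρ⁻¹ htΦ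
  have h2 := hcomΦ y hy _ h1
  have h3 := congrArg ρ h2
  simpa using h3

/-- Central Frattini subgroup of order `p ^ 2` in a non-abelian group of order `p ^ 4`: the derived subgroup has order `p`. -/
theorem card_commutator_of_central (hV : IsPGroup p V)
    (hc : Nat.card V = p ^ 4) (hΦ : Nat.card (frattini V) = p ^ 2) (hcen : frattini V ≤ center V)
    (hna : ∃ a b : V, a * b ≠ b * a) : Nat.card (commutator V) = p := by
  have hp0 := hp.out
  have hcomm : ∀ a b : V, ⁅a, b⁆ ∈ center V := fun a b =>
    hcen (commutator_le_frattini hV (commutator_mem_commutator (mem_top a) (mem_top b)))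
  have hΦi : (frattini V).index = p ^ 2 := frattini_index_of_card hc (by norm_num) hΦ
  have hlt : frattini V < ⊤ := by
    refine lt_top_iff_ne_top.2 ?_
    intro h
    rw [h, index_top] at hΦi
    exact (Nat.one_lt_pow (by norm_num) hp0.one_lt).ne hΦi
  obtain ⟨M, hMn, hΦM, -, hrel⟩ := exists_normal_relIndex_above hV hlt
  have hMi : M.index = p := by
    have h1 := relIndex_mul_index hΦM
    rw [hrel, hΦi] at h1
    apply Nat.eq_of_mul_eq_mul_left hp0.pos
    rw [h1]
    ring
  obtain ⟨x, hxM, hxΦ⟩ : ∃ x ∈ M, x ∉ frattini V := by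
    by_contra hcon
    push Not at hcon
    have h1 : frattini V = M := le_antisymm hΦM hcon
    rw [h1, relIndex_self] at hrel
    exact hp0.one_lt.ne hrel
  have hgen : ∀ m ∈ M, ∃ k : ℕ, m * (x ^ k)⁻¹ ∈ frattini V := fun m hm =>
    exists_pow_of_relIndex (p := p) inferInstance hxM hxΦ hrel m hm
  let f : V →* center V := commHomRight hcomm x
  have hMker : M ≤ f.ker := by
    intro m hm
    obtain ⟨k, hk⟩ := hgen m hm
    rw [MonoidHom.mem_ker, Subtype.ext_iff]
    show ⁅x, m⁆ = 1
    have h2 : Commute x (m * (x ^ k)⁻¹) := (mem_center_iff.1 (hcen hk)) x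
    have h3 : m = m * (x ^ k)⁻¹ * x ^ k := by group
    rw [commutatorElement_eq_one_iff_commute, h3]
    exact h2.mul_right ((Commute.refl x).pow_right k)
  have hfr : Nat.card f.range ∣ p := by
    rw [← index_ker, ← hMi]
    exact index_dvd_of_le hMker
  let R : Subgroup V := f.range.map (center V).subtype
  have hRc : R ≤ center V := by
    rintro _ ⟨⟨y, hy⟩, -, rfl⟩
    exact hy
  haveI hRn : R.Normal := by
    constructor
    intro n hn g
    have h1 := (mem_center_iff.1 (hRc hn)) g
    rw [h1]
    simpa using hn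
  have hcR : Nat.card R ∣ p := by
    have : Nat.card R = Nat.card f.range := Nat.card_congr
      (Subgroup.equivMapOfInjective _ _ (center V).subtype_injective).symm.toEquiv
    rw [this]
    exact hfr
  have hcomR : ∀ g : V, ⁅x, g⁆ ∈ R := by
    intro g
    exact ⟨f g, ⟨g, rfl⟩, rfl⟩
  let π := QuotientGroup.mk' R
  let K : Subgroup V := (center (V ⧸ R)).comap π
  have hxK : x ∈ K := by
    show π x ∈ center (V ⧸ R)
    rw [mem_center_iff]
    intro q
    obtain ⟨g, rfl⟩ := QuotientGroup.mk'_surjective R q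
    have h1 : π ⁅x, g⁆ = 1 := by
      have : ⁅x, g⁆ ∈ π.ker := by rw [QuotientGroup.ker_mk']; exact hcomR g
      exact this
    rw [map_commutatorElement, commutatorElement_eq_one_iff_commute] at h1
    exact h1.symm.eq
  have hΦK : frattini V ≤ K := by
    intro y hy
    show π y ∈ center (V ⧸ R)
    rw [mem_center_iff]
    intro q
    obtain ⟨g, rfl⟩ := QuotientGroup.mk'_surjective R q
    rw [← map_mul, ← map_mul, (mem_center_iff.1 (hcen hy)) g]
  have hMK : M ≤ K := by
    intro m hm
    obtain ⟨k, hk⟩ := hgen m hm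
    have h3 : m = m * (x ^ k)⁻¹ * x ^ k := by group
    rw [h3]
    exact K.mul_mem (hΦK hk) (K.pow_mem hxK k)
  have hKi : (center (V ⧸ R)).index ∣ p := by
    have : (center (V ⧸ R)).index = K.index :=
      (index_comap_of_surjective _ (QuotientGroup.mk'_surjective R)).symm
    rw [this, ← hMi]
    exact index_dvd_of_le hMK
  have hcyc : IsCyclic ((V ⧸ R) ⧸ center (V ⧸ R)) := by
    rcases (Nat.dvd_prime hp0).1 hKi with h2 | h2
    · have h3 : Nat.card ((V ⧸ R) ⧸ center (V ⧸ R)) = 1 := by rw [← index_eq_card]; exact h2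
      have : Subsingleton ((V ⧸ R) ⧸ center (V ⧸ R)) := (Nat.card_eq_one_iff_unique.1 h3).1
      infer_instance
    · have h3 : Nat.card ((V ⧸ R) ⧸ center (V ⧸ R)) = p := by rw [← index_eq_card]; exact h2
      haveI : Fact (Nat.card ((V ⧸ R) ⧸ center (V ⧸ R))).Prime := ⟨by rw [h3]; exact hp0⟩
      exact isCyclic_of_prime_card rfl
  have hcl : ∀ a b : V ⧸ R, a * b = b * a := by
    letI := commGroupOfCyclicCenterQuotient (QuotientGroup.mk' (center (V ⧸ R))) (by simp)
    exact mul_comm
  have hcomle : commutator V ≤ R := by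
    rw [_root_.commutator_def, commutator_le]
    intro g _ h _
    have h1 : π ⁅g, h⁆ = 1 := by
      rw [map_commutatorElement, commutatorElement_eq_one_iff_commute]
      exact hcl _ _
    have h2 : ⁅g, h⁆ ∈ π.ker := h1
    rwa [QuotientGroup.ker_mk'] at h2
  have hd : Nat.card (commutator V) ∣ p := (card_dvd_of_le hcomle).trans hcR
  rcases (Nat.dvd_prime hp0).1 hd with h2 | h2
  · exfalso
    obtain ⟨a, b, hab⟩ := hna
    rw [card_eq_one] at h2
    have h3 : ⁅a, b⁆ ∈ commutator V := commutator_mem_commutator (mem_top a) (mem_top b)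
    rw [h2] at h3
    exact hab (commutatorElement_eq_one_iff_mul_comm.1 h3)
  · exact h2

/-- The Frattini subgroup of order `p ^ 2` is central: the elements whose `p`-th power is in `V'`. -/
theorem false_of_central (hV : IsPGroup p V) {X : Subgroup (MulAut V)} (hX : EssAut p X)
    (hc : Nat.card V = p ^ 4) (hΦ : Nat.card (frattini V) = p ^ 2) (hcen : frattini V ≤ center V)
    (hna : ∃ a b : V, a * b ≠ b * a) : False := by
  have hp0 := hp.out
  have hV' := card_commutator_of_central hV hc hΦ hcen hna
  have hle : commutator V ≤ frattini V := commutator_le_frattini hV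
  have hrel : (commutator V).relIndex (frattini V) = p := by
    have h1 := card_eq_relIndex_mul hle
    rw [hΦ, hV'] at h1
    apply Nat.eq_of_mul_eq_mul_right hp0.pos
    rw [← h1]
    ring
  let π : V →* Abelianization V := Abelianization.of
  have hπker : π.ker = commutator V := by
    ext y
    rw [MonoidHom.mem_ker]
    exact QuotientGroup.eq_one_iff y
  have hmapc : Nat.card ((frattini V).map π) = p := by
    rw [← relIndex_bot_left, ← relIndex_comap, MonoidHom.comap_bot, hπker, hrel]
  let φ : V →* Abelianization V := (powMonoidHom p).comp π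
  have hφ : ∀ y, φ y = π (y ^ p) := fun y => by
    simp [φ]
  have hker : ∀ y, y ∈ φ.ker ↔ y ^ p ∈ commutator V := by
    intro y
    rw [MonoidHom.mem_ker, hφ, ← hπker, MonoidHom.mem_ker]
  have hrange : φ.range ≤ (frattini V).map π := by
    rintro _ ⟨y, rfl⟩
    rw [hφ]
    exact ⟨y ^ p, pow_mem_frattini hV y, rfl⟩
  have hidx : φ.ker.index = p := by
    rw [index_ker]
    have h1 : Nat.card φ.range ∣ p := by
      rw [← hmapc]
      exact card_dvd_of_le hrange
    rcases (Nat.dvd_prime hp0).1 h1 with h2 | h2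
    · exfalso
      rw [card_eq_one] at h2
      have h3 : ∀ y : V, y ^ p ∈ commutator V := by
        intro y
        rw [← hker, MonoidHom.mem_ker]
        have : φ y ∈ φ.range := ⟨y, rfl⟩
        rw [h2] at this
        exact this
      have h4 : frattini V ≤ commutator V := frattini_le_of_normal _ le_rfl h3
      have h5 := Nat.le_of_dvd (by rw [hV']; exact hp0.pos) (card_dvd_of_le h4)
      rw [hΦ, hV'] at h5
      have h6 : p ^ 2 ≤ p ^ 1 := by rwa [pow_one]
      have := (Nat.pow_le_pow_iff_right hp0.one_lt).1 h6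
      omega
    · exact h2
  have hΦle : frattini V ≤ φ.ker := by
    intro z hz
    rw [MonoidHom.mem_ker]
    have h1 : π z ∈ (frattini V).map π := ⟨z, hz, rfl⟩
    have h2 := pow_card_eq_one' (x := (⟨π z, h1⟩ : (frattini V).map π))
    rw [hmapc] at h2
    have h3 := congrArg Subtype.val h2
    simpa [φ] using h3
  have hΦi : (frattini V).index = p ^ 2 := frattini_index_of_card hc (by norm_num) hΦ
  have hrel2 : (frattini V).relIndex φ.ker = p := by
    have h1 := relIndex_mul_index hΦle
    rw [hidx, hΦi] at h1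
    apply Nat.eq_of_mul_eq_mul_right hp0.pos
    rw [h1]
    ring
  refine false_of_chain2 hV hX hΦle ?_ hidx hrel2
  intro ρ _ y hy
  rw [hker] at hy ⊢
  rw [← map_pow]
  exact char_map_mem ρ hy

end rankTwo

section rankThree

variable {V : Type u} [Group V] [Finite V]

/-- Centre of a non-abelian group of order `p ^ 4` with `|Φ| = p`. -/
theorem center_card (hV : IsPGroup p V) (hc : Nat.card V = p ^ 4) (hΦ : Nat.card (frattini V) = p)
    (hna : ∃ a b : V, a * b ≠ b * a) : frattini V ≤ center V ∧ Nat.card (center V) = p ^ 2 := by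
  obtain ⟨a, b, hab⟩ := hna
  have hle : frattini V ≤ center V := le_center_of_card_eq hV (frattini V) hΦ
  refine ⟨hle, ?_⟩
  have hp0 := hp.out
  have hcd : Nat.card (center V) ∣ p ^ 4 := by
    rw [← hc]
    exact card_subgroup_dvd_card _
  obtain ⟨k, hk4, hk⟩ := (Nat.dvd_prime_pow hp0).1 hcd
  have hdvd : p ∣ Nat.card (center V) := by
    rw [← hΦ]
    exact card_dvd_of_le hle
  have hk0 : k ≠ 0 := by
    rintro rfl
    rw [hk, pow_zero] at hdvd
    exact hp0.one_lt.ne' (Nat.dvd_one.1 hdvd)
  have hk1 : k ≠ 1 := by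
    rintro rfl
    have hE : ExtraLike p V := by
      refine ⟨hV, by rw [hk, pow_one], ?_, ?_⟩
      · intro x y
        exact hle (commutator_le_frattini hV (commutator_mem_commutator (mem_top x) (mem_top y)))
      · intro x
        exact hle (pow_mem_frattini hV x)
    obtain ⟨n, hn⟩ := hE.card_eq
    rw [hc] at hn
    have := Nat.pow_right_injective hp0.two_le hn
    omega
  have hk3 : k ≠ 3 := by
    rintro rfl
    have hi : (center V).index = p := by
      have h1 := card_mul_index (center V)
      rw [hk, hc] at h1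
      apply Nat.eq_of_mul_eq_mul_left (pow_pos hp0.pos 3)
      rw [h1]
      ring
    have hcard : Nat.card (V ⧸ center V) = p := by rw [← index_eq_card]; exact hi
    have hcyc : IsCyclic (V ⧸ center V) := by
      haveI : Fact (Nat.card (V ⧸ center V)).Prime := ⟨by rw [hcard]; exact hp0⟩
      exact isCyclic_of_prime_card rfl
    letI := commGroupOfCyclicCenterQuotient (QuotientGroup.mk' (center V)) (by simp)
    exact hab (mul_comm a b)
  have hk4' : k ≠ 4 := by
    rintro rfl
    have htop : center V = ⊤ := by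
      apply eq_top_of_card_eq
      rw [hk, hc]
    have : a ∈ center V := by rw [htop]; trivial
    exact hab ((mem_center_iff.1 this b).symm)
  have : k = 2 := by omega
  rw [hk, this]

/-- If the centre is not cyclic, it has exponent `p`. -/
theorem center_exp (hcZ : Nat.card (center V) = p ^ 2) (hnc : ¬ IsCyclic (center V)) (z : V) (hz : z ∈ center V) :
    z ^ p = 1 := by
  by_contra hzp
  apply hnc
  apply isCyclic_of_orderOf_eq_card (⟨z, hz⟩ : center V)
  rw [hcZ, Subgroup.orderOf_mk]
  apply orderOf_eq_prime_pow (p := p) (n := 1)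
  · rwa [pow_one]
  · have := pow_card_eq_one' (x := (⟨z, hz⟩ : center V))
    rw [hcZ] at this
    simpa using congrArg Subtype.val this

/-- Odd `p`, non-cyclic centre: the group has exponent `p`. -/
theorem exp_of_odd (hV : IsPGroup p V) {X : Subgroup (MulAut V)} (hX : EssAut p X)
    (hc : Nat.card V = p ^ 4) (hΦ : Nat.card (frattini V) = p) (hle : frattini V ≤ center V)
    (hcZ : Nat.card (center V) = p ^ 2) (hexp : ∀ z ∈ center V, z ^ p = 1) (hp2 : p ≠ 2) (x : V) : x ^ p = 1 := by
  by_contra hx
  have hp0 := hp.out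
  have hΦexp : ∀ z ∈ frattini V, z ^ p = 1 := fun z hz => hexp z (hle hz)
  have hcomm : ∀ a b : V, ⁅a, b⁆ ∈ frattini V := fun a b =>
    commutator_le_frattini hV (commutator_mem_commutator (mem_top a) (mem_top b))
  let f : V →* V := MonoidHom.mk' (fun g => g ^ p) (by
    intro a b
    exact Cfsg.Agent.Lib.PGroups.ClassTwo.mul_pow_prime_of_comm hp0 hp2
      ((mem_center_iff.1 (hle (hcomm b a))) a).symm ((mem_center_iff.1 (hle (hcomm b a))) b).symm
      (hΦexp _ (hcomm b a)))
  have hfk : ∀ y, y ∈ f.ker ↔ y ^ p = 1 := fun y => Iff.rfl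
  have hrange : f.range ≤ frattini V := by
    rintro _ ⟨y, rfl⟩
    exact pow_mem_frattini hV y
  have hidx : f.ker.index = p := by
    rw [index_ker]
    have h1 : Nat.card f.range ∣ p := by
      rw [← hΦ]
      exact card_dvd_of_le hrange
    rcases (Nat.dvd_prime hp0).1 h1 with h2 | h2
    · exfalso
      rw [card_eq_one] at h2
      have h4 : f x ∈ f.range := ⟨x, rfl⟩
      rw [h2] at h4
      exact hx h4
    · exact h2
  have hZle : center V ≤ f.ker := fun z hz => hexp z hz
  have hZi : (center V).index = p ^ 2 := by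
    have h1 := card_mul_index (center V)
    rw [hcZ, hc] at h1
    apply Nat.eq_of_mul_eq_mul_left (pow_pos hp0.pos 2)
    rw [h1]
    ring
  have h1 : (center V).relIndex f.ker = p := by
    have h2 := relIndex_mul_index hZle
    rw [hidx, hZi] at h2
    apply Nat.eq_of_mul_eq_mul_right hp0.pos
    rw [h2]
    ring
  have h2 : (frattini V).relIndex (center V) = p := by
    have h3 := card_eq_relIndex_mul hle
    rw [hcZ, hΦ] at h3
    apply Nat.eq_of_mul_eq_mul_right hp0.pos
    rw [← h3]
    ring
  refine false_of_chain3 hV hX hZle hle ?_ ?_ hidx h1 h2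
  · intro ρ _ y hy
    rw [hfk] at hy ⊢
    rw [← map_pow, hy, map_one]
  · intro ρ _ y hy
    exact char_map_mem ρ hy

/-- Direct decomposition. -/
theorem exists_decomp (hV : IsPGroup p V) (hc : Nat.card V = p ^ 4)
    (hΦ : Nat.card (frattini V) = p) (hle : frattini V ≤ center V)
    (hna : ∃ a b : V, a * b ≠ b * a)
    (hcZ : Nat.card (center V) = p ^ 2) (hexp : ∀ z ∈ center V, z ^ p = 1) :
    ∃ M : Subgroup V, frattini V ≤ M ∧ ∃ C : Subgroup V, Nat.card M = p ^ 3 ∧ Nat.card C = p ∧ C ≤ center V ∧
      ExtraLike p M ∧ ¬ IsMulCommutative M ∧ Nonempty (V ≃* M × C) := by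
  have hp0 := hp.out
  obtain ⟨z, hzZ, hzΦ⟩ : ∃ z ∈ center V, z ∉ frattini V := by
    by_contra hcon
    push Not at hcon
    have := Nat.le_of_dvd (by rw [hΦ]; exact hp0.pos) (card_dvd_of_le hcon)
    rw [hΦ, hcZ] at this
    have h4 : p ^ 2 ≤ p ^ 1 := by rwa [pow_one]
    have := (Nat.pow_le_pow_iff_right hp0.one_lt).1 h4
    omega
  obtain ⟨M, hM, hzM⟩ : ∃ M : Subgroup V, IsCoatom M ∧ z ∉ M := by
    by_contra hcon
    push Not at hcon
    apply hzΦ
    show z ∈ Order.radical (Subgroup V)
    rw [Order.radical, Subgroup.mem_iInf]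
    intro M
    rw [Subgroup.mem_iInf]
    intro hM'
    exact hcon M hM'
  haveI hMn : M.Normal := normal_of_isCoatom hV hM
  have hMi : M.index = p := index_eq_of_isCoatom hV hM
  have hcM : Nat.card M = p ^ 3 := by
    have h1 := card_mul_index M
    rw [hMi, hc] at h1
    apply Nat.eq_of_mul_eq_mul_right hp0.pos
    rw [h1]
    ring
  have hΦM : frattini V ≤ M := frattini_le_coatom hM
  let C : Subgroup V := zpowers z
  have hz1 : z ≠ 1 := fun h => hzΦ (h ▸ one_mem _)
  have hoz : orderOf z = p := orderOf_eq_prime (hexp z hzZ) hz1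
  have hcC : Nat.card C = p := by
    show Nat.card (zpowers z) = p
    rw [Nat.card_zpowers, hoz]
  have hCZ : C ≤ center V := by
    show zpowers z ≤ center V
    rw [zpowers_le]
    exact hzZ
  have hCM : ∀ c ∈ C, c ∈ M → c = 1 := by
    intro c hc1 hcM
    by_contra hne
    have hc2 : (⟨c, hc1⟩ : C) ≠ 1 := fun h => hne (congrArg Subtype.val h)
    have h3 := mem_zpowers_of_prime_card (p := p) hcC hc2 (g' := ⟨z, mem_zpowers z⟩)
    obtain ⟨k, hk⟩ := h3
    have h4 : c ^ k = z := congrArg Subtype.val hk
    apply hzM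
    rw [← h4]
    exact M.zpow_mem hcM k
  let F : M × C →* V := MonoidHom.noncommCoprod M.subtype C.subtype (by
    intro m c
    exact ((mem_center_iff.1 (hCZ c.2)) (m : V)))
  have hFa : ∀ m c, F (m, c) = (m : V) * (c : V) := fun m c => rfl
  have hinj : Function.Injective F := by
    rw [injective_iff_map_eq_one]
    rintro ⟨m, c⟩ h
    rw [hFa] at h
    have h1 : (c : V) = (m : V)⁻¹ := eq_inv_of_mul_eq_one_right h
    have h2 : (c : V) ∈ M := by
      rw [h1]
      exact M.inv_mem m.2
    have h3 := hCM c c.2 h2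
    have h4 : (m : V) = 1 := by
      rw [h3, mul_one] at h
      exact h
    ext <;> simp [h3, h4]
  have hcard : Nat.card (M × C) = Nat.card V := by
    rw [Nat.card_prod, hcM, hcC, hc]
    ring
  have hbij : Function.Bijective F := (Nat.bijective_iff_injective_and_card F).2 ⟨hinj, hcard⟩
  let e : M × C ≃* V := MulEquiv.ofBijective F hbij
  have he : ∀ g : V, ∃ (m : M) (c : C), g = (m : V) * (c : V) := by
    intro g
    obtain ⟨⟨m, c⟩, rfl⟩ := hbij.2 g
    exact ⟨m, c, rfl⟩
  have hnc : ¬ IsMulCommutative M := by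
    rintro hcomm
    obtain ⟨a, b, hab⟩ := hna
    obtain ⟨m, c, rfl⟩ := he a
    obtain ⟨m', c', rfl⟩ := he b
    apply hab
    have h1 : (m : V) * (m' : V) = (m' : V) * (m : V) := congrArg Subtype.val (hcomm.is_comm.comm m m')
    have h2 : Commute (c : V) (m' : V) := ((mem_center_iff.1 (hCZ c.2)) (m' : V)).symm
    have h3 : Commute (c' : V) (m : V) := ((mem_center_iff.1 (hCZ c'.2)) (m : V)).symm
    have h4 : Commute (c : V) (c' : V) := ((mem_center_iff.1 (hCZ c.2)) (c' : V)).symm
    calc (m : V) * c * (m' * c') = m * (c * m') * c' := by group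
      _ = m * (m' * c) * c' := by rw [h2.eq]
      _ = (m * m') * (c * c') := by group
      _ = (m' * m) * (c' * c) := by rw [h1, h4.eq]
      _ = m' * (m * c') * c := by group
      _ = m' * (c' * m) * c := by rw [h3.eq]
      _ = m' * c' * (m * c) := by group
  -- centre of `M`
  have hcenM : ∀ m : M, m ∈ center M → (m : V) ∈ center V := by
    intro m hm
    rw [mem_center_iff]
    intro g
    obtain ⟨m', c, rfl⟩ := he g
    have h1 : m' * m = m * m' := (mem_center_iff.1 hm) m'
    have h2 : (m' : V) * (m : V) = (m : V) * (m' : V) := congrArg Subtype.val h1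
    have h3 : Commute (c : V) (m : V) := ((mem_center_iff.1 (hCZ c.2)) (m : V)).symm
    calc (m' : V) * c * m = m' * (c * m) := by group
      _ = m' * (m * c) := by rw [h3.eq]
      _ = (m' * m) * c := by group
      _ = (m * m') * c := by rw [h2]
      _ = m * (m' * c) := by group
  have hΦcen : ∀ m : M, (m : V) ∈ frattini V → m ∈ center M := by
    intro m hm
    rw [mem_center_iff]
    intro g
    ext
    exact (mem_center_iff.1 (hle hm)) (g : V)
  have hcZM : Nat.card (center M) = p := by
    have h1 : Nat.card (center M) ∣ p ^ 3 := by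
      rw [← hcM]
      exact card_subgroup_dvd_card _
    obtain ⟨k, hk3, hk⟩ := (Nat.dvd_prime_pow hp0).1 h1
    -- lower bound
    have hlow : p ∣ Nat.card (center M) := by
      have h2 : (frattini V).subgroupOf M ≤ center M := by
        intro m hm
        exact hΦcen m hm
      have h3 : Nat.card ((frattini V).subgroupOf M) = p := by
        rw [← hΦ]
        exact Nat.card_congr (subgroupOfEquivOfLe hΦM).toEquiv
      rw [← h3]
      exact card_dvd_of_le h2
    -- upper bound
    let J : Subgroup V := (center M).map M.subtype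
    have hJc : Nat.card J = Nat.card (center M) := Nat.card_congr
      (Subgroup.equivMapOfInjective _ _ M.subtype_injective).symm.toEquiv
    have hJZ : J ≤ center V := by
      rintro _ ⟨m, hm, rfl⟩
      exact hcenM m hm
    have hJlt : J < center V := by
      refine lt_of_le_of_ne hJZ ?_
      intro h
      have : z ∈ J := by rw [h]; exact hzZ
      obtain ⟨m, -, hm⟩ := this
      apply hzM
      rw [← hm]
      exact m.2
    have hup : Nat.card J < p ^ 2 := by
      rw [← hcZ]
      exact Cfsg.Agent.Lib.PGroups.Basic.card_lt_of_lt hJlt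
    rw [hJc, hk] at hup
    have hk2 : k < 2 := (Nat.pow_lt_pow_iff_right hp0.one_lt).1 hup
    have hk0 : k ≠ 0 := by
      rintro rfl
      rw [hk, pow_zero] at hlow
      exact hp0.one_lt.ne' (Nat.dvd_one.1 hlow)
    have : k = 1 := by omega
    rw [hk, this, pow_one]
  have hE : ExtraLike p M := by
    refine ⟨hV.to_subgroup M, hcZM, ?_, ?_⟩
    · intro x y
      apply hΦcen
      exact commutator_le_frattini hV (commutator_mem_commutator (mem_top (x : V)) (mem_top (y : V)))
    · intro x
      apply hΦcen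
      exact pow_mem_frattini hV (x : V)
  exact ⟨M, hΦM, C, hcM, hcC, hCZ, hE, hnc, ⟨e.symm⟩⟩

theorem extraLike_of_mulEquiv {E E' : Type*} [Group E] [Group E'] (e : E ≃* E') (h : ExtraLike p E) :
    ExtraLike p E' := by
  refine ⟨h.isPGroup.of_equiv e, ?_, ?_, ?_⟩
  · rw [← h.card_center]
    exact Nat.card_congr (centerCongr e).symm.toEquiv
  · intro x y
    have h1 := h.comm_mem (e.symm x) (e.symm y)
    have h2 := (centerCongr e ⟨_, h1⟩).2
    have h3 : ((centerCongr e ⟨_, h1⟩ : center E') : E') = e ⁅e.symm x, e.symm y⁆ := rfl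
    rw [h3, map_commutatorElement, e.apply_symm_apply, e.apply_symm_apply] at h2
    exact h2
  · intro x
    have h1 := h.pow_mem (e.symm x)
    have h2 := (centerCongr e ⟨_, h1⟩).2
    have h3 : ((centerCongr e ⟨_, h1⟩ : center E') : E') = e ((e.symm x) ^ p) := rfl
    rw [h3, map_pow, e.apply_symm_apply] at h2
    exact h2

/-- Over `p = 2`, the factor `D₈`. -/
theorem not_dihedral_prod (hp2 : p = 2) (hV : IsPGroup p V) {X : Subgroup (MulAut V)} (hX : EssAut p X)
    (hc : Nat.card V = p ^ 4) (hΦ : Nat.card (frattini V) = p) (hle : frattini V ≤ center V)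
    (hcZ : Nat.card (center V) = p ^ 2)
    {C : Type*} [Group C] (hCc : ∀ a b : C, a * b = b * a) (hCe : ∀ a : C, a * a = 1) (e : V ≃* DihedralGroup 4 × C) :
    False := by
  subst hp2
  let T : Subgroup (DihedralGroup 4) := zpowers (DihedralGroup.r 1)
  have hT : T.index = 2 := by
    have h1 := card_mul_index T
    have h2 : Nat.card T = 4 := by
      show Nat.card (zpowers _) = 4
      rw [Nat.card_zpowers, DihedralGroup.orderOf_r_one]
    rw [h2, DihedralGroup.nat_card] at h1
    omega
  let g : V →* DihedralGroup 4 := (MonoidHom.fst _ _).comp e.toMonoidHom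
  have hgs : Function.Surjective g := by
    intro d
    obtain ⟨v, hv⟩ := e.surjective (d, 1)
    refine ⟨v, ?_⟩
    show (e v).1 = d
    rw [hv]
  let Y : Subgroup V := T.comap g
  have hmem : ∀ v, v ∈ Y ↔ (v * v = 1 → ∀ w, v * w = w * v) := by
    intro v
    have h1 : v ∈ Y ↔ (e v).1 ∈ T := Iff.rfl
    rw [h1]
    show (e v).1 ∈ zpowers (DihedralGroup.r 1) ↔ _
    rw [mem_zpowers_r_iff, dihedral_char]
    constructor
    · intro h hv w
      have h2 : (e v).1 * (e v).1 = 1 := by
        have : e v * e v = 1 := by rw [← map_mul, hv, map_one]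
        exact congrArg Prod.fst this
      have h3 := h h2 (e w).1
      apply e.injective
      rw [map_mul, map_mul]
      ext
      · exact h3
      · exact hCc _ _
    · intro h hv y
      have h2 : v * v = 1 := by
        apply e.injective
        rw [map_mul, map_one]
        ext
        · exact hv
        · exact hCe _
      have h3 := h h2 (e.symm (y, 1))
      have h4 := congrArg e h3
      rw [map_mul, map_mul, e.apply_symm_apply] at h4
      exact congrArg Prod.fst h4
  have hidx : Y.index = 2 := by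
    show (T.comap g).index = 2
    rw [index_comap_of_surjective _ hgs, hT]
  have hZle : center V ≤ Y := by
    intro z hz
    rw [hmem]
    intro _ w
    exact ((mem_center_iff.1 hz) w).symm
  have hZi : (center V).index = 2 ^ 2 := by
    have h1 := card_mul_index (center V)
    rw [hcZ, hc] at h1
    omega
  have h1 : (center V).relIndex Y = 2 := by
    have h2 := relIndex_mul_index hZle
    rw [hidx, hZi] at h2
    omega
  have h2 : (frattini V).relIndex (center V) = 2 := by
    have h3 := card_eq_relIndex_mul hle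
    rw [hcZ, hΦ] at h3
    omega
  refine false_of_chain3 hV hX hZle hle ?_ ?_ hidx h1 h2
  · intro ρ _ y hy
    rw [hmem] at hy ⊢
    intro h w
    have h1 : y * y = 1 := by
      apply ρ.injective
      rw [map_mul, h, map_one]
    have h2 := hy h1 (ρ.symm w)
    have h3 := congrArg ρ h2
    rw [map_mul, map_mul, ρ.apply_symm_apply] at h3
    exact h3
  · intro ρ _ y hy
    exact char_map_mem ρ hy

end rankThree

/-- A type without structure, of cardinality `n`. -/
def Carrier (n : ℕ) : Type := Fin n

/-- **Main theorem**: the automizer form. -/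
theorem four_main {V : Type u} [Group V] [Finite V] (hV : IsPGroup p V) {X : Subgroup (MulAut V)} (hX : EssAut p X)
    (hc : Nat.card V = p ^ 4) :
    ((∀ a b : V, a * b = b * a) ∧ ∀ x : V, x ^ p = 1) ∨
      Nonempty (V ≃* Multiplicative (ZMod (p ^ 2) × ZMod p × ZMod p)) ∨
      ((p = 2 ∨ p = 3) ∧ Nonempty (V ≃* Multiplicative (ZMod (p ^ 2) × ZMod (p ^ 2)))) ∨
      (Odd p ∧ ∃ (E : Type) (_ : Group E) (_ : Finite E), Cfsg.IsExtraspecial p E ∧ Nat.card E = p ^ 3 ∧
        (∀ x : E, x ^ p = 1) ∧ Nonempty (V ≃* E × Multiplicative (ZMod p))) ∨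
      (p = 2 ∧ Nonempty (V ≃* QuaternionGroup 2 × Multiplicative (ZMod 2))) ∨
      (¬ IsMulCommutative V ∧ (∀ x : V, x ^ (p ^ 2) = 1) ∧ IsCyclic (center V) ∧
        Nat.card (center V) = p ^ 2) := by
  have hp0 := hp.out
  obtain ⟨r, hr2, hr⟩ := frattini_index_ge hV hX
  have hmul := card_mul_index (frattini V)
  rw [hr, hc] at hmul
  have hr4 : r ≤ 4 := by
    have : p ^ r ∣ p ^ 4 := Dvd.intro_left _ hmul
    exact (Nat.pow_dvd_pow_iff_le_right hp0.one_lt).1 this
  have hr' : r = 2 ∨ r = 3 ∨ r = 4 := by omega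
  rcases hr' with rfl | rfl | rfl
  · -- two generators
    have hΦ : Nat.card (frattini V) = p ^ 2 := by
      apply Nat.eq_of_mul_eq_mul_right (pow_pos hp0.pos 2)
      rw [hmul]
      ring
    by_cases hab : ∀ a b : V, a * b = b * a
    · letI cg : CommGroup V := { (inferInstance : Group V) with mul_comm := hab }
      rcases rank_two hV hX (le_of_eq hr) with ⟨-, h2⟩ | ⟨hp3, k, ⟨e⟩⟩
      · exfalso
        rw [h2] at hc
        have := Nat.pow_right_injective hp0.two_le hc
        omega
      · have h3 : Nat.card V = p ^ (2 * k) := by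
          rw [Nat.card_congr e.toEquiv, Nat.card_congr Multiplicative.toAdd, Nat.card_prod, Nat.card_zmod]
          rw [pow_mul, sq, mul_pow]
        rw [h3] at hc
        have hk : k = 2 := by
          have := Nat.pow_right_injective hp0.two_le hc
          omega
        subst hk
        right; right; left
        refine ⟨?_, ⟨e⟩⟩
        have h5 : p = 2 ∨ p = 3 := by
          have := hp0.two_le
          omega
        exact h5
    · exfalso
      push Not at hab
      by_cases hcen : frattini V ≤ center V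
      · obtain ⟨a, b, hab⟩ := hab
        exact false_of_central hV hX hc hΦ hcen ⟨a, b, hab⟩
      · exact false_of_noncentral hV hX hc hΦ hcen
  · -- `|Φ| = p`
    have hΦ : Nat.card (frattini V) = p := by
      apply Nat.eq_of_mul_eq_mul_right (pow_pos hp0.pos 3)
      rw [hmul]
      ring
    by_cases hab : ∀ a b : V, a * b = b * a
    · right; left
      letI cg : CommGroup V := { (inferInstance : Group V) with mul_comm := hab }
      exact equiv_of_frattini_card hV hc hΦ
    · push Not at hab
      obtain ⟨a, b, hab⟩ := hab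
      obtain ⟨hle, hcZ⟩ := center_card hV hc hΦ ⟨a, b, hab⟩
      by_cases hcyc : IsCyclic (center V)
      · right; right; right; right; right
        refine ⟨?_, ?_, hcyc, hcZ⟩
        · intro hcomm
          exact hab (hcomm.is_comm.comm a b)
        · intro x
          have h1 : x ^ p ∈ frattini V := pow_mem_frattini hV x
          have h2 := pow_card_eq_one' (x := (⟨x ^ p, h1⟩ : frattini V))
          rw [hΦ] at h2
          have h3 := congrArg Subtype.val h2
          rw [pow_succ, pow_one, pow_mul]
          simpa using h3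
      · have hexp : ∀ z ∈ center V, z ^ p = 1 := center_exp hcZ hcyc
        obtain ⟨M, hΦM, C, hcM, hcC, hCZ, hE, hnc, ⟨e⟩⟩ := exists_decomp hV hc hΦ hle ⟨a, b, hab⟩ hcZ hexp
        have hCp : C ≃* Multiplicative (ZMod p) := mulEquivOfPrimeCardEq hcC (by
          rw [Nat.card_congr Multiplicative.toAdd, Nat.card_zmod])
        by_cases hp2 : p = 2
        · subst hp2
          have hcM8 : Nat.card M = 8 := by rw [hcM]; norm_num
          have hna : ∃ s t : M, s * t ≠ t * s := by
            by_contra hcon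
            push Not at hcon
            exact hnc ⟨⟨fun s t => hcon s t⟩⟩
          rcases Cfsg.Agent.Lib.TwoFusion.Hyp.order_eight hcM8 hna with ⟨⟨e1⟩⟩ | ⟨⟨e1⟩⟩
          · exfalso
            have hCc : ∀ x y : C, x * y = y * x := by
              intro x y
              ext
              exact ((mem_center_iff.1 (hCZ x.2)) (y : V)).symm
            have hCe : ∀ x : C, x * x = 1 := by
              intro x
              ext
              have := hexp x (hCZ x.2)
              simpa [pow_two] using this
            exact not_dihedral_prod rfl hV hX hc hΦ hle hcZ hCc hCe (e.trans (MulEquiv.prodCongr e1 (MulEquiv.refl C)))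
          · right; right; right; right; left
            exact ⟨rfl, ⟨e.trans (MulEquiv.prodCongr e1 hCp)⟩⟩
        · right; right; right; left
          refine ⟨hp0.odd_of_ne_two hp2, ?_⟩
          have hexpV := exp_of_odd hV hX hc hΦ hle hcZ hexp hp2
          let e0 : M ≃ Carrier (Nat.card M) := Finite.equivFin M
          letI grp : Group (Carrier (Nat.card M)) := e0.symm.group
          let eM : Carrier (Nat.card M) ≃* M := e0.symm.mulEquiv
          haveI hfin : Finite (Carrier (Nat.card M)) := inferInstanceAs (Finite (Fin (Nat.card M)))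
          have hE' : ExtraLike p (Carrier (Nat.card M)) := extraLike_of_mulEquiv eM.symm hE
          have hnc' : ¬ IsMulCommutative (Carrier (Nat.card M)) := by
            intro hcomm
            apply hnc
            refine ⟨⟨fun s t => ?_⟩⟩
            apply eM.symm.injective
            rw [map_mul, map_mul]
            exact hcomm.is_comm.comm _ _
          refine ⟨Carrier (Nat.card M), grp, hfin, hE'.isExtraspecial hnc', ?_, ?_, ?_⟩
          · rw [Nat.card_congr eM.toEquiv, hcM]
          · intro x
            apply eM.injective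
            rw [map_pow, map_one]
            ext
            simpa using hexpV (eM x : V)
          · exact ⟨e.trans (MulEquiv.prodCongr eM.symm hCp)⟩
  · left
    have hΦ : Nat.card (frattini V) = 1 := by
      apply Nat.eq_of_mul_eq_mul_right (pow_pos hp0.pos 4)
      rw [hmul, one_mul]
    have hb : frattini V = ⊥ := card_eq_one.1 hΦ
    exact ⟨comm_of_frattini hV hb, pow_eq_one_of_frattini hV hb⟩

end Cfsg.Agent.Lib.Fusion.SmallEssentialFour
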