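import Cfsg.Agent.Lib.Fusion.SmallEssential
import Cfsg.Agent.Lib.FusionExt.Realized
import Cfsg.Agent.Lib.FusionTheory.Normal

/-!
# Supersoluble fusion systems: chains of invariant subgroups with cyclic steps
-/

set_option autoImplicit false
set_option linter.unusedSectionVars false

namespace Cfsg.Agent.Lib.Fusion.Supersoluble

open Cfsg Cfsg.FusionSystem Cfsg.Agent.Lib.Fusion.Basic Cfsg.Agent.Lib.Fusion.SmallEssential
open Cfsg.Agent.Lib.FusionTheory.Chain Cfsg.Agent.Lib.FusionTheory.CoprimeAut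
open Subgroup

section abstract

variable {V : Type*} [Group V] [Finite V] {p : ℕ} [hp : Fact p.Prime]

/-- A `p'`-automorphism acts on a cyclic section through a group of exponent dividing `p - 1`. -/
theorem pow_fix_of_cyclic (hV : IsPGroup p V) {N C : Subgroup V} (hN : N.Normal) {u : V} (hu : u ∈ C)
    (hcyc : ∀ y ∈ C, ∃ m : ℕ, y * (u ^ m)⁻¹ ∈ N) {a : MulAut V} (haN : ∀ x ∈ N, a x ∈ N) (haC : ∀ x ∈ C, a x ∈ C)
    (hord : (orderOf a).Coprime p) {y : V} (hy : y ∈ C) : y⁻¹ * (a ^ (p - 1)) y ∈ N := by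
  have hfinA : Finite (MulAut V) := finite_mulAut
  have hp0 := hp.out
  let π := QuotientGroup.mk' N
  have hπ : ∀ z : V, π z = 1 ↔ z ∈ N := fun z => QuotientGroup.eq_one_iff z
  have hcong : ∀ {x y : V}, x * y⁻¹ ∈ N → π x = π y := by
    intro x y h
    have h1 := (hπ _).2 h
    rw [map_mul, map_inv] at h1
    exact mul_inv_eq_one.1 h1
  have hm : ∀ {x y : V}, π x = π y → π (a x) = π (a y) := by
    intro x y h
    apply hcong
    have h1 : x * y⁻¹ ∈ N := by
      rw [← hπ, map_mul, map_inv, h, mul_inv_cancel]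
    have h2 := haN _ h1
    simpa using h2
  obtain ⟨e, he⟩ := hcyc _ (haC u hu)
  have hgen : ∀ z ∈ C, ∃ m : ℕ, π z = π u ^ m := by
    intro z hz
    obtain ⟨m, hm'⟩ := hcyc z hz
    exact ⟨m, by rw [hcong hm', map_pow]⟩
  have hC1 : ∀ z ∈ C, π (a z) = π z ^ e := by
    intro z hz
    obtain ⟨m, hm'⟩ := hcyc z hz
    have hz1 : π z = π u ^ m := by rw [hcong hm', map_pow]
    have hu1 : π (a u) = π u ^ e := by rw [hcong he, map_pow]
    have hz2 : π (a z) = π (a (u ^ m)) := hm (by rw [hz1, map_pow])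
    rw [hz2, map_pow, map_pow, hu1, hz1, ← pow_mul, ← pow_mul, mul_comm]
  have hiter : ∀ j : ℕ, ∀ z ∈ C, (a ^ j) z ∈ C ∧ π ((a ^ j) z) = π z ^ (e ^ j) := by
    intro j
    induction j with
    | zero =>
      intro z hz
      simpa using hz
    | succ j ih =>
      intro z hz
      obtain ⟨h1, h2⟩ := ih z hz
      have h3 : (a ^ (j + 1)) z = a ((a ^ j) z) := by
        rw [pow_succ']
        rfl
      rw [h3]
      refine ⟨haC _ h1, ?_⟩
      rw [hC1 _ h1, h2, ← pow_mul, pow_succ]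
  -- the target
  suffices hfix : π u ^ (e ^ (p - 1)) = π u by
    rw [← hπ, map_mul, map_inv, inv_mul_eq_one]
    obtain ⟨m, hm'⟩ := hgen y hy
    rw [(hiter (p - 1) y hy).2, hm', ← pow_mul, mul_comm, pow_mul, hfix]
  by_cases hu1 : π u = 1
  · rw [hu1, one_pow]
  have hQ : IsPGroup p (V ⧸ N) := hV.to_quotient N
  obtain ⟨l, hl⟩ := IsPGroup.iff_orderOf.1 hQ (π u)
  have hl0 : l ≠ 0 := by
    rintro rfl
    rw [pow_zero, orderOf_eq_one_iff] at hl
    exact hu1 hl
  have hdvdo : p ∣ orderOf (π u) := by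
    rw [hl]
    exact dvd_pow_self p hl0
  set n := orderOf a with hn
  have hnpos : 0 < n := orderOf_pos a
  have han : π u ^ (e ^ n) = π u := by
    have h1 := (hiter n u hu).2
    rw [hn, pow_orderOf_eq_one] at h1
    rw [← hn] at h1
    exact h1.symm
  -- `e` is prime to `p`
  have he_cop : ¬ p ∣ e := by
    intro hd
    have h1 : p ∣ e ^ n := dvd_pow hd hnpos.ne'
    have h2 : e ^ n ≡ 1 [MOD orderOf (π u)] := by
      rw [← pow_eq_pow_iff_modEq, han, pow_one]
    have h3 : e ^ n ≡ 1 [MOD p] := h2.of_dvd hdvdo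
    have h4 : (e ^ n) % p = 0 := Nat.mod_eq_zero_of_dvd h1
    have h5 : 1 % p = 1 := Nat.mod_eq_of_lt hp0.one_lt
    unfold Nat.ModEq at h3
    omega
  set b := e ^ (p - 1) with hb
  haveI : NeZero (p ^ l) := ⟨pow_ne_zero _ hp0.ne_zero⟩
  -- arithmetic
  have hx1 : ((e : ℕ) : ZMod (p ^ l)) ^ n = 1 := by
    have h2 : e ^ n ≡ 1 [MOD orderOf (π u)] := by
      rw [← pow_eq_pow_iff_modEq, han, pow_one]
    rw [hl] at h2
    have := (ZMod.natCast_eq_natCast_iff _ _ _).2 h2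
    simpa using this
  have hx2 : ((b : ℕ) : ZMod (p ^ l)) ^ (p ^ l) = 1 := by
    have hfermat : ((p : ℕ) : ℤ) ∣ ((b : ℕ) : ℤ) - 1 := by
      have h1 : ((b : ℕ) : ZMod p) = 1 := by
        rw [hb, Nat.cast_pow]
        apply ZMod.pow_card_sub_one_eq_one
        intro h0
        exact he_cop ((ZMod.natCast_eq_zero_iff _ _).1 h0)
      have h2 := (ZMod.intCast_zmod_eq_zero_iff_dvd (((b : ℕ) : ℤ) - 1) p).1 (by
        push_cast
        rw [h1, sub_self])
      exact h2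
    have h3 := dvd_sub_pow_of_dvd_sub hfermat l
    have h4 : (((p ^ l : ℕ) : ℤ)) ∣ ((b : ℕ) : ℤ) ^ p ^ l - 1 := by
      have h5 : ((p ^ l : ℕ) : ℤ) ∣ ((p : ℕ) : ℤ) ^ (l + 1) := by
        push_cast
        exact pow_dvd_pow _ (Nat.le_succ l)
      have h6 := h5.trans h3
      simpa using h6
    have h7 := (ZMod.intCast_zmod_eq_zero_iff_dvd _ (p ^ l)).2 h4
    push_cast at h7
    exact sub_eq_zero.1 h7
  have hx3 : ((b : ℕ) : ZMod (p ^ l)) ^ n = 1 := by
    rw [hb, Nat.cast_pow, ← pow_mul, mul_comm, pow_mul, hx1, one_pow]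
  have hx4 : ((b : ℕ) : ZMod (p ^ l)) = 1 := by
    have h1 : orderOf ((b : ℕ) : ZMod (p ^ l)) ∣ p ^ l := orderOf_dvd_of_pow_eq_one hx2
    have h2 : orderOf ((b : ℕ) : ZMod (p ^ l)) ∣ n := orderOf_dvd_of_pow_eq_one hx3
    have h3 : Nat.Coprime (p ^ l) n := (hord.symm.pow_left l)
    have h4 := Nat.dvd_gcd h1 h2
    rw [h3] at h4
    exact orderOf_eq_one_iff.1 (Nat.dvd_one.1 h4)
  have hb1 : b ≡ 1 [MOD orderOf (π u)] := by
    rw [hl]
    apply (ZMod.natCast_eq_natCast_iff _ _ _).1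
    rw [hx4, Nat.cast_one]
  have := (pow_eq_pow_iff_modEq (x := π u)).2 hb1
  rwa [pow_one] at this

/-- An automorphism of order prime to `p`, trivial on the factors of a chain, is trivial. -/
theorem eq_one_of_steps (hV : IsPGroup p V) (W : ℕ → Subgroup V) (k : ℕ) (h0 : W 0 = ⊤) (hk : ∀ j, k ≤ j → W j = ⊥)
    {τ : MulAut V} (hτ : (orderOf τ).Coprime p) (hst : ∀ j, j < k → ∀ x ∈ W j, x⁻¹ * τ x ∈ W (j + 1)) : τ = 1 := by
  have hW : ∀ j, ∀ x ∈ W j, x⁻¹ * τ x ∈ W (j + 1) := by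
    intro j x hx
    rcases lt_or_ge j k with hj | hj
    · exact hst j hj x hx
    · rw [hk j hj] at hx
      rw [mem_bot] at hx
      rw [hx, map_one, inv_one, one_mul]
      exact one_mem _
  ext x
  exact fixed_of_chain hV τ hτ W k (hk k le_rfl) hW k 0 (by omega) x (by rw [h0]; trivial)

/-- A `p'`-group of automorphisms stabilizing a chain with cyclic steps is abelian of exponent dividing `p - 1`. -/
theorem chain_aut_facts (hV : IsPGroup p V) (W : ℕ → Subgroup V) (k : ℕ) (h0 : W 0 = ⊤) (hk : ∀ j, k ≤ j → W j = ⊥)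
    (hnorm : ∀ j, (W j).Normal)
    (hcyc : ∀ j, j < k → ∃ u ∈ W j, ∀ y ∈ W j, ∃ m : ℕ, y * (u ^ m)⁻¹ ∈ W (j + 1))
    (H : Subgroup (MulAut V)) (hH : (Nat.card H).Coprime p) (hinv : ∀ ρ ∈ H, ∀ j, ∀ x ∈ W j, ρ x ∈ W j) :
    (∀ a ∈ H, ∀ b ∈ H, a * b = b * a) ∧ ∀ h ∈ H, h ^ (p - 1) = 1 := by
  have hfinA : Finite (MulAut V) := finite_mulAut
  have hordH : ∀ τ ∈ H, (orderOf τ).Coprime p := by
    intro τ hτ
    have h1 : orderOf (⟨τ, hτ⟩ : H) = orderOf τ := Subgroup.orderOf_mk τ hτ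
    rw [← h1]
    exact Nat.Coprime.coprime_dvd_left (orderOf_dvd_natCard _) hH
  constructor
  · intro a ha b hb
    have hτ : a * b * a⁻¹ * b⁻¹ = 1 := by
      apply eq_one_of_steps hV W k h0 hk (hordH _ (H.mul_mem (H.mul_mem (H.mul_mem ha hb) (H.inv_mem ha)) (H.inv_mem hb)))
      intro j hj x hx
      obtain ⟨u, hu, hcy⟩ := hcyc j hj
      have hxx : ∀ z, z ∈ W j → (a (b z) * (b (a z))⁻¹ ∈ W (j + 1)) := fun z hz =>
        comm_mem_of_cyclic (hnorm (j + 1)) hu hcy (hinv a ha _) (hinv b hb _) (hinv a ha _) (hinv b hb _) hz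
      have hz : a⁻¹ (b⁻¹ x) ∈ W j := hinv _ (H.inv_mem ha) _ _ (hinv _ (H.inv_mem hb) _ _ hx)
      have h1 := hxx _ hz
      have h2 : b (a (a⁻¹ (b⁻¹ x))) = x := by simp
      rw [h2] at h1
      have h3 : a (b (a⁻¹ (b⁻¹ x))) = (a * b * a⁻¹ * b⁻¹) x := rfl
      rw [h3] at h1
      have h4 := (hnorm (j + 1)).conj_mem _ h1 x⁻¹
      have h5 : x⁻¹ * ((a * b * a⁻¹ * b⁻¹) x * x⁻¹) * x⁻¹⁻¹ = x⁻¹ * (a * b * a⁻¹ * b⁻¹) x := by group
      rwa [h5] at h4
    have h1 : a * b * a⁻¹ = b := by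
      have := mul_inv_eq_one.1 hτ
      exact this
    have h2 := mul_inv_eq_iff_eq_mul.1 h1
    exact h2
  · intro h hh
    apply eq_one_of_steps hV W k h0 hk (hordH _ (H.pow_mem hh _))
    intro j hj x hx
    obtain ⟨u, hu, hcy⟩ := hcyc j hj
    exact pow_fix_of_cyclic hV (hnorm (j + 1)) hu hcy (hinv h hh _) (hinv h hh _) (hordH h hh) hx

/-- An essential automizer stabilizes no chain from `V` to `1` with cyclic steps. -/
theorem chain_false_bot (hV : IsPGroup p V) {X : Subgroup (MulAut V)} (hX : EssAut p X)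
    (W : ℕ → Subgroup V) (hW : Antitone W) (k : ℕ) (h0 : W 0 = ⊤) (hk : ∀ j, k ≤ j → W j = ⊥)
    (hinv : ∀ ρ ∈ X, ∀ j, ∀ x ∈ W j, ρ x ∈ W j)
    (hcyc : ∀ j, j < k → ∃ u ∈ W j, ∀ y ∈ W j, ∃ m : ℕ, y * (u ^ m)⁻¹ ∈ W (j + 1)) : False := by
  have hfin : Finite (MulAut V) := finite_mulAut
  have hNorm : ∀ j, (W j).Normal := by
    intro j
    constructor
    intro n hn g
    exact hinv (MulAut.conj g) (hX.inn_le ⟨g, rfl⟩) j n hn
  let T : Subgroup (MulAut V) := stabChain W hW ⊓ X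
  have hTX : T ≤ X := inf_le_right
  have hinv' : ∀ ρ ∈ X, ∀ j, ∀ x ∈ W j, ρ⁻¹ x ∈ W j := fun ρ hρ => hinv ρ⁻¹ (X.inv_mem hρ)
  have hTn : ∀ x ∈ X, ∀ t ∈ T, x * t * x⁻¹ ∈ T := by
    intro x hx t ht
    refine ⟨conj_mem_stabChain ht.1 (hinv x hx) (hinv' x hx), X.mul_mem (X.mul_mem hx ht.2) (X.inv_mem hx)⟩
  have hfT : Finite T := inferInstance
  have hTp : IsPGroup p T := by
    apply isPGroup_of_coprime_trivial
    rintro ⟨τ, hτ⟩ hc
    have hc' : (orderOf τ).Coprime p := by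
      have : orderOf (⟨τ, hτ⟩ : T) = orderOf τ := Subgroup.orderOf_mk τ hτ
      rwa [this] at hc
    apply Subtype.ext
    show τ = 1
    apply eq_one_of_steps hV W k h0 hk hc'
    intro j _ x hx
    exact (hτ.1 j x hx).1
  refine false_of_commutators hV hX T hTX hTn hTp ?_
  intro a ha b hb
  have hcomm : ∀ (a b : MulAut V), a ∈ X → b ∈ X → ∀ j, ∀ x ∈ W j, x⁻¹ * (a * b * a⁻¹ * b⁻¹) x ∈ W (j + 1) := by
    intro a b ha hb j x hx
    rcases lt_or_ge j k with hj | hj
    · obtain ⟨u, hu, hcy⟩ := hcyc j hj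
      have hxx : ∀ z, z ∈ W j → (a (b z) * (b (a z))⁻¹ ∈ W (j + 1)) := fun z hz =>
        comm_mem_of_cyclic (hNorm (j + 1)) hu hcy (hinv a ha _) (hinv b hb _) (hinv a ha _) (hinv b hb _) hz
      have hz : a⁻¹ (b⁻¹ x) ∈ W j := hinv' a ha _ _ (hinv' b hb _ _ hx)
      have h1 := hxx _ hz
      have h2 : b (a (a⁻¹ (b⁻¹ x))) = x := by simp
      rw [h2] at h1
      have h3 : a (b (a⁻¹ (b⁻¹ x))) = (a * b * a⁻¹ * b⁻¹) x := rfl
      rw [h3] at h1
      have hn := hNorm (j + 1)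
      have h4 := hn.conj_mem _ h1 x⁻¹
      have h5 : x⁻¹ * ((a * b * a⁻¹ * b⁻¹) x * x⁻¹) * x⁻¹⁻¹ = x⁻¹ * (a * b * a⁻¹ * b⁻¹) x := by group
      rwa [h5] at h4
    · rw [hk j hj] at hx
      rw [mem_bot] at hx
      rw [hx, map_one, inv_one, one_mul]
      exact one_mem _
  refine ⟨?_, X.mul_mem (X.mul_mem (X.mul_mem ha hb) (X.inv_mem ha)) (X.inv_mem hb)⟩
  intro j x hx
  refine ⟨hcomm a b ha hb j x hx, ?_⟩
  have : (a * b * a⁻¹ * b⁻¹)⁻¹ = b * a * b⁻¹ * a⁻¹ := by group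
  rw [this]
  exact hcomm b a hb ha j x hx

/-- The intersection of a subgroup with a section with a cyclic step has a cyclic step. -/
theorem gen_inter {G : Type*} [Group G] [Finite G] {N : Subgroup G} (hN : N.Normal) (x : G) (P : Subgroup G) :
    ∃ u ∈ P ⊓ (N ⊔ zpowers x), ∀ y ∈ P ⊓ (N ⊔ zpowers x), ∃ m : ℕ, y * (u ^ m)⁻¹ ∈ P ⊓ N := by
  let π := QuotientGroup.mk' N
  let D : Subgroup (G ⧸ N) := (P ⊓ (N ⊔ zpowers x)).map π
  have hDZ : D ≤ zpowers (π x) := by
    rintro _ ⟨y, ⟨-, hy⟩, rfl⟩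
    obtain ⟨n, hn, z, hz, rfl⟩ := mem_sup_of_normal_left.1 hy
    obtain ⟨k, rfl⟩ := mem_zpowers_iff.1 hz
    rw [map_mul]
    have h1 : π n = 1 := (QuotientGroup.eq_one_iff n).2 hn
    rw [h1, one_mul, map_zpow]
    exact zpow_mem (mem_zpowers _) k
  haveI hcycD : IsCyclic D :=
    isCyclic_of_injective (Subgroup.inclusion hDZ) (Subgroup.inclusion_injective hDZ)
  obtain ⟨⟨d, hd⟩, hgen⟩ := hcycD.exists_generator
  obtain ⟨u, hu, rfl⟩ := hd
  refine ⟨u, hu, fun y hy => ?_⟩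
  have h1 : (⟨π y, ⟨y, hy, rfl⟩⟩ : D) ∈ zpowers (⟨π u, ⟨u, hu, rfl⟩⟩ : D) := hgen _
  rw [← mem_powers_iff_mem_zpowers] at h1
  obtain ⟨m, hm⟩ := h1
  refine ⟨m, P.mul_mem hy.1 (P.inv_mem (P.pow_mem hu.1 m)), ?_⟩
  have h2 := congrArg Subtype.val hm
  simp only [SubmonoidClass.coe_pow] at h2
  show y * (u ^ m)⁻¹ ∈ N
  rw [← QuotientGroup.eq_one_iff, QuotientGroup.mk_mul, QuotientGroup.mk_inv, QuotientGroup.mk_pow]
  show π y * (π u ^ m)⁻¹ = 1
  rw [← h2]
  simp

end abstract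

section system

variable {Ω : Type*} [Group Ω] {S : Subgroup Ω}

/-- The fusion system over `S` whose maps are the restrictions of the elements of `A ≥ Inn S`. -/
def autSys (A : Subgroup (MulAut S)) (hA : Inn S ≤ A) : FusionSystem S where
  Hom P := {φ | ∃ hP : P ≤ S, ∃ α ∈ A, ∀ x : P, φ x = ((α ⟨x, hP x.2⟩ : S) : Ω)}
  le_of_mem := by
    rintro P φ ⟨hP, α, -, h⟩
    exact ⟨hP, fun x => (h x).symm ▸ (α _).2⟩
  injective_of_mem := by
    rintro P φ ⟨hP, α, -, h⟩ a b hab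
    have h1 := (h a).symm.trans (hab.trans (h b))
    have h2 := α.injective (Subtype.ext h1)
    have h3 : (a : Ω) = (b : Ω) := congrArg (Subtype.val : S → Ω) h2
    exact Subtype.ext h3
  conj_mem := by
    intro P g hP hg
    exact ⟨hP, MulAut.conj (⟨g, hg⟩ : S), hA ⟨_, rfl⟩, fun x => rfl⟩
  comp_mem := by
    rintro P Q φ ψ ⟨hP, α, hα, h⟩ ⟨hQ, β, hβ, k⟩ hh
    refine ⟨hP, β * α, A.mul_mem hβ hα, fun x => ?_⟩
    show ψ (φ.codRestrict Q hh x) = _
    rw [k]
    have h1 : (⟨((φ.codRestrict Q hh x : Q) : Ω), hQ (φ.codRestrict Q hh x).2⟩ : S) = α ⟨x, hP x.2⟩ :=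
      Subtype.ext (h x)
    rw [h1]
    rfl
  inv_mem := by
    rintro P φ ⟨hP, α, hα, h⟩
    have hr : φ.range ≤ S := by
      rintro _ ⟨x, rfl⟩
      rw [h]
      exact (α _).2
    refine ⟨S.subtype.comp ((α⁻¹ : MulAut S).toMonoidHom.comp (Subgroup.inclusion hr)),
      ⟨hr, α⁻¹, A.inv_mem hα, fun x => rfl⟩, fun x => ?_⟩
    show ((α⁻¹ : MulAut S) ⟨φ x, hr ⟨x, rfl⟩⟩ : S).1 = x
    have h1 : (⟨φ x, hr ⟨x, rfl⟩⟩ : S) = α ⟨x, hP x.2⟩ := Subtype.ext (h x)
    rw [h1]
    show (α.symm (α ⟨x, hP x.2⟩) : S).1 = x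
    rw [MulEquiv.symm_apply_apply]

theorem mem_autSys {A : Subgroup (MulAut S)} {hA : Inn S ≤ A} {P : Subgroup Ω} {φ : P →* Ω} :
    φ ∈ (autSys A hA).Hom P ↔ ∃ hP : P ≤ S, ∃ α ∈ A, ∀ x : P, φ x = ((α ⟨x, hP x.2⟩ : S) : Ω) := Iff.rfl

variable {p : ℕ} [hp : Fact p.Prime] [Finite S]

/-- The semidirect product `S ⋊ H` realizes the system of `Inn S ⊔ H`, so it is saturated. -/
theorem autSys_isSaturated (hS : IsPGroup p S) (H : Subgroup (MulAut S)) (hH : (Nat.card H).Coprime p) :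
    (autSys (Inn S ⊔ H) le_sup_left).IsSaturated p := by
  have hfinA : Finite (MulAut S) := finite_mulAut
  let G := SemidirectProduct (↥S) (↥H) H.subtype
  haveI hG : Finite G := Finite.of_equiv _ SemidirectProduct.equivProd.symm
  let ι : S →* G := SemidirectProduct.inl
  have hinj : Function.Injective ι := SemidirectProduct.inl_injective
  have hconj : ∀ (g : G) (x : S), g * ι x * g⁻¹ = ι ((MulAut.conj g.left) ((g.right : MulAut S) x)) := by
    intro g x
    conv_lhs => rw [← SemidirectProduct.inl_left_mul_inr_right g]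
    rw [mul_inv_rev]
    have h1 : (SemidirectProduct.inr g.right : G) * ι x * (SemidirectProduct.inr g.right)⁻¹ =
        ι ((g.right : MulAut S) x) := by
      rw [← map_inv]
      exact (SemidirectProduct.inl_aut (φ := H.subtype) g.right x).symm
    calc (SemidirectProduct.inl g.left * SemidirectProduct.inr g.right : G) * ι x *
          ((SemidirectProduct.inr g.right)⁻¹ * (SemidirectProduct.inl g.left)⁻¹)
        = (SemidirectProduct.inl g.left : G) * ((SemidirectProduct.inr g.right : G) * ι x * (SemidirectProduct.inr g.right)⁻¹) *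
          (SemidirectProduct.inl g.left)⁻¹ := by group
      _ = ι (g.left * ((g.right : MulAut S) x) * g.left⁻¹) := by
          rw [h1, ← map_inv]
          show ι g.left * ι _ * ι _ = _
          rw [← map_mul, ← map_mul]
      _ = _ := rfl
  have hreal : (autSys (Inn S ⊔ H) le_sup_left).IsRealizedBy ι := by
    refine ⟨hinj, fun P hP φ hφ => ?_⟩
    constructor
    · rintro ⟨hP', α, hα, h⟩
      obtain ⟨n, ⟨g, rfl⟩, k, hk, rfl⟩ := mem_sup_of_normal_left.1 hα
      refine ⟨(⟨g, ⟨k, hk⟩⟩ : G), fun x => ?_⟩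
      rw [hconj]
      congr 1
      exact Subtype.ext (h x)
    · rintro ⟨g, hg⟩
      refine ⟨hP, (MulAut.conj g.left) * (g.right : MulAut S),
        mul_mem (mem_sup_left ⟨_, rfl⟩) (mem_sup_right g.right.2), fun x => ?_⟩
      have h1 := hg x
      rw [hconj] at h1
      have h2 := hinj h1
      exact congrArg Subtype.val h2
  have hcard : Nat.card G = Nat.card S * Nat.card H := by
    rw [Nat.card_congr SemidirectProduct.equivProd, Nat.card_prod]
  have hcr : Nat.card ι.range = Nat.card S := Nat.card_congr (MonoidHom.ofInjective hinj).symm.toEquiv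
  have hri : ι.range.index = Nat.card H := by
    have h1 := card_mul_index ι.range
    rw [hcr, hcard] at h1
    exact Nat.eq_of_mul_eq_mul_left Nat.card_pos h1
  have hrp : IsPGroup p ι.range := hS.of_equiv (MonoidHom.ofInjective hinj)
  have hrn : ¬ p ∣ ι.range.index := by
    rw [hri]
    intro hd
    have := Nat.Coprime.eq_one_of_dvd hH.symm hd
    exact hp.out.one_lt.ne' this
  exact Cfsg.Agent.Lib.FusionExt.Realized.isSaturated_of_isRealizedBy hreal (hrp.toSylow hrn) rfl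

end system

section bridge

variable {Ω : Type*} [Group Ω] {S : Subgroup Ω}

/-- A strongly closed chain with cyclic steps. -/
def HasChain (F : FusionSystem S) : Prop :=
  ∃ (m : ℕ) (c : Fin (m + 1) → Subgroup Ω), c 0 = ⊥ ∧ c (Fin.last m) = S ∧ (∀ i : Fin (m + 1), F.StronglyClosed (c i)) ∧
    ∀ i : Fin m, c i.castSucc ≤ c i.succ ∧ ∃ x ∈ S, c i.succ = c i.castSucc ⊔ Subgroup.zpowers x

/-- A chain as a descending sequence. -/
theorem HasChain.exists_seq {F : FusionSystem S} (h : HasChain F) :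
    ∃ (m : ℕ) (d : ℕ → Subgroup Ω), (∀ j, F.StronglyClosed (d j)) ∧ Antitone d ∧ d 0 = S ∧ (∀ j, m ≤ j → d j = ⊥) ∧
      ∀ j, j < m → ∃ x ∈ S, d j = d (j + 1) ⊔ zpowers x := by
  obtain ⟨m, c, h0, hl, hsc, hst⟩ := h
  have hmono : Monotone c := Fin.monotone_iff_le_succ.2 fun i => (hst i).1
  let e : ℕ → Fin (m + 1) := fun j => ⟨m - j, by omega⟩
  have he : Antitone e := by
    intro a b hab
    show m - b ≤ m - a
    omega
  refine ⟨m, fun j => c (e j), fun j => hsc _, hmono.comp_antitone he, ?_, ?_, ?_⟩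
  · show c ⟨m - 0, _⟩ = S
    rw [← hl]
    rfl
  · intro j hj
    show c ⟨m - j, _⟩ = ⊥
    rw [← h0]
    congr 1
    ext
    simp [Nat.sub_eq_zero_of_le hj]
  · intro j hj
    obtain ⟨-, x, hx, h1⟩ := hst ⟨m - j - 1, by omega⟩
    refine ⟨x, hx, ?_⟩
    have h2 : (⟨m - j - 1, by omega⟩ : Fin m).succ = e j := by
      ext
      simp only [Fin.val_succ, e]
      omega
    have h3 : (⟨m - j - 1, by omega⟩ : Fin m).castSucc = e (j + 1) := by
      ext
      simp only [Fin.val_castSucc, e]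
      omega
    rw [h2, h3] at h1
    exact h1

/-- A step of a chain intersected with a subgroup of `S`. -/
theorem cyc_subgroupOf [Finite S] {F : FusionSystem S} {N C P : Subgroup Ω} (hN : F.StronglyClosed N) {x : Ω} (hx : x ∈ S)
    (hC : C = N ⊔ zpowers x) (hP : P ≤ S) :
    ∃ u ∈ C.subgroupOf P, ∀ y ∈ C.subgroupOf P, ∃ m : ℕ, y * (u ^ m)⁻¹ ∈ N.subgroupOf P := by
  have hNS : N ≤ S := hN.1
  have hNn : (N.subgroupOf S).Normal := by
    constructor
    intro n hn g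
    show ((g : Ω) * n * (g : Ω)⁻¹) ∈ N
    exact Cfsg.Agent.Lib.FusionTheory.Normal.StronglyClosed.conj_mem F hN g.2 hn
  obtain ⟨u, hu, hgen⟩ := gen_inter hNn (⟨x, hx⟩ : S) (P.subgroupOf S)
  have hle : N ⊔ zpowers x ≤ S := sup_le hNS ((zpowers_le).2 hx)
  have hsup : (N.subgroupOf S) ⊔ zpowers (⟨x, hx⟩ : S) = C.subgroupOf S := by
    rw [hC, Subgroup.subgroupOf_sup hNS ((zpowers_le).2 hx)]
    congr 1
    ext y
    simp only [mem_subgroupOf, mem_zpowers_iff]
    constructor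
    · rintro ⟨k, hk⟩
      exact ⟨k, by rw [← hk]; simp⟩
    · rintro ⟨k, hk⟩
      exact ⟨k, Subtype.ext (by simpa using hk)⟩
  rw [hsup] at hu hgen
  refine ⟨⟨u, hu.1⟩, hu.2, fun y hy => ?_⟩
  have hyS : (y : Ω) ∈ S := hP y.2
  obtain ⟨m, hm⟩ := hgen ⟨y, hyS⟩ ⟨y.2, hy⟩
  refine ⟨m, ?_⟩
  have h1 := hm.2
  exact h1

end bridge

section forward

variable {Ω : Type*} [Group Ω] {S : Subgroup Ω} [Finite S] {p : ℕ} [hp : Fact p.Prime]

/-- A saturated system with a chain has no essential subgroup. -/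
theorem isNormal_of_hasChain (hS : IsPGroup p S) {F : FusionSystem S} (hF : F.IsSaturated p) (h : HasChain F) :
    F.IsNormal S := by
  apply Cfsg.Agent.Lib.FusionTheory.Normal.isNormal_top_of_no_essential F hS hF
  intro P hP
  exfalso
  obtain ⟨m, d, hsc, hanti, h0, hbot, hst⟩ := h.exists_seq
  have hPS : P ≤ S := hP.1.1
  haveI : Finite P := finite_of_le hPS
  have hV : IsPGroup p P := by
    have h1 : IsPGroup p (P.subgroupOf S) := hS.to_subgroup _
    exact h1.of_equiv (Subgroup.subgroupOfEquivOfLe hPS)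
  refine chain_false_bot hV (essAut_of_isEssential hS F hP) (fun j => (d j).subgroupOf P) ?_ m ?_ ?_ ?_ ?_
  · intro a b hab x hx
    exact hanti hab hx
  · show (d 0).subgroupOf P = ⊤
    rw [h0]
    exact Subgroup.subgroupOf_eq_top.2 hPS
  · intro j hj
    show (d j).subgroupOf P = ⊥
    rw [hbot j hj]
    exact Subgroup.bot_subgroupOf P
  · intro ρ hρ j x hx
    exact Cfsg.Agent.Lib.FusionTheory.Normal.StronglyClosed.aut_mem F (hsc j) hPS hρ hx
  · intro j hj
    obtain ⟨x, hx, h1⟩ := hst j hj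
    exact cyc_subgroupOf (hsc (j + 1)) hx h1 hPS

/-- `p'`-automorphism groups: abelian of exponent dividing `p - 1`, when the system of `Inn S ⊔ H` has a chain. -/
theorem aut_facts_of_hasChain (hS : IsPGroup p S) (H : Subgroup (MulAut S)) (hH : (Nat.card H).Coprime p)
    (h : HasChain (autSys (Inn S ⊔ H) le_sup_left)) : IsMulCommutative H ∧ ∀ a ∈ H, a ^ (p - 1) = 1 := by
  obtain ⟨m, d, hsc, hanti, h0, hbot, hst⟩ := h.exists_seq
  have hinv : ∀ ρ ∈ H, ∀ j, ∀ x ∈ (d j).subgroupOf S, ρ x ∈ (d j).subgroupOf S := by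
    intro ρ hρ j x hx
    have hR := (hsc j).1
    let φ : d j →* Ω := S.subtype.comp (ρ.toMonoidHom.comp (Subgroup.inclusion hR))
    have hφ : φ ∈ (autSys (Inn S ⊔ H) le_sup_left).Hom (d j) :=
      ⟨hR, ρ, mem_sup_right hρ, fun _ => rfl⟩
    exact (hsc j).2 (d j) le_rfl φ hφ ⟨x, hx⟩
  have hnorm : ∀ j, ((d j).subgroupOf S).Normal := by
    intro j
    constructor
    intro n hn g
    show ((g : Ω) * n * (g : Ω)⁻¹) ∈ d j
    exact Cfsg.Agent.Lib.FusionTheory.Normal.StronglyClosed.conj_mem _ (hsc j) g.2 hn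
  obtain ⟨h1, h2⟩ := chain_aut_facts hS (fun j => (d j).subgroupOf S) m (by
      show (d 0).subgroupOf S = ⊤
      rw [h0]
      exact Subgroup.subgroupOf_eq_top.2 le_rfl) (by
      intro j hj
      show (d j).subgroupOf S = ⊥
      rw [hbot j hj]
      exact Subgroup.bot_subgroupOf S) hnorm (by
      intro j hj
      obtain ⟨x, hx, h1⟩ := hst j hj
      exact cyc_subgroupOf (hsc (j + 1)) hx h1 le_rfl) H hH hinv
  exact ⟨⟨⟨fun a b => Subtype.ext (h1 a a.2 b b.2)⟩⟩, h2⟩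

end forward

section eigen

variable {p : ℕ} [hp : Fact p.Prime]

open Polynomial in
theorem prod_X_sub_C_zmod : (∏ a : ZMod p, (X - C a) : (ZMod p)[X]) = X ^ p - X := by
  have hq : Fintype.card (ZMod p) = p := ZMod.card p
  have h1 := FiniteField.roots_X_pow_card_sub_X (ZMod p)
  rw [hq] at h1
  have hmonic : ((X ^ p - X : (ZMod p)[X])).Monic := by
    apply monic_X_pow_sub
    rw [degree_X]
    exact_mod_cast hp.out.one_lt
  have hdeg := FiniteField.X_pow_card_sub_X_natDegree_eq (ZMod p) hp.out.one_lt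
  have h2 := prod_multiset_X_sub_C_of_monic_of_roots_card_eq hmonic (by
    rw [h1, hdeg]
    simp [Finset.card_univ, hq])
  rw [h1] at h2
  exact h2

open Polynomial in
/-- An eigenvector from a vanishing product of linear factors. -/
theorem exists_eigen_of_prod {M : Type*} [AddCommGroup M] [Module (ZMod p) M] (T : Module.End (ZMod p) M) (s : Finset (ZMod p))
    {v : M} (hv : v ≠ 0) (h : aeval T (∏ a ∈ s, (X - C a) : (ZMod p)[X]) v = 0) : ∃ a : ZMod p, ∃ w : M, w ≠ 0 ∧ T w = a • w := by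
  classical
  induction s using Finset.induction_on generalizing v with
  | empty =>
    simp at h
    exact absurd h hv
  | insert a s ha ih =>
    rw [Finset.prod_insert ha, map_mul, Module.End.mul_apply] at h
    by_cases hw : aeval T (∏ a ∈ s, (X - C a) : (ZMod p)[X]) v = 0
    · exact ih hv hw
    · refine ⟨a, _, hw, ?_⟩
      rw [map_sub, aeval_X, aeval_C, LinearMap.sub_apply, sub_eq_zero] at h
      simpa [Module.algebraMap_end_apply] using h

theorem exists_eigen_aux {U : Type*} [CommGroup U] [Module (ZMod p) (Additive U)]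
    {u₀ : U} (hu₀ : u₀ ≠ 1) (f : U →* U) (hf : ∀ u, f^[p - 1] u = u) : ∃ (c : ℕ) (u : U), u ≠ 1 ∧ f u = u ^ c := by
  let T : Module.End (ZMod p) (Additive U) := (MonoidHom.toAdditive f).toZModLinearMap p
  have hT : ∀ x, T x = Additive.ofMul (f (Additive.toMul x)) := fun x => rfl
  have hit : ∀ (n : ℕ) (x : Additive U), (T ^ n) x = Additive.ofMul (f^[n] (Additive.toMul x)) := by
    intro n
    induction n with
    | zero => intro x; rfl
    | succ n ih =>
      intro x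
      rw [pow_succ', Module.End.mul_apply, ih, hT, Function.iterate_succ_apply']
      rfl
  have hpm : p = (p - 1) + 1 := by
    have := hp.out.one_lt
    omega
  have hval : Polynomial.aeval T (∏ a : ZMod p, (Polynomial.X - Polynomial.C a) : Polynomial (ZMod p)) (Additive.ofMul u₀) = 0 := by
    rw [prod_X_sub_C_zmod, map_sub, map_pow, Polynomial.aeval_X, LinearMap.sub_apply, sub_eq_zero]
    have h4 : T ^ p = T ^ (p - 1) * T := by rw [← pow_succ, Nat.sub_add_cancel hp.out.one_lt.le]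
    rw [h4, Module.End.mul_apply, hit, hT]
    exact congrArg Additive.ofMul (hf _)
  obtain ⟨a, w, hw, haw⟩ := exists_eigen_of_prod T Finset.univ (v := Additive.ofMul u₀) (by
    intro h
    exact hu₀ (Additive.ofMul.injective h)) hval
  refine ⟨a.val, Additive.toMul w, ?_, ?_⟩
  · intro h
    exact hw (Additive.toMul.injective h)
  · have h1 : T w = a.val • w := by
      rw [haw]
      conv_lhs => rw [← ZMod.natCast_zmod_val a]
      exact Nat.cast_smul_eq_nsmul (ZMod p) _ _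
    exact congrArg Additive.toMul h1

/-- An endomorphism `f` of an elementary abelian `p`-group with `f ^ (p - 1) = 1` has an eigenvector. -/
theorem exists_eigen {U : Type*} [Group U] [Finite U] (hc : ∀ a b : U, a * b = b * a) (hexp : ∀ u : U, u ^ p = 1)
    {u₀ : U} (hu₀ : u₀ ≠ 1) (f : U →* U) (hf : ∀ u, f^[p - 1] u = u) : ∃ (c : ℕ) (u : U), u ≠ 1 ∧ f u = u ^ c := by
  letI cg : CommGroup U := { (inferInstance : Group U) with mul_comm := hc }
  have hnz : ∀ x : Additive U, p • x = 0 := by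
    intro x
    exact hexp (Additive.toMul x)
  letI m : Module (ZMod p) (Additive U) := AddCommGroup.zmodModule hnz
  exact @exists_eigen_aux p hp U cg m u₀ hu₀ f hf

/-- A commuting family of endomorphisms of an elementary abelian `p`-group, of exponent dividing `p - 1`,
has a common eigenvector. -/
theorem exists_common_eigen {W : Type*} [Group W] [Finite W] (hc : ∀ a b : W, a * b = b * a) (hexp : ∀ u : W, u ^ p = 1)
    {w₀ : W} (hw₀ : w₀ ≠ 1) (𝓕 : Set (W →* W)) (hcomm : ∀ f ∈ 𝓕, ∀ g ∈ 𝓕, ∀ w, f (g w) = g (f w))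
    (hfe : ∀ f ∈ 𝓕, ∀ w, f^[p - 1] w = w) : ∃ w : W, w ≠ 1 ∧ ∀ f ∈ 𝓕, ∃ c : ℕ, f w = w ^ c := by
  let 𝒰 : Set (Subgroup W) := {U | U ≠ ⊥ ∧ ∀ f ∈ 𝓕, ∀ u ∈ U, f u ∈ U}
  have hne : 𝒰.Nonempty := by
    refine ⟨⊤, ?_, fun _ _ _ _ => mem_top _⟩
    intro h
    have : w₀ ∈ (⊤ : Subgroup W) := mem_top _
    rw [h] at this
    exact hw₀ this
  obtain ⟨U, ⟨hU1, hU2⟩, hUmin⟩ := (wellFounded_lt (α := Subgroup W)).has_min 𝒰 hne
  obtain ⟨w, hwU, hw1⟩ := (U.bot_or_exists_ne_one).resolve_left hU1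
  refine ⟨w, hw1, fun f hf => ?_⟩
  let fU : U →* U := (f.comp U.subtype).codRestrict U (fun x => hU2 f hf x x.2)
  have hfU : ∀ (n : ℕ) (x : U), ((fU^[n] x : U) : W) = f^[n] x := by
    intro n
    induction n with
    | zero => intro x; rfl
    | succ n ih =>
      intro x
      rw [Function.iterate_succ_apply', Function.iterate_succ_apply', ← ih]
      rfl
  obtain ⟨c, u, hu1, hu2⟩ := exists_eigen (U := U) (fun a b => Subtype.ext (hc a b)) (fun u => Subtype.ext (hexp u))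
    (u₀ := ⟨w, hwU⟩) (fun h => hw1 (congrArg Subtype.val h)) fU (fun x => Subtype.ext (by
      rw [hfU]
      exact hfe f hf x))
  let E : Subgroup W :=
    { carrier := {x | x ∈ U ∧ f x = x ^ c}
      mul_mem' := by
        rintro a b ⟨ha, ha'⟩ ⟨hb, hb'⟩
        refine ⟨U.mul_mem ha hb, ?_⟩
        rw [map_mul, ha', hb']
        exact ((show Commute a b from hc a b).mul_pow c).symm
      one_mem' := ⟨U.one_mem, by simp⟩
      inv_mem' := by
        rintro a ⟨ha, ha'⟩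
        exact ⟨U.inv_mem ha, by rw [map_inv, ha', inv_pow]⟩ }
  have hEU : E ≤ U := fun x hx => hx.1
  have hE : E ∈ 𝒰 := by
    refine ⟨?_, ?_⟩
    · intro h
      have h1 : (u : W) ∈ E := ⟨u.2, congrArg Subtype.val hu2⟩
      rw [h] at h1
      exact hu1 (Subtype.ext h1)
    · rintro g hg x ⟨hx, hx'⟩
      refine ⟨hU2 g hg x hx, ?_⟩
      rw [hcomm f hf g hg, hx', map_pow]
  have hEeq : E = U := by
    by_contra hcon
    exact hUmin E hE (lt_of_le_of_ne hEU hcon)
  have : w ∈ E := by rw [hEeq]; exact hwU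
  exact ⟨c, this.2⟩

end eigen

section step

variable {G : Type*} [Group G] [Finite G] {p : ℕ} [hp : Fact p.Prime]

/-- The next term of a chain invariant under an abelian group of automorphisms of exponent dividing `p - 1`. -/
theorem exists_step (hG : IsPGroup p G) (V : Subgroup G) [hVn : V.Normal] (hV : V ≠ ⊤) (H : Subgroup (MulAut G))
    (hcomm : ∀ a ∈ H, ∀ b ∈ H, a * b = b * a) (hexp : ∀ h ∈ H, h ^ (p - 1) = 1) (hinv : ∀ h ∈ H, ∀ x ∈ V, h x ∈ V) :
    ∃ x : G, x ∉ V ∧ (∀ s : G, s * x * s⁻¹ * x⁻¹ ∈ V) ∧ ∀ h ∈ H, ∃ c : ℕ, h x * (x ^ c)⁻¹ ∈ V := by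
  have hfinA : Finite (MulAut G) := finite_mulAut
  let π := QuotientGroup.mk' V
  have hπs : Function.Surjective π := QuotientGroup.mk'_surjective V
  have hQ : IsPGroup p (G ⧸ V) := hG.to_quotient V
  let W : Subgroup (G ⧸ V) :=
    { carrier := {z | z ∈ center (G ⧸ V) ∧ z ^ p = 1}
      mul_mem' := by
        rintro a b ⟨ha, ha'⟩ ⟨hb, hb'⟩
        refine ⟨mul_mem ha hb, ?_⟩
        have hab : Commute a b := ((mem_center_iff.1 hb) a)
        rw [hab.mul_pow, ha', hb', one_mul]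
      one_mem' := ⟨one_mem _, one_pow _⟩
      inv_mem' := by
        rintro a ⟨ha, ha'⟩
        exact ⟨inv_mem ha, by rw [inv_pow, ha', inv_one]⟩ }
  have hWc : ∀ a b : W, a * b = b * a := fun a b =>
    Subtype.ext ((mem_center_iff.1 b.2.1) (a : G ⧸ V))
  have hWe : ∀ a : W, a ^ p = 1 := fun a => Subtype.ext a.2.2
  -- non-triviality
  have hQne : (⊤ : Subgroup (G ⧸ V)) ≠ ⊥ := by
    intro h
    apply hV
    rw [eq_top_iff]
    intro x _
    have h1 : π x ∈ (⊤ : Subgroup (G ⧸ V)) := mem_top _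
    rw [h] at h1
    exact (QuotientGroup.eq_one_iff x).1 h1
  obtain ⟨z, -, hzc, hzo⟩ := Cfsg.Agent.Lib.PGroups.Basic.exists_central_orderOf_eq hQ ⊤ hQne
  have hzp : z ^ p = 1 := by
    rw [← hzo]
    exact pow_orderOf_eq_one z
  have hz1 : z ≠ 1 := by
    rintro rfl
    rw [orderOf_one] at hzo
    exact hp.out.one_lt.ne hzo
  -- the induced action
  have hmapV : ∀ h ∈ H, V.map h.toMonoidHom = V := by
    intro h hh
    apply le_antisymm
    · rintro _ ⟨x, hx, rfl⟩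
      exact hinv h hh x hx
    · intro x hx
      refine ⟨h⁻¹ x, hinv _ (H.inv_mem hh) x hx, ?_⟩
      show h (h⁻¹ x) = x
      simp
  let ind : ∀ h ∈ H, (G ⧸ V) ≃* (G ⧸ V) := fun h hh => QuotientGroup.congr V V h (hmapV h hh)
  have hind : ∀ h (hh : h ∈ H) (x : G), ind h hh (π x) = π (h x) := fun _ _ _ => rfl
  have hindW : ∀ h (hh : h ∈ H) (w : W), ind h hh w ∈ W := by
    intro h hh w
    refine ⟨?_, ?_⟩
    · rw [mem_center_iff]
      intro g
      obtain ⟨g', rfl⟩ := (ind h hh).surjective g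
      rw [← map_mul, ← map_mul, (mem_center_iff.1 w.2.1) g']
    · rw [← map_pow, w.2.2, map_one]
  let fW : ∀ h ∈ H, W →* W := fun h hh =>
    ((ind h hh).toMonoidHom.comp W.subtype).codRestrict W (fun w => hindW h hh w)
  have hfW : ∀ h (hh : h ∈ H) (w : W), ((fW h hh w : W) : G ⧸ V) = ind h hh w := fun _ _ _ => rfl
  have hfWl : ∀ h (hh : h ∈ H) (w : W) (x : G), π x = w → ((fW h hh w : W) : G ⧸ V) = π (h x) := by
    intro h hh w x hx
    show ind h hh (w : G ⧸ V) = π (h x)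
    rw [← hx]
    rfl
  let 𝓕 : Set (W →* W) := {f | ∃ h, ∃ hh : h ∈ H, f = fW h hh}
  have hiter : ∀ h (hh : h ∈ H) (n : ℕ) (w : W) (x : G), π x = w → (((fW h hh)^[n] w : W) : G ⧸ V) = π ((h ^ n) x) := by
    intro h hh n
    induction n with
    | zero =>
      intro w x hx
      rw [Function.iterate_zero_apply, pow_zero]
      exact hx.symm
    | succ n ih =>
      intro w x hx
      rw [Function.iterate_succ_apply', pow_succ', MulAut.mul_apply]
      exact hfWl h hh _ _ (ih w x hx).symm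
  obtain ⟨w, hw1, hw⟩ := exists_common_eigen (p := p) hWc hWe (w₀ := ⟨z, hzc, hzp⟩)
    (fun h => hz1 (congrArg Subtype.val h)) 𝓕
    (by
      rintro _ ⟨a, ha, rfl⟩ _ ⟨b, hb, rfl⟩ w
      obtain ⟨x, hx⟩ := hπs (w : G ⧸ V)
      apply Subtype.ext
      rw [hfWl a ha _ (b x) (hfWl b hb w x hx).symm, hfWl b hb _ (a x) (hfWl a ha w x hx).symm]
      show π ((a * b) x) = π ((b * a) x)
      rw [hcomm a ha b hb])
    (by
      rintro _ ⟨a, ha, rfl⟩ w
      obtain ⟨x, hx⟩ := hπs (w : G ⧸ V)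
      apply Subtype.ext
      rw [hiter a ha _ w x hx, hexp a ha]
      exact hx)
  obtain ⟨x, hx⟩ := hπs (w : G ⧸ V)
  refine ⟨x, ?_, ?_, ?_⟩
  · intro hxV
    apply hw1
    apply Subtype.ext
    show (w : G ⧸ V) = 1
    rw [← hx]
    exact (QuotientGroup.eq_one_iff x).2 hxV
  · intro s
    have h1 : π (s * x * s⁻¹ * x⁻¹) = 1 := by
      rw [map_mul, map_mul, map_mul, map_inv, map_inv, hx, (mem_center_iff.1 w.2.1) (π s)]
      group
    exact (QuotientGroup.eq_one_iff _).1 h1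
  · intro h hh
    obtain ⟨c, hc⟩ := hw (fW h hh) ⟨h, hh, rfl⟩
    refine ⟨c, ?_⟩
    have h1 := congrArg Subtype.val hc
    rw [hfWl h hh w x hx] at h1
    have h2 : π (h x * (x ^ c)⁻¹) = 1 := by
      rw [map_mul, map_inv, map_pow, hx, h1]
      simp
    exact (QuotientGroup.eq_one_iff _).1 h2

/-- An automorphism stabilizing `V` and sending `x` into `V ⊔ ⟨x⟩` stabilizes `V ⊔ ⟨x⟩`. -/
theorem map_sup_zpowers {V : Subgroup G} {x : G} {α : MulAut G} (hV : ∀ y ∈ V, α y ∈ V)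
    (hx : α x ∈ V ⊔ zpowers x) {y : G} (hy : y ∈ V ⊔ zpowers x) : α y ∈ V ⊔ zpowers x := by
  have hle : V ⊔ zpowers x ≤ (V ⊔ zpowers x).comap α.toMonoidHom := by
    refine sup_le ?_ ?_
    · intro v hv
      exact mem_sup_left (hV v hv)
    · rw [zpowers_le]
      exact hx
  exact hle hy

/-- A chain of invariant normal subgroups with cyclic steps. -/
theorem exists_chain (hG : IsPGroup p G) (H : Subgroup (MulAut G))
    (hcomm : ∀ a ∈ H, ∀ b ∈ H, a * b = b * a) (hexp : ∀ h ∈ H, h ^ (p - 1) = 1) (V : Subgroup G) :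
    V.Normal → (∀ h ∈ H, ∀ x ∈ V, h x ∈ V) →
    ∃ (m : ℕ) (c : Fin (m + 1) → Subgroup G), c 0 = V ∧ c (Fin.last m) = ⊤ ∧
      (∀ i, (c i).Normal ∧ ∀ h ∈ H, ∀ x ∈ c i, h x ∈ c i) ∧
      ∀ i : Fin m, c i.castSucc ≤ c i.succ ∧ ∃ x, c i.succ = c i.castSucc ⊔ zpowers x := by
  induction V using WellFoundedGT.induction with
  | ind V ih =>
  intro hVn hVinv
  by_cases hV : V = ⊤
  · refine ⟨0, fun _ => V, rfl, hV, fun _ => ⟨hVn, hVinv⟩, fun i => i.elim0⟩
  obtain ⟨x, hxV, hxc, hxh⟩ := exists_step hG V hV H hcomm hexp hVinv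
  let L : Subgroup G := V ⊔ zpowers x
  have hVL : V < L := by
    refine lt_of_le_of_ne le_sup_left ?_
    intro h
    apply hxV
    rw [h]
    exact mem_sup_right (mem_zpowers x)
  have hxmem : ∀ {v k : G}, v ∈ V → k ∈ zpowers x → v * k ∈ L := fun hv hk =>
    mul_mem (mem_sup_left hv) (mem_sup_right hk)
  have hLn : L.Normal := by
    constructor
    intro n hn g
    have h1 := map_sup_zpowers (α := MulAut.conj g) (V := V) (x := x)
      (fun y hy => hVn.conj_mem y hy g) (by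
        have h2 : (MulAut.conj g) x = (g * x * g⁻¹ * x⁻¹) * x := by
          simp [MulAut.conj_apply]
        rw [h2]
        exact hxmem (hxc g) (mem_zpowers x)) hn
    exact h1
  have hLinv : ∀ h ∈ H, ∀ y ∈ L, h y ∈ L := by
    intro h hh y hy
    refine map_sup_zpowers (hVinv h hh) ?_ hy
    obtain ⟨c, hc⟩ := hxh h hh
    have h2 : h x = (h x * (x ^ c)⁻¹) * x ^ c := by group
    rw [h2]
    exact hxmem hc (pow_mem (mem_zpowers x) c)
  obtain ⟨m, c, h0, hl, hinv, hst⟩ := ih L hVL hLn hLinv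
  refine ⟨m + 1, Fin.cons V c, rfl, ?_, ?_, ?_⟩
  · rw [← Fin.succ_last, Fin.cons_succ]
    exact hl
  · intro i
    refine Fin.cases ?_ (fun j => ?_) i
    · exact ⟨hVn, hVinv⟩
    · rw [Fin.cons_succ]
      exact hinv j
  · intro i
    refine Fin.cases ?_ (fun j => ?_) i
    · rw [Fin.castSucc_zero, Fin.cons_zero, Fin.cons_succ, h0]
      exact ⟨hVL.le, x, rfl⟩
    · rw [← Fin.succ_castSucc, Fin.cons_succ, Fin.cons_succ]
      exact hst j

end step

section backward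

variable {Ω : Type*} [Group Ω] {S : Subgroup Ω} [Finite S] {p : ℕ} [hp : Fact p.Prime]

theorem autInducedBy_self : autInducedBy S S = Inn S := by
  apply le_antisymm
  · unfold autInducedBy
    rw [closure_le]
    rintro α ⟨g, hg, h⟩
    refine ⟨⟨g, hg⟩, ?_⟩
    ext x
    exact (h x).symm
  · exact inn_le_autInducedBy S le_rfl

/-- If `S` is normal in `F` and `p'`-groups of automorphisms are abelian of exponent dividing `p - 1`, there is a chain. -/
theorem hasChain_of_isNormal (hS : IsPGroup p S) {F : FusionSystem S} (hF : F.IsSaturated p) (hN : F.IsNormal S)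
    (hH : ∀ H : Subgroup (MulAut S), (Nat.card H).Coprime p → IsMulCommutative H ∧ ∀ h ∈ H, h ^ (p - 1) = 1) :
    HasChain F := by
  have hfinA : Finite (MulAut S) := finite_mulAut
  have hA : F.IsFullyAutomized p S :=
    Cfsg.Agent.Lib.Fusion.Saturation.isFullyAutomized_of_isFullyNormalized F hS hF
      (Cfsg.Agent.Lib.Fusion.Saturation2.isFullyNormalized_top F hS)
  obtain ⟨-, R, hR⟩ := hA
  rw [autInducedBy_self] at hR
  let A := F.autGroup S
  let N : Subgroup A := (Inn S).subgroupOf A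
  haveI hNn : N.Normal := Subgroup.Normal.subgroupOf inferInstance A
  have hNR : N = (R : Subgroup A) := hR.symm
  have hindex : ¬ p ∣ N.index := by
    rw [hNR]
    exact R.not_dvd_index
  have hNp : IsPGroup p N := by
    rw [hNR]
    exact R.isPGroup'
  have hcop : Nat.Coprime (Nat.card N) N.index := by
    obtain ⟨k, hk⟩ := IsPGroup.iff_card.1 hNp
    rw [hk]
    exact ((hp.out.coprime_iff_not_dvd).2 hindex).pow_left k
  obtain ⟨H₀, hc⟩ := Subgroup.exists_right_complement'_of_coprime hcop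
  let H : Subgroup (MulAut S) := H₀.map A.subtype
  have hcH : Nat.card H = N.index := by
    have h1 : Nat.card H = Nat.card H₀ := Nat.card_congr
      (Subgroup.equivMapOfInjective _ _ A.subtype_injective).symm.toEquiv
    rw [h1]
    exact hc.symm.index_eq_card.symm
  obtain ⟨hH1, hH2⟩ := hH H (by
    rw [hcH]
    exact ((hp.out.coprime_iff_not_dvd).2 hindex).symm)
  have hHc : ∀ a ∈ H, ∀ b ∈ H, a * b = b * a := fun a ha b hb =>
    congrArg Subtype.val (hH1.is_comm.comm ⟨a, ha⟩ ⟨b, hb⟩)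
  have hdecomp : ∀ β ∈ A, ∃ g : S, ∃ h ∈ H, β = MulAut.conj g * h := by
    intro β hβ
    obtain ⟨⟨n, h⟩, hnh⟩ := hc.2 ⟨β, hβ⟩
    have h1 : (n : A) * (h : A) = ⟨β, hβ⟩ := hnh
    obtain ⟨g, hg⟩ := n.2
    refine ⟨g, ((h : A) : MulAut S), ⟨h, h.2, rfl⟩, ?_⟩
    have h2 : ((n : A) : MulAut S) * ((h : A) : MulAut S) = β := congrArg Subtype.val h1
    have hg' : MulAut.conj g = ((n : A) : MulAut S) := hg
    rw [← hg'] at h2
    exact h2.symm
  obtain ⟨m, c, h0, hl, hinv, hst⟩ := exists_chain hS H hHc hH2 ⊥ inferInstance (by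
    intro h _ x hx
    rw [mem_bot] at hx
    rw [hx, map_one]
    exact one_mem _)
  refine ⟨m, fun i => (c i).map S.subtype, ?_, ?_, ?_, ?_⟩
  · show (c 0).map S.subtype = ⊥
    rw [h0, Subgroup.map_bot]
  · show (c (Fin.last m)).map S.subtype = S
    rw [hl, ← MonoidHom.range_eq_map, Subgroup.range_subtype]
  · intro i
    refine ⟨?_, ?_⟩
    · rintro _ ⟨x, -, rfl⟩
      exact x.2
    · intro R' hR' φ hφ x
      have hR'S : R' ≤ S := fun y hy => by
        obtain ⟨z, -, hz⟩ := hR' hy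
        rw [← hz]
        exact z.2
      obtain ⟨β, hβ, hφβ⟩ := Cfsg.Agent.Lib.FusionTheory.Normal.IsNormal.exists_aut F hN hR'S hφ
      obtain ⟨g, h, hh, rfl⟩ := hdecomp β hβ
      rw [hφβ x]
      obtain ⟨z, hz, hzx⟩ := hR' x.2
      have hzeq : (⟨x, hR'S x.2⟩ : S) = z := Subtype.ext hzx.symm
      rw [hzeq]
      exact ⟨(MulAut.conj g * h) z, (hinv i).1.conj_mem _ ((hinv i).2 h hh z hz) g, rfl⟩
  · intro i
    obtain ⟨h1, x, hx⟩ := hst i
    refine ⟨Subgroup.map_mono h1, (x : Ω), x.2, ?_⟩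
    show (c i.succ).map S.subtype = (c i.castSucc).map S.subtype ⊔ zpowers (x : Ω)
    rw [hx, Subgroup.map_sup, MonoidHom.map_zpowers]
    rfl

end backward

section main

variable {Ω : Type*} [Group Ω] {S : Subgroup Ω} [Finite S] {p : ℕ} [hp : Fact p.Prime]

/-- **Main theorem.** -/
theorem supersoluble_iff (hS : IsPGroup p S) :
    (∀ F : FusionSystem S, F.IsSaturated p → HasChain F) ↔
      (∀ F : FusionSystem S, F.IsSaturated p → F.IsNormal S) ∧
        ∀ H : Subgroup (MulAut S), (Nat.card H).Coprime p → IsMulCommutative H ∧ ∀ h ∈ H, h ^ (p - 1) = 1 := by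
  constructor
  · intro h
    refine ⟨fun F hF => isNormal_of_hasChain hS hF (h F hF), fun H hH => ?_⟩
    exact aut_facts_of_hasChain hS H hH (h _ (autSys_isSaturated hS H hH))
  · rintro ⟨h1, h2⟩ F hF
    exact hasChain_of_isNormal hS hF (h1 F hF) h2

end main

end Cfsg.Agent.Lib.Fusion.Supersoluble
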