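import Cfsg.Agent.Lib.Fusion.FrobThompson3
import Cfsg.Agent.Lib.Fusion.ModelEmbed2
import Cfsg.Agent.Lib.Fusion.SectionFree
import Cfsg.Agent.Lib.Fusion.SectionFree2
import Cfsg.Agent.S2800

/-!
# Thompson's normal `p`-complement theorem for fusion systems
-/

set_option autoImplicit false

namespace Cfsg.Agent.Lib.Fusion.Thompson

open Cfsg Cfsg.FusionSystem Cfsg.Agent.Lib.Fusion.Basic Cfsg.Agent.Lib.Fusion.Saturation
  Cfsg.Agent.Lib.Fusion.Saturation2 Cfsg.Agent.Lib.Fusion.Center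
  Cfsg.Agent.Lib.Fusion.Model Cfsg.Agent.Lib.Fusion.ModelNormalizer Cfsg.Agent.Lib.Fusion.NormSystem
  Cfsg.Agent.Lib.Core.Basic Cfsg.Agent.Lib.FusionExt.Basic Cfsg.Agent.Lib.Fusion.KSystem
  Cfsg.Agent.Lib.FusionExt.Normal Cfsg.Agent.Lib.FusionExt.Normal2 Cfsg.Agent.Lib.Fusion.Alperin
  Cfsg.Agent.Lib.Fusion.WeakClosure Cfsg.Agent.Lib.Fusion.FrobThompson Cfsg.Agent.Lib.Fusion.FrobThompson2
  Cfsg.Agent.Lib.Fusion.FrobThompson3 Cfsg.Agent.Lib.Fusion.ModelEmbed2 Cfsg.Agent.Lib.Fusion.SectionFree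
  Cfsg.Agent.Lib.Fusion.SectionFree2
  Cfsg.Agent.Lib.PLocal.Thompson

universe u

section csys

variable {Ω : Type u} [Group Ω] {S : Subgroup Ω} (F : FusionSystem S)

/-- `C_F(Q)`. -/
def cSys {Q : Subgroup Ω} (hQ : Q ≤ S) : FusionSystem (centralizerIn S Q) where
  Hom P := F.centralizerHom Q P
  le_of_mem := fun h => ⟨h.2.1, h.2.2.1⟩
  injective_of_mem := fun h => F.injective_of_mem h.1
  conj_mem := by
    intro P g hP hg
    have hPS : P ≤ S := hP.trans inf_le_left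
    refine ⟨F.conj_mem hPS hg.1, hP, fun x => ?_, conjHom (P ⊔ Q) g, F.conj_mem (sup_le hPS hQ) hg.1,
      fun x => rfl, fun x => ?_⟩
    · exact (centralizerIn S Q).mul_mem ((centralizerIn S Q).mul_mem hg (hP x.2)) ((centralizerIn S Q).inv_mem hg)
    · show g * (x : Ω) * g⁻¹ = x
      rw [mul_inv_eq_iff_eq_mul]
      exact (Subgroup.mem_centralizer_iff.1 hg.2 _ x.2).symm
  comp_mem := by
    rintro P P' φ ψ ⟨h1, h2, h3, φ', hφ', h4, h5⟩ ⟨k1, k2, k3, ψ', hψ', k4, k5⟩ h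
    have hm : ∀ x : ↥(P ⊔ Q), φ' x ∈ P' ⊔ Q := by
      intro x
      refine mem_of_sup φ' (fun a ha => ?_) (fun b hb => ?_) x
      · have := h4 ⟨a, ha⟩
        exact Subgroup.mem_sup_left (show φ' (inL P Q ⟨a, ha⟩) ∈ P' by rw [this]; exact h _)
      · have := h5 ⟨b, hb⟩
        exact Subgroup.mem_sup_right (show φ' (inR P Q ⟨b, hb⟩) ∈ Q by rw [this]; exact hb)
    refine ⟨F.comp_mem h1 k1 h, h2, fun x => k3 _, ψ'.comp (φ'.codRestrict _ hm), F.comp_mem hφ' hψ' hm, ?_, ?_⟩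
    · intro x
      have e : (φ'.codRestrict _ hm) (Subgroup.inclusion le_sup_left x) = inL P' Q ⟨φ x, h x⟩ :=
        Subtype.ext (h4 x)
      rw [MonoidHom.comp_apply, e, k4]
      rfl
    · intro x
      have e : (φ'.codRestrict _ hm) (Subgroup.inclusion le_sup_right x) = inR P' Q x :=
        Subtype.ext (h5 x)
      rw [MonoidHom.comp_apply, e]
      exact k5 x
  inv_mem := by
    rintro P φ ⟨h1, h2, h3, φ', hφ', h4, h5⟩
    have hr : φ'.range = φ.range ⊔ Q := by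
      refine range_eq_sup φ' (fun x => ?_) (fun y hy => ?_) (fun x => ?_) (fun y hy => ?_)
      · rw [h4]
        exact ⟨x, rfl⟩
      · obtain ⟨x, rfl⟩ := hy
        exact ⟨x, h4 x⟩
      · have := h5 x
        show φ' (inR P Q x) ∈ Q
        rw [show φ' (inR P Q x) = x from this]
        exact x.2
      · exact ⟨⟨y, hy⟩, h5 ⟨y, hy⟩⟩
    obtain ⟨χ, hχ, hχ1, hχ2, -, -⟩ := exists_inv F hφ' hr
    obtain ⟨ψ, hψ, hψv⟩ := F.inv_mem h1
    have hψχ : ∀ z : φ.range, ψ z = χ (inL φ.range Q z) := by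
      rintro ⟨_, x, rfl⟩
      have e1 : inL φ.range Q ⟨φ x, ⟨x, rfl⟩⟩ = ⟨φ' (inL P Q x), by rw [← hr]; exact ⟨_, rfl⟩⟩ :=
        Subtype.ext (h4 x).symm
      rw [hψv, e1, hχ2]
      rfl
    have hψP : ∀ z : φ.range, ψ z ∈ P := by
      rintro ⟨_, x, rfl⟩
      rw [hψv]
      exact x.2
    refine ⟨ψ, ⟨hψ, ?_, ?_, χ, hχ, fun z => (hψχ z).symm, ?_⟩, hψv⟩
    · rintro _ ⟨x, rfl⟩
      exact h3 x
    · intro z
      exact h2 (hψP z)
    · intro y
      have e : inR φ.range Q y = ⟨φ' (inR P Q y), by rw [← hr]; exact ⟨_, rfl⟩⟩ :=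
        Subtype.ext (h5 y).symm
      have h8 := hχ2 (inR P Q y) (by rw [← hr]; exact ⟨_, rfl⟩)
      show χ (inR φ.range Q y) = y
      rw [e]
      exact h8

/-- **The centralizer system exists.** -/
theorem exists_centralizerSystem {Q : Subgroup Ω} (hQ : Q ≤ S) :
    ∃ E : FusionSystem (centralizerIn S Q), F.IsCentralizerSystem Q E :=
  ⟨cSys F hQ, fun _ => rfl⟩

end csys

section badc

variable {Ω : Type*} [Group Ω] {S : Subgroup Ω} {F : FusionSystem S} {p : ℕ} [hp : Fact p.Prime]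

/-- `C_F(Z)` contains a nontrivial automorphism of order prime to `p`. -/
def BadC (F : FusionSystem S) (p : ℕ) (Z : Subgroup Ω) : Prop :=
  ∃ (P : Subgroup Ω) (α : MulAut P), Z ≤ P ∧ P ≤ centralizerIn S Z ∧ α ∈ F.autGroup P ∧ α ≠ 1 ∧
    (orderOf α).Coprime p ∧ ∀ x : P, (x : Ω) ∈ Z → α x = x

omit hp in
theorem BadC.mono {T : Subgroup Ω} {E : FusionSystem T} (hT : T ≤ S) (hEF : ∀ P, E.Hom P ⊆ F.Hom P)
    {Z : Subgroup Ω} (h : BadC E p Z) : BadC F p Z := by
  obtain ⟨P, α, hZP, hPC, hα, h1, hc, hfx⟩ := h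
  have hPT : P ≤ T := hPC.trans inf_le_left
  refine ⟨P, α, hZP, fun x hx => ⟨hT (hPC hx).1, (hPC hx).2⟩, ?_, h1, hc, hfx⟩
  exact (mem_autGroup_iff F (hPT.trans hT) α).2 (hEF _ (autHom_mem E hPT hα))

omit hp in
theorem BadC.bad {Z : Subgroup Ω} (h : BadC F p Z) : Bad F p Z := by
  obtain ⟨P, α, hZP, hPC, hα, h1, hc, hfx⟩ := h
  refine ⟨P, α, hZP, fun x hx => ⟨(hPC hx).1, ?_⟩, hα, h1, hc, fun x hx => ?_⟩
  · have key : ∀ x ∈ Subgroup.centralizer (Z : Set Ω), ∀ z ∈ Z, x * z * x⁻¹ = z := by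
      intro x hxc z hz
      rw [mul_inv_eq_iff_eq_mul]
      exact (Subgroup.mem_centralizer_iff.1 hxc z hz).symm
    have hxc := (hPC hx).2
    refine Subgroup.mem_normalizer_iff.2 fun z => ⟨fun hz => ?_, fun hz => ?_⟩
    · rw [key x hxc z hz]
      exact hz
    · have h2 := key x⁻¹ (Subgroup.inv_mem _ hxc) _ hz
      have e : x⁻¹ * (x * z * x⁻¹) * x⁻¹⁻¹ = z := by group
      rw [e] at h2
      rw [h2]
      exact hz
  · rw [hfx x hx]
    exact hx

/-- A bad automorphism makes the centralizer system non-inner. -/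
theorem not_inner_of_badC [Finite S] (hS : IsPGroup p S) {Z : Subgroup Ω} (hZS : Z ≤ S) {N : FusionSystem (centralizerIn S Z)}
    (hN : F.IsCentralizerSystem Z N) (h : BadC F p Z) : ¬ IsInner N := by
  obtain ⟨P, α, hZP, hPN, hα, h1, hc, hfx⟩ := h
  intro hin
  apply h1
  have hT : IsPGroup p ↥(centralizerIn S Z) := hS.to_le inf_le_left
  haveI : Finite ↥(centralizerIn S Z) := finite_of_le inf_le_left
  have hPS : P ≤ S := hPN.trans inf_le_left
  refine aut_eq_one_of_inner hT hin hPN ?_ hc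
  rw [mem_autGroup_iff N hPN, hN P]
  have hle : P ⊔ Z ≤ P := sup_le le_rfl hZP
  refine ⟨autHom_mem F hPS hα, hPN, fun x => hPN (α x).2, (autHom α).comp (Subgroup.inclusion hle),
    restrict_mem F hle (autHom_mem F hPS hα), fun x => rfl, fun x => ?_⟩
  have e := hfx ⟨x, hZP x.2⟩ x.2
  have e' := congrArg Subtype.val e
  exact e'

end badc

section functors

/-- The Thompson functor. -/
def WJ (Q : Type u) [Group Q] : Subgroup Q := thompsonSubgroupA Q

/-- The center functor. -/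
def WC (Q : Type u) [Group Q] : Subgroup Q := Subgroup.center Q

variable {Ω : Type u} [Group Ω]

theorem UU_WJ (T : Subgroup Ω) : UU WJ T = thompsonSubgroupAOf T := rfl

theorem UU_WC (T : Subgroup Ω) : UU WC T = T ⊓ Subgroup.centralizer (T : Set Ω) := by
  ext x
  constructor
  · rintro ⟨t, ht, rfl⟩
    refine ⟨t.2, Subgroup.mem_centralizer_iff.2 fun y hy => ?_⟩
    have h := Subgroup.mem_center_iff.1 ht ⟨y, hy⟩
    have h' := congrArg Subtype.val h
    exact h'
  · rintro ⟨hx, hc⟩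
    refine ⟨⟨x, hx⟩, Subgroup.mem_center_iff.2 fun y => ?_, rfl⟩
    exact Subtype.ext (Subgroup.mem_centralizer_iff.1 hc y y.2)

variable {p : ℕ} [hp : Fact p.Prime]

omit hp in
theorem WJ_map (Q R : Type u) [Group Q] [Group R] [Finite Q] (_ : IsPGroup p Q) (φ : Q ≃* R) :
    (WJ Q).map φ.toMonoidHom = WJ R := by
  rw [WJ, WJ, thompsonSubgroupA_eq, thompsonSubgroupA_eq, jOf_map_equiv]
  congr 1
  exact Subgroup.map_top_of_surjective _ φ.surjective

omit hp in
theorem WC_map (Q R : Type u) [Group Q] [Group R] [Finite Q] (_ : IsPGroup p Q) (φ : Q ≃* R) :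
    (WC Q).map φ.toMonoidHom = WC R := by
  ext r
  constructor
  · rintro ⟨q, hq, rfl⟩
    refine Subgroup.mem_center_iff.2 fun y => ?_
    obtain ⟨y, rfl⟩ := φ.surjective y
    have h := Subgroup.mem_center_iff.1 hq y
    show φ y * φ q = φ q * φ y
    rw [← map_mul, ← map_mul, h]
  · intro hr
    obtain ⟨q, rfl⟩ := φ.surjective r
    refine ⟨q, Subgroup.mem_center_iff.2 fun y => ?_, rfl⟩
    have h := Subgroup.mem_center_iff.1 hr (φ y)
    apply φ.injective
    rw [map_mul, map_mul]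
    exact h

theorem WJ_ne_bot (Q : Type u) [Group Q] [Finite Q] (hQ : IsPGroup p Q) (hn : Nontrivial Q) : WJ Q ≠ ⊥ := by
  intro e
  apply WZJ_ne_bot Q hQ hn
  rw [eq_bot_iff, ← e, WJ, thompsonSubgroupA_eq]
  exact zjOf_le_jOf 0 ⊤

theorem WC_ne_bot (Q : Type u) [Group Q] [Finite Q] (hQ : IsPGroup p Q) (hn : Nontrivial Q) : WC Q ≠ ⊥ := by
  have := hQ.center_nontrivial
  exact (Subgroup.nontrivial_iff_ne_bot _).1 this

end functors

section model

variable {Ω : Type u} [Group Ω] {S : Subgroup Ω} {p : ℕ} [hp : Fact p.Prime] [Finite S]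

/-- An element of order prime to `p` of a subgroup `M` containing the Sylow subgroup of the model yields an automorphism
of a subgroup of `S`, defined through `O_p(M)`. -/
theorem exists_aut_of_model {F : FusionSystem S} {L : Type u} [Group L] {ι : S →* L}
    (hG : F.IsModel p L ι) (P₀ : Sylow p L) (hP₀ : (P₀ : Subgroup L) = ι.range)
    (M : Subgroup L) (hP₀M : (P₀ : Subgroup L) ≤ M) (g : M)
    (hg1 : g ≠ 1) (hgc : (orderOf g).Coprime p) :
    ∃ (R : Subgroup L) (α : MulAut (pre ι R)), R ≤ ι.range ∧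
      (∀ X : Subgroup L, X ≤ M → (X.subgroupOf M).Normal → IsPGroup p X → X ≤ R) ∧
      α ∈ F.autGroup (pre ι R) ∧ α ≠ 1 ∧ (orderOf α).Coprime p ∧
      ∀ y : pre ι R, ι ⟨α y, pre_le R (α y).2⟩ = (g : L) * ι ⟨y, pre_le R y.2⟩ * (g : L)⁻¹ := by
  haveI hLf : Finite L := model_finite hG
  have hP₀p : IsPGroup p (P₀ : Subgroup L) := P₀.isPGroup'
  let PM : Sylow p M := P₀.subtype hP₀M
  have hPMv : ∀ x : M, x ∈ (PM : Subgroup M) ↔ (x : L) ∈ (P₀ : Subgroup L) := fun x => by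
    show x ∈ ((P₀ : Subgroup L).subgroupOf M) ↔ _
    rfl
  obtain ⟨R, hR⟩ : ∃ R : Subgroup L, R = (pCore p M).map M.subtype := ⟨_, rfl⟩
  have hRP : R ≤ P₀ := by
    rw [hR]
    rintro _ ⟨x, hx, rfl⟩
    exact (hPMv x).1 (pCore_le_sylow PM hx)
  have hRr : R ≤ ι.range := hP₀ ▸ hRP
  have hgR : (g : L) ∈ Subgroup.normalizer (R : Set L) := by
    rw [hR]
    refine Subgroup.mem_normalizer_iff.2 fun x => ?_
    constructor
    · rintro ⟨y, hy, rfl⟩
      refine ⟨g * y * g⁻¹, ?_, rfl⟩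
      exact (inferInstance : (pCore p M).Normal).conj_mem y hy g
    · rintro ⟨y, hy, hye⟩
      have h1 : g⁻¹ * y * g⁻¹⁻¹ ∈ pCore p M := (inferInstance : (pCore p M).Normal).conj_mem y hy g⁻¹
      refine ⟨_, h1, ?_⟩
      have h2 : (y : L) = g * x * (g : L)⁻¹ := hye
      show (g : L)⁻¹ * y * (g : L)⁻¹⁻¹ = x
      rw [h2]
      group
  obtain ⟨α, hα, hαv⟩ := conjAut hG hRr hgR
  have hXR : ∀ X : Subgroup L, X ≤ M → (X.subgroupOf M).Normal → IsPGroup p X → X ≤ R := by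
    intro X hXM hn hXp
    have h5 := le_pCore hn (isPGroup_subgroupOf _ hXp)
    intro x hx
    rw [hR]
    exact ⟨⟨x, hXM hx⟩, h5 hx, rfl⟩
  -- `O_p(L)` lies in `R`
  have hOR : pCore p L ≤ R := by
    have h6 : pCore p L ≤ M := (pCore_le_sylow P₀).trans hP₀M
    exact hXR _ h6 Subgroup.normal_subgroupOf pCore_isPGroup
  refine ⟨R, α, hRr, hXR, hα, ?_, ?_, hαv⟩
  · rintro rfl
    apply hg1
    have hgc' : (g : L) ∈ Subgroup.centralizer ((pCore p L : Subgroup L) : Set L) := by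
      refine Subgroup.mem_centralizer_iff.2 fun o ho => ?_
      have hoR : o ∈ R := hOR ho
      obtain ⟨s, hs⟩ := hRr hoR
      have h7 : o ∈ R := hoR
      rw [← hs] at h7
      have h8 := hαv ⟨s, mem_pre h7⟩
      simp only [MulAut.one_apply] at h8
      have h9 : ι ⟨((⟨s, mem_pre h7⟩ : pre ι R) : Ω), pre_le R (mem_pre h7)⟩ = o := hs
      rw [h9] at h8
      have h10 : o = g * o * (g : L)⁻¹ := h8
      calc o * g = g * o * (g : L)⁻¹ * g := by rw [← h10]
        _ = g * o := by group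
    have hgO : (g : L) ∈ pCore p L := hG.2.2.2 hgc'
    obtain ⟨k, hk⟩ := (pCore_isPGroup (p := p) (G := L)) ⟨g, hgO⟩
    have hk' : (g : L) ^ p ^ k = 1 := congrArg Subtype.val hk
    have hk'' : g ^ p ^ k = 1 := Subtype.ext hk'
    exact eq_one_of_pow_eq_one hgc hk''
  · have h11 : orderOf α ∣ orderOf (g : L) := orderOf_conjAut_dvd hG hαv
    have h12 : orderOf (g : L) = orderOf g := Subgroup.orderOf_coe g
    rw [h12] at h11
    exact Nat.Coprime.coprime_dvd_left h11 hgc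

/-- An element of order prime to `p` in the centralizer of `Z(P₀)` yields a bad automorphism for `Z(S)`. -/
theorem exists_badC_of_model_aux {F : FusionSystem S} {L : Type u} [Group L] {ι : S →* L}
    (hG : F.IsModel p L ι) (P₀ : Sylow p L) (hP₀ : (P₀ : Subgroup L) = ι.range)
    (Z₀ : Subgroup L) (hZ₀ : Z₀ = (P₀ : Subgroup L) ⊓ Subgroup.centralizer ((P₀ : Subgroup L) : Set L))
    (g : Subgroup.centralizer (Z₀ : Set L))
    (hg1 : g ≠ 1) (hgc : (orderOf g).Coprime p) : BadC F p (S ⊓ Subgroup.centralizer (S : Set Ω)) := by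
  have hinj := model_injective hG
  have hP₀M : (P₀ : Subgroup L) ≤ Subgroup.centralizer (Z₀ : Set L) := by
    intro s hs
    refine Subgroup.mem_centralizer_iff.2 fun z hz => ?_
    rw [hZ₀] at hz
    exact (Subgroup.mem_centralizer_iff.1 hz.2 s hs).symm
  obtain ⟨R, α, hRr, hXR, hα, h1, hc, hαv⟩ := exists_aut_of_model hG P₀ hP₀ _ hP₀M g hg1 hgc
  have hZ₀M : Z₀ ≤ Subgroup.centralizer (Z₀ : Set L) := by
    intro z hz
    rw [hZ₀] at hz
    exact hP₀M hz.1
  have hZ₀R : Z₀ ≤ R := by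
    refine hXR Z₀ hZ₀M ⟨fun n hn m => ?_⟩ ?_
    · have h2 : ((m * n * m⁻¹ : Subgroup.centralizer (Z₀ : Set L)) : L) = (n : L) := by
        have h3 := Subgroup.mem_centralizer_iff.1 m.2 (n : L) hn
        have e : ((m * n * m⁻¹ : Subgroup.centralizer (Z₀ : Set L)) : L) = (m : L) * n * (m : L)⁻¹ := rfl
        rw [e, mul_inv_eq_iff_eq_mul]
        exact h3.symm
      show ((m * n * m⁻¹ : Subgroup.centralizer (Z₀ : Set L)) : L) ∈ Z₀
      rw [h2]
      exact hn
    · rw [hZ₀]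
      exact (P₀.isPGroup').to_le inf_le_left
  have hZι : ∀ z : S, (z : Ω) ∈ Subgroup.centralizer (S : Set Ω) → ι z ∈ Z₀ := by
    intro z hz
    rw [hZ₀]
    refine ⟨hP₀ ▸ ⟨z, rfl⟩, Subgroup.mem_centralizer_iff.2 fun y hy => ?_⟩
    rw [hP₀] at hy
    obtain ⟨t, rfl⟩ := hy
    rw [← map_mul, ← map_mul]
    congr 1
    exact Subtype.ext (Subgroup.mem_centralizer_iff.1 hz t t.2)
  have hZpre : S ⊓ Subgroup.centralizer (S : Set Ω) ≤ pre ι R := by
    intro z hz
    exact mem_pre (s := ⟨z, hz.1⟩) (hZ₀R (hZι _ hz.2))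
  refine ⟨pre ι R, α, hZpre, fun x hx => ?_, hα, h1, hc, fun x hx => ?_⟩
  · have hxS : x ∈ S := pre_le R hx
    refine ⟨hxS, Subgroup.mem_centralizer_iff.2 fun z hz => ?_⟩
    exact (Subgroup.mem_centralizer_iff.1 hz.2 x hxS).symm
  · apply Subtype.ext
    have h2 := hαv x
    have h3 : ι ⟨x, pre_le R x.2⟩ ∈ Z₀ := hZι _ hx.2
    have h4 := Subgroup.mem_centralizer_iff.1 g.2 _ h3
    have h5 : (g : L) * ι ⟨x, pre_le R x.2⟩ * (g : L)⁻¹ = ι ⟨x, pre_le R x.2⟩ := by
      rw [mul_inv_eq_iff_eq_mul]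
      exact h4.symm
    rw [h5] at h2
    exact model_val_eq hG h2

/-- An element of order prime to `p` in the centralizer of `Z(P₀)` yields a bad automorphism for `Z(S)`. -/
theorem exists_badC_of_model {F : FusionSystem S} {L : Type u} [Group L] {ι : S →* L}
    (hG : F.IsModel p L ι) (P₀ : Sylow p L) (hP₀ : (P₀ : Subgroup L) = ι.range)
    (g : Subgroup.centralizer (((P₀ : Subgroup L) ⊓ Subgroup.centralizer ((P₀ : Subgroup L) : Set L) : Subgroup L) : Set L))
    (hg1 : g ≠ 1) (hgc : (orderOf g).Coprime p) : BadC F p (S ⊓ Subgroup.centralizer (S : Set Ω)) :=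
  exists_badC_of_model_aux hG P₀ hP₀ _ rfl g hg1 hgc

/-- A constrained `H`-free system has an `H`-free model. -/
theorem not_involves_of_constrained {H : Type*} [Group H] (hS : IsPGroup p S) {F : FusionSystem S} (hcon : F.IsConstrained p)
    (hfree : F.IsSectionFree p H) {L : Type u} [Group L] {ι : S →* L} (hG : F.IsModel p L ι) : ¬ Involves H L := by
  obtain ⟨hF, R, hRn, hRc⟩ := hcon
  have hRS : R ≤ S := hRn.1
  have hSN : S ≤ normalizerIn S R := fun s hs => ⟨hs, sc_le_normalizer F (isNormal_stronglyClosed F hRn) hs⟩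
  exact not_involves_of_transport hS hF hRc (fun Rs h1 h2 _ N hN L _ ι hM => hfree Rs h1 h2 N hN L ι hM)
    hSN (fun _ => le_rfl) hF hRn hG

/-- **Thompson's theorem**, reduced form. -/
theorem hit_of_not_inner (hS : IsPGroup p S) (F : FusionSystem S) (hF : F.IsSaturated p)
    (hC : p ≠ 2 ∨ F.IsSectionFree p (Equiv.Perm (Fin 4))) (h : ¬ IsInner F) :
    Bad F p (thompsonSubgroupAOf S) ∨ BadC F p (S ⊓ Subgroup.centralizer (S : Set Ω)) := by
  refine reduction (p := p) (fun _ _ _ F => p ≠ 2 ∨ F.IsSectionFree p (Equiv.Perm (Fin 4)))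
    (fun Ω _ S F => Bad F p (thompsonSubgroupAOf S) ∨ BadC F p (S ⊓ Subgroup.centralizer (S : Set Ω)))
    ?_ ?_ ?_ ?_ ?_ Ω S F hS hF hC h
  · intro Ω _ S _ F hS hF hC Q hQ E hE
    exact hC.imp id fun h => isSectionFree_normalizer hS hF h hQ hE
  · intro Ω _ S _ F hS hF hC O hO Ω' _ S' θ E hE
    exact hC.imp id fun h => isSectionFree_factor hS hF hO h θ E hE
  · intro Ω _ T _ E hT hE hb
    have hNT : ∀ (W : ∀ (Q : Type _) [Group Q], Subgroup Q), (∀ (Q : Type _) [Group Q] [Finite Q], IsPGroup p Q → Nontrivial Q → W Q ≠ ⊥) →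
        Nontrivial T → UU W T ≠ ⊥ := by
      intro W hW hn e
      apply hW T hT hn
      rw [eq_bot_iff]
      intro x hx
      have h3 : (x : Ω) ∈ UU W T := ⟨x, hx, rfl⟩
      rw [e] at h3
      exact Subgroup.mem_bot.2 (Subtype.ext (Subgroup.mem_bot.1 h3))
    have hTne : (∃ (P : Subgroup Ω) (α : MulAut P), P ≤ T ∧ α ≠ 1) → Nontrivial T := by
      rintro ⟨P, α, hPT, h1⟩
      by_contra hc
      rw [not_nontrivial_iff_subsingleton] at hc
      apply h1
      ext x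
      have e' := Subsingleton.elim (⟨_, hPT (α x).2⟩ : T) ⟨_, hPT x.2⟩
      have e'' := congrArg Subtype.val e'
      exact e''
    rcases hb with hb | hb
    · refine ⟨UU WJ T, UU_le WJ T, ?_, fun s hs => normalizer_le_UU WJ (fun Q R _ _ _ h φ => WJ_map (p := p) Q R h φ) hT hs, hb⟩
      obtain ⟨P, α, -, hPN, -, h1, -, -⟩ := hb
      exact hNT WJ (fun Q _ _ h n => WJ_ne_bot (p := p) Q h n) (hTne ⟨P, α, hPN.trans inf_le_left, h1⟩)
    · have e := UU_WC T
      refine ⟨UU WC T, UU_le WC T, ?_, fun s hs => normalizer_le_UU WC (fun Q R _ _ _ h φ => WC_map (p := p) Q R h φ) hT hs, ?_⟩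
      · obtain ⟨P, α, -, hPN, -, h1, -, -⟩ := hb
        exact hNT WC (fun Q _ _ h n => WC_ne_bot (p := p) Q h n) (hTne ⟨P, α, hPN.trans inf_le_left, h1⟩)
      · rw [e]
        exact hb.bad
  · intro Ω _ S _ F hS hC hcon hni
    obtain ⟨L, iL, ι, hG⟩ := Cfsg.Agent.S5090.result p hS F hcon
    haveI hLf := model_finite hG
    obtain ⟨P₀, hP₀⟩ := hG.2.2.1
    by_contra hno
    rw [not_or] at hno
    apply hni
    have hinv : p ≠ 2 ∨ ¬ Involves (Equiv.Perm (Fin 4)) L :=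
      hC.imp id fun h => not_involves_of_constrained hS hcon h hG
    refine isInner_of_model_isPGroup hG P₀ hP₀ (isPGroup_of_hasNormalPComplement
      (Cfsg.Agent.S2800.result P₀ hinv (hasNormalPComplement_of_isPGroup ?_) (hasNormalPComplement_of_isPGroup ?_)) hG.2.2.2)
    · refine Cfsg.Agent.Lib.FusionTheory.CoprimeAut.isPGroup_of_coprime_trivial fun g hg => ?_
      by_contra hg1
      exact hno.2 (exists_badC_of_model hG P₀ hP₀ g hg1 hg)
    · refine Cfsg.Agent.Lib.FusionTheory.CoprimeAut.isPGroup_of_coprime_trivial fun g hg => ?_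
      by_contra hg1
      exact hno.1 (exists_bad_of_model WJ (fun Q R _ _ _ h φ => WJ_map (p := p) Q R h φ) hS hG P₀ hP₀ g hg1 hg)
  · intro Ω _ S _ F hS hF Q hQS hSN E hE hb
    have hT : normalizerIn S Q = S := inf_eq_left.2 hSN
    have hEF : ∀ P, E.Hom P ⊆ F.Hom P := fun P φ h => (hE P ▸ h : φ ∈ F.normalizerHom Q P).1
    rcases hb with hb | hb
    · left
      have h2 := hb.mono (F := F) inf_le_left hEF
      rwa [hT] at h2
    · right
      have h2 := hb.mono (F := F) inf_le_left hEF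
      rwa [hT] at h2

/-- **Thompson's normal `p`-complement theorem for fusion systems.** -/
theorem isInner_of_thompson (hS : IsPGroup p S) (F : FusionSystem S) (hF : F.IsSaturated p)
    (hp2 : p ≠ 2 ∨ F.IsSectionFree p (Equiv.Perm (Fin 4)))
    (hC : ∀ C : FusionSystem (centralizerIn S (S ⊓ Subgroup.centralizer (S : Set Ω))),
      F.IsCentralizerSystem (S ⊓ Subgroup.centralizer (S : Set Ω)) C → IsInner C)
    (hN : ∀ N : FusionSystem (normalizerIn S (thompsonSubgroupAOf S)),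
      F.IsNormalizerSystem (thompsonSubgroupAOf S) N → IsInner N) : IsInner F := by
  by_contra hni
  rcases hit_of_not_inner hS F hF hp2 hni with hb | hb
  · obtain ⟨N, hN'⟩ := exists_normalizerSystem F (UU_le WJ S)
    exact not_inner_of_bad hS (UU_le WJ S) hN' hb (hN N hN')
  · obtain ⟨C, hC'⟩ := exists_centralizerSystem F (inf_le_left : S ⊓ Subgroup.centralizer (S : Set Ω) ≤ S)
    exact not_inner_of_badC hS inf_le_left hC' hb (hC C hC')

end model

end Cfsg.Agent.Lib.Fusion.Thompson
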