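import Cfsg.Agent.Lib.Fusion.Thompson

/-!
# Sparse systems are constrained
-/

set_option autoImplicit false

namespace Cfsg.Agent.Lib.Fusion.Thompson2

open Cfsg Cfsg.FusionSystem Cfsg.Agent.Lib.Fusion.Basic Cfsg.Agent.Lib.Fusion.Saturation
  Cfsg.Agent.Lib.Fusion.Saturation2 Cfsg.Agent.Lib.Fusion.Center
  Cfsg.Agent.Lib.Fusion.Model Cfsg.Agent.Lib.Fusion.ModelNormalizer Cfsg.Agent.Lib.Fusion.NormSystem
  Cfsg.Agent.Lib.Core.Basic Cfsg.Agent.Lib.FusionExt.Basic Cfsg.Agent.Lib.Fusion.KSystem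
  Cfsg.Agent.Lib.FusionExt.Normal Cfsg.Agent.Lib.FusionExt.Normal2 Cfsg.Agent.Lib.Fusion.Alperin
  Cfsg.Agent.Lib.FusionExt.Constrained Cfsg.Agent.Lib.FusionExt.Factor Cfsg.Agent.Lib.FusionExt.FactorExt
  Cfsg.Agent.Lib.FusionExt.FactorSat
  Cfsg.Agent.Lib.Fusion.WeakClosure Cfsg.Agent.Lib.Fusion.FrobThompson Cfsg.Agent.Lib.Fusion.FrobThompson2
  Cfsg.Agent.Lib.Fusion.FrobThompson3 Cfsg.Agent.Lib.Fusion.ModelEmbed2 Cfsg.Agent.Lib.Fusion.SectionFree
  Cfsg.Agent.Lib.Fusion.SectionFree2 Cfsg.Agent.Lib.Fusion.Thompson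
  Cfsg.Agent.Lib.PLocal.Thompson

universe u

variable {p : ℕ} [hp : Fact p.Prime]

/-- Thompson's theorem with a nontrivial normal subgroup. -/
theorem exists_bad_of_not_inner {Ω : Type u} [Group Ω] {T : Subgroup Ω} [Finite T] (hT : IsPGroup p T) (E : FusionSystem T)
    (hE : E.IsSaturated p) (hC : p ≠ 2 ∨ E.IsSectionFree p (Equiv.Perm (Fin 4))) (h : ¬ IsInner E) :
    ∃ U : Subgroup Ω, U ≤ T ∧ U ≠ ⊥ ∧ (∀ s ∈ Subgroup.normalizer (T : Set Ω), s ∈ Subgroup.normalizer (U : Set Ω)) ∧ Bad E p U := by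
  have hb := hit_of_not_inner hT E hE hC h
  have hNT : ∀ (W : ∀ (Q : Type _) [Group Q], Subgroup Q), (∀ (Q : Type _) [Group Q] [Finite Q], IsPGroup p Q → Nontrivial Q → W Q ≠ ⊥) →
      Nontrivial T → UU W T ≠ ⊥ := by
    intro W hW hn e
    apply hW T hT hn
    rw [eq_bot_iff]
    intro x hx
    have h3 : (x : Ω) ∈ UU W T := ⟨x, hx, rfl⟩
    rw [e] at h3
    exact Subgroup.mem_bot.2 (Subtype.ext (Subgroup.mem_bot.1 h3))
  have hTne : (∃ (P : Subgroup Ω) (α : MulAut P), P ≤ T ∧ α ≠ 1) → Nontrivial T := by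
    rintro ⟨P, α, hPT, h1⟩
    by_contra hc
    rw [not_nontrivial_iff_subsingleton] at hc
    apply h1
    ext x
    have e' := Subsingleton.elim (⟨_, hPT (α x).2⟩ : T) ⟨_, hPT x.2⟩
    have e'' := congrArg Subtype.val e'
    exact e''
  rcases hb with hb | hb
  · refine ⟨UU WJ T, UU_le WJ T, ?_, fun s hs => normalizer_le_UU WJ (fun Q R _ _ _ h φ => WJ_map (p := p) Q R h φ) hT hs, hb⟩
    obtain ⟨P, α, -, hPN, -, h1, -, -⟩ := hb
    exact hNT WJ (fun Q _ _ h n => WJ_ne_bot (p := p) Q h n) (hTne ⟨P, α, hPN.trans inf_le_left, h1⟩)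
  · have e := UU_WC T
    refine ⟨UU WC T, UU_le WC T, ?_, fun s hs => normalizer_le_UU WC (fun Q R _ _ _ h φ => WC_map (p := p) Q R h φ) hT hs, ?_⟩
    · obtain ⟨P, α, -, hPN, -, h1, -, -⟩ := hb
      exact hNT WC (fun Q _ _ h n => WC_ne_bot (p := p) Q h n) (hTne ⟨P, α, hPN.trans inf_le_left, h1⟩)
    · rw [e]
      exact hb.bad

/-- Casting a system along an equality of subgroups. -/
theorem exists_cast_full {Ω : Type*} [Group Ω] {T S : Subgroup Ω} (h : T = S) (E : FusionSystem T) :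
    ∃ E' : FusionSystem S, (∀ P : Subgroup Ω, E'.Hom P = E.Hom P) ∧ (E.IsSaturated p → E'.IsSaturated p) ∧
      (¬ IsInner E → ¬ IsInner E') := by
  subst h
  exact ⟨E, fun _ => rfl, id, id⟩

/-- **Sparse systems are constrained.** -/
theorem isConstrained_of_sparse {Ω : Type u} [Group Ω] {S : Subgroup Ω} [Finite S] (hS : IsPGroup p S) (F : FusionSystem S)
    (hF : F.IsSaturated p) (hni : ¬ IsInner F)
    (hsub : ∀ E : FusionSystem S, E.IsSaturated p → E.IsSubsystemOf F → (∀ P : Subgroup Ω, E.Hom P = F.Hom P) ∨ IsInner E)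
    (hC : p ≠ 2 ∨ F.IsSectionFree p (Equiv.Perm (Fin 4))) : F.IsConstrained p := by
  have hO : F.IsNormal F.core := Cfsg.Agent.S5145.result F
  have hOS : F.core ≤ S := hO.1
  have hsc := isNormal_stronglyClosed F hO
  haveI hO'n : (F.core.subgroupOf S).Normal :=
    (Subgroup.normal_subgroupOf_iff_le_normalizer hOS).2 (sc_le_normalizer F hsc)
  let θ : S →* (↥S ⧸ F.core.subgroupOf S) := QuotientGroup.mk' (F.core.subgroupOf S)
  have hθ : ∀ s : S, θ s = 1 ↔ (s : Ω) ∈ F.core := by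
    intro s
    show ((s : ↥S ⧸ F.core.subgroupOf S)) = 1 ↔ _
    rw [QuotientGroup.eq_one_iff]
    rfl
  have hθr : θ.range = ⊤ := MonoidHom.range_eq_top.2 (QuotientGroup.mk'_surjective _)
  obtain ⟨E, hE⟩ := exists_isFactorSystem F θ hsc hθ hθr
  have hEs : E.IsSaturated p := image_isSaturated θ F E hS hF
    (isSurjectiveMorphism_of_isFactorSystem F θ hS hF hsc hE)
  have hEC : p ≠ 2 ∨ E.IsSectionFree p (Equiv.Perm (Fin 4)) :=
    hC.imp id fun h => isSectionFree_factor hS hF hO h θ E hE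
  have hS'p : IsPGroup p ↥(⊤ : Subgroup (↥S ⧸ F.core.subgroupOf S)) :=
    IsPGroup.to_subgroup (hS.to_quotient _) _
  by_cases hEi : IsInner E
  · refine isConstrained_of_trivial_mod F hS hF hO (fun P hOP hPS γ hγ hcop x => ?_)
    have hPe : P = preimageAlong θ (imageAlong θ P) :=
      (preimage_image_eq θ hPS (by
        rintro _ ⟨t, ht, rfl⟩
        exact hOP ((hθ t).1 ht))).symm
    generalize imageAlong θ P = P' at hPe
    subst hPe
    exact trivial_mod_of_inner hS hsc hE hEi le_top hγ hcop x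
  · exfalso
    obtain ⟨U, -, hUne, hUc, hUb⟩ := exists_bad_of_not_inner hS'p E hEs hEC hEi
    have hY := hUb.lift hsc hE
    have hYS : preimageAlong θ U ≤ S := preimageAlong_le θ U
    have hYN : normalizerIn S (preimageAlong θ U) = S := by
      refine inf_eq_left.2 fun t ht => ?_
      have h2 : θ ⟨t, ht⟩ ∈ Subgroup.normalizer (U : Set (↥S ⧸ F.core.subgroupOf S)) :=
        hUc _ (by rw [Subgroup.normalizer_eq_top_iff.2 (inferInstance : (⊤ : Subgroup (↥S ⧸ F.core.subgroupOf S)).Normal)]; trivial)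
      exact mem_normalizer_preimage θ ht h2
    have hYf : F.IsFullyNormalized (preimageAlong θ U) := by
      refine ⟨hYS, fun Q' _ => ?_⟩
      rw [hYN]
      exact card_le_of_le_finite inf_le_left
    obtain ⟨N, hN⟩ := exists_normalizerSystem F hYS
    have hNs := isSaturated_normalizerSystem hS F hF hYf N hN
    have hNi := not_inner_of_bad hS hYS hN hY
    obtain ⟨N', hN'1, hN'2, hN'3⟩ := exists_cast_full (p := p) hYN N
    rcases hsub N' (hN'2 hNs) (fun P φ hφ => by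
        rw [hN'1, hN P] at hφ
        exact hφ.1) with hall | hin
    · -- `F = N_F(Y)`, so `Y` is normal in `F`
      have hYn : F.IsNormal (preimageAlong θ U) := by
        refine ⟨hYS, fun P φ hφ => ?_⟩
        rw [← hall P, hN'1, hN P] at hφ
        obtain ⟨-, -, -, ψ, hψ, h1, h2⟩ := hφ
        exact ⟨ψ, hψ, h1, h2⟩
      have hYO := le_core F hYn
      obtain ⟨⟨u, huU⟩, hu0⟩ := Subgroup.ne_bot_iff_exists_ne_one.1 hUne
      have hu1 : u ≠ 1 := fun e => hu0 (Subtype.ext e)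
      obtain ⟨t, rfl⟩ := QuotientGroup.mk'_surjective _ u
      have htY : (t : Ω) ∈ preimageAlong θ U := mem_preimageAlong.2 ⟨t.2, huU⟩
      exact hu1 ((hθ t).2 (hYO htY))
    · exact hN'3 hNi hin

end Cfsg.Agent.Lib.Fusion.Thompson2
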