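import Cfsg.Agent.Lib.FusionExt.Comp2
import Cfsg.Agent.Lib.Fusion.ChiK7

/-!
# Transport of fusion systems along isomorphisms of the underlying groups (helper20)

An isomorphism `V ≃ V'` between subgroups of two ambient groups is given by two total functions `a`, `b`.  A system `C`
over `T ≤ V` corresponds to a system `C'` over the image of `T` when their maps correspond.  Saturation, normality,
subnormality, simplicity and quasisimplicity transport along this correspondence.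
-/

set_option autoImplicit false

namespace Cfsg.Agent.Lib.Fusion.Trans

open Cfsg Cfsg.FusionSystem Cfsg.Agent.Lib.Fusion.Basic Cfsg.Agent.Lib.Fusion.GroupSystem
open Cfsg.Agent.Lib.FusionExt.MapApi Cfsg.Agent.Lib.FusionExt.Basic Cfsg.Agent.Lib.FusionExt.Normal
open Cfsg.Agent.Lib.FusionExt.PowerSys Cfsg.Agent.Lib.FusionExt.PowerGen Cfsg.Agent.Lib.FusionExt.PrimeRes1
open Cfsg.Agent.Lib.FusionExt.SatCrit1 Cfsg.Agent.Lib.FusionExt.Invariant Cfsg.Agent.Lib.FusionExt.PowerE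
open Cfsg.Agent.Lib.FusionExt.LowPi Cfsg.Agent.Lib.FusionExt.CentSys
open Cfsg.Agent.Lib.FusionExt.Factor Cfsg.Agent.Lib.FusionExt.FactorExt Cfsg.Agent.Lib.FusionExt.FactorSat
open Cfsg.Agent.Lib.Fusion.Center

universe u v

variable {Ω : Type u} [Group Ω] {Ω' : Type v} [Group Ω']

/-- An isomorphism between subgroups given by two total functions. -/
structure Iso (V : Subgroup Ω) (V' : Subgroup Ω') (a : Ω → Ω') (b : Ω' → Ω) : Prop where
  mul : ∀ x ∈ V, ∀ y ∈ V, a (x * y) = a x * a y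
  mem : ∀ x ∈ V, a x ∈ V'
  mem' : ∀ y ∈ V', b y ∈ V
  ba : ∀ x ∈ V, b (a x) = x
  ab : ∀ y ∈ V', a (b y) = y

namespace Iso

variable {V : Subgroup Ω} {V' : Subgroup Ω'} {a : Ω → Ω'} {b : Ω' → Ω} (h : Iso V V' a b)
variable {X Y : Subgroup Ω} {x : Ω} {y : Ω'}

include h

theorem symm : Iso V' V b a := by
  refine ⟨fun y hy z hz => ?_, h.mem', h.mem, h.ab, h.ba⟩
  have e : y * z = a (b y * b z) := by
    rw [h.mul _ (h.mem' y hy) _ (h.mem' z hz), h.ab y hy, h.ab z hz]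
  rw [e, h.ba _ (V.mul_mem (h.mem' y hy) (h.mem' z hz))]

theorem map_one : a 1 = 1 := by
  have := h.mul 1 V.one_mem 1 V.one_mem
  rw [mul_one] at this
  exact (mul_eq_left.1 this.symm)

theorem map_inv (hx : x ∈ V) : a x⁻¹ = (a x)⁻¹ := by
  have := h.mul x hx x⁻¹ (V.inv_mem hx)
  rw [mul_inv_cancel, h.map_one] at this
  exact eq_inv_of_mul_eq_one_right this.symm

theorem inj {x y : Ω} (hx : x ∈ V) (hy : y ∈ V) (e : a x = a y) : x = y := by
  rw [← h.ba x hx, ← h.ba y hy, e]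

omit h in
/-- The image of a subgroup (the part of `X` inside `V`). -/
def im (h : Iso V V' a b) (X : Subgroup Ω) : Subgroup Ω' where
  carrier := {y | y ∈ V' ∧ b y ∈ X}
  mul_mem' := by
    rintro y z ⟨h1, h2⟩ ⟨h3, h4⟩
    refine ⟨V'.mul_mem h1 h3, ?_⟩
    rw [h.symm.mul _ h1 _ h3]
    exact X.mul_mem h2 h4
  one_mem' := ⟨V'.one_mem, by rw [h.symm.map_one]; exact X.one_mem⟩
  inv_mem' := by
    rintro y ⟨h1, h2⟩
    refine ⟨V'.inv_mem h1, ?_⟩
    rw [h.symm.map_inv h1]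
    exact X.inv_mem h2

theorem mem_im : y ∈ h.im X ↔ y ∈ V' ∧ b y ∈ X := Iff.rfl

theorem map_mem_im (hX : X ≤ V) (hx : x ∈ X) : a x ∈ h.im X :=
  ⟨h.mem x (hX hx), by rw [h.ba x (hX hx)]; exact hx⟩

theorem im_le : h.im X ≤ V' := fun _ hy => hy.1

theorem exists_of_mem_im (hy : y ∈ h.im X) : ∃ x ∈ X, a x = y := ⟨b y, hy.2, h.ab y hy.1⟩

theorem mem_of_map_mem (hx : x ∈ V) (hy : a x ∈ h.im X) : x ∈ X := by
  have := hy.2
  rwa [h.ba x hx] at this

theorem symm_im_im (hX : X ≤ V) : h.symm.im (h.im X) = X := by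
  ext x
  constructor
  · rintro ⟨h1, h2⟩
    exact h.mem_of_map_mem h1 h2
  · intro hx
    exact ⟨hX hx, h.map_mem_im hX hx⟩

theorem im_symm_im {X' : Subgroup Ω'} (hX : X' ≤ V') : h.im (h.symm.im X') = X' := h.symm.symm_im_im hX

theorem im_mono (hXY : X ≤ Y) : h.im X ≤ h.im Y := fun _ hy => ⟨hy.1, hXY hy.2⟩

theorem im_sup (hX : X ≤ V) (hY : Y ≤ V) : h.im (X ⊔ Y) = h.im X ⊔ h.im Y := by
  refine le_antisymm (fun y hy => ?_) (sup_le (h.im_mono le_sup_left) (h.im_mono le_sup_right))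
  have hle : X ⊔ Y ≤ h.symm.im (h.im X ⊔ h.im Y) :=
    sup_le (fun x hx => ⟨hX hx, Subgroup.mem_sup_left (h.map_mem_im hX hx)⟩)
      (fun x hx => ⟨hY hx, Subgroup.mem_sup_right (h.map_mem_im hY hx)⟩)
  have := (hle hy.2).2
  rwa [h.ab y hy.1] at this

theorem im_inf : h.im (X ⊓ Y) = h.im X ⊓ h.im Y := by
  ext y
  exact ⟨fun hy => ⟨⟨hy.1, hy.2.1⟩, ⟨hy.1, hy.2.2⟩⟩, fun hy => ⟨hy.1.1, ⟨hy.1.2, hy.2.2⟩⟩⟩

theorem im_bot : h.im ⊥ = ⊥ := by
  ext y
  constructor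
  · rintro ⟨h1, h2⟩
    have e := h.ab y h1
    rw [Subgroup.mem_bot.1 h2, h.map_one] at e
    exact Subgroup.mem_bot.2 e.symm
  · intro hy
    rw [Subgroup.mem_bot.1 hy]
    exact ⟨V'.one_mem, by rw [h.symm.map_one]; exact Subgroup.one_mem _⟩

theorem comm_iff {x y : Ω} (hx : x ∈ V) (hy : y ∈ V) : a x * a y = a y * a x ↔ x * y = y * x := by
  rw [← h.mul x hx y hy, ← h.mul y hy x hx]
  exact ⟨fun e => h.inj (V.mul_mem hx hy) (V.mul_mem hy hx) e, fun e => by rw [e]⟩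

theorem im_centralizerIn {W T : Subgroup Ω} (hW : W ≤ V) (hT : T ≤ V) :
    centralizerIn (h.im W) (h.im T) = h.im (centralizerIn W T) := by
  ext y
  constructor
  · rintro ⟨⟨h1, h2⟩, h3⟩
    refine ⟨h1, h2, Subgroup.mem_centralizer_iff.2 fun t ht => ?_⟩
    have := Subgroup.mem_centralizer_iff.1 h3 (a t) (h.map_mem_im hT ht)
    have e : a t * a (b y) = a (b y) * a t := by rwa [h.ab y h1]
    exact (h.comm_iff (hT ht) (hW h2)).1 e
  · rintro ⟨h1, h2, h3⟩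
    refine ⟨⟨h1, h2⟩, Subgroup.mem_centralizer_iff.2 fun t ht => ?_⟩
    have := Subgroup.mem_centralizer_iff.1 h3 (b t) ht.2
    have e := (h.comm_iff (hT ht.2) (hW h2)).2 this
    rwa [h.ab t ht.1, h.ab y h1] at e

end Iso

/-- Transport of a function. -/
def tr (a : Ω → Ω') (b : Ω' → Ω) (f : Ω → Ω) : Ω' → Ω' := fun y => a (f (b y))

variable {V : Subgroup Ω} {V' : Subgroup Ω'} {a : Ω → Ω'} {b : Ω' → Ω}

/-- The system `C'` is the image of `C` under the isomorphism. -/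
structure Corr (h : Iso V V' a b) {T : Subgroup Ω} (C : FusionSystem T) {T' : Subgroup Ω'} (C' : FusionSystem T') : Prop where
  le : T ≤ V
  eq : T' = h.im T
  fwd : ∀ (X : Subgroup Ω) (f : Ω → Ω), Mp C X f → Mp C' (h.im X) (tr a b f)
  bwd : ∀ (X' : Subgroup Ω') (f' : Ω' → Ω'), Mp C' X' f' → Mp C (h.symm.im X') (tr b a f')

namespace Corr

variable {h : Iso V V' a b} {T W : Subgroup Ω} {C D : FusionSystem T} {Y : FusionSystem W}
variable {T' W' : Subgroup Ω'} {C' : FusionSystem T'} {Y' : FusionSystem W'} {p : ℕ}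

theorem le' (hc : Corr h C C') : T' ≤ V' := by
  rw [hc.eq]
  exact h.im_le

theorem symm_im (hc : Corr h C C') : h.symm.im T' = T := by
  rw [hc.eq]
  exact h.symm_im_im hc.le

theorem symm (hc : Corr h C C') : Corr h.symm C' C :=
  ⟨hc.le', hc.symm_im.symm, hc.bwd, hc.fwd⟩

theorem map_mem (hc : Corr h C C') {x : Ω} (hx : x ∈ T) : a x ∈ T' := by
  rw [hc.eq]
  exact h.map_mem_im hc.le hx

theorem inv_mem (hc : Corr h C C') {y : Ω'} (hy : y ∈ T') : b y ∈ T := by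
  rw [hc.eq] at hy
  exact hy.2

/-- Transport of a map, with the transported function given by its values. -/
theorem mp_fwd (hc : Corr h C C') {X : Subgroup Ω} {f : Ω → Ω} {f' : Ω' → Ω'} (hf : Mp C X f)
    (e : ∀ x ∈ X, f' (a x) = a (f x)) : Mp C' (h.im X) f' := by
  refine (hc.fwd X f hf).congr (fun y hy => ?_)
  show a (f (b y)) = f' y
  rw [← e _ hy.2, h.ab y hy.1]

theorem mp_bwd (hc : Corr h C C') {X : Subgroup Ω} {f : Ω → Ω} {f' : Ω' → Ω'} (hX : X ≤ V) (hf : Mp C' (h.im X) f')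
    (hv : ∀ x ∈ X, f x ∈ V) (e : ∀ x ∈ X, f' (a x) = a (f x)) : Mp C X f := by
  have := hc.bwd _ f' hf
  rw [h.symm_im_im hX] at this
  refine this.congr (fun x hx => ?_)
  show b (f' (a x)) = f x
  rw [e x hx, h.ba _ (hv x hx)]

theorem sub (hY : Corr h Y Y') (hC : Corr h C C') (hs : C.IsSubsystemOf Y) : C'.IsSubsystemOf Y' := by
  intro P' φ' hφ'
  apply hom_of_mp
  have hm := mp_of_hom hφ'
  have hP' : P' ≤ V' := hm.le.trans hC.le'
  have h1 := hY.fwd _ _ (mp_sub hs (hC.bwd _ _ hm))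
  rw [h.im_symm_im hP'] at h1
  refine h1.congr (fun y hy => ?_)
  show a (b (extOf φ' (a (b y)))) = extOf φ' y
  rw [h.ab y (hP' hy), h.ab _ (hC.le' (hm.mem_S hy))]

theorem sc (hY : Corr h Y Y') {R : Subgroup Ω} (hR : Y.StronglyClosed R) : Y'.StronglyClosed (h.im R) := by
  refine ⟨?_, fun P' hP' φ' hφ' x => ?_⟩
  · rw [hY.eq]
    exact h.im_mono hR.1
  · have hm := mp_of_hom hφ'
    obtain ⟨ψ, hψ, ev⟩ := hY.bwd _ _ hm
    have hPR : h.symm.im P' ≤ R := fun z hz => h.mem_of_map_mem hz.1 (hP' hz.2)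
    have hx : b (x : Ω') ∈ h.symm.im P' := by
      refine ⟨h.mem' _ (hY.le' (hm.le x.2)), ?_⟩
      show a (b x) ∈ P'
      rw [h.ab _ (hY.le' (hm.le x.2))]
      exact x.2
    have h1 := hR.2 _ hPR ψ hψ ⟨_, hx⟩
    rw [ev] at h1
    have e : tr b a (extOf φ') (b (x : Ω')) = b (φ' x) := by
      show b (extOf φ' (a (b x))) = _
      rw [h.ab _ (hY.le' (hm.le x.2)), extOf_coe]
    rw [e] at h1
    exact ⟨hY.le' (val_mem Y' hφ' x), h1⟩

/-- The homomorphism given by the isomorphism on a subgroup. -/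
def homOn (h : Iso V V' a b) {T : Subgroup Ω} (hT : T ≤ V) : T →* Ω' :=
  MonoidHom.mk' (fun x => a x) (fun x y => h.mul x (hT x.2) y (hT y.2))

theorem homOn_apply {hT : T ≤ V} (x : T) : homOn h hT x = a x := rfl

theorem preimage_homOn {hT : T ≤ V} {P' : Subgroup Ω'} (hP' : P' ≤ h.im T) :
    preimageAlong (homOn h hT) P' = h.symm.im P' := by
  ext x
  rw [mem_preimageAlong]
  constructor
  · rintro ⟨hxT, hx⟩
    exact ⟨hT hxT, hx⟩
  · rintro ⟨h1, h2⟩
    have : x ∈ T := h.mem_of_map_mem h1 (hP' h2)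
    exact ⟨this, h2⟩

theorem range_homOn (hT : T ≤ V) : (homOn h hT).range = h.im T := by
  ext y
  constructor
  · rintro ⟨x, rfl⟩
    exact h.map_mem_im hT x.2
  · intro hy
    exact ⟨⟨b y, hy.2⟩, h.ab y hy.1⟩

theorem factor_of_corr (hc : Corr h C C') : C.IsFactorSystem ⊥ (homOn h hc.le) C' := by
  have hT := hc.le
  obtain rfl := hc.eq
  refine ⟨bot_le, fun s => ⟨fun e => ?_, fun e => ?_⟩, range_homOn hT, fun P' φ' => ⟨fun hφ' => ?_, ?_⟩⟩
  · have e1 : (s : Ω) = 1 := by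
      have := h.ba _ (hT s.2)
      rw [show a s = 1 from e, h.symm.map_one] at this
      exact this.symm
    rw [e1]
    exact Subgroup.one_mem _
  · have e1 : (s : Ω) = 1 := Subgroup.mem_bot.1 e
    show a s = 1
    rw [e1, h.map_one]
  · have hm := mp_of_hom hφ'
    have hP' : P' ≤ h.im T := hm.le
    refine ⟨hP', ?_⟩
    have h1 := hc.bwd _ _ hm
    rw [← preimage_homOn (hT := hT) hP'] at h1
    obtain ⟨φ, hφ, ev⟩ := h1
    refine ⟨φ, hφ, ?_⟩
    have hPT : preimageAlong (homOn h hT) P' ≤ T := preimageAlong_le _ _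
    have hv : ∀ x : ↥(preimageAlong (homOn h hT) P'), φ x ∈ T := fun x => val_mem C hφ x
    have hx₂ : ∀ x : ↥(preimageAlong (homOn h hT) P'), homOn h hT ⟨x, hPT x.2⟩ ∈ P' := fun x =>
      (mem_preimageAlong.1 x.2).2
    refine ⟨hPT, hv, hx₂, fun x => ?_⟩
    have e1 := ev x
    have hxP : a (x : Ω) ∈ P' := hx₂ x
    have e2 : tr b a (extOf φ') (x : Ω) = b (φ' ⟨a x, hxP⟩) := by
      show b (extOf φ' (a x)) = _
      rw [extOf_of_mem φ' hxP]
    rw [e2] at e1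
    show φ' ⟨a x, hxP⟩ = a (φ x)
    rw [e1, h.ab _ (hc.le' (val_mem C' hφ' _))]
  · rintro ⟨hP', φ, hφ, hPT, hv, hx₂, hf⟩
    have hm : Mp C (h.symm.im P') (extOf φ) := by
      rw [← preimage_homOn (hT := hT) hP']
      exact mp_of_hom hφ
    have h1 := hc.fwd _ _ hm
    rw [h.im_symm_im (hP'.trans h.im_le)] at h1
    apply hom_of_mp
    refine h1.congr (fun y hy => ?_)
    have hyP : y ∈ P' := hy
    have hyV : y ∈ V' := (hP' hy).1
    have hby : b y ∈ preimageAlong (homOn h hT) P' := by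
      rw [preimage_homOn (hT := hT) hP']
      exact ⟨h.mem' y hyV, by show a (b y) ∈ P'; rw [h.ab y hyV]; exact hy⟩
    show a (extOf φ (b y)) = extOf φ' y
    rw [extOf_of_mem φ hby, extOf_of_mem φ' hy]
    have e1 := hf ⟨b y, hby⟩
    have e2 : (⟨homOn h hT ⟨b y, hPT hby⟩, hx₂ ⟨b y, hby⟩⟩ : P') = ⟨y, hy⟩ := Subtype.ext (h.ab y hyV)
    rw [e2] at e1
    rw [e1]
    rfl

theorem corr_of_factor (h : Iso V V' a b) {θ : T →* Ω'} {S' : Subgroup Ω'} {E : FusionSystem S'} (hT : T ≤ V)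
    (hθ : ∀ x : T, θ x = a x) (hE : C.IsFactorSystem ⊥ θ E) : Corr h C E := by
  obtain ⟨-, hk, hr, hiff⟩ := id hE
  have hS' : S' = h.im T := by
    rw [← hr]
    ext y
    constructor
    · rintro ⟨x, rfl⟩
      rw [hθ]
      exact h.map_mem_im hT x.2
    · intro hy
      exact ⟨⟨b y, hy.2⟩, by rw [hθ]; exact h.ab y hy.1⟩
  have hpre : ∀ {P' : Subgroup Ω'}, P' ≤ S' → preimageAlong θ P' = h.symm.im P' := by
    intro P' hP'
    ext x
    rw [mem_preimageAlong]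
    constructor
    · rintro ⟨hxT, hx⟩
      rw [hθ] at hx
      exact ⟨hT hxT, hx⟩
    · rintro ⟨h1, h2⟩
      have hxT : x ∈ T := h.mem_of_map_mem h1 (hS' ▸ hP' h2)
      exact ⟨hxT, by rw [hθ]; exact h2⟩
  have hbot : C.StronglyClosed ⊥ := by
    refine ⟨bot_le, fun P hP φ hφ x => ?_⟩
    have hx : (x : Ω) = 1 := Subgroup.mem_bot.1 (hP x.2)
    have : x = 1 := Subtype.ext hx
    rw [this, map_one]
    exact Subgroup.one_mem _
  refine ⟨hT, hS', fun X f hf => ?_, fun X' f' hf' => ?_⟩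
  · obtain ⟨φ, hφ, ev⟩ := id hf
    have hXT : X ≤ T := hf.le
    have hX' : h.im X ≤ S' := by
      rw [hS']
      exact h.im_mono hXT
    have hre : h.im X ≤ θ.range := by rwa [hr]
    have hp := hpre hX'
    rw [h.symm_im_im (hXT.trans hT)] at hp
    have hm : Mp C (preimageAlong θ (h.im X)) f := by
      rw [hp]
      exact hf
    obtain ⟨φ₀, hφ₀, ev₀⟩ := hm
    obtain ⟨ψ', hψ'⟩ := exists_induced C θ hbot hk hre hφ₀
    have hmem : ψ' ∈ E.Hom (h.im X) := (hiff _ ψ').2 ⟨hX', _, hφ₀, hψ'⟩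
    refine ⟨ψ', hmem, fun y => ?_⟩
    obtain ⟨hP, hφS, hP', hform⟩ := hψ'
    have hy := y.2
    have hby : b y ∈ preimageAlong θ (h.im X) := by
      rw [hp]
      exact hy.2
    have e1 := hform ⟨b y, hby⟩
    have hyV : (y : Ω') ∈ V' := hy.1
    have e2 : (⟨θ ⟨b y, hP hby⟩, hP' ⟨b y, hby⟩⟩ : h.im X) = y := Subtype.ext (by
      show θ ⟨b y, hP hby⟩ = y
      rw [hθ]
      exact h.ab _ hyV)
    rw [e2] at e1
    rw [e1, hθ]
    show a (φ₀ ⟨b y, hby⟩) = a (f (b y))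
    rw [ev₀]
  · obtain ⟨φ', hφ', ev⟩ := id hf'
    have hX' : X' ≤ S' := hf'.le
    obtain ⟨-, φ, hφ, hP, hφS, hP', hform⟩ := (hiff _ φ').1 hφ'
    have hm : Mp C (h.symm.im X') (extOf φ) := by
      rw [← hpre hX']
      exact mp_of_hom hφ
    refine hm.congr (fun x hx => ?_)
    have hx' : x ∈ preimageAlong θ X' := by
      rw [hpre hX']
      exact hx
    rw [extOf_of_mem φ hx']
    have e1 := hform ⟨x, hx'⟩
    have hax : a x ∈ X' := hx.2
    have e2 : (⟨θ ⟨x, hP hx'⟩, hP' ⟨x, hx'⟩⟩ : X') = ⟨a x, hax⟩ := Subtype.ext (hθ ⟨x, hP hx'⟩)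
    rw [e2, ev ⟨a x, hax⟩, hθ] at e1
    show φ ⟨x, hx'⟩ = b (f' (a x))
    rw [e1]
    exact (h.ba _ (hT (hφS ⟨x, hx'⟩))).symm

end Corr

end Cfsg.Agent.Lib.Fusion.Trans
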