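import Cfsg.Agent.Lib.Fusion.Trans

/-!
# Transport of normality along isomorphisms (helper20)
-/

set_option autoImplicit false

namespace Cfsg.Agent.Lib.Fusion.Trans2

open Cfsg Cfsg.FusionSystem Cfsg.Agent.Lib.Fusion.Basic Cfsg.Agent.Lib.Fusion.GroupSystem
open Cfsg.Agent.Lib.FusionExt.MapApi Cfsg.Agent.Lib.FusionExt.Basic Cfsg.Agent.Lib.FusionExt.Normal
open Cfsg.Agent.Lib.FusionExt.PowerSys Cfsg.Agent.Lib.FusionExt.PowerGen Cfsg.Agent.Lib.FusionExt.PrimeRes1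
open Cfsg.Agent.Lib.FusionExt.SatCrit1 Cfsg.Agent.Lib.FusionExt.Invariant Cfsg.Agent.Lib.FusionExt.PowerE
open Cfsg.Agent.Lib.FusionExt.LowPi Cfsg.Agent.Lib.FusionExt.CentSys
open Cfsg.Agent.Lib.FusionExt.Factor Cfsg.Agent.Lib.FusionExt.FactorExt Cfsg.Agent.Lib.FusionExt.FactorSat
open Cfsg.Agent.Lib.Fusion.Center Cfsg.Agent.Lib.Fusion.Trans

universe u v

variable {Ω : Type u} [Group Ω] {Ω' : Type v} [Group Ω']
variable {V : Subgroup Ω} {V' : Subgroup Ω'} {a : Ω → Ω'} {b : Ω' → Ω}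
variable {h : Iso V V' a b} {T W : Subgroup Ω} {C : FusionSystem T} {Y : FusionSystem W}
variable {T' W' : Subgroup Ω'} {C' : FusionSystem T'} {Y' : FusionSystem W'} {p : ℕ}

theorem sc_bot (C : FusionSystem T) : C.StronglyClosed ⊥ := by
  refine ⟨bot_le, fun P hP φ hφ x => ?_⟩
  have hx : (x : Ω) = 1 := Subgroup.mem_bot.1 (hP x.2)
  have : x = 1 := Subtype.ext hx
  rw [this, map_one]
  exact Subgroup.one_mem _

/-- The image of a system exists. -/
theorem exists_corr (h : Iso V V' a b) (hT : T ≤ V) [Finite T] (C : FusionSystem T) :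
    ∃ C' : FusionSystem (h.im T), Corr h C C' := by
  have hk : ∀ s : T, Corr.homOn h hT s = 1 ↔ (s : Ω) ∈ (⊥ : Subgroup Ω) := by
    intro s
    constructor
    · intro e
      have := h.ba _ (hT s.2)
      rw [show a s = 1 from e, h.symm.map_one] at this
      exact Subgroup.mem_bot.2 this.symm
    · intro e
      show a s = 1
      rw [Subgroup.mem_bot.1 e, h.map_one]
  obtain ⟨E, hE⟩ := exists_isFactorSystem C (Corr.homOn h hT) (sc_bot C) hk (Corr.range_homOn hT)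
  exact ⟨E, Corr.corr_of_factor h hT (fun _ => rfl) hE⟩

theorem sat [Fact p.Prime] [Finite T] (hc : Corr h C C') (hT : IsPGroup p T) (hC : C.IsSaturated p) : C'.IsSaturated p :=
  image_isSaturated _ C C' hT hC (isSurjectiveMorphism_of_isFactorSystem C _ hT hC (sc_bot C) (Corr.factor_of_corr hc))

theorem isP (hc : Corr h C C') (hT : IsPGroup p T) : IsPGroup p T' := by
  intro y
  obtain ⟨n, hn⟩ := hT ⟨b y, hc.inv_mem y.2⟩
  refine ⟨n, Subtype.ext ?_⟩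
  have hn' : (b y) ^ (p ^ n) = 1 := congrArg Subtype.val hn
  have hpow : ∀ k : ℕ, a ((b y) ^ k) = (a (b y)) ^ k := by
    intro k
    induction k with
    | zero => simpa using h.map_one
    | succ k ih =>
      rw [pow_succ, h.mul _ (V.pow_mem (hc.le (hc.inv_mem y.2)) k) _ (hc.le (hc.inv_mem y.2)), ih, pow_succ]
  have := hpow (p ^ n)
  rw [hn', h.map_one, h.ab _ (hc.le' y.2)] at this
  exact this.symm

theorem fin [Finite T] (hc : Corr h C C') : Finite T' :=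
  Finite.of_injective (fun y : T' => (⟨b y, hc.inv_mem y.2⟩ : T)) (fun y z e =>
    Subtype.ext (h.symm.inj (hc.le' y.2) (hc.le' z.2) (congrArg Subtype.val e)))

section strong

variable {S₀ T₀ : Subgroup Ω} {F₀ : FusionSystem S₀} {E₀ : FusionSystem T₀}

/-- Strong invariance for total functions. -/
theorem strong_mp (hs : StrongInv F₀ E₀) {P Q X : Subgroup Ω} {f g : Ω → Ω} (hPQ : P ≤ Q) (hQ : Q ≤ T₀)
    (hf : Mp E₀ P f) (hfQ : ∀ x ∈ P, f x ∈ Q) (hg : Mp F₀ Q g) (hi : Img P g X) :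
    ∃ k, Mp E₀ X k ∧ ∀ x ∈ P, k (g x) = g (f x) := by
  obtain ⟨φ, hφ, ef⟩ := hf
  obtain ⟨ψ, hψ, eg⟩ := hg
  have hφQ : ∀ x : P, φ x ∈ Q := fun x => by
    rw [ef]
    exact hfQ x x.2
  obtain ⟨χ, hχ, he⟩ := hs P Q hPQ hQ φ hφ hφQ ψ hψ
  have hX : (P.subgroupOf Q).map ψ = X := by
    ext y
    constructor
    · rintro ⟨x, hx, rfl⟩
      rw [eg]
      exact hi.1 _ hx
    · intro hy
      obtain ⟨x, hx, rfl⟩ := hi.2 y hy
      exact ⟨⟨x, hPQ hx⟩, hx, eg _⟩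
  subst hX
  refine ⟨extOf χ, mp_of_hom hχ, fun x hx => ?_⟩
  have hm : g x ∈ (P.subgroupOf Q).map ψ := hi.1 x hx
  rw [extOf_of_mem χ hm]
  have e1 := he ⟨x, hx⟩ (by
    show ψ ⟨x, hPQ hx⟩ ∈ _
    rw [eg]
    exact hm)
  have e2 : (⟨g x, hm⟩ : ↥((P.subgroupOf Q).map ψ)) = ⟨ψ (Subgroup.inclusion hPQ ⟨x, hx⟩), by
      show ψ ⟨x, hPQ hx⟩ ∈ _
      rw [eg]
      exact hm⟩ := Subtype.ext (eg ⟨x, hPQ hx⟩).symm
  rw [e2, e1]
  have e3 := eg ⟨φ ⟨x, hx⟩, hφQ ⟨x, hx⟩⟩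
  refine e3.trans ?_
  show g (φ ⟨x, hx⟩) = g (f x)
  rw [ef]

end strong

theorem strong_tr (hY : Corr h Y Y') (hC : Corr h C C') (hs : StrongInv Y C) : StrongInv Y' C' := by
  refine strongInv_of_mp (fun P' Q' X' f' g' hPQ hQT hf' hfQ hg' hi => ?_)
  have hQV : Q' ≤ V' := hQT.trans hC.le'
  have hXW : X' ≤ W' := (hg'.restrict hPQ).img_le hi
  have hXV : X' ≤ V' := hXW.trans hY.le'
  have hQT₀ : h.symm.im Q' ≤ T := fun x hx => hC.inv_mem (hQT hx.2) |> fun e => by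
    have h2 := h.ba x hx.1
    rwa [h2] at e
  have hf := hC.bwd _ _ hf'
  have hg := hY.bwd _ _ hg'
  have hi₀ : Img (h.symm.im P') (tr b a g') (h.symm.im X') := by
    refine ⟨fun x hx => ?_, fun x hx => ?_⟩
    · have hv := hi.1 _ hx.2
      refine ⟨h.mem' _ (hXV hv), ?_⟩
      show a (b (g' (a x))) ∈ X'
      rw [h.ab _ (hXV hv)]
      exact hv
    · obtain ⟨y, hy, e⟩ := hi.2 _ hx.2
      refine ⟨b y, ⟨h.mem' _ (hPQ.trans hQV hy), ?_⟩, ?_⟩
      · show a (b y) ∈ P'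
        rw [h.ab _ (hPQ.trans hQV hy)]
        exact hy
      · show b (g' (a (b y))) = x
        rw [h.ab _ (hPQ.trans hQV hy), e, h.ba x hx.1]
  obtain ⟨k, hk, hke⟩ := strong_mp hs (h.symm.im_mono hPQ) hQT₀ hf (fun x hx => by
    have hv := hfQ _ hx.2
    refine ⟨h.mem' _ (hQV hv), ?_⟩
    show a (b (f' (a x))) ∈ Q'
    rw [h.ab _ (hQV hv)]
    exact hv) hg hi₀
  have hk' := hC.fwd _ _ hk
  rw [h.im_symm_im hXV] at hk'
  refine ⟨_, hk', fun y hy => ?_⟩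
  have hyV := hPQ.trans hQV hy
  have hby : b y ∈ h.symm.im P' := ⟨h.mem' _ hyV, by
    show a (b y) ∈ P'
    rw [h.ab _ hyV]
    exact hy⟩
  have e1 := hke _ hby
  show a (k (b (g' y))) = g' (f' y)
  have e2 : tr b a g' (b y) = b (g' y) := by
    show b (g' (a (b y))) = _
    rw [h.ab _ hyV]
  rw [e2] at e1
  rw [e1]
  have e3 : tr b a f' (b y) = b (f' y) := by
    show b (f' (a (b y))) = _
    rw [h.ab _ hyV]
  rw [e3]
  show a (b (g' (a (b (f' y))))) = _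
  have hfy := hfQ y hy
  rw [h.ab _ (hQV hfy), h.ab _ (hY.le' (hg'.mem_S hfy))]

theorem invariant [Fact p.Prime] [Finite W] (hW : IsPGroup p W) (hY : Corr h Y Y') (hC : Corr h C C')
    (hYs : Y.IsSaturated p) (hi : C.IsInvariantIn Y) : C'.IsInvariantIn Y' := by
  haveI := fin hY
  have hTW : T ≤ W := hi.2.1.1
  have hsub := hi.1
  have hsc := hi.2.1
  have hs := (isInvariantIn_iff hW hYs hsub hsc).1 hi
  have hsc' : Y'.StronglyClosed T' := by
    have := Corr.sc hY hsc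
    rwa [← hC.eq] at this
  exact (isInvariantIn_iff (isP hY hW) (sat hY hW hYs) (Corr.sub hY hC hsub) hsc').2 (strong_tr hY hC hs)

theorem normal [Fact p.Prime] [Finite W] (hW : IsPGroup p W) (hY : Corr h Y Y') (hC : Corr h C C')
    (hn : C.IsNormalIn Y p) : C'.IsNormalIn Y' p := by
  obtain ⟨⟨hCs, hYs, hi⟩, hext⟩ := hn
  have hTW : T ≤ W := hi.2.1.1
  haveI : Finite T := finite_of_le hTW
  have hTp : IsPGroup p T := hW.to_le hTW
  refine ⟨⟨sat hC hTp hCs, sat hY hW hYs, invariant hW hY hC hYs hi⟩, ?_⟩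
  have hWV := hY.le
  have hTV := hC.le
  obtain rfl := hC.eq
  obtain rfl := hY.eq
  intro α' hα'
  have hm' : Mp C' (h.im T) (autFun α') := mp_autFun le_rfl hα'
  have hm := hC.bwd _ _ hm'
  rw [h.symm_im_im hTV] at hm
  have himg : Img T (tr b a (autFun α')) T := by
    refine ⟨fun x hx => ?_, fun x hx => ?_⟩
    · have hv : autFun α' (a x) ∈ h.im T := by
        rw [autFun_of_mem α' (h.map_mem_im hTV hx)]
        exact (α' _).2
      exact hv.2
    · obtain ⟨z, hz, e⟩ := (img_autFun α').2 (a x) (h.map_mem_im hTV hx)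
      refine ⟨b z, hz.2, ?_⟩
      show b (autFun α' (a (b z))) = x
      rw [h.ab z hz.1, e, h.ba x (hTV hx)]
  obtain ⟨α, hα, hαe⟩ := hm.toAut himg
  obtain ⟨β, hβ, hβ1, hβ2⟩ := hext α hα
  have hRW : T ⊔ centralizerIn W T ≤ W := sup_le hTW inf_le_left
  have hmβ : Mp Y (T ⊔ centralizerIn W T) (autFun β) := mp_autFun hRW hβ
  have hCV : centralizerIn W T ≤ V := inf_le_left.trans hWV
  have hR' : h.im (T ⊔ centralizerIn W T) = h.im T ⊔ centralizerIn (h.im W) (h.im T) := by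
    rw [h.im_sup hTV hCV, h.im_centralizerIn hWV hTV]
  have hmβ' := hY.fwd _ _ hmβ
  have himg' : Img (h.im (T ⊔ centralizerIn W T)) (tr a b (autFun β)) (h.im (T ⊔ centralizerIn W T)) := by
    refine ⟨fun y hy => ?_, fun y hy => ?_⟩
    · have := (img_autFun β).1 _ hy.2
      exact h.map_mem_im (hRW.trans hWV) this
    · obtain ⟨z, hz, e⟩ := (img_autFun β).2 _ hy.2
      refine ⟨a z, h.map_mem_im (hRW.trans hWV) hz, ?_⟩
      show a (autFun β (b (a z))) = y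
      rw [h.ba z (hRW.trans hWV hz), e, h.ab y hy.1]
  have hmβ'' : Mp Y' (h.im T ⊔ centralizerIn (h.im W) (h.im T)) (tr a b (autFun β)) := by
    rw [← hR']
    exact hmβ'
  have himg'' : Img (h.im T ⊔ centralizerIn (h.im W) (h.im T)) (tr a b (autFun β)) (h.im T ⊔ centralizerIn (h.im W) (h.im T)) := by
    rw [← hR']
    exact himg'
  obtain ⟨β', hβ', hβ'e⟩ := hmβ''.toAut himg''
  refine ⟨β', hβ', fun x => ?_, fun c hc => ?_⟩
  · rw [hβ'e]
    have hxV : (x : Ω') ∈ V' := x.2.1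
    have hbx : b x ∈ T := x.2.2
    have hbx' : b x ∈ T ⊔ centralizerIn W T := Subgroup.mem_sup_left hbx
    show a (autFun β (b x)) = _
    rw [autFun_of_mem β hbx']
    have e1 := hβ1 ⟨b x, hbx⟩
    have e2 : (⟨b x, hbx'⟩ : ↥(T ⊔ centralizerIn W T)) = Subgroup.inclusion le_sup_left ⟨b x, hbx⟩ := rfl
    rw [e2, e1, hαe ⟨b x, hbx⟩]
    show a (b (autFun α' (a (b x)))) = _
    rw [h.ab _ hxV, autFun_coe]
    exact h.ab _ (α' x).2.1
  · rw [hβ'e]
    have hc₁ : (c : Ω') ∈ h.im (centralizerIn W T) := by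
      rw [← h.im_centralizerIn hWV hTV]
      exact hc
    have hc₀ : b c ∈ centralizerIn W T := hc₁.2
    have hc₀' : b c ∈ T ⊔ centralizerIn W T := Subgroup.mem_sup_right hc₀
    have h2 := hβ2 ⟨b c, hc₀'⟩ hc₀
    have hv : ((β ⟨b c, hc₀'⟩ : ↥(T ⊔ centralizerIn W T)) : Ω) ∈ V := hRW.trans hWV (β ⟨b c, hc₀'⟩).2
    have hcV : (c : Ω') ∈ V' := hc₁.1
    have hbV : b c ∈ V := hCV hc₀
    have h3 : (c : Ω')⁻¹ * tr a b (autFun β) c = a ((b c)⁻¹ * (β ⟨b c, hc₀'⟩ : ↥(T ⊔ centralizerIn W T))) := by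
      rw [h.mul _ (V.inv_mem hbV) _ hv, h.map_inv hbV, h.ab _ hcV]
      show _ * a (autFun β (b c)) = _
      rw [autFun_of_mem β hc₀']
    rw [h3]
    refine ⟨h.map_mem_im hTV h2.1, Subgroup.mem_centralizer_iff.2 fun t ht => ?_⟩
    have h4 := Subgroup.mem_centralizer_iff.1 h2.2 (b t) ht.2
    have h5 := (h.comm_iff (hTV ht.2) (V.mul_mem (V.inv_mem hbV) hv)).2 h4
    rwa [h.ab t ht.1] at h5

end Cfsg.Agent.Lib.Fusion.Trans2
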