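import Cfsg.Agent.Lib.Fusion.Trans2

/-!
# Transport of simplicity, centres, hyperfocal subgroups and quasisimplicity (helper20)
-/

set_option autoImplicit false

namespace Cfsg.Agent.Lib.Fusion.Trans3

open Cfsg Cfsg.FusionSystem Cfsg.Agent.Lib.Fusion.Basic Cfsg.Agent.Lib.Fusion.GroupSystem
open Cfsg.Agent.Lib.FusionExt.MapApi Cfsg.Agent.Lib.FusionExt.Basic Cfsg.Agent.Lib.FusionExt.Normal
open Cfsg.Agent.Lib.FusionExt.PowerSys Cfsg.Agent.Lib.FusionExt.PowerGen Cfsg.Agent.Lib.FusionExt.PrimeRes1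
open Cfsg.Agent.Lib.FusionExt.SatCrit1 Cfsg.Agent.Lib.FusionExt.Invariant Cfsg.Agent.Lib.FusionExt.PowerE
open Cfsg.Agent.Lib.FusionExt.LowPi Cfsg.Agent.Lib.FusionExt.CentSys
open Cfsg.Agent.Lib.FusionExt.Factor Cfsg.Agent.Lib.FusionExt.FactorExt Cfsg.Agent.Lib.FusionExt.FactorSat
open Cfsg.Agent.Lib.Fusion.Center Cfsg.Agent.Lib.Fusion.Trans Cfsg.Agent.Lib.Fusion.Trans2

universe u v

variable {Ω : Type u} [Group Ω] {Ω' : Type v} [Group Ω']
variable {V : Subgroup Ω} {V' : Subgroup Ω'} {a : Ω → Ω'} {b : Ω' → Ω}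
variable {h : Iso V V' a b} {T W : Subgroup Ω} {C : FusionSystem T} {Y : FusionSystem W}
variable {T' W' : Subgroup Ω'} {C' : FusionSystem T'} {Y' : FusionSystem W'} {p : ℕ}

theorem simple [Fact p.Prime] [Finite T] (hT : IsPGroup p T) (hc : Corr h C C') (hs : C.IsSimple p) : C'.IsSimple p := by
  obtain ⟨h1, h2, h3⟩ := hs
  refine ⟨sat hc hT h1, fun e => h2 ?_, fun R' D' hD' => ?_⟩
  · have := hc.symm_im
    rw [e, h.symm.im_bot] at this
    exact this.symm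
  · have hRT : R' ≤ T' := hD'.1.2.2.2.1.1
    haveI := fin hc
    haveI : Finite R' := finite_of_le hRT
    obtain ⟨D, hDc⟩ := exists_corr h.symm (hRT.trans hc.le') D'
    have hDn := normal (isP hc hT) hc.symm hDc hD'
    have hDc' : Corr h D D' := hDc.symm
    rcases h3 _ D hDn with e | ⟨e1, e2⟩
    · left
      have := h.im_symm_im (hRT.trans hc.le')
      rwa [e, h.im_bot, eq_comm] at this
    · right
      refine ⟨?_, fun P => Set.Subset.antisymm ?_ ?_⟩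
      · have := h.im_symm_im (hRT.trans hc.le')
        rw [e1, ← hc.eq] at this
        exact this.symm
      · exact Corr.sub hc hDc' (fun P φ hφ => e2 P ▸ hφ) P
      · exact Corr.sub hDc' hc (fun P φ hφ => (e2 P).symm ▸ hφ) P

theorem central_tr (hc : Corr h C C') {Q : Subgroup Ω} (hQ : C.IsCentral Q) : C'.IsCentral (h.im Q) := by
  obtain ⟨hQT, hext⟩ := hQ
  have hQV := hQT.trans hc.le
  refine ⟨?_, fun P' φ' hφ' => ?_⟩
  · rw [hc.eq]
    exact h.im_mono hQT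
  · have hm := mp_of_hom hφ'
    have hP' : P' ≤ V' := hm.le.trans hc.le'
    obtain ⟨φ, hφ, ev⟩ := hc.bwd _ _ hm
    have hPT : h.symm.im P' ≤ T := le_of_mem C hφ
    obtain ⟨ψ, hψ, e1, e2⟩ := hext _ φ hφ
    have hm₂ := hc.fwd _ _ (mp_of_hom hψ)
    rw [h.im_sup (hPT.trans hc.le) hQV, h.im_symm_im hP'] at hm₂
    obtain ⟨ψ', hψ', ev'⟩ := hm₂
    refine ⟨ψ', hψ', fun x => ?_, fun x => ?_⟩
    · rw [ev']
      show a (extOf ψ (b x)) = _
      have hxV : (x : Ω') ∈ V' := hP' x.2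
      have hbx : b x ∈ h.symm.im P' := ⟨h.mem' _ hxV, by
        show a (b x) ∈ P'
        rw [h.ab _ hxV]
        exact x.2⟩
      rw [extOf_of_mem ψ (Subgroup.mem_sup_left hbx)]
      have e3 := e1 ⟨b x, hbx⟩
      have e4 : (⟨b x, Subgroup.mem_sup_left hbx⟩ : ↥(h.symm.im P' ⊔ Q)) = Subgroup.inclusion le_sup_left ⟨b x, hbx⟩ := rfl
      rw [e4, e3, ev]
      show a (b (extOf φ' (a (b x)))) = _
      rw [h.ab _ hxV, h.ab _ (hc.le' (hm.mem_S x.2))]
      exact extOf_coe φ' x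
    · rw [ev']
      show a (extOf ψ (b x)) = _
      have hbx : b x ∈ Q := x.2.2
      rw [extOf_of_mem ψ (Subgroup.mem_sup_right hbx)]
      have e4 : (⟨b x, Subgroup.mem_sup_right hbx⟩ : ↥(h.symm.im P' ⊔ Q)) = Subgroup.inclusion le_sup_right ⟨b x, hbx⟩ := rfl
      rw [e4, e2 ⟨b x, hbx⟩]
      exact h.ab _ x.2.1

theorem center_tr [Finite T] (hc : Corr h C C') : C'.center = h.im C.center := by
  haveI := fin hc
  apply le_antisymm
  · have h1 := central_tr hc.symm (isCentral_center C')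
    have h2 : h.symm.im C'.center ≤ C.center := le_sSup h1
    have h3 := h.im_symm_im ((center_le C').trans hc.le')
    rw [← h3]
    exact h.im_mono h2
  · exact le_sSup (central_tr hc (isCentral_center C))

theorem iter_tr (h : Iso V V' a b) {f : Ω → Ω} {X : Subgroup Ω} (hX : X ≤ V) (hi : ∀ x ∈ X, f x ∈ X) (k : ℕ) {x : Ω} (hx : x ∈ X) :
    (tr a b f)^[k] (a x) = a (f^[k] x) := by
  induction k with
  | zero => rfl
  | succ k ih =>
    rw [Function.iterate_succ_apply', Function.iterate_succ_apply', ih]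
    show a (f (b (a _))) = _
    rw [h.ba _ (hX (iterate_mem hi k hx))]

theorem pp_tr [Finite T] (hc : Corr h C C') {P : Subgroup Ω} {f : Ω → Ω} (hf : Pp C p P f) : Pp C' p (h.im P) (tr a b f) := by
  obtain ⟨h1, h2, m, hm, h3⟩ := hf
  have hPV := h1.le.trans hc.le
  refine ⟨hc.fwd _ _ h1, ⟨fun y hy => ?_, fun y hy => ?_⟩, m, hm, fun y hy => ?_⟩
  · exact h.map_mem_im hPV (h2.1 _ hy.2)
  · obtain ⟨x, hx, e⟩ := h2.2 _ hy.2
    refine ⟨a x, h.map_mem_im hPV hx, ?_⟩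
    show a (f (b (a x))) = y
    rw [h.ba x (hPV hx), e, h.ab y hy.1]
  · have e := iter_tr h hPV h2.1 m hy.2
    rw [h.ab y hy.1, h3 _ hy.2, h.ab y hy.1] at e
    exact e

theorem hyp_tr [Fact p.Prime] [Finite T] (hc : Corr h C C') : h.im (C.hyperfocalSubgroup p) ≤ C'.hyperfocalSubgroup p := by
  haveI := fin hc
  have hle : C.hyperfocalSubgroup p ≤ h.symm.im (C'.hyperfocalSubgroup p) := by
    refine Cfsg.Agent.Lib.FusionExt.Comp1.hyperfocal_le_of_gen (fun P hP f hf x hx => ?_)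
    have hPV := hP.trans hc.le
    have hf' := pp_tr hc hf
    have hPT' : h.im P ≤ T' := by
      rw [hc.eq]
      exact h.im_mono hP
    haveI : Finite (h.im P) := finite_of_le hPT'
    have h1 := Cfsg.Agent.Lib.Fusion.ChiK7.mem_hyp_of_Pp hPT' hf' (h.map_mem_im hPV hx)
    have hfx : f x ∈ P := hf.2.1.1 x hx
    refine ⟨V.mul_mem (V.inv_mem (hPV hx)) (hPV hfx), ?_⟩
    show a _ ∈ _
    rw [h.mul _ (V.inv_mem (hPV hx)) _ (hPV hfx), h.map_inv (hPV hx)]
    have e : tr a b f (a x) = a (f x) := by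
      show a (f (b (a x))) = _
      rw [h.ba x (hPV hx)]
    rwa [e] at h1
  intro y hy
  have := (hle hy.2).2
  rwa [h.ab y hy.1] at this

section quotient

variable {Ω₁ : Type*} [Group Ω₁] {Ω₂ : Type*} [Group Ω₂] {S₁ : Subgroup Ω₁} {S₂ : Subgroup Ω₂}
variable {a₁ : Ω₁ → Ω₂} {b₁ : Ω₂ → Ω₁}

/-- The forward half of the correspondence between factor systems of corresponding systems. -/
theorem factor_fwd [Finite T] (hc : Corr h C C') {Z : Subgroup Ω} (hZ : C.StronglyClosed Z) (hZV : Z ≤ V)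
    {Z' : Subgroup Ω'} (hZ' : Z' = h.im Z)
    {θ : T →* Ω₁} {θ' : T' →* Ω₂} {E : FusionSystem S₁} {E' : FusionSystem S₂}
    (hE : C.IsFactorSystem Z θ E) (hE' : C'.IsFactorSystem Z' θ' E')
    (k : Iso S₁ S₂ a₁ b₁) (hk : ∀ x : T, ∀ hx : a x ∈ T', a₁ (θ x) = θ' ⟨a x, hx⟩)
    (X : Subgroup Ω₁) (f : Ω₁ → Ω₁) (hf : Mp E X f) : Mp E' (k.im X) (tr a₁ b₁ f) := by
  haveI := fin hc
  have hZ's : C'.StronglyClosed Z' := by
    have := Corr.sc hc hZ
    rwa [← hZ'] at this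
  obtain ⟨-, hθ, hr, hiff⟩ := id hE
  obtain ⟨-, hθ', hr', hiff'⟩ := id hE'
  obtain ⟨φ, hφ, ev⟩ := id hf
  obtain ⟨hXS, ψ, hψ, hP, hψS, hP', hform⟩ := (hiff X φ).1 hφ
  have hθS₁ : ∀ z : T, θ z ∈ S₁ := fun z => hr ▸ (⟨z, rfl⟩ : θ z ∈ θ.range)
  have hm := hc.fwd _ _ (mp_of_hom hψ)
  have hle' : k.im X ≤ S₂ := fun y hy => hy.1
  have hpre : h.im (preimageAlong θ X) = preimageAlong θ' (k.im X) := by
    ext y
    rw [mem_preimageAlong]
    constructor
    · rintro ⟨h1, h2⟩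
      obtain ⟨h3, h4⟩ := mem_preimageAlong.1 h2
      have hyT' : y ∈ T' := by
        have := hc.map_mem h3
        rwa [h.ab y h1] at this
      refine ⟨hyT', ?_⟩
      have e := hk ⟨b y, h3⟩ (hc.map_mem h3)
      have e' : (⟨a (b y), hc.map_mem h3⟩ : T') = ⟨y, hyT'⟩ := Subtype.ext (h.ab y h1)
      rw [e'] at e
      rw [← e]
      exact k.map_mem_im hXS h4
    · rintro ⟨h1, h2⟩
      have hV := hc.le' h1
      have hbT := hc.inv_mem h1
      refine ⟨hV, mem_preimageAlong.2 ⟨hbT, ?_⟩⟩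
      have e := hk ⟨b y, hbT⟩ (hc.map_mem hbT)
      have e' : (⟨a (b y), hc.map_mem hbT⟩ : T') = ⟨y, h1⟩ := Subtype.ext (h.ab y hV)
      rw [e'] at e
      apply k.mem_of_map_mem (hθS₁ _)
      rw [e]
      exact h2
  rw [hpre] at hm
  obtain ⟨ψ', hψ', evψ⟩ := hm
  have hre : k.im X ≤ θ'.range := by rwa [hr']
  obtain ⟨φ', hφ'⟩ := exists_induced C' θ' hZ's hθ' hre hψ'
  have hmem : φ' ∈ E'.Hom (k.im X) := (hiff' _ φ').2 ⟨hle', _, hψ', hφ'⟩
  refine ⟨φ', hmem, fun y => ?_⟩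
  obtain ⟨hQ₀, hψS', hPQ', hform'⟩ := id hφ'
  obtain ⟨s', hs'⟩ := exists_preimage θ' hre y.2
  have hs'm : (s' : Ω') ∈ preimageAlong θ' (k.im X) := s'.2
  have hs'T : (s' : Ω') ∈ T' := preimageAlong_le _ _ hs'm
  have e1 := hform' ⟨s', hs'm⟩
  have e2 : (⟨θ' ⟨s', hQ₀ hs'm⟩, hPQ' ⟨s', hs'm⟩⟩ : k.im X) = y := Subtype.ext hs'
  rw [e2] at e1
  rw [e1]
  have e3 := evψ ⟨s', hs'm⟩
  have hbs : b s' ∈ T := hc.inv_mem hs'T
  have hbsm : b s' ∈ preimageAlong θ X := by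
    have : (s' : Ω') ∈ h.im (preimageAlong θ X) := by
      rw [hpre]
      exact hs'm
    exact this.2
  have e4 : tr a b (extOf ψ) (s' : Ω') = a (ψ ⟨b s', hbsm⟩) := by
    show a (extOf ψ (b s')) = _
    rw [extOf_of_mem ψ hbsm]
  rw [e4] at e3
  have hbysub : θ ⟨b s', hP hbsm⟩ = b₁ y := by
    have e6 := hk ⟨b s', hP hbsm⟩ (hc.map_mem hbs)
    have e7 : (⟨a (b s'), hc.map_mem hbs⟩ : T') = ⟨s', hQ₀ hs'm⟩ := Subtype.ext (h.ab _ (hc.le' hs'T))
    rw [e7, hs'] at e6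
    have : (y : Ω₂) = a₁ (θ ⟨b s', hP hbsm⟩) := e6.symm
    rw [this, k.ba _ (hθS₁ _)]
  have hX₁ : θ ⟨b s', hP hbsm⟩ ∈ X := hP' ⟨b s', hbsm⟩
  have e8 : φ ⟨θ ⟨b s', hP hbsm⟩, hX₁⟩ = f (b₁ y) := by
    rw [ev]
    show f (θ ⟨b s', hP hbsm⟩) = _
    rw [hbysub]
  have e9 : φ ⟨θ ⟨b s', hP hbsm⟩, hX₁⟩ = θ ⟨ψ ⟨b s', hbsm⟩, hψS _⟩ := hform ⟨b s', hbsm⟩
  show θ' ⟨ψ' ⟨s', hs'm⟩, hψS' _⟩ = a₁ (f (b₁ y))
  rw [← e8, e9]
  have e10 := hk ⟨ψ ⟨b s', hbsm⟩, hψS _⟩ (hc.map_mem (hψS _))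
  rw [e10]
  congr 1
  apply Subtype.ext
  exact e3


/-- The correspondence between factor systems of corresponding systems. -/
theorem factor_corr [Finite T] (hc : Corr h C C') {Z : Subgroup Ω} (hZ : C.StronglyClosed Z) (hZV : Z ≤ V)
    {Z' : Subgroup Ω'} (hZ' : Z' = h.im Z)
    {θ : T →* Ω₁} {θ' : T' →* Ω₂} {E : FusionSystem S₁} {E' : FusionSystem S₂}
    (hE : C.IsFactorSystem Z θ E) (hE' : C'.IsFactorSystem Z' θ' E')
    (k : Iso S₁ S₂ a₁ b₁) (hk : ∀ x : T, ∀ hx : a x ∈ T', a₁ (θ x) = θ' ⟨a x, hx⟩) : Corr k E E' := by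
  haveI := fin hc
  have hZ's : C'.StronglyClosed Z' := by
    have := Corr.sc hc hZ
    rwa [← hZ'] at this
  have hZ'V : Z' ≤ V' := hZ's.1.trans hc.le'
  have hr := hE.2.2.1
  have hr' := hE'.2.2.1
  have hθS₁ : ∀ z : T, θ z ∈ S₁ := fun z => hr ▸ (⟨z, rfl⟩ : θ z ∈ θ.range)
  have hθS₂ : ∀ z : T', θ' z ∈ S₂ := fun z => hr' ▸ (⟨z, rfl⟩ : θ' z ∈ θ'.range)
  have hk' : ∀ x : T', ∀ hx : b x ∈ T, b₁ (θ' x) = θ ⟨b x, hx⟩ := by
    intro x hx
    have e := hk ⟨b x, hx⟩ (hc.map_mem hx)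
    have e' : (⟨a (b x), hc.map_mem hx⟩ : T') = x := Subtype.ext (h.ab _ (hc.le' x.2))
    rw [e'] at e
    show b₁ (θ' x) = _
    rw [← e, k.ba _ (hθS₁ _)]
  refine ⟨le_rfl, ?_, factor_fwd hc hZ hZV hZ' hE hE' k hk, factor_fwd hc.symm hZ's hZ'V ?_ hE' hE k.symm hk'⟩
  · ext y
    constructor
    · intro hy
      exact ⟨hy, k.mem' _ hy⟩
    · intro hy
      exact hy.1
  · rw [hZ', h.symm_im_im hZV]

end quotient

/-- The quotient by the centre gives an isomorphism. -/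
theorem exists_quotient_iso [Finite T] (hc : Corr h C C') :
    ∃ (a₁ : (T ⧸ C.center.subgroupOf T) → (T' ⧸ C'.center.subgroupOf T'))
      (b₁ : (T' ⧸ C'.center.subgroupOf T') → (T ⧸ C.center.subgroupOf T)),
      Iso (⊤ : Subgroup (T ⧸ C.center.subgroupOf T)) (⊤ : Subgroup (T' ⧸ C'.center.subgroupOf T')) a₁ b₁ ∧
      ∀ x : T, ∀ hx : a x ∈ T', a₁ (QuotientGroup.mk' (C.center.subgroupOf T) x) = QuotientGroup.mk' (C'.center.subgroupOf T') ⟨a x, hx⟩ := by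
  haveI := fin hc
  have hZ := center_tr hc
  let α : T →* T' := MonoidHom.mk' (fun x => (⟨a x, hc.map_mem x.2⟩ : T')) (fun x y => Subtype.ext (h.mul x (hc.le x.2) y (hc.le y.2)))
  have hsymm : ∀ x y : T', b ((x * y : T') : Ω') = b x * b y := fun x y => h.symm.mul x (hc.le' x.2) y (hc.le' y.2)
  let β : T' →* T := MonoidHom.mk' (fun x => (⟨b x, hc.inv_mem x.2⟩ : T)) (fun x y => Subtype.ext (hsymm x y))
  have hα : C.center.subgroupOf T ≤ (C'.center.subgroupOf T').comap α := by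
    intro x hx
    rw [Subgroup.mem_comap, Subgroup.mem_subgroupOf, hZ]
    have hx' : (x : Ω) ∈ C.center := Subgroup.mem_subgroupOf.1 hx
    exact ⟨h.mem _ (hc.le x.2), by
      show b (a x) ∈ _
      rw [h.ba _ (hc.le x.2)]
      exact hx'⟩
  have hβ : C'.center.subgroupOf T' ≤ (C.center.subgroupOf T).comap β := by
    intro x hx
    rw [Subgroup.mem_comap, Subgroup.mem_subgroupOf]
    have hx' : (x : Ω') ∈ C'.center := Subgroup.mem_subgroupOf.1 hx
    rw [hZ] at hx'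
    exact hx'.2
  refine ⟨QuotientGroup.map _ _ α hα, QuotientGroup.map _ _ β hβ, ⟨fun x _ y _ => map_mul _ x y, fun _ _ => trivial, fun _ _ => trivial, fun x _ => ?_, fun y _ => ?_⟩, fun x hx => rfl⟩
  · induction x using QuotientGroup.induction_on with
    | H z =>
      show QuotientGroup.mk (β (α z)) = _
      congr 1
      exact Subtype.ext (h.ba _ (hc.le z.2))
  · induction y using QuotientGroup.induction_on with
    | H z =>
      show QuotientGroup.mk (α (β z)) = _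
      congr 1
      exact Subtype.ext (h.ab _ (hc.le' z.2))

theorem sc_center [Finite T] (C : FusionSystem T) : C.StronglyClosed C.center := by
  refine ⟨center_le C, fun P hP φ hφ x => ?_⟩
  rw [map_of_mem_center C hφ x.2 (hP x.2)]
  exact hP x.2

theorem quasisimple [Fact p.Prime] [Finite T] (hT : IsPGroup p T) (hc : Corr h C C') (hq : C.Quasisimple p) : C'.Quasisimple p := by
  haveI := fin hc
  obtain ⟨h1, h2, h3⟩ := hq
  refine ⟨sat hc hT h1, ?_, fun E' hE' => ?_⟩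
  · apply le_antisymm (Cfsg.Agent.Lib.FusionTheory.Hyperfocal.hyp_le C')
    have := hyp_tr (p := p) hc
    rwa [h2, ← hc.eq] at this
  · have hZs := sc_center C
    have hθ : ∀ s : T, QuotientGroup.mk' (C.center.subgroupOf T) s = 1 ↔ (s : Ω) ∈ C.center := fun s => by
      show ((s : T) : T ⧸ C.center.subgroupOf T) = 1 ↔ _
      rw [QuotientGroup.eq_one_iff, Subgroup.mem_subgroupOf]
    have hr : (QuotientGroup.mk' (C.center.subgroupOf T)).range = ⊤ := MonoidHom.range_eq_top.2 (QuotientGroup.mk'_surjective _)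
    obtain ⟨E, hE⟩ := exists_isFactorSystem C _ hZs hθ hr
    obtain ⟨a₁, b₁, k, hk⟩ := exists_quotient_iso hc
    have hEs := h3 E hE
    have hcq := factor_corr hc hZs ((center_le C).trans hc.le) (center_tr hc) hE hE' k hk
    have hEp : IsPGroup p (T ⧸ C.center.subgroupOf T) := hT.to_quotient _
    have hEp' : IsPGroup p (⊤ : Subgroup (T ⧸ C.center.subgroupOf T)) := hEp.to_subgroup _
    exact simple hEp' hcq hEs

theorem subnormal_of_eq {T' W' : Subgroup Ω'} {C' : FusionSystem T'} {Y' : FusionSystem W'} (e : T' = W')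
    (hH : ∀ P, C'.Hom P = Y'.Hom P) (p : ℕ) : C'.IsSubnormalIn Y' p := by
  subst e
  have : C' = Y' := by
    cases C'
    cases Y'
    simp only [FusionSystem.mk.injEq]
    funext P
    exact hH P
  subst this
  exact .refl _ _

/-- Transport of subnormality. -/
theorem subnormal {T W : Subgroup Ω} {C : FusionSystem T} {Y : FusionSystem W} {q : ℕ} (hs : C.IsSubnormalIn Y q) :
    ∀ [Fact q.Prime], Finite W → IsPGroup q W → ∀ {T' W' : Subgroup Ω'} {C' : FusionSystem T'} {Y' : FusionSystem W'},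
      Corr h C C' → Corr h Y Y' → C'.IsSubnormalIn Y' q := by
  induction hs with
  | refl F p₀ =>
    intro _ _ _ T' W' C' Y' hC hY
    refine subnormal_of_eq (hC.eq.trans hY.eq.symm) (fun P => Set.Subset.antisymm ?_ ?_) _
    · exact Corr.sub hY hC (fun _ _ h => h) P
    · exact Corr.sub hC hY (fun _ _ h => h) P
  | @step U S₀ E₀ D F₀ p₀ hED hDF ih =>
    intro _ hf hW T' W' C' Y' hC hY
    have hUS : U ≤ S₀ := hDF.1.2.2.2.1.1
    haveI : Finite U := finite_of_le hUS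
    obtain ⟨D', hD'⟩ := exists_corr h (hUS.trans hY.le) D
    exact .step (ih inferInstance (hW.to_le hUS) hC hD') (normal hW hY hD' hDF)


end Cfsg.Agent.Lib.Fusion.Trans3
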