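import Cfsg.Agent.Lib.Fusion.BisetTransfer

/-!
# Transfer twisted by a map from a biset to a group

Given a biset `X`, a homomorphism `π : S → E` and a function `v : X → E` such that `v((s,u) x)⁻¹ π(s) v(x) π(u)⁻¹` is always
central in `E`, we get a homomorphism `Lam` from `S` to the centre of `E`.  Its value at an element `t` with `π(t)` central is
`π(t) ^ |X/S|` times a term `kap t` which only depends on the biset together with the left action of `t`.
-/

set_option autoImplicit false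

namespace Cfsg.Agent.Lib.Fusion.TwistTransfer

open Subgroup
open Cfsg Cfsg.FusionSystem Cfsg.Agent.Lib.Fusion.Basic Cfsg.Agent.Lib.Fusion.Biset
  Cfsg.Agent.Lib.Fusion.CharBiset3 Cfsg.Agent.Lib.Fusion.BisetTransfer Cfsg.Agent.Lib.Fusion.ModelGroup

universe u v

attribute [local instance] xiAct

/-- The centre as a commutative group. -/
instance cenComm {E : Type*} [Group E] : CommGroup (center E) :=
  { (inferInstance : Group (center E)) with
    mul_comm := fun a c => Subtype.ext (mem_center_iff.1 c.2 a.1) }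

/-- Independence of products of central "coboundaries". -/
theorem prod_indep {I : Type*} {E : Type*} [Fintype I] [Group E] (π : I ≃ I) (e₁ e₂ a₁ a₂ c : I → E)
    (ha : ∀ i, a₂ i = c (π i) * a₁ i * (c i)⁻¹)
    (h₁ : ∀ i, (e₁ (π i))⁻¹ * e₁ i * (a₁ i)⁻¹ ∈ center E)
    (h₂ : ∀ i, (e₂ (π i))⁻¹ * e₂ i * (a₂ i)⁻¹ ∈ center E) :
    ∏ i, (⟨_, h₁ i⟩ : center E) = ∏ i, (⟨_, h₂ i⟩ : center E) := by
  classical
  let w : I → E := fun i => e₂ i * c i * (e₁ i)⁻¹
  have hz : ∀ i, (w (π i))⁻¹ * w i = (e₂ (π i))⁻¹ * e₂ i * (a₂ i)⁻¹ * ((e₁ (π i))⁻¹ * e₁ i * (a₁ i)⁻¹)⁻¹ := by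
    intro i
    set F₁ := (e₁ (π i))⁻¹ * e₁ i * (a₁ i)⁻¹ with hF₁
    set F₂ := (e₂ (π i))⁻¹ * e₂ i * (a₂ i)⁻¹ with hF₂
    set g := c (π i) * (e₁ (π i))⁻¹ with hg
    set z := (w (π i))⁻¹ * w i with hz'
    have h3 : F₂ = g * z * g⁻¹ * F₁ := by
      have e1 : e₁ i * (a₁ i)⁻¹ = e₁ (π i) * F₁ := by
        rw [hF₁]
        group
      have e2 : F₂ = c (π i) * (e₁ (π i))⁻¹ * z * (e₁ i * (a₁ i)⁻¹) * (c (π i))⁻¹ := by
        rw [hF₂, ha i, hz']
        simp only [w]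
        group
      rw [e1] at e2
      have hc : F₁ * (c (π i))⁻¹ = (c (π i))⁻¹ * F₁ := (mem_center_iff.1 (h₁ i) _).symm
      rw [e2, hg]
      calc c (π i) * (e₁ (π i))⁻¹ * z * (e₁ (π i) * F₁) * (c (π i))⁻¹
          = c (π i) * (e₁ (π i))⁻¹ * z * e₁ (π i) * (F₁ * (c (π i))⁻¹) := by group
        _ = c (π i) * (e₁ (π i))⁻¹ * z * e₁ (π i) * ((c (π i))⁻¹ * F₁) := by rw [hc]
        _ = _ := by group
    have h4 : g * z * g⁻¹ = F₂ * F₁⁻¹ := by
      rw [h3]
      group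
    have h5 : F₂ * F₁⁻¹ ∈ center E := mul_mem (h₂ i) (inv_mem (h₁ i))
    have h6 : z = g⁻¹ * (F₂ * F₁⁻¹) * g := by
      rw [← h4]
      group
    rw [h6, mul_assoc, ← (mem_center_iff.1 h5 g), inv_mul_cancel_left]
  have hzc : ∀ i, (w (π i))⁻¹ * w i ∈ center E := by
    intro i
    rw [hz]
    exact mul_mem (h₂ i) (inv_mem (h₁ i))
  let q : E → E ⧸ center E := fun x => (x : E ⧸ center E)
  have hq : ∀ i, q (w (π i)) = q (w i) := fun i => QuotientGroup.eq.2 (hzc i)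
  have hy : ∀ i, ((q (w i)).out)⁻¹ * w i ∈ center E := fun i => by
    apply QuotientGroup.eq.1
    exact Quotient.out_eq _
  let y : I → center E := fun i => ⟨_, hy i⟩
  have hzy : ∀ i, (⟨_, h₂ i⟩ : center E) = (y (π i))⁻¹ * y i * ⟨_, h₁ i⟩ := by
    intro i
    apply Subtype.ext
    show (e₂ (π i))⁻¹ * e₂ i * (a₂ i)⁻¹ =
      (((q (w (π i))).out)⁻¹ * w (π i))⁻¹ * (((q (w i)).out)⁻¹ * w i) * ((e₁ (π i))⁻¹ * e₁ i * (a₁ i)⁻¹)
    rw [hq i]
    have h1 : (((q (w i)).out)⁻¹ * w (π i))⁻¹ * (((q (w i)).out)⁻¹ * w i) = (w (π i))⁻¹ * w i := by group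
    rw [h1, hz]
    group
  rw [Finset.prod_congr rfl (fun i _ => hzy i), Finset.prod_mul_distrib, Finset.prod_mul_distrib,
    Finset.prod_inv_distrib, Equiv.prod_comp π y, inv_mul_cancel, one_mul]

variable {Ω : Type u} [Group Ω] {S : Subgroup Ω} {X : Type u} [MulAction (Bi S) X]

section twist

variable {E : Type v} [Group E] (π : S →* E) (v : X → E)

/-- The quantity whose values are central. -/
noncomputable def DD (t : S) (ξ : Xi S X) : E := (v (t • ξ).out)⁻¹ * v ξ.out * (π (hh t ξ))⁻¹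

variable (hfree : ∀ (x : X) (u : S), ((1, u) : Bi S) • x = x → u = 1) [Finite X]

include hfree in
/-- The term depending only on the left action of `t`: equality for two elements intertwined by a permutation. -/
theorem prod_DD_eq (σ : X ≃ X) (x y : S) (hR : ∀ (u : S) (ω : X), σ (((1, u) : Bi S) • ω) = ((1, u) : Bi S) • σ ω)
    (hL : ∀ ω : X, σ (((x, 1) : Bi S) • ω) = ((y, 1) : Bi S) • σ ω)
    (hx : ∀ ξ, DD π v x ξ ∈ center E) (hy : ∀ ξ, DD π v y ξ ∈ center E) :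
    ∏ ξ, (⟨_, hx ξ⟩ : center E) = ∏ ξ, (⟨_, hy ξ⟩ : center E) := by
  let σb : Xi S X ≃ Xi S X := Quotient.congr σ (by
    intro a b
    constructor
    · rintro ⟨u, rfl⟩
      exact ⟨u, hR u a⟩
    · rintro ⟨u, hu⟩
      refine ⟨u, σ.injective ?_⟩
      rw [hu]
      exact (hR u a).symm)
  have hσb : ∀ a : X, σb (Quotient.mk (rSetoid (S := S) (X := X)) a) = Quotient.mk (rSetoid (S := S) (X := X)) (σ a) :=
    fun _ => rfl
  have hσs : ∀ ζ : Xi S X, σb (x • ζ) = y • σb ζ := by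
    intro ζ
    induction ζ using Quotient.inductionOn with
    | _ a =>
    rw [xi_smul_mk, hσb, hσb, xi_smul_mk]
    exact congrArg _ (hL a)
  have hc : ∀ ξ : Xi S X, ∃ c : S, ((1, c) : Bi S) • σ ξ.out = (σb ξ).out := by
    intro ξ
    apply exists_right_of_mk_eq
    rw [← hσb, Quotient.out_eq, Quotient.out_eq]
  choose c hc using hc
  have hkey : ∀ ξ, hh y (σb ξ) * c ξ = c (x • ξ) * hh x ξ := by
    intro ξ
    refine unique_right hfree (x := σ ξ.out) (s := y) (y := (σb (x • ξ)).out) ?_ ?_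
    · have e : ((y, hh y (σb ξ) * c ξ) : Bi S) = (y, hh y (σb ξ)) * (1, c ξ) := by
        ext <;> simp
      rw [e, mul_smul, hc, hh_spec, hσs]
    · have e : ((y, c (x • ξ) * hh x ξ) : Bi S) = (1, c (x • ξ)) * (y, hh x ξ) := by
        ext <;> simp
      have e1 : ((y, hh x ξ) : Bi S) • σ ξ.out = σ (((x, hh x ξ) : Bi S) • ξ.out) := by
        rw [pair_eq x, mul_smul, hL, hR, ← mul_smul, ← pair_eq]
      rw [e, mul_smul, e1, hh_spec, hc]
  have h₂ : ∀ ξ, (v (σb (MulAction.toPerm x ξ)).out)⁻¹ * v (σb ξ).out * (π (hh y (σb ξ)))⁻¹ ∈ center E := by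
    intro ξ
    have := hy (σb ξ)
    unfold DD at this
    rw [← hσs] at this
    exact this
  have h₁ : ∀ ξ, (v (MulAction.toPerm x ξ).out)⁻¹ * v ξ.out * (π (hh x ξ))⁻¹ ∈ center E := hx
  have h := prod_indep (MulAction.toPerm x) (fun ξ => v ξ.out) (fun ξ => v (σb ξ).out) (fun ξ => π (hh x ξ))
    (fun ξ => π (hh y (σb ξ))) (fun ξ => π (c ξ)) (fun ξ => by
      have h1 := congrArg π (hkey ξ)
      rw [map_mul, map_mul] at h1
      show π (hh y (σb ξ)) = π (c (x • ξ)) * π (hh x ξ) * (π (c ξ))⁻¹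
      rw [← h1, mul_inv_cancel_right]) h₁ h₂
  refine h.trans ((Finset.prod_congr rfl (fun ξ _ => Subtype.ext ?_)).trans
    (Equiv.prod_comp σb (fun ξ => (⟨_, hy ξ⟩ : center E))))
  show (v (σb (x • ξ)).out)⁻¹ * v (σb ξ).out * (π (hh y (σb ξ)))⁻¹ = (v (y • σb ξ).out)⁻¹ * v (σb ξ).out * (π (hh y (σb ξ)))⁻¹
  rw [hσs]

variable (hv : ∀ (s u : S) (x : X), (v (((s, u) : Bi S) • x))⁻¹ * π s * v x * (π u)⁻¹ ∈ center E)

include hv in
theorem CC_mem (s : S) (ξ : Xi S X) : (v (s • ξ).out)⁻¹ * π s * v ξ.out * (π (hh s ξ))⁻¹ ∈ center E := by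
  have := hv s (hh s ξ) ξ.out
  rwa [hh_spec] at this

include hv in
theorem DD_mem {t : S} (ht : π t ∈ center E) (ξ : Xi S X) : DD π v t ξ ∈ center E := by
  have h := mul_mem (inv_mem ht) (CC_mem π v hv t ξ)
  have e : (π t)⁻¹ * ((v (t • ξ).out)⁻¹ * π t * v ξ.out * (π (hh t ξ))⁻¹) = DD π v t ξ := by
    unfold DD
    have h1 : (v (t • ξ).out)⁻¹ * π t = π t * (v (t • ξ).out)⁻¹ := mem_center_iff.1 ht _
    rw [h1]
    group
  rwa [e] at h

/-- The twisted transfer. -/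
noncomputable def Lam : S →* center E where
  toFun s := ∏ ξ : Xi S X, (⟨_, CC_mem π v hv s ξ⟩ : center E)
  map_one' := by
    refine Finset.prod_eq_one (fun ξ _ => Subtype.ext ?_)
    show (v ((1 : S) • ξ).out)⁻¹ * π 1 * v ξ.out * (π (hh 1 ξ))⁻¹ = 1
    rw [hh_one hfree, one_smul, map_one]
    group
  map_mul' s s' := by
    have key : ∀ ξ : Xi S X, (⟨_, CC_mem π v hv (s * s') ξ⟩ : center E) =
        ⟨_, CC_mem π v hv s (s' • ξ)⟩ * ⟨_, CC_mem π v hv s' ξ⟩ := by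
      intro ξ
      apply Subtype.ext
      show (v ((s * s') • ξ).out)⁻¹ * π (s * s') * v ξ.out * (π (hh (s * s') ξ))⁻¹ =
        (v (s • s' • ξ).out)⁻¹ * π s * v (s' • ξ).out * (π (hh s (s' • ξ)))⁻¹ *
          ((v (s' • ξ).out)⁻¹ * π s' * v ξ.out * (π (hh s' ξ))⁻¹)
      have hc := mem_center_iff.1 (CC_mem π v hv s' ξ) (π (hh s (s' • ξ)))⁻¹
      rw [hh_mul hfree, map_mul, map_mul, mul_smul]
      set C := (v (s' • ξ).out)⁻¹ * π s' * v ξ.out * (π (hh s' ξ))⁻¹ with hC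
      have e1 : π s' * v ξ.out * (π (hh s' ξ))⁻¹ = v (s' • ξ).out * C := by
        rw [hC]
        group
      calc (v (s • s' • ξ).out)⁻¹ * (π s * π s') * v ξ.out * (π (hh s (s' • ξ)) * π (hh s' ξ))⁻¹
          = (v (s • s' • ξ).out)⁻¹ * π s * (π s' * v ξ.out * (π (hh s' ξ))⁻¹) * (π (hh s (s' • ξ)))⁻¹ := by group
        _ = (v (s • s' • ξ).out)⁻¹ * π s * v (s' • ξ).out * (C * (π (hh s (s' • ξ)))⁻¹) := by
            rw [e1]
            group
        _ = _ := by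
            rw [← hc]
            group
    simp only [key]
    rw [Finset.prod_mul_distrib]
    congr 1
    exact Equiv.prod_comp (MulAction.toPerm s') (fun ξ => (⟨_, CC_mem π v hv s ξ⟩ : center E))

/-- The value of the twisted transfer at an element with central image. -/
theorem Lam_eq {t : S} (ht : π t ∈ center E) :
    Lam π v hfree hv t = (⟨π t, ht⟩ : center E) ^ Nat.card (Xi S X) *
      ∏ ξ : Xi S X, (⟨_, DD_mem π v hv ht ξ⟩ : center E) := by
  have key : ∀ ξ : Xi S X, (⟨_, CC_mem π v hv t ξ⟩ : center E) = ⟨π t, ht⟩ * ⟨_, DD_mem π v hv ht ξ⟩ := by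
    intro ξ
    apply Subtype.ext
    show (v (t • ξ).out)⁻¹ * π t * v ξ.out * (π (hh t ξ))⁻¹ = π t * DD π v t ξ
    unfold DD
    have h1 : (v (t • ξ).out)⁻¹ * π t = π t * (v (t • ξ).out)⁻¹ := mem_center_iff.1 ht _
    rw [h1]
    group
  show ∏ ξ : Xi S X, (⟨_, CC_mem π v hv t ξ⟩ : center E) = _
  simp only [key]
  rw [Finset.prod_mul_distrib, Finset.prod_const, Finset.card_univ, Nat.card_eq_fintype_card]

/-- The term `kap` is invariant for intertwined elements. -/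
theorem Lam_div_eq (σ : X ≃ X) {x y : S} (hR : ∀ (u : S) (ω : X), σ (((1, u) : Bi S) • ω) = ((1, u) : Bi S) • σ ω)
    (hL : ∀ ω : X, σ (((x, 1) : Bi S) • ω) = ((y, 1) : Bi S) • σ ω) (hx : π x ∈ center E) (hy : π y ∈ center E) :
    Lam π v hfree hv x * ((⟨π x, hx⟩ : center E) ^ Nat.card (Xi S X))⁻¹ =
      Lam π v hfree hv y * ((⟨π y, hy⟩ : center E) ^ Nat.card (Xi S X))⁻¹ := by
  rw [Lam_eq π v hfree hv hx, Lam_eq π v hfree hv hy, mul_comm (_ ^ _), mul_comm (_ ^ _), mul_inv_cancel_right,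
    mul_inv_cancel_right]
  exact prod_DD_eq π v hfree σ x y hR hL _ _

end twist

end Cfsg.Agent.Lib.Fusion.TwistTransfer
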