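import Cfsg.Agent.Lib.Fusion.YoshidaOrbit
import Cfsg.Agent.Lib.Fusion.TateFocal
import Cfsg.Agent.Lib.Fusion.TateHyp
import Cfsg.Agent.Lib.FusionExt.Hyperfocal

/-!
# Yoshida's transfer theorem for fusion systems: the core argument
-/

set_option autoImplicit false

namespace Cfsg.Agent.Lib.Fusion.YoshidaCore

open Cfsg Cfsg.FusionSystem Cfsg.Agent.Lib.Fusion.Basic Cfsg.Agent.Lib.Fusion.Saturation
  Cfsg.Agent.Lib.Fusion.Biset Cfsg.Agent.Lib.Fusion.CharBiset3 Cfsg.Agent.Lib.Fusion.BisetTransfer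
  Cfsg.Agent.Lib.Fusion.ModelGroup Cfsg.Agent.Lib.Fusion.YoshidaGroup Cfsg.Agent.Lib.Fusion.YoshidaOrbit

universe u v

theorem exists_addHom_ne_zero_aux {V : Type*} [AddCommGroup V] {p : ℕ} [Fact p.Prime] [Module (ZMod p) V] (v : V)
    (hv : v ≠ 0) : ∃ f : V →+ ZMod p, f v ≠ 0 := by
  by_contra hcon
  push Not at hcon
  have h2 : ∀ φ : Module.Dual (ZMod p) V, φ v = 0 := fun φ => hcon φ.toAddMonoidHom
  exact hv ((Module.forall_dual_apply_eq_zero_iff (ZMod p) v).1 h2)

/-- Additive homomorphisms to `ZMod p` separate points of an elementary abelian group. -/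
theorem exists_addHom_ne_zero {V : Type*} [AddCommGroup V] {p : ℕ} [Fact p.Prime] (h : ∀ v : V, p • v = 0) (v : V)
    (hv : v ≠ 0) : ∃ f : V →+ ZMod p, f v ≠ 0 :=
  @exists_addHom_ne_zero_aux V _ p _ (AddCommGroup.zmodModule h) v hv

/-- A homomorphism to `C_p` separating a point outside a subgroup containing commutators and `p`-th powers. -/
theorem exists_hom_ne_one {G : Type*} [Group G] {p : ℕ} [Fact p.Prime] (T : Subgroup G) (hc : commutator G ≤ T)
    (hp : ∀ g : G, g ^ p ∈ T) (x : G) (hx : x ∉ T) :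
    ∃ l : G →* Multiplicative (ZMod p), (∀ t ∈ T, l t = 1) ∧ l x ≠ 1 := by
  have hcomm : ∀ a b : G, a * b * a⁻¹ * b⁻¹ ∈ T := fun a b =>
    hc (Subgroup.commutator_mem_commutator (Subgroup.mem_top a) (Subgroup.mem_top b))
  haveI hN : T.Normal := ⟨fun t ht g => by
    have h1 := T.mul_mem (hcomm g t) ht
    rwa [inv_mul_cancel_right] at h1⟩
  letI cg : CommGroup (G ⧸ T) :=
    { (inferInstance : Group (G ⧸ T)) with
      mul_comm := by
        intro a b
        induction a using QuotientGroup.induction_on with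
        | _ a =>
        induction b using QuotientGroup.induction_on with
        | _ b =>
        show ((a * b : G) : G ⧸ T) = ((b * a : G) : G ⧸ T)
        apply QuotientGroup.eq.2
        have h1 := hcomm b⁻¹ a⁻¹
        simp only [inv_inv] at h1
        convert h1 using 1
        group }
  have hpow : ∀ v : Additive (G ⧸ T), p • v = 0 := by
    intro v
    induction v using Additive.rec with
    | _ a =>
    induction a using QuotientGroup.induction_on with
    | _ a =>
    apply Additive.toMul.injective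
    show ((a : G ⧸ T)) ^ p = 1
    rw [← QuotientGroup.mk_pow]
    exact (QuotientGroup.eq_one_iff _).2 (hp a)
  have hv : Additive.ofMul ((x : G ⧸ T)) ≠ 0 := by
    intro h
    exact hx ((QuotientGroup.eq_one_iff _).1 (Additive.ofMul.injective h))
  obtain ⟨f, hf⟩ := exists_addHom_ne_zero hpow _ hv
  refine ⟨{ toFun := fun g => Multiplicative.ofAdd (f (Additive.ofMul ((g : G ⧸ T))))
            map_one' := by
              show Multiplicative.ofAdd (f (Additive.ofMul ((1 : G ⧸ T)))) = 1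
              rw [ofMul_one, map_zero, ofAdd_zero]
            map_mul' := fun a b => by
              show Multiplicative.ofAdd (f (Additive.ofMul (((a : G ⧸ T)) * (b : G ⧸ T)))) = _
              rw [ofMul_mul, map_add, ofAdd_add] }, fun t ht => ?_, fun h => hf ?_⟩
  · show Multiplicative.ofAdd (f (Additive.ofMul ((t : G ⧸ T)))) = 1
    rw [(QuotientGroup.eq_one_iff t).2 ht, ofMul_one, map_zero, ofAdd_zero]
  · exact Multiplicative.ofAdd.injective h

section sets

variable {G : Type*} {A : Type*} {C : Type*} [Group G] [MulAction G A] [Fintype A] [CommGroup C]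

open Classical in
/-- Reduction of a product over a set with action to the fixed points and the nontrivial orbits. -/
theorem prod_eq_pow_of_orbits (f : A → C) (c : C) (h1 : ∀ ξ ∈ MulAction.fixedPoints G A, f ξ = c)
    (h2 : ∀ ξ₀, ξ₀ ∉ MulAction.fixedPoints G A →
      ∏ ξ ∈ Finset.univ.filter (fun ξ => ξ ∈ MulAction.orbit G ξ₀), f ξ = 1) :
    ∏ ξ, f ξ = c ^ Nat.card (MulAction.fixedPoints G A) := by
  let q : A → MulAction.orbitRel.Quotient G A := fun ξ => Quotient.mk (MulAction.orbitRel G A) ξ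
  haveI : Fintype (MulAction.orbitRel.Quotient G A) := Fintype.ofFinite _
  let f' : A → C := fun ξ => if ξ ∈ MulAction.fixedPoints G A then c else 1
  have hq : ∀ ξ ξ₀, q ξ = q ξ₀ ↔ ξ ∈ MulAction.orbit G ξ₀ := by
    intro ξ ξ₀
    exact Quotient.eq''.trans MulAction.orbitRel_apply
  have hf : ∏ ξ, f ξ = ∏ ξ, f' ξ := by
    rw [← Finset.prod_fiberwise Finset.univ q f, ← Finset.prod_fiberwise Finset.univ q f']
    refine Finset.prod_congr rfl (fun j _ => ?_)
    induction j using Quotient.inductionOn with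
    | _ ξ₀ =>
    have hfil : Finset.univ.filter (fun ξ => q ξ = Quotient.mk (MulAction.orbitRel G A) ξ₀) =
        Finset.univ.filter (fun ξ => ξ ∈ MulAction.orbit G ξ₀) := by
      ext ξ
      simp only [Finset.mem_filter, Finset.mem_univ, true_and]
      exact hq ξ ξ₀
    show ∏ ξ ∈ Finset.univ.filter (fun ξ => q ξ = Quotient.mk (MulAction.orbitRel G A) ξ₀), f ξ =
      ∏ ξ ∈ Finset.univ.filter (fun ξ => q ξ = Quotient.mk (MulAction.orbitRel G A) ξ₀), f' ξ
    rw [hfil]
    by_cases hfix : ξ₀ ∈ MulAction.fixedPoints G A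
    · have hsing : Finset.univ.filter (fun ξ => ξ ∈ MulAction.orbit G ξ₀) = {ξ₀} := by
        ext ξ
        simp only [Finset.mem_filter, Finset.mem_univ, true_and, Finset.mem_singleton]
        constructor
        · rintro ⟨g, rfl⟩
          exact hfix g
        · rintro rfl
          exact MulAction.mem_orbit_self _
      rw [hsing, Finset.prod_singleton, Finset.prod_singleton, h1 _ hfix]
      simp only [f', if_pos hfix]
    · rw [h2 ξ₀ hfix]
      symm
      refine Finset.prod_eq_one (fun ξ hξ => ?_)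
      obtain ⟨g, rfl⟩ := (Finset.mem_filter.1 hξ).2
      have : (g • ξ₀ : A) ∉ MulAction.fixedPoints G A := by
        intro hcon
        apply hfix
        intro k
        have h3 := hcon (g * k * g⁻¹)
        rw [mul_smul, mul_smul, inv_smul_smul] at h3
        exact smul_left_cancel g h3
      simp only [f', if_neg this]
  rw [hf]
  simp only [f']
  rw [Finset.prod_ite, Finset.prod_const, Finset.prod_const_one, mul_one]
  congr 1
  rw [Nat.card_eq_fintype_card, Fintype.card_subtype]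

end sets

variable {Ω : Type u} [Group Ω] {S : Subgroup Ω} {X : Type u} [MulAction (Bi S) X]

attribute [local instance] xiAct

theorem smul_mk_of_smul_eq {z u : S} {ω : X} (h : ((z, u) : Bi S) • ω = ω) :
    z • Quotient.mk (rSetoid (S := S) (X := X)) ω = Quotient.mk (rSetoid (S := S) (X := X)) ω := by
  rw [xi_smul_mk]
  apply Quotient.sound
  refine ⟨u, ?_⟩
  rw [smul_eq, lS_rS] at h
  exact h.symm

/-- Telescoping the cocycle over an invariant set on which the stabilizers are killed. -/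
theorem prod_hh_eq_one [Finite X] {A : Type v} [CommGroup A]
    (ρ : S →* A) (t : S) (O : Finset (Xi S X))
    (hO : ∀ (z : S) (ξ : Xi S X), ξ ∈ O → z • ξ ∈ O)
    (h : ∀ ω : X, Quotient.mk (rSetoid (S := S) (X := X)) ω ∈ O → ∀ z ∈ Subgroup.zpowers t, ∀ u : S,
      ((z, u) : Bi S) • ω = ω → ρ u = 1) :
    ∏ ξ ∈ O, ρ (hh t ξ) = 1 := by
  classical
  let f : ↥(Subgroup.zpowers t) × S →* Bi S := MonoidHom.prodMap (Subgroup.zpowers t).subtype (MonoidHom.id S)
  letI i₁ : MulAction (↥(Subgroup.zpowers t) × S) X := MulAction.compHom X f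
  letI i₂ : MulAction (↥(Subgroup.zpowers t) × S) A :=
    { smul := fun g a => a * (ρ g.2)⁻¹
      one_smul := fun a => by
        show a * (ρ 1)⁻¹ = a
        simp
      mul_smul := fun g g' a => by
        show a * (ρ (g.2 * g'.2))⁻¹ = a * (ρ g'.2)⁻¹ * (ρ g.2)⁻¹
        rw [map_mul, mul_inv_rev, mul_assoc] }
  let Y : SubMulAction (↥(Subgroup.zpowers t) × S) X :=
    { carrier := {ω | Quotient.mk (rSetoid (S := S) (X := X)) ω ∈ O}
      smul_mem' := by
        rintro ⟨z, u⟩ ω hω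
        have e : ((z, u) : ↥(Subgroup.zpowers t) × S) • ω = lS (z : S) (rS u ω) := smul_eq _ _ _
        show Quotient.mk (rSetoid (S := S) (X := X)) _ ∈ O
        rw [e, ← xi_smul_mk, mk_rS]
        exact hO _ _ hω }
  obtain ⟨w, hw, -⟩ := exists_equivariant (G₀ := ↥(Subgroup.zpowers t) × S) (X := Y) (Y := A) (fun _ _ => True)
    (fun _ _ _ _ => trivial) (fun x => ⟨1, trivial, fun g hg => by
      have h1 : ρ g.2 = 1 := h x.1 x.2 g.1 g.1.2 g.2 (congrArg Subtype.val hg)
      show 1 * (ρ g.2)⁻¹ = 1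
      rw [h1]
      simp⟩)
  have hmem : ∀ ξ ∈ O, Quotient.mk (rSetoid (S := S) (X := X)) ξ.out ∈ O := by
    intro ξ hξ
    rwa [Quotient.out_eq]
  let W : Xi S X → A := fun ξ => if hξ : ξ ∈ O then w ⟨ξ.out, hmem ξ hξ⟩ else 1
  have key : ∀ ξ ∈ O, ρ (hh t ξ) * W (t • ξ) = W ξ := by
    intro ξ hξ
    have hξ' := hO t ξ hξ
    simp only [W, dif_pos hξ, dif_pos hξ']
    have h1 := hw (⟨t, Subgroup.mem_zpowers t⟩, hh t ξ) ⟨ξ.out, hmem ξ hξ⟩
    have e : ((⟨t, Subgroup.mem_zpowers t⟩, hh t ξ) : ↥(Subgroup.zpowers t) × S) • (⟨ξ.out, hmem ξ hξ⟩ : Y) =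
        ⟨(t • ξ).out, hmem _ hξ'⟩ := by
      apply Subtype.ext
      exact hh_spec t ξ
    rw [e] at h1
    rw [h1]
    show ρ (hh t ξ) * (w ⟨ξ.out, hmem ξ hξ⟩ * (ρ (hh t ξ))⁻¹) = _
    rw [mul_comm]
    simp
  have h2 : ∏ ξ ∈ O, W (t • ξ) = ∏ ξ ∈ O, W ξ :=
    Finset.prod_equiv (MulAction.toPerm t) (fun ξ => ⟨fun hξ => hO t ξ hξ, fun hξ => by
      have := hO t⁻¹ _ hξ
      rwa [MulAction.toPerm_apply, inv_smul_smul] at this⟩) (fun _ _ => rfl)
  have h3 : (∏ ξ ∈ O, ρ (hh t ξ)) * ∏ ξ ∈ O, W ξ = ∏ ξ ∈ O, W ξ := by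
    conv_lhs => rw [← h2]
    rw [← Finset.prod_mul_distrib]
    exact Finset.prod_congr rfl key
  exact mul_eq_right.1 h3

variable {p : ℕ} [hp : Fact p.Prime] [Finite S] {F H : FusionSystem S}

/-- The value of the transfer: the products over nontrivial orbits vanish and the fixed points contribute `l x`. -/
theorem Vv_eq_pow_card_fixed (hS : IsPGroup p S) [Finite X] (hX : IsChar F p X)
    (hno : ¬ ∃ (W : Sylow p (Equiv.Perm (Fin (p ^ 2))))
      (f : S →* (W : Subgroup (Equiv.Perm (Fin (p ^ 2))))), Function.Surjective f)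
    (l : S →* Multiplicative (ZMod p)) (x : S)
    (hfixed : ∀ (D : Subgroup Ω) (φ : D →* Ω) (hφ : φ ∈ F.Hom D) (hD : ∀ s : S, (s : Ω) ∈ D) (y : S),
      l ⟨φ ⟨y, hD y⟩, val_mem F hφ _⟩ = l y)
    (hsmall : ∀ z ∈ Subgroup.zpowers x, orderOf z < orderOf x → ∀ (D : Subgroup Ω) (φ : D →* Ω)
      (hφ : φ ∈ F.Hom D) (hz : (z : Ω) ∈ D), l ⟨φ ⟨z, hz⟩, val_mem F hφ _⟩ = 1) :
    Vv hX.free_right l x = l x ^ Nat.card (MulAction.fixedPoints S (Xi S X)) := by
  classical
  rw [Vv_apply]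
  refine prod_eq_pow_of_orbits (G := S) (fun ξ => l (hh x ξ)) (l x) (fun ξ hξ => ?_) (fun ξ₀ hξ₀ => ?_)
  · -- a fixed point
    have h1 : ∀ s : S, ∃ u : S, ((s, u) : Bi S) • ξ.out = ξ.out := by
      apply (mk_mem_fixed_iff (ξ.out)).1
      rw [Quotient.out_eq]
      exact hξ
    obtain ⟨D, hD, φ, hφS, h₁, h₂⟩ := exists_stab_hom hX.free_right ξ.out S le_rfl
    have hφF : φ ∈ F.Hom D := hX.gen ξ.out D hD φ hφS h₁
    have hDS : ∀ s : S, (s : Ω) ∈ D := by
      intro s
      obtain ⟨u, hu⟩ := h1 s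
      exact (h₂ s s.2 u hu).1
    have h2 : ((x, hh x ξ) : Bi S) • ξ.out = ξ.out := by
      rw [hh_spec, hξ x]
    obtain ⟨hd3, h3⟩ := h₂ x x.2 (hh x ξ) h2
    have h4 : hh x ξ = ⟨φ ⟨x, hDS x⟩, val_mem F hφF _⟩ := Subtype.ext h3.symm
    show l (hh x ξ) = l x
    rw [h4]
    exact hfixed D φ hφF hDS x
  · -- a nontrivial orbit
    let Q : Subgroup S := MulAction.stabilizer S ξ₀
    have hQ : Q ≠ ⊤ := by
      intro h
      apply hξ₀
      intro g
      have : g ∈ Q := h ▸ Subgroup.mem_top g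
      exact this
    obtain ⟨R, hR, hQR⟩ := (eq_top_or_exists_le_coatom Q).resolve_left hQ
    haveI hRn : R.Normal := Cfsg.Agent.Lib.PGroups.Basic.normal_of_isCoatom hS hR
    have hRi := Cfsg.Agent.Lib.PGroups.Basic.index_eq_of_isCoatom hS hR
    by_cases hxR : x ∈ R
    · haveI : Fintype (S ⧸ R) := Fintype.ofFinite _
      obtain ⟨ν, hν⟩ := orbit_prod (S := S) (A := Xi S X) (fun s ξ => l (hh s ξ))
        (fun s s' a => by rw [hh_mul hX.free_right, map_mul]) R ξ₀ (fun s hs => hQR hs)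
      have h1 := hν ⟨x, hxR⟩
      have h2 := prod_eq_one_of_no_wreath hS hno R hRi ν ⟨x, hxR⟩
      rw [← h1] at h2
      convert h2
    · refine prod_hh_eq_one l x _ (fun z ξ hξ => ?_) (fun ω hω z hz u hu => ?_)
      · obtain ⟨g, rfl⟩ := (Finset.mem_filter.1 hξ).2
        refine Finset.mem_filter.2 ⟨Finset.mem_univ _, ⟨z * g, ?_⟩⟩
        exact mul_smul z g ξ₀
      · obtain ⟨g, hg⟩ := (Finset.mem_filter.1 hω).2
        have hg' : g • ξ₀ = Quotient.mk (rSetoid (S := S) (X := X)) ω := hg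
        have h1 := smul_mk_of_smul_eq hu
        rw [← hg'] at h1
        have h2 : g⁻¹ * z * g ∈ R := by
          apply hQR
          show (g⁻¹ * z * g) • ξ₀ = ξ₀
          rw [mul_smul, mul_smul, h1, inv_smul_smul]
        have hzR : z ∈ R := by
          have := hRn.conj_mem _ h2 g
          convert this using 1
          group
        have h3 : orderOf z < orderOf x := by
          refine lt_of_le_of_ne (Nat.le_of_dvd (orderOf_pos x) (orderOf_dvd_of_mem_zpowers hz)) (fun he => hxR ?_)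
          have h4 : Subgroup.zpowers z = Subgroup.zpowers x := by
            refine Subgroup.eq_of_le_of_card_ge (Subgroup.zpowers_le.2 hz) ?_
            rw [Nat.card_zpowers, Nat.card_zpowers, he]
          have h5 : x ∈ Subgroup.zpowers z := by
            rw [h4]
            exact Subgroup.mem_zpowers x
          exact (Subgroup.zpowers_le.2 hzR) h5
        obtain ⟨D, φ, hφ, hzD, hzu⟩ := exists_hom_of_smul_eq hX hu
        have h6 := hsmall z hz h3 D φ hφ hzD
        have h7 : (⟨φ ⟨z, hzD⟩, val_mem F hφ _⟩ : S) = u := Subtype.ext hzu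
        rw [h7] at h6
        exact h6

/-- **The core of Yoshida's theorem.** -/
theorem focal_le_of_no_wreath (hS : IsPGroup p S) (hF : F.IsSaturated p) (hH : H.IsSaturated p)
    (hHF : H.IsSubsystemOf F) (hSH : ∀ φ ∈ F.Hom S, φ ∈ H.Hom S)
    (hno : ¬ ∃ (W : Sylow p (Equiv.Perm (Fin (p ^ 2))))
      (f : S →* (W : Subgroup (Equiv.Perm (Fin (p ^ 2))))), Function.Surjective f) :
    F.focalSubgroup ≤ H.focalSubgroup := by
  have hSH' : ∀ (D : Subgroup Ω) (φ : D →* Ω), φ ∈ F.Hom D → D = S → φ ∈ H.Hom D := by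
    rintro D φ hφ rfl
    exact hSH φ hφ
  have hc : commutator ↥S ≤ (H.focalSubgroup).comap S.subtype := by
    intro x hx
    have h1 : (x : Ω) ∈ ⁅(S : Subgroup Ω), (S : Subgroup Ω)⁆ := by
      rw [← Subgroup.map_subtype_commutator]
      exact ⟨x, hx, rfl⟩
    have h2 := Cfsg.Agent.Lib.FusionExt.Hyperfocal.focal_eq H hS hH
    rw [Subgroup.mem_comap, h2]
    exact Subgroup.mem_sup_right h1
  have key := Cfsg.Agent.Lib.Fusion.TateFocal.focal_le_of_sup_frattini F hS hF ((H.focalSubgroup).comap S.subtype) hc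
    (Subgroup.comap_mono (Cfsg.Agent.Lib.Fusion.TateHyp.focal_mono F hHF)) ?_
  · intro x hx
    exact key (show (⟨x, Cfsg.Agent.Lib.Fusion.TateHyp.focal_le_self F hx⟩ : ↥S) ∈ _ from hx)
  set A : Subgroup S := (F.focalSubgroup).comap S.subtype with hA
  set T : Subgroup S := (H.focalSubgroup).comap S.subtype ⊔ frattini S with hT
  by_contra hcon
  obtain ⟨x₀, hx₀A, hx₀T⟩ := Set.not_subset.1 hcon
  obtain ⟨x, ⟨hxA, hxT⟩, hmin⟩ := (measure (orderOf : S → ℕ)).wf.has_min {y | y ∈ A ∧ y ∉ T} ⟨x₀, hx₀A, hx₀T⟩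
  have hmin' : ∀ y, y ∈ A → orderOf y < orderOf x → y ∈ T := by
    intro y hy hlt
    by_contra hyT
    exact hmin y ⟨hy, hyT⟩ hlt
  obtain ⟨l, hl, hlx⟩ := exists_hom_ne_one (p := p) T (hc.trans le_sup_left)
    (fun g => Subgroup.mem_sup_right (Cfsg.Agent.Lib.PGroups.Basic.pow_mem_frattini hS g)) x hxT
  obtain ⟨X, iX, fX, hX⟩ := exists_charBiset F hS hF
  have hV1 : Vv hX.free_right l x = 1 := by
    obtain ⟨y, hy, hyx⟩ := focal_le_ker hX l hxA
    have : y = x := Subtype.ext hyx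
    rw [← this]
    exact hy
  have hform := Vv_eq_pow_card_fixed hS hX hno l x ?_ ?_
  · rw [hV1] at hform
    have hlp : l x ^ p = 1 := by
      have := pow_card_eq_one' (G := Multiplicative (ZMod p)) (x := l x)
      rwa [show Nat.card (Multiplicative (ZMod p)) = p by
        rw [Nat.card_congr (Multiplicative.toAdd (α := ZMod p))]
        exact Nat.card_zmod p] at this
    have hord : orderOf (l x) = p := orderOf_eq_prime hlp hlx
    have h1 : p ∣ Nat.card (MulAction.fixedPoints S (Xi S X)) := by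
      rw [← hord]
      exact orderOf_dvd_of_pow_eq_one hform.symm
    have h2 := hS.card_modEq_card_fixedPoints (Xi S X)
    apply hX.count
    exact (Nat.modEq_zero_iff_dvd.1 (h2.trans (Nat.modEq_zero_iff_dvd.2 h1)))
  · intro D φ hφ hD y
    have hDS : D = S := le_antisymm (le_of_mem F hφ) (fun s hs => hD ⟨s, hs⟩)
    have h1 : (⟨y, y.2⟩ : S)⁻¹ * ⟨φ ⟨y, hD y⟩, val_mem F hφ _⟩ ∈ (H.focalSubgroup).comap S.subtype :=
      Subgroup.subset_closure ⟨D, φ, ⟨y, hD y⟩, hSH' D φ hφ hDS, rfl⟩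
    have h2 := hl _ (Subgroup.mem_sup_left h1)
    rw [map_mul, map_inv, inv_mul_eq_one] at h2
    exact h2.symm
  · intro z hz hlt D φ hφ hzD
    have hzA : z ∈ A := (Subgroup.zpowers_le.2 hxA) hz
    have hgen : z⁻¹ * ⟨φ ⟨z, hzD⟩, val_mem F hφ _⟩ ∈ A := Subgroup.subset_closure ⟨D, φ, ⟨z, hzD⟩, hφ, rfl⟩
    have huA : (⟨φ ⟨z, hzD⟩, val_mem F hφ _⟩ : S) ∈ A := by
      have := A.mul_mem hzA hgen
      rwa [mul_inv_cancel_left] at this
    have hord : orderOf (⟨φ ⟨z, hzD⟩, val_mem F hφ _⟩ : S) = orderOf z := by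
      rw [← Subgroup.orderOf_coe, ← Subgroup.orderOf_coe z]
      show orderOf (φ ⟨z, hzD⟩) = _
      rw [orderOf_injective φ (injective F hφ) ⟨z, hzD⟩, ← Subgroup.orderOf_coe]
    exact hl _ (hmin' _ huA (by rw [hord]; exact hlt))

end Cfsg.Agent.Lib.Fusion.YoshidaCore
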