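import Mathlib

/-!
# A group lemma for Yoshida's transfer theorem

If a finite `p`-group has no quotient isomorphic to a Sylow `p`-subgroup of the symmetric group of degree `p²`, then
for `R` normal of index `p`, `ν : R → C_p` and `x ∈ R`, the product of `ν` over the conjugates of `x` by coset
representatives of `R` is trivial.
-/

set_option autoImplicit false

namespace Cfsg.Agent.Lib.Fusion.YoshidaGroup

universe u v

/-- An invariant subgroup of the permutation module of a transitive action of a `p`-group containing a vector with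
nonzero sum is everything. -/
theorem eq_top_of_invariant {G : Type u} {I : Type v} [Group G] {p : ℕ} [Fact p.Prime] (hG : IsPGroup p G) [Fintype I]
    [MulAction G I] [MulAction.IsPretransitive G I] (Y : AddSubgroup (I → ZMod p))
    (hY : ∀ g : G, ∀ a ∈ Y, (fun i => a (g⁻¹ • i)) ∈ Y) {y : I → ZMod p} (hy : y ∈ Y) (hne : ∑ i, y i ≠ 0) : Y = ⊤ := by
  classical
  by_contra hYtop
  let Y' : Submodule (ZMod p) (I → ZMod p) := AddSubgroup.toZModSubmodule p Y
  have hmem : ∀ a, a ∈ Y' ↔ a ∈ Y := fun a => Iff.rfl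
  have hY' : Y' < ⊤ := by
    refine lt_top_iff_ne_top.2 (fun h => hYtop ?_)
    rw [eq_top_iff]
    intro a _
    exact (hmem a).1 (h ▸ Submodule.mem_top)
  obtain ⟨f, hf, hle⟩ := Submodule.exists_le_ker_of_lt_top Y' hY'
  let c₀ : I → ZMod p := fun i => f (Pi.single i 1)
  have hfc : ∀ a, f a = ∑ i, c₀ i * a i := by
    intro a
    have h1 : a = ∑ i, a i • Pi.single i (1 : ZMod p) := by
      ext j
      simp [Finset.sum_apply, Pi.single_apply]
    conv_lhs => rw [h1]
    rw [map_sum]
    refine Finset.sum_congr rfl (fun i _ => ?_)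
    rw [map_smul, smul_eq_mul, mul_comm]
  have hc₀ : c₀ ≠ 0 := by
    intro h
    apply hf
    ext i
    exact congrFun h i
  let Ann : AddSubgroup (I → ZMod p) :=
    { carrier := {c | ∀ a ∈ Y, ∑ i, c i * a i = 0}
      zero_mem' := fun a _ => by simp
      add_mem' := fun {c d} hc hd a ha => by
        simp only [Pi.add_apply, add_mul]
        rw [Finset.sum_add_distrib, hc a ha, hd a ha, add_zero]
      neg_mem' := fun {c} hc a ha => by
        simp only [Pi.neg_apply, neg_mul]
        rw [Finset.sum_neg_distrib, hc a ha, neg_zero] }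
  have hc₀Ann : c₀ ∈ Ann := fun a ha => by
    rw [← hfc]
    exact hle ((hmem a).2 ha)
  have hcard : p ∣ Nat.card Ann := by
    have h1 : addOrderOf (⟨c₀, hc₀Ann⟩ : Ann) = p := by
      refine addOrderOf_eq_prime ?_ ?_
      · apply Subtype.ext
        ext i
        simp
      · intro h
        exact hc₀ (congrArg Subtype.val h)
    have h2 := addOrderOf_dvd_natCard (⟨c₀, hc₀Ann⟩ : Ann)
    rwa [h1] at h2
  have hst : ∀ (g : G) (c : I → ZMod p), c ∈ Ann → (fun i => c (g⁻¹ • i)) ∈ Ann := by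
    intro g c hc a ha
    have h1 := hc _ (hY g⁻¹ a ha)
    rw [← h1, ← Equiv.sum_comp (MulAction.toPerm g) (fun i => c (g⁻¹ • i) * a i)]
    refine Finset.sum_congr rfl (fun i _ => ?_)
    simp [MulAction.toPerm_apply]
  letI act : MulAction G Ann :=
    { smul := fun g c => ⟨fun i => c.1 (g⁻¹ • i), hst g c.1 c.2⟩
      one_smul := fun c => by
        apply Subtype.ext
        ext i
        show c.1 ((1 : G)⁻¹ • i) = c.1 i
        rw [inv_one, one_smul]
      mul_smul := fun g h c => by
        apply Subtype.ext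
        ext i
        show c.1 ((g * h)⁻¹ • i) = c.1 (h⁻¹ • g⁻¹ • i)
        rw [mul_inv_rev, mul_smul] }
  have hz : (0 : Ann) ∈ MulAction.fixedPoints G Ann := by
    intro g
    apply Subtype.ext
    ext i
    rfl
  obtain ⟨b, hb, hb0⟩ := hG.exists_fixed_point_of_prime_dvd_card_of_fixed_point Ann hcard hz
  have hb1 : ∀ (g : G) (i : I), b.1 (g⁻¹ • i) = b.1 i := by
    intro g i
    exact congrFun (congrArg Subtype.val (hb g)) i
  have hb2 : ∃ i₀, b.1 i₀ ≠ 0 := by
    by_contra hcon
    push Not at hcon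
    apply hb0
    apply Subtype.ext
    ext i
    exact (hcon i).symm
  obtain ⟨i₀, hi₀⟩ := hb2
  have hconst : ∀ i, b.1 i = b.1 i₀ := by
    intro i
    obtain ⟨g, rfl⟩ := MulAction.exists_smul_eq G i₀ i
    have h1 := hb1 g (g • i₀)
    rw [inv_smul_smul] at h1
    exact h1.symm
  have h2 := b.2 y hy
  simp only [hconst] at h2
  rw [← Finset.mul_sum] at h2
  exact hne ((mul_eq_zero.1 h2).resolve_left hi₀)

/-- The order of a Sylow `p`-subgroup of the symmetric group of degree `p²`. -/
theorem card_sylow_perm {p : ℕ} [hp : Fact p.Prime] (W : Sylow p (Equiv.Perm (Fin (p ^ 2)))) :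
    Nat.card (W : Subgroup (Equiv.Perm (Fin (p ^ 2)))) = p ^ (p + 1) := by
  have h0 := hp.out
  rw [Sylow.card_eq_multiplicity, Nat.card_perm, Nat.card_eq_fintype_card, Fintype.card_fin, Nat.factorization_def _ h0]
  congr 1
  have hlog : Nat.log p (p ^ 2) < 3 := by
    rw [Nat.log_pow h0.one_lt]
    omega
  rw [padicValNat_factorial hlog]
  have : Finset.Ico 1 3 = {1, 2} := by decide
  rw [this, Finset.sum_insert (by decide), Finset.sum_singleton]
  have h1 : p ^ 2 / p ^ 1 = p := by
    rw [pow_one, pow_two]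
    exact Nat.mul_div_cancel _ h0.pos
  have h2 : p ^ 2 / p ^ 2 = 1 := Nat.div_self (pow_pos h0.pos 2)
  rw [h1, h2]

variable {G : Type u} [Group G]

/-- Conjugation on a normal subgroup. -/
def cjn (R : Subgroup G) [hR : R.Normal] (g : G) : R →* R where
  toFun r := ⟨g⁻¹ * r * g, by
    have := hR.conj_mem r r.2 g⁻¹
    rwa [inv_inv] at this⟩
  map_one' := by
    apply Subtype.ext
    simp
  map_mul' r r' := by
    apply Subtype.ext
    simp only [Subgroup.coe_mul]
    group

theorem cjn_coe (R : Subgroup G) [R.Normal] (g : G) (r : R) : ((cjn R g r : R) : G) = g⁻¹ * r * g := rfl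

variable {p : ℕ} [hp : Fact p.Prime]

/-- The group lemma. -/
theorem prod_eq_one_of_no_wreath [Finite G] (hG : IsPGroup p G)
    (hno : ¬ ∃ (W : Sylow p (Equiv.Perm (Fin (p ^ 2))))
      (f : G →* (W : Subgroup (Equiv.Perm (Fin (p ^ 2))))), Function.Surjective f)
    (R : Subgroup G) [R.Normal] (hR : R.index = p) [Fintype (G ⧸ R)] (ν : R →* Multiplicative (ZMod p)) (x : R) :
    ∏ c : G ⧸ R, ν (cjn R c.out x) = 1 := by
  classical
  by_contra hprod
  have h0 := hp.out
  apply hno
  -- the kernel of `ν` in `G`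
  let L : Subgroup G := ν.ker.map R.subtype
  have hνr : Nat.card ν.range = p := by
    have h1 : Nat.card ν.range ∣ p := by
      have := Subgroup.card_subgroup_dvd_card ν.range
      rwa [show Nat.card (Multiplicative (ZMod p)) = p by
        rw [Nat.card_congr (Multiplicative.toAdd (α := ZMod p))]
        exact Nat.card_zmod p] at this
    rcases (Nat.dvd_prime h0).1 h1 with h2 | h2
    · exfalso
      have h3 : ν.range = ⊥ := Subgroup.card_eq_one.1 h2
      apply hprod
      refine Finset.prod_eq_one (fun c _ => ?_)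
      have : ν (cjn R c.out x) ∈ ν.range := ⟨_, rfl⟩
      rw [h3] at this
      exact this
    · exact h2
  have hLindex : L.index = p ^ 2 := by
    show (ν.ker.map R.subtype).index = _
    rw [Subgroup.index_map_subtype, Subgroup.index_ker, hνr, hR, pow_two]
  have hLR : L ≤ R := by
    rintro _ ⟨r, -, rfl⟩
    exact r.2
  let e : (G ⧸ L) ≃ Fin (p ^ 2) := Finite.equivFinOfCardEq hLindex
  let Θ : G →* Equiv.Perm (Fin (p ^ 2)) :=
    (Equiv.permCongrHom e).toMonoidHom.comp (MulAction.toPermHom G (G ⧸ L))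
  have hΘ : ∀ k : G, Θ k = 1 → ∀ g : G, g⁻¹ * k * g ∈ L := by
    intro k hk g
    have h1 : MulAction.toPermHom G (G ⧸ L) k = 1 := by
      apply (Equiv.permCongrHom e).injective
      rw [map_one]
      exact hk
    have h2 : k • ((g : G) : G ⧸ L) = (g : G ⧸ L) := by
      have := DFunLike.congr_fun h1 (g : G ⧸ L)
      exact this
    have h3 : ((k * g : G) : G ⧸ L) = (g : G ⧸ L) := h2
    have h4 := QuotientGroup.eq.1 h3.symm
    rw [← mul_assoc] at h4
    exact h4
  have hrange : IsPGroup p Θ.range := by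
    have := hG.of_surjective (Θ.rangeRestrict) Θ.rangeRestrict_surjective
    exact this
  obtain ⟨W, hW⟩ := IsPGroup.exists_le_sylow hrange
  have hWc := card_sylow_perm W
  -- the permutation module
  haveI : Fact (Nat.Prime p) := hp
  let ξ : G ⧸ R → R →* Multiplicative (ZMod p) := fun c => ν.comp (cjn R c.out)
  let Ξ : R →* Multiplicative (G ⧸ R → ZMod p) :=
    { toFun := fun r => Multiplicative.ofAdd (fun c => Multiplicative.toAdd (ξ c r))
      map_one' := by
        apply Multiplicative.toAdd.injective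
        ext c
        simp
      map_mul' := fun r r' => by
        apply Multiplicative.toAdd.injective
        ext c
        simp }
  have hΞ : ∀ r c, (Multiplicative.toAdd (Ξ r)) c = Multiplicative.toAdd (ν (cjn R c.out r)) := fun _ _ => rfl
  let Y : AddSubgroup (G ⧸ R → ZMod p) :=
    { carrier := {a | ∃ r : R, Multiplicative.toAdd (Ξ r) = a}
      zero_mem' := ⟨1, by rw [map_one]; rfl⟩
      add_mem' := fun {a b} ha hb => by
        obtain ⟨r, rfl⟩ := ha
        obtain ⟨r', rfl⟩ := hb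
        exact ⟨r * r', by rw [map_mul]; rfl⟩
      neg_mem' := fun {a} ha => by
        obtain ⟨r, rfl⟩ := ha
        exact ⟨r⁻¹, by rw [map_inv]; rfl⟩ }
  have hconj : ∀ (ρ r : R), ν ⟨(ρ : G)⁻¹ * r * ρ, (R.mul_mem (R.mul_mem (R.inv_mem ρ.2) r.2) ρ.2)⟩ = ν r := by
    intro ρ r
    have e1 : (⟨(ρ : G)⁻¹ * r * ρ, (R.mul_mem (R.mul_mem (R.inv_mem ρ.2) r.2) ρ.2)⟩ : R) = ρ⁻¹ * r * ρ := rfl
    rw [e1, map_mul, map_mul, map_inv, mul_comm, mul_inv_cancel_left]
  have hYinv : ∀ g : G, ∀ a ∈ Y, (fun i => a (g⁻¹ • i)) ∈ Y := by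
    rintro g _ ⟨r, rfl⟩
    refine ⟨cjn R g⁻¹ r, ?_⟩
    ext c
    rw [hΞ, hΞ]
    congr 1
    -- compare the representatives
    have h1 : ((g⁻¹ • c : G ⧸ R).out : G ⧸ R) = ((g⁻¹ * c.out : G) : G ⧸ R) := by
      rw [QuotientGroup.out_eq']
      conv_lhs => rw [← QuotientGroup.out_eq' c]
      rfl
    have h2 : (g⁻¹ * c.out)⁻¹ * (g⁻¹ • c : G ⧸ R).out ∈ R := QuotientGroup.eq.1 h1.symm
    set ρ : R := ⟨_, h2⟩ with hρ
    have h3 : (cjn R (g⁻¹ • c : G ⧸ R).out r) =
        ⟨(ρ : G)⁻¹ * (cjn R c.out (cjn R g⁻¹ r) : R) * ρ,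
          R.mul_mem (R.mul_mem (R.inv_mem ρ.2) (cjn R c.out (cjn R g⁻¹ r)).2) ρ.2⟩ := by
      apply Subtype.ext
      simp only [cjn_coe, hρ]
      group
    rw [h3, hconj]
  have hYtop : Y = ⊤ := by
    refine eq_top_of_invariant hG Y hYinv (y := Multiplicative.toAdd (Ξ x)) ⟨x, rfl⟩ ?_
    intro hsum
    apply hprod
    apply Multiplicative.toAdd.injective
    rw [toAdd_prod, toAdd_one]
    exact hsum
  have hΞsurj : Function.Surjective Ξ := by
    intro a
    have h1 : Multiplicative.toAdd a ∈ Y := by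
      rw [hYtop]
      trivial
    obtain ⟨r, hr⟩ := h1
    exact ⟨r, Multiplicative.toAdd.injective hr⟩
  have hΞindex : Ξ.ker.index = p ^ p := by
    rw [Subgroup.index_ker, MonoidHom.range_eq_top.2 hΞsurj, Nat.card_congr Subgroup.topEquiv.toEquiv]
    show Nat.card (G ⧸ R → ZMod p) = _
    rw [Nat.card_eq_fintype_card, Fintype.card_fun, ZMod.card, ← Nat.card_eq_fintype_card]
    show p ^ R.index = _
    rw [hR]
  have hKL : Θ.ker ≤ R := by
    intro k hk
    have := hΘ k hk 1
    simp only [inv_one, one_mul, mul_one] at this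
    exact hLR this
  have hKΞ : Θ.ker.subgroupOf R ≤ Ξ.ker := by
    intro r hr
    rw [MonoidHom.mem_ker]
    apply Multiplicative.toAdd.injective
    ext c
    rw [hΞ]
    have h1 := hΘ r hr c.out
    obtain ⟨l, hl, hl2⟩ := h1
    have h2 : cjn R c.out r = l := Subtype.ext hl2.symm
    rw [h2, MonoidHom.mem_ker.1 hl]
    rfl
  have hKindex : p ^ (p + 1) ≤ Θ.ker.index := by
    have h1 : (Θ.ker.subgroupOf R).index * R.index = Θ.ker.index := Subgroup.relIndex_mul_index hKL
    have h2 : Ξ.ker.index ∣ (Θ.ker.subgroupOf R).index := Subgroup.index_dvd_of_le hKΞ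
    rw [hΞindex] at h2
    have h3 : (Θ.ker.subgroupOf R).index ≠ 0 := Subgroup.index_ne_zero_of_finite
    have h4 := Nat.le_of_dvd (Nat.pos_of_ne_zero h3) h2
    rw [← h1, hR, pow_succ]
    exact Nat.mul_le_mul_right p h4
  have hΘW : Θ.range = W := by
    refine Subgroup.eq_of_le_of_card_ge hW ?_
    rw [hWc, ← Subgroup.index_ker]
    exact hKindex
  refine ⟨W, Θ.codRestrict W (fun g => hW ⟨g, rfl⟩), ?_⟩
  rintro ⟨w, hw⟩
  have : w ∈ Θ.range := hΘW.ge hw
  obtain ⟨g, hg⟩ := this
  exact ⟨g, Subtype.ext hg⟩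

end Cfsg.Agent.Lib.Fusion.YoshidaGroup
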