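import Cfsg.Agent.Lib.Fusion.YoshidaGroup

/-!
# The product of a cocycle over an orbit, via a normal subgroup containing the stabilizer
-/

set_option autoImplicit false

namespace Cfsg.Agent.Lib.Fusion.YoshidaOrbit

open Cfsg.Agent.Lib.Fusion.YoshidaGroup

universe u v w

variable {S : Type u} {A : Type v} {C : Type w} [Group S] [MulAction S A] [Fintype A] [CommGroup C]

open Classical in
/-- The product over an orbit is the product over the `R`-orbit of conjugates. -/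
theorem orbit_prod (h : S → A → C) (hc : ∀ s s' a, h (s * s') a = h s (s' • a) * h s' a)
    (R : Subgroup S) [R.Normal] [Fintype (S ⧸ R)] (a₀ : A) (hQ : ∀ s : S, s • a₀ = a₀ → s ∈ R) :
    ∃ ν : R →* C, ∀ x : R, ∏ ξ ∈ Finset.univ.filter (fun ξ => ξ ∈ MulAction.orbit S a₀), h x ξ =
      ∏ c : S ⧸ R, ν (cjn R c.out x) := by
  let Z : Finset A := Finset.univ.filter (fun ζ => ∃ r : R, (r : S) • a₀ = ζ)
  have hZmem : ∀ ζ, ζ ∈ Z ↔ ∃ r : R, (r : S) • a₀ = ζ := by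
    intro ζ
    simp [Z]
  have hZr : ∀ (r : R) ζ, ζ ∈ Z ↔ (r : S) • ζ ∈ Z := by
    intro r ζ
    rw [hZmem, hZmem]
    constructor
    · rintro ⟨t, rfl⟩
      exact ⟨r * t, by rw [Subgroup.coe_mul, mul_smul]⟩
    · rintro ⟨t, ht⟩
      refine ⟨r⁻¹ * t, ?_⟩
      rw [Subgroup.coe_mul, mul_smul, ht, Subgroup.coe_inv, inv_smul_smul]
  have hperm : ∀ (r : R) (g : A → C), ∏ ζ ∈ Z, g ((r : S) • ζ) = ∏ ζ ∈ Z, g ζ := by
    intro r g
    exact Finset.prod_equiv (MulAction.toPerm (r : S)) (hZr r) (fun i _ => rfl)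
  have hone : ∀ a : A, h 1 a = 1 := by
    intro a
    have := hc 1 1 a
    rw [mul_one, one_smul] at this
    exact (mul_eq_left.1 this.symm)
  let ν : R →* C :=
    { toFun := fun r => ∏ ζ ∈ Z, h r ζ
      map_one' := Finset.prod_eq_one (fun ζ _ => hone ζ)
      map_mul' := fun r r' => by
        show ∏ ζ ∈ Z, h ((r : S) * r') ζ = _
        simp only [hc]
        rw [Finset.prod_mul_distrib]
        congr 1
        exact hperm r' (fun ζ => h r ζ) }
  have hν : ∀ r : R, ν r = ∏ ζ ∈ Z, h r ζ := fun _ => rfl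
  refine ⟨ν, fun x => ?_⟩
  have hfib : ∀ s : S, ∏ ζ ∈ Z, h x (s • ζ) = ν (cjn R s x) := by
    intro s
    have key : ∀ ζ, h x (s • ζ) * h s ζ = h s (((cjn R s x : R) : S) • ζ) * h (cjn R s x) ζ := by
      intro ζ
      rw [← hc, ← hc]
      congr 1
      rw [cjn_coe]
      group
    have h2 : (∏ ζ ∈ Z, h x (s • ζ)) * ∏ ζ ∈ Z, h s ζ = (∏ ζ ∈ Z, h s ζ) * ν (cjn R s x) := by
      rw [← Finset.prod_mul_distrib, Finset.prod_congr rfl (fun ζ _ => key ζ), Finset.prod_mul_distrib,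
        hperm (cjn R s x) (fun ζ => h s ζ), hν]
    rw [mul_comm] at h2
    exact mul_left_cancel h2
  simp only [← hfib]
  rw [← Finset.prod_product' (Finset.univ : Finset (S ⧸ R)) Z (fun c ζ => h x ((c : S ⧸ R).out • ζ))]
  symm
  refine Finset.prod_nbij (fun z : (S ⧸ R) × A => z.1.out • z.2) ?_ ?_ ?_ (fun _ _ => rfl)
  · rintro ⟨c, ζ⟩ hz
    have hζ : ζ ∈ Z := (Finset.mem_product.1 hz).2
    obtain ⟨r, rfl⟩ := (hZmem ζ).1 hζ
    simp only [Finset.mem_filter, Finset.mem_univ, true_and]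
    exact ⟨c.out * r, by show (c.out * (r : S)) • a₀ = _; rw [mul_smul]⟩
  · rintro ⟨c, ζ⟩ hz ⟨c', ζ'⟩ hz' he
    have hζ : ζ ∈ Z := (Finset.mem_product.1 hz).2
    have hζ' : ζ' ∈ Z := (Finset.mem_product.1 hz').2
    obtain ⟨r, rfl⟩ := (hZmem ζ).1 hζ
    obtain ⟨r', rfl⟩ := (hZmem ζ').1 hζ'
    simp only at he
    have h1 : ((r' : S)⁻¹ * (c'.out⁻¹ * c.out) * r) • a₀ = a₀ := by
      rw [mul_smul, mul_smul, mul_smul, he, smul_smul, smul_smul]
      simp
    have h2 := hQ _ h1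
    have h3 : c'.out⁻¹ * c.out ∈ R := by
      have h4 := R.mul_mem (R.mul_mem r'.2 h2) (R.inv_mem r.2)
      convert h4 using 1
      group
    have h5 : ((c'.out : S) : S ⧸ R) = ((c.out : S) : S ⧸ R) := QuotientGroup.eq.2 h3
    rw [QuotientGroup.out_eq', QuotientGroup.out_eq'] at h5
    subst h5
    have h6 := smul_left_cancel _ he
    rw [Prod.mk.injEq]
    exact ⟨rfl, h6⟩
  · intro ξ hξ
    have hξ' : ξ ∈ Finset.univ.filter (fun ξ => ξ ∈ MulAction.orbit S a₀) := hξ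
    obtain ⟨s, rfl⟩ := (Finset.mem_filter.1 hξ').2
    let c : S ⧸ R := (s : S ⧸ R)
    have h1 : c.out⁻¹ * s ∈ R := by
      apply QuotientGroup.eq.1
      rw [QuotientGroup.out_eq']
    refine ⟨(c, ((⟨_, h1⟩ : R) : S) • a₀), ?_, ?_⟩
    · exact Finset.mem_coe.2 (Finset.mem_product.2 ⟨Finset.mem_univ _, (hZmem _).2 ⟨_, rfl⟩⟩)
    · show c.out • (c.out⁻¹ * s) • a₀ = s • a₀
      rw [smul_smul, mul_inv_cancel_left]

end Cfsg.Agent.Lib.Fusion.YoshidaOrbit
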